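import Cfsg.Agent.Mrg.Omega.NOThree.NoOver
import Cfsg.Agent.MinSimple.VModule
import Cfsg.Agent.MinSimple.CosetFam
import Cfsg.Agent.Mrg.Omega.VP
import Cfsg.Agent.Lib.SylowNormalInf
import Cfsg.Agent.Lib.KleinGen
import Cfsg.Agent.Lib.PGroupFixedVector
import Cfsg.Agent.Lib.GenFitting
import Cfsg.Agent.SignalizersComponents.CompBasic
import Cfsg.Agent.S0542
import Mathlib
import Cfsg.Agent.Lib.FinFast
import Cfsg.Agent.FastGrp
import Cfsg.Agent.Prune
set_option linter.all false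

section
prune_inst 0x7ffcfefbaff88ddeffff7e7ffff5dffe38d4dfffffdffb4bfffdfbffefdf236f3fe5fbaf9de458ffcef7e2be30b87813f9feca3fef6bdc7ffffd5ff45ffbee1fe5ffbfad71d6bc341ffc6ffffbf37fffffdfffffffffffffffffffffffffffffffffffffffff

-- part: Mrg/Omega/ML/MinFrame
section
prune_inst 0x200000000000100000000000800000001000000000400000000001020000000000000000080001000000000000040000024c00000000000000000000000000000000000000000000200000000000000200000000000000000000000000000000000000000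
set_option linter.all false
open scoped Cfsg.Agent.FastGrp

section


/-!
# (ML): the frame of a minimal counterexample (OMEGA; #15719 of helper196, #16000 of helper595); K-free

`H` acts on the finite group `M` of exponent 2.

* `orb R z = ⟨z^R⟩`, `fxr U = C_H(U)`;
* `Rel p R U` : for `T` a Sylow 2-subgroup of `R`, `z ∈ C_U(T)`, `Q` a normal 2-subgroup of `C_R(z)`, `A ≤ Q` elementary
  abelian (and normalised by `T` if `p` holds) `|A : C_A(W)| ≤ |W : C_W(A)|` for `W = ⟨z^R⟩`;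
* `MLS p H M = Rel p ⊤ ⊤`, the statement (ML), "no over-offender in `O₂(C_H(z))`"; `p = False`: `A` arbitrary,
  `p = True`: `A` normalised by `T`;  `rel_of` : transfer to subgroups, submodules and quotients;
* `Ind K p n m` : (ML) holds for all smaller groups and modules, `K` a class of groups closed under sections;
* `Fr K p H M T Q A z` : the frame of a minimal counterexample, `A` strict;  `exists_fr` : it exists.
-/

set_option autoImplicit false

namespace Cfsg.Agent.Omega.ML.MinFrame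

open Subgroup Cfsg Cfsg.Agent.ClassTwoFusion.Quad Cfsg.Agent.Omega.NOThree.NoOver Cfsg.Agent.Omega.ML.CD
open Cfsg.Agent.ZN

universe u v

section Basic

variable {H : Type u} [Group H] {M : Type v} [Group M] [MulDistribMulAction H M]

/-- `⟨z^R⟩` -/
def orb (R : Subgroup H) (z : M) : Subgroup M := closure {m | ∃ g ∈ R, m = g • z}

/-- `C_H(U)` -/
def fxr (H : Type u) [Group H] {M : Type v} [Group M] [MulDistribMulAction H M] (U : Subgroup M) : Subgroup H where
  carrier := {x | ∀ m ∈ U, x • m = m}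
  one_mem' := fun m _ => one_smul _ m
  mul_mem' := fun {x y} hx hy m hm => by rw [mul_smul, hy m hm, hx m hm]
  inv_mem' := fun {x} hx m hm => by rw [inv_smul_eq_iff, hx m hm]

theorem mem_fxr {U : Subgroup M} {x : H} : x ∈ fxr H U ↔ ∀ m ∈ U, x • m = m := Iff.rfl

theorem smul_mem_orb_self {R : Subgroup H} {z : M} {g : H} (hg : g ∈ R) : g • z ∈ orb R z :=
  subset_closure ⟨g, hg, rfl⟩

theorem mem_orb_self (R : Subgroup H) (z : M) : z ∈ orb R z := by
  have := smul_mem_orb_self (z := z) R.one_mem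
  rwa [one_smul] at this

theorem smul_mem_orb {R : Subgroup H} {z : M} {g : H} (hg : g ∈ R) {m : M} (hm : m ∈ orb R z) : g • m ∈ orb R z := by
  have h1 : orb R z ≤ (orb R z).comap (MulDistribMulAction.toMonoidHom M g) := by
    rw [orb, closure_le]
    rintro _ ⟨k, hk, rfl⟩
    refine subset_closure ⟨g * k, mul_mem hg hk, ?_⟩
    exact (mul_smul _ _ _).symm
  exact h1 hm

theorem orb_le {R : Subgroup H} {z : M} {U : Subgroup M} (h : ∀ g ∈ R, g • z ∈ U) : orb R z ≤ U := by
  rw [orb, closure_le]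
  rintro _ ⟨g, hg, rfl⟩
  exact h g hg

theorem mem_fxr_orb {R : Subgroup H} {z : M} {x : H} : x ∈ fxr H (orb R z) ↔ ∀ g ∈ R, x • g • z = g • z := by
  constructor
  · intro h g hg
    exact h _ (smul_mem_orb_self hg)
  · intro h
    have h1 : orb R z ≤ cv M ({x} : Set H) := orb_le fun g hg => mem_cv_singleton.2 (h g hg)
    exact fun m hm => mem_cv_singleton.1 (h1 hm)

/-- `R` normalises `C_H(U)` for `R`-invariant `U` -/
theorem conj_mem_fxr {R : Subgroup H} {U : Subgroup M} (hU : ∀ g ∈ R, ∀ m ∈ U, g • m ∈ U) {g x : H} (hg : g ∈ R)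
    (hx : x ∈ fxr H U) : g * x * g⁻¹ ∈ fxr H U := by
  intro m hm
  rw [mul_smul, mul_smul, hx _ (hU _ (inv_mem hg) m hm), smul_inv_smul]

theorem cv_inf_eq_iff {A : Subgroup H} {U : Subgroup M} : U ≤ cv M (A : Set H) ↔ A ≤ fxr H U :=
  ⟨fun h a ha _ hm => h hm a ha, fun h m hm _ ha => h ha m hm⟩

/-- the relative form of (ML) -/
def Rel (p : Prop) (R : Subgroup H) (U : Subgroup M) : Prop :=
  ∀ (T Q A : Subgroup H) (z : M), z ∈ U → IsPGroup 2 T → T ≤ R → ¬ 2 ∣ T.relIndex R → (∀ t ∈ T, t • z = z) →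
    IsPGroup 2 Q → Q ≤ R → (∀ q ∈ Q, q • z = z) → (∀ g ∈ R, g • z = z → ∀ q ∈ Q, g * q * g⁻¹ ∈ Q) → A ≤ Q →
    (∀ a ∈ A, a * a = 1) → (p → ∀ t ∈ T, ∀ a ∈ A, t * a * t⁻¹ ∈ A) →
    (fxr H (orb R z)).relIndex A ≤ (cv M (A : Set H)).relIndex (orb R z)

/-- (ML) for `(H, M)` -/
def MLS (p : Prop) (H : Type u) [Group H] (M : Type v) [Group M] [MulDistribMulAction H M] : Prop :=
  Rel p (⊤ : Subgroup H) (⊤ : Subgroup M)

/-- **Transfer** -/
theorem rel_of {p : Prop} {R : Subgroup H} {U : Subgroup M} {H' : Type*} [Group H'] {M' : Type*} [Group M']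
    [MulDistribMulAction H' M'] (π : R →* H') (hπ : Function.Surjective π) (e : M' →* M)
    (he : Function.Injective e) (hU : ∀ m ∈ U, ∃ m', e m' = m)
    (heq : ∀ (r : R) (m' : M'), e (π r • m') = (r : H) • e m') (h : MLS p H' M') : Rel p R U := by
  intro T Q A z hzU hT hTR hTi hTz hQ hQR hQz hQn hAQ hA2 hAn
  obtain ⟨z', rfl⟩ := hU z hzU
  have hAR : A ≤ R := hAQ.trans hQR
  have hsm : ∀ (r : H) (hr : r ∈ R) (m' : M'), e (π ⟨r, hr⟩ • m') = r • e m' := fun r hr m' => heq ⟨r, hr⟩ m'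
  have himg : ∀ (B : Subgroup H) (hB : B ≤ R) (b' : H'), b' ∈ (B.subgroupOf R).map π →
      ∃ b, ∃ hb : b ∈ B, π ⟨b, hB hb⟩ = b' := by
    rintro B hB _ ⟨b, hb, rfl⟩
    exact ⟨b, hb, rfl⟩
  have hmem : ∀ (B : Subgroup H) (b : H) (hb : b ∈ B) (hbR : b ∈ R), π ⟨b, hbR⟩ ∈ (B.subgroupOf R).map π :=
    fun B b hb hbR => ⟨⟨b, hbR⟩, hb, rfl⟩
  have key := h ((T.subgroupOf R).map π) ((Q.subgroupOf R).map π) ((A.subgroupOf R).map π) z' (mem_top _)
    (hT.comap_subtype.map π) le_top (by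
      rw [relIndex_top_right]
      intro h2
      apply hTi
      have h3 : ((T.subgroupOf R).map π).index ∣ (T.subgroupOf R).index := index_map_dvd _ hπ
      exact h2.trans h3) (by
      intro t' ht'
      obtain ⟨t, ht, rfl⟩ := himg T hTR t' ht'
      exact he (by rw [hsm, hTz t ht])) (hQ.comap_subtype.map π) le_top (by
      intro q' hq'
      obtain ⟨q, hq, rfl⟩ := himg Q hQR q' hq'
      exact he (by rw [hsm, hQz q hq])) (by
      intro g' _ hg' q' hq'
      obtain ⟨⟨g, hg⟩, rfl⟩ := hπ g'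
      obtain ⟨q, hq, rfl⟩ := himg Q hQR q' hq'
      have h1 : g • e z' = e z' := by rw [← hsm g hg, hg']
      have h2 := hmem Q _ (hQn g hg h1 q hq) (hQR (hQn g hg h1 q hq))
      have h3 : (⟨g * q * g⁻¹, hQR (hQn g hg h1 q hq)⟩ : R) = ⟨g, hg⟩ * ⟨q, hQR hq⟩ * ⟨g, hg⟩⁻¹ := rfl
      rwa [h3, map_mul, map_mul, map_inv] at h2)
    (by
      rintro a' ⟨a, ha, rfl⟩
      exact ⟨a, hAQ ha, rfl⟩) (by
      intro a' ha'
      obtain ⟨a, ha, rfl⟩ := himg A hAR a' ha'
      rw [← map_mul]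
      have h1 : (⟨a, hAR ha⟩ : R) * ⟨a, hAR ha⟩ = 1 := Subtype.ext (hA2 a ha)
      rw [h1, map_one]) (by
      intro hp t' ht' a' ha'
      obtain ⟨t, ht, rfl⟩ := himg T hTR t' ht'
      obtain ⟨a, ha, rfl⟩ := himg A hAR a' ha'
      have h2 := hmem A _ (hAn hp t ht a ha) (hAR (hAn hp t ht a ha))
      have h3 : (⟨t * a * t⁻¹, hAR (hAn hp t ht a ha)⟩ : R) = ⟨t, hTR ht⟩ * ⟨a, hAR ha⟩ * ⟨t, hTR ht⟩⁻¹ := rfl
      rwa [h3, map_mul, map_mul, map_inv] at h2)
  have horb : (orb (⊤ : Subgroup H') z').map e = orb R (e z') := by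
    apply le_antisymm
    · rw [map_le_iff_le_comap]
      refine orb_le fun g' _ => ?_
      obtain ⟨⟨g, hg⟩, rfl⟩ := hπ g'
      rw [mem_comap, hsm]
      exact smul_mem_orb_self hg
    · refine orb_le fun g hg => ⟨π ⟨g, hg⟩ • z', smul_mem_orb_self (mem_top _), hsm g hg z'⟩
  have hcv : (cv M (A : Set H)).comap e = cv M' (((A.subgroupOf R).map π : Subgroup H') : Set H') := by
    ext m'
    rw [mem_comap]
    constructor
    · intro h1 a' ha'
      obtain ⟨a, ha, rfl⟩ := himg A hAR a' ha'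
      exact he (by rw [hsm, h1 a ha])
    · intro h1 a ha
      rw [← hsm a (hAR ha), h1 _ (hmem A a ha (hAR ha))]
  have hfx : (fxr H' (orb (⊤ : Subgroup H') z')).comap π = (fxr H (orb R (e z'))).subgroupOf R := by
    ext ⟨x, hx⟩
    rw [mem_comap, mem_subgroupOf, mem_fxr_orb, mem_fxr_orb]
    constructor
    · intro h1 g hg
      change x • g • e z' = g • e z'
      rw [← hsm g hg, ← hsm x hx, h1 _ (mem_top _)]
    · intro h1 g' _
      obtain ⟨⟨g, hg⟩, rfl⟩ := hπ g'
      refine he ?_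
      rw [hsm, hsm]
      exact h1 g hg
  have e1 : (fxr H (orb R (e z'))).relIndex A =
      (fxr H' (orb (⊤ : Subgroup H') z')).relIndex ((A.subgroupOf R).map π) := by
    rw [← relIndex_comap, hfx, relIndex_subgroupOf hAR]
  have e2 : (cv M (A : Set H)).relIndex (orb R (e z')) =
      (cv M' (((A.subgroupOf R).map π : Subgroup H') : Set H')).relIndex (orb (⊤ : Subgroup H') z') := by
    rw [← hcv, relIndex_comap, horb]
  rw [e1, e2]
  exact key

/-- to subgroups -/
theorem rel_subgroup {p : Prop} (R : Subgroup H) (h : MLS p R M) : Rel (M := M) p R ⊤ :=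
  rel_of (MonoidHom.id R) (fun x => ⟨x, rfl⟩) (MonoidHom.id M) (fun _ _ h => h) (fun m _ => ⟨m, rfl⟩)
    (fun _ _ => rfl) h

/-- the action on an invariant subgroup -/
@[reducible] def subAct (U : Subgroup M) (hU : ∀ g : H, ∀ u ∈ U, g • u ∈ U) : MulDistribMulAction H U where
  smul g u := ⟨g • (u : M), hU g u u.2⟩
  one_smul u := Subtype.ext (one_smul H (u : M))
  mul_smul g k u := Subtype.ext (mul_smul g k (u : M))
  smul_mul g u w := Subtype.ext (smul_mul' g (u : M) (w : M))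
  smul_one g := Subtype.ext (smul_one g)

/-- to submodules -/
theorem rel_sub {p : Prop} (U : Subgroup M) (hU : ∀ g : H, ∀ u ∈ U, g • u ∈ U)
    (h : letI := subAct U hU; MLS p H U) : Rel (M := M) p (⊤ : Subgroup H) U := by
  let _ := subAct U hU
  exact rel_of (H' := H) (M' := U) (⊤ : Subgroup H).subtype (fun x => ⟨⟨x, mem_top x⟩, rfl⟩) U.subtype
    U.subtype_injective (fun m hm => ⟨⟨m, hm⟩, rfl⟩) (fun _ _ => rfl) h

/-- the action of the quotient by a normal subgroup acting trivially -/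
@[reducible] def quoAct (N : Subgroup H) [N.Normal] (hN : ∀ x ∈ N, ∀ m : M, x • m = m) : MulDistribMulAction (H ⧸ N) M :=
  MulDistribMulAction.compHom M (QuotientGroup.lift N (MulDistribMulAction.toMulAut H M)
    (fun x hx => MulEquiv.ext fun m => hN x hx m))

/-- to quotients -/
theorem rel_quo {p : Prop} (N : Subgroup H) [N.Normal] (hN : ∀ x ∈ N, ∀ m : M, x • m = m)
    (h : letI := quoAct N hN; MLS p (H ⧸ N) M) : MLS p H M := by
  let _ := quoAct N hN
  exact rel_of (H' := H ⧸ N) (M' := M) ((QuotientGroup.mk' N).comp (⊤ : Subgroup H).subtype)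
    (fun x => by
      obtain ⟨y, rfl⟩ := QuotientGroup.mk'_surjective N x
      exact ⟨⟨y, mem_top y⟩, rfl⟩) (MonoidHom.id M) (fun _ _ h => h) (fun m _ => ⟨m, rfl⟩) (fun _ _ => rfl) h

end Basic

/-! ### The minimal counterexample -/

/-- (ML) for all smaller groups and modules -/
def Ind (K : Frame.Cls.{u}) (p : Prop) (n m : ℕ) : Prop :=
  ∀ (H : Type u) [Group H] [Finite H] (M : Type v) [Group M] [Finite M] [MulDistribMulAction H M], K H →
    (∀ x : M, x * x = 1) → (Nat.card H < n ∨ Nat.card H = n ∧ Nat.card M < m) → MLS p H M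

/-- a class of groups closed under sections -/
structure Sec (K : Frame.Cls.{u}) : Prop where
  sub : ∀ (G : Type u) [Group G] [Finite G], K G → ∀ R : Subgroup G, K R
  quo : ∀ (G : Type u) [Group G] [Finite G], K G → ∀ (N : Subgroup G) [N.Normal], K (G ⧸ N)

/-- **The frame of a minimal counterexample**: `T` a Sylow 2-subgroup, `z` fixed by `T`, `Q` a normal 2-subgroup of
`C_H(z)`, `1 ≠ A ≤ Q` elementary abelian and strict. -/
structure Fr (K : Frame.Cls.{u}) (p : Prop) (H : Type u) [Group H] (M : Type v) [Group M] [MulDistribMulAction H M]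
    (T Q A : Subgroup H) (z : M) : Prop where
  ind : Ind.{u, v} K p (Nat.card H) (Nat.card M)
  sec : Sec K
  KH : K H
  sq : ∀ m : M, m * m = 1
  two : IsPGroup 2 T
  odd : ¬ 2 ∣ T.index
  fixT : ∀ t ∈ T, t • z = z
  Q2 : IsPGroup 2 Q
  fixQ : ∀ q ∈ Q, q • z = z
  nrmQ : ∀ g : H, g • z = z → ∀ q ∈ Q, g * q * g⁻¹ ∈ Q
  AQ : A ≤ Q
  Asq : ∀ a ∈ A, a * a = 1
  nrmA : p → ∀ t ∈ T, ∀ a ∈ A, t * a * t⁻¹ ∈ A
  strict : Strict (fab M 1 1) A
  ne : A ≠ ⊥
  faithful : ∀ x : H, (∀ m : M, x • m = m) → x = 1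
  gen : orb (⊤ : Subgroup H) z = ⊤

section exists_fr

variable {K : Frame.Cls.{u}} {p : Prop} {H : Type u} [Group H] [Finite H] {M : Type v} [Group M] [Finite M]
  [MulDistribMulAction H M]

omit [Finite H] [Finite M] in
theorem fxr_normal {U : Subgroup M} (hU : ∀ g : H, ∀ u ∈ U, g • u ∈ U) : (fxr H U).Normal :=
  ⟨fun _ hx g => conj_mem_fxr (R := ⊤) (fun g _ => hU g) (mem_top g) hx⟩

theorem exists_fr (sec : Sec K) (hK : K H) (sq : ∀ m : M, m * m = 1)
    (ind : Ind.{u, v} K p (Nat.card H) (Nat.card M)) (h : ¬ MLS p H M) :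
    ∃ (T Q A : Subgroup H) (z : M), Fr K p H M T Q A z := by
  -- the action is faithful
  have hfaith : fxr H (⊤ : Subgroup M) = ⊥ := by
    by_contra hne
    apply h
    have hnor : (fxr H (⊤ : Subgroup M)).Normal := fxr_normal fun _ _ _ => mem_top _
    have htriv : ∀ x ∈ fxr H (⊤ : Subgroup M), ∀ m : M, x • m = m := fun x hx m => hx m (mem_top m)
    let _ := quoAct (fxr H (⊤ : Subgroup M)) htriv
    refine rel_quo (fxr H (⊤ : Subgroup M)) htriv (ind (H ⧸ fxr H (⊤ : Subgroup M)) M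
      (sec.quo H hK _) sq (Or.inl ?_))
    have h1 := Subgroup.card_mul_index (fxr H (⊤ : Subgroup M))
    have h2 : 1 < Nat.card (fxr H (⊤ : Subgroup M)) := (Subgroup.one_lt_card_iff_ne_bot _).2 hne
    have h3 : 0 < (fxr H (⊤ : Subgroup M)).index := Nat.pos_of_ne_zero (index_ne_zero_of_finite)
    have h4 : (fxr H (⊤ : Subgroup M)).index = Nat.card (H ⧸ fxr H (⊤ : Subgroup M)) := rfl
    rw [← h4, ← h1]
    nlinarith
  unfold MLS Rel at h
  push Not at h
  obtain ⟨T, Q, A, z, -, hT, -, hTi, hTz, hQ, -, hQz, hQn, hAQ, hA2, hAn, hlt⟩ := h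
  rw [relIndex_top_right] at hTi
  -- `M` is generated by the orbit
  have hgen : orb (⊤ : Subgroup H) z = ⊤ := by
    by_contra hne
    have hinv : ∀ g : H, ∀ u ∈ orb (⊤ : Subgroup H) z, g • u ∈ orb (⊤ : Subgroup H) z :=
      fun g u hu => smul_mem_orb (mem_top g) hu
    let _ := subAct (orb (⊤ : Subgroup H) z) hinv
    have hlt' : Nat.card (orb (⊤ : Subgroup H) z) < Nat.card M := by
      have h1 : orb (⊤ : Subgroup H) z < ⊤ := lt_top_iff_ne_top.2 hne
      have h2 := Set.ncard_lt_ncard (SetLike.coe_ssubset_coe.2 h1) (Set.toFinite _)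
      rwa [coe_top, Set.ncard_univ, ← Nat.card_coe_set_eq] at h2
    have h2 := rel_sub (orb (⊤ : Subgroup H) z) hinv (ind H (orb (⊤ : Subgroup H) z) hK
      (fun x => Subtype.ext (sq x)) (Or.inr ⟨rfl, hlt'⟩))
    have h3 := h2 T Q A z (mem_orb_self _ z) hT le_top (by rwa [relIndex_top_right]) hTz hQ le_top hQz hQn hAQ hA2 hAn
    exact absurd hlt (not_lt.2 h3)
  rw [hgen, hfaith, relIndex_bot_left, relIndex_top_right] at hlt
  have hov : fab M 1 1 (⊥ : Subgroup H) < fab M 1 1 A := by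
    rw [fab_lt_iff bot_le, pow_one, pow_one, relIndex_bot_left, cv_bot, relIndex_top_right]
    exact hlt
  have hLS := ls_fab (H := H) M 1 1
  refine ⟨T, Q, lo (fab M 1 1) A, z, ind, sec, hK, sq, hT, hTi, hTz, hQ, hQz, fun g hg => hQn g (mem_top g) hg,
    (hLS.lo_le_self A).trans hAQ, fun a ha => hA2 a (hLS.lo_le_self A ha), ?_, hLS.strict_lo A, ?_, ?_, hgen⟩
  · intro hp t ht a ha
    have h1 : t ∈ normalizer (A : Set H) := by
      rw [Subgroup.mem_normalizer_iff_map_conj_eq]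
      refine eq_of_le_of_card_ge ?_
        (Nat.card_congr (A.equivMapOfInjective _ (MulAut.conj t).injective).toEquiv).le
      rintro _ ⟨b, hb, rfl⟩
      exact hAn hp t ht b hb
    exact (mem_normalizer_iff.1 (hLS.normalizer_le_lo A h1) a).1 ha
  · intro h1
    have h2 := hLS.le_lo A A le_rfl
    rw [h1] at h2
    exact absurd hov (not_lt.2 h2)
  · intro x hx
    have h1 : x ∈ fxr H (⊤ : Subgroup M) := fun m _ => hx m
    rw [hfaith] at h1
    exact mem_bot.1 h1

end exists_fr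

end Cfsg.Agent.Omega.ML.MinFrame

end

section


/-!
# (ML): first properties of a minimal counterexample (#15719 (1), (2), #16000 (1)); K-free

For `h : Fr K p H M T Q A z` (`MinFrame.lean`):

* `Fr.red` : strict `B ≤ O₂(C_R(z'))`, `R < H`, `z'` fixed by a Sylow 2-subgroup of `R`: `B` centralises `⟨z'^R⟩`;
  `Fr.red_o2` : `B ≤ O₂(R)`;  `Fr.le_o2` : `A ≤ O₂(R)` for all `T ≤ R < H`;
* `Fr.o2_eq_bot`, `Fr.eq_top_of_normal` : `O₂(H) = 1`, `H = ⟨A^H⟩`;
* `Fr.irred` : `M` is irreducible;  `Fr.fix_eq` : `C_M(H) = 1`;  `Fr.point` : every `T`-fixed `z' ≠ 1` gives a frame;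
* `quad` : strict abelian subgroups are quadratic;  `Fr.cv_le_of_hyp` : `C_M(B) = C_M(A)` for the hyperplanes `B`;
* `axb` : the `A x B`-lemma;  `Fr.odd_comm` : `A` centralises every subgroup of odd order which it normalises.
-/

set_option autoImplicit false

namespace Cfsg.Agent.Omega.ML.MinFrame

open Subgroup Cfsg Cfsg.Agent.ClassTwoFusion.Quad Cfsg.Agent.Omega.NOThree.NoOver Cfsg.Agent.Omega.ML.CD
open Cfsg.Agent.ZN Cfsg.Agent.MinSimple.VModule

universe u v

/-! ### General facts -/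

theorem le_normalizer_of {G : Type*} [Group G] {R N : Subgroup G} (h : ∀ g ∈ R, ∀ x ∈ N, g * x * g⁻¹ ∈ N) :
    R ≤ normalizer (N : Set G) := by
  intro g hg
  rw [mem_normalizer_iff]
  intro x
  refine ⟨h g hg x, fun hx => ?_⟩
  have h1 := h g⁻¹ (inv_mem hg) _ hx
  have e : g⁻¹ * (g * x * g⁻¹) * g⁻¹⁻¹ = x := by group
  rwa [e] at h1

theorem conj_mem_of_le {G : Type*} [Group G] {R N : Subgroup G} (h : R ≤ normalizer (N : Set G)) {g x : G}
    (hg : g ∈ R) (hx : x ∈ N) : g * x * g⁻¹ ∈ N := (mem_normalizer_iff.1 (h hg) x).1 hx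

/-- `O₂` of a normal subgroup -/
theorem o2_le_o2 {G : Type*} [Group G] {R N : Subgroup G} (hN : N ≤ R) (hn : ∀ g ∈ R, ∀ x ∈ N, g * x * g⁻¹ ∈ N) :
    o2 N ≤ o2 R := by
  refine le_o2 ((o2_le N).trans hN) (o2_isPGroup N) (le_normalizer_of fun h hh x hx => ?_)
  have hc : (o2 N).map (MulAut.conj h).toMonoidHom ≤ o2 N := by
    apply le_o2
    · rintro _ ⟨y, hy, rfl⟩
      exact hn h hh y (o2_le N hy)
    · exact (o2_isPGroup N).map _
    · refine le_normalizer_of fun y hy z hz => ?_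
      obtain ⟨w, hw, rfl⟩ := hz
      have h1 : h⁻¹ * y * h ∈ N := by
        have := hn h⁻¹ (inv_mem hh) y hy
        rwa [inv_inv] at this
      refine ⟨(h⁻¹ * y * h) * w * (h⁻¹ * y * h)⁻¹, conj_mem_of_le (le_normalizer_o2 N) h1 hw, ?_⟩
      change h * ((h⁻¹ * y * h) * w * (h⁻¹ * y * h)⁻¹) * h⁻¹ = y * (h * w * h⁻¹) * y⁻¹
      group
  exact hc ⟨x, hx, rfl⟩

section Mod

variable {H : Type*} [Group H] {M : Type*} [Group M] [MulDistribMulAction H M]

theorem comm_of_sq (sq : ∀ m : M, m * m = 1) (x y : M) : x * y = y * x := by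
  have h1 : ∀ m : M, m⁻¹ = m := fun m => inv_eq_of_mul_eq_one_right (sq m)
  calc x * y = (x * y)⁻¹ := (h1 _).symm
    _ = y⁻¹ * x⁻¹ := mul_inv_rev x y
    _ = y * x := by rw [h1, h1]

/-- **Strict abelian subgroups are quadratic** (Timmesfeld). -/
theorem quad [Finite H] [Finite M] (sq : ∀ m : M, m * m = 1) {A : Subgroup H} (hA : Strict (fab M 1 1) A)
    (hab : ∀ a ∈ A, ∀ b ∈ A, a * b = b * a) {a b : H} (ha : a ∈ A) (hb : b ∈ A) (m : M) :
    b • (a • m * m) = a • m * m := by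
  have hM := comm_of_sq sq
  -- `B = C_A([m, A])`
  let B : Subgroup H := A ⊓ fxr H (closure {x : M | ∃ a ∈ A, x = a • m * m})
  have hmB : ∀ {b : H}, b ∈ B ↔ b ∈ A ∧ ∀ a ∈ A, b • (a • m * m) = a • m * m := by
    intro b
    constructor
    · rintro ⟨h1, h2⟩
      exact ⟨h1, fun a ha => h2 _ (subset_closure ⟨a, ha, rfl⟩)⟩
    · rintro ⟨h1, h2⟩
      refine ⟨h1, fun x hx => ?_⟩
      have h3 : closure {x : M | ∃ a ∈ A, x = a • m * m} ≤ cv M ({b} : Set H) := by
        rw [closure_le]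
        rintro _ ⟨a, ha, rfl⟩
        exact mem_cv_singleton.2 (h2 a ha)
      exact mem_cv_singleton.1 (h3 hx)
  -- symmetry
  have hsym : ∀ a ∈ A, ∀ b ∈ A, (b • (a • m * m) = a • m * m ↔ a • (b • m * m) = b • m * m) := by
    intro a ha b hb
    rw [smul_mul', smul_mul', ← mul_smul, ← mul_smul, hab b hb a ha]
    constructor
    · intro h1
      have h2 : (a * b) • m = a • m * m * (b • m)⁻¹ := by rw [← h1]; group
      have h3 : (b • m)⁻¹ = b • m := inv_eq_of_mul_eq_one_right (sq _)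
      rw [h2, h3, mul_assoc (a • m * m), hM (b • m) (a • m), ← mul_assoc, mul_assoc (a • m) m (a • m),
        hM m (a • m), ← mul_assoc, sq, one_mul, hM]
    · intro h1
      have h2 : (a * b) • m = b • m * m * (a • m)⁻¹ := by rw [← h1]; group
      have h3 : (a • m)⁻¹ = a • m := inv_eq_of_mul_eq_one_right (sq _)
      rw [h2, h3, mul_assoc (b • m * m), hM (a • m) (b • m), ← mul_assoc, mul_assoc (b • m) m (b • m),
        hM m (b • m), ← mul_assoc, sq, one_mul, hM]
  suffices hB : B = A by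
    have h1 : b ∈ B := hB.ge hb
    exact (hmB.1 h1).2 a ha
  by_contra hne
  have hlt : B < A := lt_of_le_of_ne inf_le_left hne
  have h1 := hA B hlt
  rw [fab_lt_iff hlt.le, pow_one, pow_one] at h1
  -- the injection `A / B → C_M(B) / C_M(A)`
  have hinv : ∀ x : M, x⁻¹ = x := fun x => inv_eq_of_mul_eq_one_right (sq x)
  have hcB : ∀ a ∈ A, a • m * m ∈ cv M (B : Set H) := fun a ha b hb => (hmB.1 hb).2 a ha
  let φ : A → cv M (B : Set H) := fun a => ⟨(a : H) • m * m, hcB a a.2⟩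
  have key : ∀ a b : A, ((φ a)⁻¹ * φ b ∈ (cv M (A : Set H)).subgroupOf (cv M (B : Set H))) ↔
      (a⁻¹ * b ∈ B.subgroupOf A) := by
    intro a b
    rw [mem_subgroupOf, mem_subgroupOf]
    change ((a : H) • m * m)⁻¹ * ((b : H) • m * m) ∈ cv M (A : Set H) ↔ (a : H)⁻¹ * (b : H) ∈ B
    have e1 : ((a : H) • m * m)⁻¹ * ((b : H) • m * m) = (a : H) • ((((a : H)⁻¹ * (b : H)) • m) * m) := by
      rw [hinv, smul_mul', ← mul_smul, mul_inv_cancel_left, mul_assoc, hM ((b : H) • m) m, ← mul_assoc m m, sq,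
        one_mul, hM]
    rw [e1, hmB]
    have hc : (a : H)⁻¹ * (b : H) ∈ A := mul_mem (inv_mem a.2) b.2
    constructor
    · intro h2
      refine ⟨hc, fun c hcA => ?_⟩
      rw [hsym c hcA _ hc]
      have h3 := h2 c hcA
      rw [← mul_smul, hab c hcA a a.2, mul_smul] at h3
      exact smul_left_cancel _ h3
    · rintro ⟨-, h2⟩ c hcA
      rw [← mul_smul, hab c hcA a a.2, mul_smul]
      congr 1
      exact (hsym c hcA _ hc).1 (h2 c hcA)
  have hle : B.relIndex A ≤ (cv M (A : Set H)).relIndex (cv M (B : Set H)) := by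
    let ψ : A ⧸ B.subgroupOf A → cv M (B : Set H) ⧸ (cv M (A : Set H)).subgroupOf (cv M (B : Set H)) :=
      Quotient.map' φ (by
        intro a b hab
        rw [QuotientGroup.leftRel_apply] at hab ⊢
        exact (key a b).2 hab)
    refine Nat.card_le_card_of_injective ψ ?_
    intro x y
    induction x using Quotient.inductionOn' with
    | h a =>
      induction y using Quotient.inductionOn' with
      | h b =>
        intro h2
        have h3 : (Quotient.mk'' (φ a) : cv M (B : Set H) ⧸ (cv M (A : Set H)).subgroupOf (cv M (B : Set H))) =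
          Quotient.mk'' (φ b) := h2
        apply Quotient.sound'
        rw [QuotientGroup.leftRel_apply, ← key]
        exact QuotientGroup.leftRel_apply.1 (Quotient.exact' h3)
  omega

/-- hyperplanes of strict subgroups have the same centraliser -/
theorem cv_le_of_hyp [Finite H] [Finite M] {A B : Subgroup H} (hA : Strict (fab M 1 1) A) (hB : B ≤ A)
    (h2 : B.relIndex A = 2) : cv M (B : Set H) ≤ cv M (A : Set H) := by
  have hlt : B < A := lt_of_le_of_ne hB fun h => by rw [h, relIndex_self] at h2; omega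
  have h1 := hA B hlt
  rw [fab_lt_iff hB, pow_one, pow_one, h2] at h1
  have h3 : (cv M (A : Set H)).relIndex (cv M (B : Set H)) ≠ 0 := relIndex_ne _ _
  exact relIndex_eq_one.1 (by omega)

/-- **The `A x B`-lemma**: `B` a 2-group, `e` of odd order commuting with `B` and centralising `C_M(B)`. -/
theorem axb [Finite M] (sq : ∀ m : M, m * m = 1) {B : Subgroup H} (hB : IsPGroup 2 B) {e : H} {n : ℕ}
    (hn : Odd n) (he : e ^ n = 1) (hcom : ∀ b ∈ B, b * e = e * b) (hc : ∀ m ∈ cv M (B : Set H), e • m = m) (m : M) :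
    e • m = m := by
  classical
  have hM := comm_of_sq sq
  let _ : CommGroup M := { (inferInstance : Group M) with mul_comm := hM }
  -- the norm
  let N : M → M := fun m => ∏ i ∈ Finset.range n, e ^ i • m
  have hN1 : ∀ x y, N (x * y) = N x * N y := by
    intro x y
    change ∏ i ∈ Finset.range n, e ^ i • (x * y) = _
    rw [← Finset.prod_mul_distrib]
    exact Finset.prod_congr rfl fun i _ => smul_mul' _ _ _
  have hN2 : ∀ x, N (e • x) = N x := by
    intro x
    obtain ⟨k, rfl⟩ := hn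
    change ∏ i ∈ Finset.range (2 * k + 1), e ^ i • e • x = ∏ i ∈ Finset.range (2 * k + 1), e ^ i • x
    have h1 : ∀ i, e ^ i • e • x = e ^ (i + 1) • x := fun i => by rw [← mul_smul, ← pow_succ]
    rw [Finset.prod_congr rfl fun i _ => h1 i, Finset.prod_range_succ, Finset.prod_range_succ', he, pow_zero]
  have hN3 : ∀ b ∈ B, ∀ x, N (b • x) = b • N x := by
    intro b hb x
    have h1 : ∀ i, e ^ i • b • x = b • e ^ i • x := by
      intro i
      rw [← mul_smul, ← mul_smul]
      have h2 : Commute b e := hcom b hb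
      rw [(h2.pow_right i).eq]
    change ∏ i ∈ Finset.range n, e ^ i • b • x = b • ∏ i ∈ Finset.range n, e ^ i • x
    rw [Finset.prod_congr rfl fun i _ => h1 i]
    have h3 := map_prod (MulDistribMulAction.toMonoidHom M b) (fun i => e ^ i • x) (Finset.range n)
    exact h3.symm
  have hN4 : ∀ x, e • x = x → N x = x := by
    intro x hx
    have h1 : ∀ i, e ^ i • x = x := by
      intro i
      induction i with
      | zero => rw [pow_zero, one_smul]
      | succ i ih => rw [pow_succ, mul_smul, hx, ih]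
    change ∏ i ∈ Finset.range n, e ^ i • x = x
    rw [Finset.prod_congr rfl fun i _ => h1 i, Finset.prod_const, Finset.card_range]
    obtain ⟨k, rfl⟩ := hn
    rw [pow_succ, pow_mul, pow_two, sq, one_pow, one_mul]
  -- the kernel of the norm
  let W : Subgroup M :=
    { carrier := {x | N x = 1}
      one_mem' := by
        have h1 := hN1 1 1
        rw [mul_one] at h1
        exact mul_eq_left.1 h1.symm
      mul_mem' := fun {x y} hx hy => by
        change N (x * y) = 1
        rw [hN1, show N x = 1 from hx, show N y = 1 from hy, mul_one]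
      inv_mem' := fun {x} hx => by
        have h1 : x⁻¹ = x := inv_eq_of_mul_eq_one_right (sq x)
        rw [h1]
        exact hx }
  have hW : ∀ x, x ∈ W ↔ N x = 1 := fun _ => Iff.rfl
  -- it is trivial
  have hWb : W = ⊥ := by
    by_contra hne
    have hWB : ∀ b : B, ∀ x ∈ W, (b : H) • x ∈ W := fun b x hx => by
      rw [hW, hN3 b b.2, (hW x).1 hx, smul_one]
    let _ : MulAction B W :=
      { smul := fun b x => ⟨(b : H) • (x : M), hWB b x x.2⟩
        one_smul := fun x => Subtype.ext (one_smul H (x : M))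
        mul_smul := fun b c x => Subtype.ext (mul_smul (b : H) (c : H) (x : M)) }
    have hcard : 2 ∣ Nat.card W := by
      have h1 : IsPGroup 2 W := fun x => ⟨1, by
        rw [pow_one, pow_two]
        exact Subtype.ext (sq x)⟩
      have : Nontrivial W := (Subgroup.nontrivial_iff_ne_bot _).2 hne
      obtain ⟨k, hk⟩ := IsPGroup.iff_card.1 h1
      rw [hk]
      refine dvd_pow_self 2 ?_
      rintro rfl
      have h2 : 1 < Nat.card W := Finite.one_lt_card
      rw [hk, pow_zero] at h2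
      omega
    have : Fact (Nat.Prime 2) := ⟨Nat.prime_two⟩
    obtain ⟨b, hb1, hb2⟩ := hB.exists_fixed_point_of_prime_dvd_card_of_fixed_point (α := W) hcard (a := 1)
      (fun b => Subtype.ext (smul_one (b : H)))
    have h3 : (b : M) ∈ cv M (B : Set H) := fun c hcB => congrArg Subtype.val (hb1 ⟨c, hcB⟩)
    have h4 := hN4 b (hc b h3)
    rw [(hW b).1 b.2] at h4
    exact hb2 (Subtype.ext h4)
  have h5 : (e • m) * m⁻¹ ∈ W := by
    rw [hW, hN1, hN2]
    have h6 : m⁻¹ = m := inv_eq_of_mul_eq_one_right (sq m)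
    rw [h6, sq]
  rw [hWb, mem_bot] at h5
  exact mul_inv_eq_one.1 h5

end Mod

/-! ### The frame -/

namespace Fr

variable {K : Frame.Cls.{u}} {p : Prop} {H : Type u} [Group H] [Finite H] {M : Type v} [Group M] [Finite M]
  [MulDistribMulAction H M] {T Q A : Subgroup H} {z : M}

theorem card_lt {R : Subgroup H} (hR : R ≠ ⊤) : Nat.card R < Nat.card H := by
  have h1 : R < ⊤ := lt_top_iff_ne_top.2 hR
  have h2 := Set.ncard_lt_ncard (SetLike.coe_ssubset_coe.2 h1) (Set.toFinite _)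
  rwa [coe_top, Set.ncard_univ, ← Nat.card_coe_set_eq] at h2

/-- **(RED)** -/
theorem red (h : Fr K p H M T Q A z) {R : Subgroup H} (hR : R ≠ ⊤) {T' Q' B : Subgroup H} {z' : M}
    (hT : IsPGroup 2 T') (hTR : T' ≤ R) (hTi : ¬ 2 ∣ T'.relIndex R) (hTz : ∀ t ∈ T', t • z' = z')
    (hQ : IsPGroup 2 Q') (hQR : Q' ≤ R) (hQz : ∀ q ∈ Q', q • z' = z')
    (hQn : ∀ g ∈ R, g • z' = z' → ∀ q ∈ Q', g * q * g⁻¹ ∈ Q') (hBQ : B ≤ Q') (hB2 : ∀ a ∈ B, a * a = 1)
    (hBn : p → ∀ t ∈ T', ∀ a ∈ B, t * a * t⁻¹ ∈ B) (hB : Strict (fab M 1 1) B) :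
    B ≤ fxr H (orb R z') := by
  have h1 := rel_subgroup (M := M) R (h.ind R M (h.sec.sub H h.KH R) h.sq (Or.inl (card_lt hR)))
  have h2 := h1 T' Q' B z' (mem_top _) hT hTR hTi hTz hQ hQR hQz hQn hBQ hB2 hBn
  by_contra hc
  have hlt : B ⊓ fxr H (orb R z') < B := lt_of_le_of_ne inf_le_left fun h3 => hc (inf_eq_left.1 h3)
  have h3 := relIndex_lt_of_moves hB (W := orb R z') hlt (cv_inf_eq_iff.2 inf_le_right)
  rw [pow_one, pow_one, inf_relIndex_left] at h3
  omega

theorem red_o2 (h : Fr K p H M T Q A z) {R : Subgroup H} (hR : R ≠ ⊤) {T' Q' B : Subgroup H} {z' : M}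
    (hT : IsPGroup 2 T') (hTR : T' ≤ R) (hTi : ¬ 2 ∣ T'.relIndex R) (hTz : ∀ t ∈ T', t • z' = z')
    (hQ : IsPGroup 2 Q') (hQR : Q' ≤ R) (hQz : ∀ q ∈ Q', q • z' = z')
    (hQn : ∀ g ∈ R, g • z' = z' → ∀ q ∈ Q', g * q * g⁻¹ ∈ Q') (hBQ : B ≤ Q') (hB2 : ∀ a ∈ B, a * a = 1)
    (hBn : p → ∀ t ∈ T', ∀ a ∈ B, t * a * t⁻¹ ∈ B) (hB : Strict (fab M 1 1) B) : B ≤ o2 R := by
  have h1 := h.red hR hT hTR hTi hTz hQ hQR hQz hQn hBQ hB2 hBn hB
  have hinv : ∀ g ∈ R, ∀ m ∈ orb R z', g • m ∈ orb R z' := fun g hg m hm => smul_mem_orb hg hm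
  have h2 : o2 (R ⊓ fxr H (orb R z')) ≤ o2 R := o2_le_o2 inf_le_left fun g hg x hx =>
    ⟨R.mul_mem (R.mul_mem hg hx.1) (R.inv_mem hg), conj_mem_fxr hinv hg hx.2⟩
  refine le_trans ?_ h2
  have h3 : Q' ⊓ (R ⊓ fxr H (orb R z')) ≤ o2 (R ⊓ fxr H (orb R z')) := by
    refine le_o2 inf_le_right (hQ.to_le inf_le_left) (le_normalizer_of fun g hg x hx => ⟨?_, ?_⟩)
    · exact hQn g hg.1 (hg.2 _ (mem_orb_self R z')) x hx.1
    · exact Subgroup.mul_mem _ (Subgroup.mul_mem _ hg hx.2) (Subgroup.inv_mem _ hg)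
  exact le_trans (le_inf hBQ (le_inf (hBQ.trans hQR) h1)) h3

omit [Finite H] [Finite M] in
theorem not_dvd_relIndex (h : Fr K p H M T Q A z) {R : Subgroup H} (hR : T ≤ R) : ¬ 2 ∣ T.relIndex R :=
  fun h2 => h.odd (h2.trans (Dvd.intro _ (relIndex_mul_index hR)))

omit [Finite M] in
/-- `O₂(C_H(z)) ≤ T`, so `A ≤ T` -/
theorem Q_le_T (h : Fr K p H M T Q A z) : Q ≤ T := by
  have h1 : T ≤ MulAction.stabilizer H z := fun t ht => h.fixT t ht
  have h2 : Q ≤ o2 (MulAction.stabilizer H z) :=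
    le_o2 (fun q hq => h.fixQ q hq) h.Q2 (le_normalizer_of fun g hg x hx => h.nrmQ g hg x hx)
  refine h2.trans (o2_le_of_sylow h.two fun h3 => h.odd (h3.trans (Dvd.intro _ (relIndex_mul_index h1))))

omit [Finite M] in
theorem A_le_T (h : Fr K p H M T Q A z) : A ≤ T := h.AQ.trans h.Q_le_T

/-- **`A ≤ O₂(R)` for `T ≤ R < H`** -/
theorem le_o2 (h : Fr K p H M T Q A z) {R : Subgroup H} (hT : T ≤ R) (hR : R ≠ ⊤) : A ≤ o2 R :=
  h.red_o2 hR h.two hT (h.not_dvd_relIndex hT) h.fixT h.Q2 (h.Q_le_T.trans hT) h.fixQ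
    (fun g _ hg q hq => h.nrmQ g hg q hq) h.AQ h.Asq h.nrmA h.strict

omit [Finite M] in
/-- `O₂(H) = 1` -/
theorem o2_eq_bot (h : Fr K p H M T Q A z) {N : Subgroup H} (hN : N.Normal) (h2 : IsPGroup 2 N) : N = ⊥ := by
  rw [eq_bot_iff]
  intro x hx
  rw [mem_bot]
  apply h.faithful
  have h1 : N ≤ T := by
    have h3 : N ≤ o2 (⊤ : Subgroup H) := Cfsg.Agent.MinSimple.VModule.le_o2 le_top h2 (le_normalizer_of fun g _ x hx => hN.conj_mem x hx g)
    exact h3.trans (o2_le_of_sylow h.two (by rw [relIndex_top_right]; exact h.odd))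
  have h3 : x ∈ fxr H (orb (⊤ : Subgroup H) z) := by
    rw [mem_fxr_orb]
    intro g _
    have h4 : g⁻¹ * x * g ∈ T := by
      have := hN.conj_mem x hx g⁻¹
      rw [inv_inv] at this
      exact h1 this
    have h5 := h.fixT _ h4
    rw [mul_smul, mul_smul, inv_smul_eq_iff] at h5
    exact h5
  rw [h.gen] at h3
  exact fun m => h3 m (mem_top m)

/-- `H = ⟨A^H⟩` -/
theorem eq_top_of_normal (h : Fr K p H M T Q A z) {N : Subgroup H} (hN : N.Normal) (hA : A ≤ N) : N = ⊤ := by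
  by_contra hne
  have hTi : ¬ 2 ∣ (T ⊓ N).relIndex N := by
    rw [inf_relIndex_right, ← Lib.SylowNormalInf.relIndex_sup_of_normal T N]
    exact h.not_dvd_relIndex le_sup_left
  have h1 := h.red_o2 hne (T' := T ⊓ N) (Q' := Q ⊓ N) (B := A) (z' := z) (h.two.to_le inf_le_left) inf_le_right hTi
    (fun t ht => h.fixT t ht.1) (h.Q2.to_le inf_le_left) inf_le_right (fun q hq => h.fixQ q hq.1)
    (fun g _ hgz q hq => ⟨h.nrmQ g hgz q hq.1, hN.conj_mem q hq.2 g⟩) (le_inf h.AQ hA) h.Asq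
    (fun hp t ht a ha => h.nrmA hp t ht.1 a ha) h.strict
  have h2 : o2 N ≤ o2 (⊤ : Subgroup H) := o2_le_o2 le_top fun g _ x hx => hN.conj_mem x hx g
  have h3 : o2 (⊤ : Subgroup H) = ⊥ := h.o2_eq_bot (by
    constructor
    intro x hx g
    exact conj_mem_of_le (le_normalizer_o2 ⊤) (mem_top g) hx) (o2_isPGroup _)
  exact h.ne (le_bot_iff.1 ((h1.trans h2).trans h3.le))

end Fr

end Cfsg.Agent.Omega.ML.MinFrame

end

section


/-!
# (ML), the K-list end: THEOREM LOC (helper667, OMEGA)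

One 2-local subgroup `R₀ = E.L` of odd index, `E` elementary abelian and self-centralising in `T`, `L` without nontrivial
modules of order `< |E|`, excludes the group of a minimal counterexample of (ML):

* `Dat H M T R₀ E L` : the hypotheses: `T ≤ R₀ < H`, `E` normal in `R₀` elementary abelian, `O₂(R₀) ≤ E`, `C_T(E) ≤ E`,
  `L ≤ R₀` irreducible on `E` and trivial on every `L`-section `M / W` of order `< |E|`;
* `Base H M T Q A z` : what is used of the frame `Fr` (`p = False`);  `Fr.base`;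
* `Base.loc` : **contradiction**, if `T` lies in two maximal subgroups of `H`.
-/

set_option autoImplicit false

namespace Cfsg.Agent.Omega.ML.Loc

open Subgroup Cfsg Cfsg.Agent.ClassTwoFusion.Quad Cfsg.Agent.Omega.NOThree.NoOver Cfsg.Agent.Omega.ML.CD
open Cfsg.Agent.ZN Cfsg.Agent.MinSimple.VModule Cfsg.Agent.Omega.ML.MinFrame

universe u v

/-- the 2-local data: `T ≤ R₀ < H`, `O₂(R₀) ≤ E` elementary abelian and normal in `R₀`, `C_T(E) ≤ E`, `L ≤ R₀` irreducible on
`E` and trivial on all `M / W` of order `< |E|` -/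
structure Dat (H : Type u) [Group H] (M : Type v) [Group M] [MulDistribMulAction H M] (T R₀ E L : Subgroup H) :
    Prop where
  TR : T ≤ R₀
  Rne : R₀ ≠ ⊤
  ER : E ≤ R₀
  nE : R₀ ≤ normalizer (E : Set H)
  sq : ∀ e ∈ E, e * e = 1
  core : o2 R₀ ≤ E
  cT : ∀ t ∈ T, (∀ e ∈ E, t * e = e * t) → t ∈ E
  LR : L ≤ R₀
  irr : ∀ E₁ ≤ E, (∀ l ∈ L, ∀ x ∈ E₁, l * x * l⁻¹ ∈ E₁) → E₁ = ⊥ ∨ E₁ = E
  triv : ∀ W : Subgroup M, (∀ l ∈ L, ∀ m ∈ W, l • m ∈ W) → (∀ e ∈ E, ∀ m, e • m * m⁻¹ ∈ W) →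
    W.index < Nat.card E → ∀ l ∈ L, ∀ m, l • m * m⁻¹ ∈ W

theorem strict_iSup {H : Type*} [Group H] [Finite H] {f : Subgroup H → ℕ} (hf : LS f) {ι : Sort*} {X : ι → Subgroup H}
    (hX : ∀ i, Strict f (X i)) : Strict f (⨆ i, X i) := by
  rw [strict_iff hf]
  exact le_antisymm (hf.lo_le_self _) (iSup_le fun i => (hX i).le_lo hf (le_iSup _ i))

section

variable {H : Type*} [Group H] {M : Type*} [Group M] [MulDistribMulAction H M]

/-- `N_H(W)` -/
def stb (H : Type*) [Group H] {M : Type*} [Group M] [MulDistribMulAction H M] (W : Subgroup M) : Subgroup H where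
  carrier := {g | ∀ m, g • m ∈ W ↔ m ∈ W}
  one_mem' := fun m => by rw [one_smul]
  mul_mem' := fun {x y} hx hy m => by rw [mul_smul, hx, hy]
  inv_mem' := fun {x} hx m => by rw [← hx (x⁻¹ • m), smul_inv_smul]

/-- `C_H(W) ∩ C_H(M/W)` -/
def cen (H : Type*) [Group H] {M : Type*} [Group M] [MulDistribMulAction H M] (W : Subgroup M) : Subgroup H where
  carrier := {g | (∀ m ∈ W, g • m = m) ∧ ∀ m, g • m * m⁻¹ ∈ W}
  one_mem' := ⟨fun m _ => one_smul _ m, fun m => by rw [one_smul, mul_inv_cancel]; exact W.one_mem⟩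
  mul_mem' := by
    rintro x y ⟨hx, hx'⟩ ⟨hy, hy'⟩
    refine ⟨fun m hm => by rw [mul_smul, hy m hm, hx m hm], fun m => ?_⟩
    have e : (x * y) • m * m⁻¹ = (x • (y • m) * (y • m)⁻¹) * (y • m * m⁻¹) := by
      rw [mul_smul]; group
    rw [e]
    exact W.mul_mem (hx' _) (hy' _)
  inv_mem' := by
    rintro x ⟨hx, hx'⟩
    refine ⟨fun m hm => by rw [inv_smul_eq_iff, hx m hm], fun m => ?_⟩
    have h1 := hx' (x⁻¹ • m)
    rw [smul_inv_smul] at h1
    have h2 := W.inv_mem h1
    rwa [mul_inv_rev, inv_inv] at h2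

theorem mem_cen {W : Subgroup M} {g : H} : g ∈ cen H W ↔ (∀ m ∈ W, g • m = m) ∧ ∀ m, g • m * m⁻¹ ∈ W := Iff.rfl

theorem cen_le_stb (W : Subgroup M) : cen H W ≤ stb H W := by
  rintro g ⟨hg, hg'⟩ m
  constructor
  · intro h
    have h2 := W.mul_mem (W.inv_mem (hg' m)) h
    have e : (g • m * m⁻¹)⁻¹ * g • m = m := by group
    rwa [e] at h2
  · intro h
    rw [hg m h]
    exact h

theorem conj_mem_cen {W : Subgroup M} {g x : H} (hg : g ∈ stb H W) (hx : x ∈ cen H W) : g * x * g⁻¹ ∈ cen H W := by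
  have hg' := (stb H W).inv_mem hg
  refine ⟨fun m hm => ?_, fun m => ?_⟩
  · rw [mul_smul, mul_smul, hx.1 _ ((hg' m).2 hm), smul_inv_smul]
  · have h1 := (hg _).2 (hx.2 (g⁻¹ • m))
    rw [smul_mul', smul_inv', smul_inv_smul] at h1
    rw [mul_smul, mul_smul]
    exact h1

theorem sq_of_mem_cen {W : Subgroup M} (sq : ∀ m : M, m * m = 1) (hf : ∀ x : H, (∀ m : M, x • m = m) → x = 1) {x : H}
    (hx : x ∈ cen H W) : x * x = 1 := by
  apply hf
  intro m
  have h1 : x • m = (x • m * m⁻¹) * m := by group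
  rw [mul_smul]
  calc x • (x • m) = x • ((x • m * m⁻¹) * m) := by rw [← h1]
    _ = (x • m * m⁻¹) * (x • m) := by rw [smul_mul', hx.1 _ (hx.2 m)]
    _ = (x • m * m⁻¹) * ((x • m * m⁻¹) * m) := by rw [← h1]
    _ = m := by rw [← mul_assoc, sq, one_mul]

theorem isPGroup_of_sq {A : Subgroup H} (hA : ∀ a ∈ A, a * a = 1) : IsPGroup 2 A := fun q =>
  ⟨1, by rw [pow_one, pow_two]; exact Subtype.ext (hA q q.2)⟩

theorem comm_of_sq' {A : Subgroup H} (hA : ∀ a ∈ A, a * a = 1) : ∀ a ∈ A, ∀ b ∈ A, a * b = b * a := by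
  intro a ha b hb
  have h1 := hA _ (A.mul_mem ha hb)
  have h2 : a⁻¹ = a := inv_eq_of_mul_eq_one_right (hA a ha)
  have h3 : b⁻¹ = b := inv_eq_of_mul_eq_one_right (hA b hb)
  calc a * b = (a * b)⁻¹ := (inv_eq_of_mul_eq_one_right h1).symm
    _ = b⁻¹ * a⁻¹ := mul_inv_rev a b
    _ = b * a := by rw [h2, h3]

end

/-- What is used of the frame of a minimal counterexample: `M` an elementary abelian 2-group, `H` faithful on `M`,
`O₂(H) = 1`, `T` a Sylow 2-subgroup of `H` fixing `z`, `Q` a normal 2-subgroup of `C_H(z)`, `1 ≠ A ≤ Q` elementary abelian and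
strict, and (RED): strict elementary abelian subgroups of normal 2-subgroups of `C_H(z)` are in `O₂(R)`, `T ≤ R < H`. -/
structure Base (H : Type u) [Group H] (M : Type v) [Group M] [MulDistribMulAction H M] (T Q A : Subgroup H) (z : M) :
    Prop where
  sq : ∀ m : M, m * m = 1
  faithful : ∀ x : H, (∀ m : M, x • m = m) → x = 1
  core : ∀ N : Subgroup H, N.Normal → IsPGroup 2 N → N = ⊥
  two : IsPGroup 2 T
  odd : ¬ 2 ∣ T.index
  fixT : ∀ t ∈ T, t • z = z
  Q2 : IsPGroup 2 Q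
  fixQ : ∀ q ∈ Q, q • z = z
  nrmQ : ∀ g : H, g • z = z → ∀ q ∈ Q, g * q * g⁻¹ ∈ Q
  AQ : A ≤ Q
  Asq : ∀ a ∈ A, a * a = 1
  strict : Strict (fab M 1 1) A
  ne : A ≠ ⊥
  red : ∀ Q' B R : Subgroup H, IsPGroup 2 Q' → (∀ q ∈ Q', q • z = z) →
    (∀ g : H, g • z = z → ∀ q ∈ Q', g * q * g⁻¹ ∈ Q') → B ≤ Q' → (∀ b ∈ B, b * b = 1) → Strict (fab M 1 1) B →
    T ≤ R → R ≠ ⊤ → B ≤ o2 R

variable {K : Frame.Cls.{u}} {H : Type u} [Group H] [Finite H] {M : Type v} [Group M] [Finite M]
  [MulDistribMulAction H M] {T R₀ E L Q A : Subgroup H} {z : M}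

namespace Dat

omit [Finite H] [Finite M] in
theorem smul_mem (D : Dat H M T R₀ E L) {r : H} (hr : r ∈ R₀) {m : M} (hm : m ∈ cv M (E : Set H)) :
    r • m ∈ cv M (E : Set H) := by
  intro e he
  have h1 := conj_mem_of_le D.nE (R₀.inv_mem hr) he
  rw [inv_inv] at h1
  have h2 := hm _ h1
  rw [mul_smul, mul_smul, inv_smul_eq_iff] at h2
  exact h2

/-- **`C_M(e) = C_M(E)` for all `1 ≠ e ∈ E`** -/
theorem mem_cv_of (D : Dat H M T R₀ E L) (hsq : ∀ m : M, m * m = 1) (hs : Strict (fab M 1 1) E) (hne : E ≠ ⊥) {e : H} (he : e ∈ E) (he1 : e ≠ 1)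
    {m : M} (hm : e • m = m) : m ∈ cv M (E : Set H) := by
  have hW : (cv M (E : Set H)).index < Nat.card E := by
    have h1 := hs ⊥ (bot_lt_iff_ne_bot.2 hne)
    rwa [fab_lt_iff bot_le, pow_one, pow_one, relIndex_bot_left, cv_bot, relIndex_top_right] at h1
  have ht := D.triv _ (fun l hl m hm => D.smul_mem (D.LR hl) hm) (fun e he m b hb => by
    have h1 := quad hsq hs (comm_of_sq' D.sq) he hb m
    rwa [show m⁻¹ = m from inv_eq_of_mul_eq_one_right (hsq m)]) hW
  have hE1 : E ⊓ MulAction.stabilizer H m = ⊥ ∨ E ⊓ MulAction.stabilizer H m = E := by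
    refine D.irr _ inf_le_left fun l hl x hx => ⟨conj_mem_of_le D.nE (D.LR hl) hx.1, ?_⟩
    change (l * x * l⁻¹) • m = m
    have hxm : x • m = m := MulAction.mem_stabilizer_iff.1 hx.2
    have h1 : l⁻¹ • m = (l⁻¹ • m * m⁻¹) * m := by group
    have h2 : x • (l⁻¹ • m) = l⁻¹ • m := by
      calc x • (l⁻¹ • m) = x • ((l⁻¹ • m * m⁻¹) * m) := by rw [← h1]
        _ = (l⁻¹ • m * m⁻¹) * m := by rw [smul_mul', ht _ (L.inv_mem hl) m x hx.1, hxm]
        _ = l⁻¹ • m := h1.symm
    rw [mul_smul, mul_smul, h2, smul_inv_smul]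
  have he2 : e ∈ E ⊓ MulAction.stabilizer H m := ⟨he, MulAction.mem_stabilizer_iff.2 hm⟩
  rcases hE1 with h | h
  · rw [h, mem_bot] at he2
    exact absurd he2 he1
  · intro x hx
    have h2 : x ∈ E ⊓ MulAction.stabilizer H m := by rw [h]; exact hx
    exact MulAction.mem_stabilizer_iff.1 h2.2

end Dat

omit [Finite M] in
theorem Base.o2_le (h : Base H M T Q A z) {R : Subgroup H} (hR : T ≤ R) : o2 R ≤ T :=
  o2_le_of_sylow h.two fun h2 => h.odd (h2.trans (Dvd.intro _ (relIndex_mul_index hR)))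

/-- the frame gives the base -/
theorem _root_.Cfsg.Agent.Omega.ML.MinFrame.Fr.base (h : Fr K False H M T Q A z) : Base H M T Q A z where
  sq := h.sq
  faithful := h.faithful
  core := fun _ hN h2 => h.o2_eq_bot hN h2
  two := h.two
  odd := h.odd
  fixT := h.fixT
  Q2 := h.Q2
  fixQ := h.fixQ
  nrmQ := h.nrmQ
  AQ := h.AQ
  Asq := h.Asq
  strict := h.strict
  ne := h.ne
  red := by
    intro Q' B R hQ hQz hQn hBQ hB2 hB hR hR'
    have h1 : T ≤ MulAction.stabilizer H z := fun t ht => h.fixT t ht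
    have h2 : Q' ≤ o2 (MulAction.stabilizer H z) :=
      Cfsg.Agent.MinSimple.VModule.le_o2 (fun q hq => hQz q hq) hQ (le_normalizer_of fun g hg x hx => hQn g hg x hx)
    have h3 : Q' ≤ T := h2.trans (o2_le_of_sylow h.two (h.not_dvd_relIndex h1))
    exact h.red_o2 hR' h.two hR (h.not_dvd_relIndex hR) h.fixT hQ (h3.trans hR) hQz (fun g _ hg q hq => hQn g hg q hq)
      hBQ hB2 (fun hp => hp.elim) hB

/-- **THEOREM LOC** -/
theorem Base.loc (h : Base H M T Q A z) (D : Dat H M T R₀ E L)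
    (two : ∀ R : Subgroup H, T ≤ R → R ≠ ⊤ → ∃ P : Subgroup H, T ≤ P ∧ P ≠ ⊤ ∧ ¬ P ≤ R) : False := by
  have hf := ls_fab (H := H) M 1 1
  have hT : ∀ {R : Subgroup H}, T ≤ R → o2 R ≤ T := fun hR => h.o2_le hR
  -- the conjugates of `A` under `C_H(z)`
  have hcA : ∀ c ∈ MulAction.stabilizer H z, cj c A ≤ Q := by
    rintro c hc _ ⟨a, ha, rfl⟩
    exact h.nrmQ c hc a (h.AQ ha)
  have hcsq : ∀ c, ∀ a ∈ cj c A, a * a = 1 := by
    rintro c _ ⟨a, ha, rfl⟩
    change (c * a * c⁻¹) * (c * a * c⁻¹) = 1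
    have e : (c * a * c⁻¹) * (c * a * c⁻¹) = c * (a * a) * c⁻¹ := by group
    rw [e, h.Asq a ha, mul_one, mul_inv_cancel]
  have hco2 : ∀ c ∈ MulAction.stabilizer H z, ∀ R : Subgroup H, T ≤ R → R ≠ ⊤ → cj c A ≤ o2 R := by
    intro c hc R hR hR'
    exact h.red Q _ R h.Q2 h.fixQ h.nrmQ (hcA c hc) (hcsq c) (h.strict.cj hf c) hR hR'
  obtain ⟨X, hX⟩ : ∃ X : Subgroup H, X = ⨆ c : MulAction.stabilizer H z, cj (c : H) A := ⟨_, rfl⟩
  have hXs : Strict (fab M 1 1) X := by
    rw [hX]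
    exact strict_iSup hf fun c => h.strict.cj hf c
  have hAX : A ≤ X := by
    rw [hX]
    refine le_trans (le_of_eq (cj_one A).symm) (le_iSup (fun c : MulAction.stabilizer H z => cj (c : H) A) 1)
  have hXne : X ≠ ⊥ := fun h1 => h.ne (le_bot_iff.1 (h1 ▸ hAX))
  have hXo : ∀ R : Subgroup H, T ≤ R → R ≠ ⊤ → X ≤ o2 R := by
    intro R hR hR'
    rw [hX]
    exact iSup_le fun c => hco2 c c.2 R hR hR'
  have hXn : ∀ c ∈ MulAction.stabilizer H z, ∀ x ∈ X, c * x * c⁻¹ ∈ X := by
    intro c hc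
    have h1 : X ≤ X.comap (MulAut.conj c).toMonoidHom := by
      conv_lhs => rw [hX]
      refine iSup_le fun d => ?_
      rintro _ ⟨a, ha, rfl⟩
      rw [mem_comap, hX]
      refine (le_iSup (fun c : MulAction.stabilizer H z => cj (c : H) A) (⟨c, hc⟩ * d)) ⟨a, ha, ?_⟩
      change (c * (d : H)) * a * (c * (d : H))⁻¹ = c * ((d : H) * a * (d : H)⁻¹) * c⁻¹
      group
    exact fun x hx => h1 hx
  -- `E` is strict
  have hEX : X ≤ E := (hXo R₀ D.TR D.Rne).trans D.core
  have hEs : Strict (fab M 1 1) E := by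
    have h1 : (⨆ r : R₀, cj (r : H) X) = E := by
      have hle : (⨆ r : R₀, cj (r : H) X) ≤ E := by
        refine iSup_le fun r => ?_
        rintro _ ⟨x, hx, rfl⟩
        exact conj_mem_of_le D.nE r.2 (hEX hx)
      have hXle : X ≤ ⨆ r : R₀, cj (r : H) X :=
        le_trans (le_of_eq (cj_one X).symm) (le_iSup (fun r : R₀ => cj (r : H) X) 1)
      refine (D.irr _ hle fun l hl => ?_).resolve_left fun h2 => hXne (le_bot_iff.1 (h2 ▸ hXle))
      have h1 : (⨆ r : R₀, cj (r : H) X) ≤ (⨆ r : R₀, cj (r : H) X).comap (MulAut.conj l).toMonoidHom := by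
        refine iSup_le fun d => ?_
        rintro _ ⟨a, ha, rfl⟩
        rw [mem_comap]
        refine (le_iSup (fun r : R₀ => cj (r : H) X) (⟨l, D.LR hl⟩ * d)) ⟨a, ha, ?_⟩
        change (l * (d : H)) * a * (l * (d : H))⁻¹ = l * ((d : H) * a * (d : H)⁻¹) * l⁻¹
        group
      exact fun x hx => h1 hx
    rw [← h1]
    exact strict_iSup hf fun r => hXs.cj hf r
  have hEne : E ≠ ⊥ := fun h1 => hXne (le_bot_iff.1 (h1 ▸ hEX))
  have hE2 : IsPGroup 2 E := isPGroup_of_sq D.sq
  have hEc := comm_of_sq' D.sq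
  have hEo : E ≤ o2 R₀ := Cfsg.Agent.MinSimple.VModule.le_o2 D.ER hE2 D.nE
  have hET : E ≤ T := hEo.trans (hT D.TR)
  obtain ⟨W, hW⟩ : ∃ W : Subgroup M, W = cv M (E : Set H) := ⟨_, rfl⟩
  have hfix : ∀ e ∈ E, e ≠ 1 → ∀ m : M, e • m = m → m ∈ W := fun e he he1 m hm => by
    rw [hW]; exact D.mem_cv_of h.sq hEs hEne he he1 hm
  have hWE : ∀ m ∈ W, ∀ e ∈ E, e • m = m := fun m hm e he => by
    rw [hW] at hm; exact hm e he
  -- `R = N_H(W)`
  have hR₀ : R₀ ≤ stb H W := by
    intro r hr m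
    constructor
    · intro h1
      rw [hW] at h1 ⊢
      have h2 := D.smul_mem (R₀.inv_mem hr) h1
      rwa [inv_smul_smul] at h2
    · intro h1
      rw [hW] at h1 ⊢
      exact D.smul_mem hr h1
  have hEcen : E ≤ cen H W := by
    intro e he
    refine ⟨fun m hm => hWE m hm e he, fun m => ?_⟩
    rw [hW]
    intro b hb
    have h1 := quad h.sq hEs hEc he hb m
    rwa [show m⁻¹ = m from inv_eq_of_mul_eq_one_right (h.sq m)]
  have hcen2 : IsPGroup 2 (cen H W) := isPGroup_of_sq fun x hx => sq_of_mem_cen h.sq h.faithful hx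
  have hRne : stb H W ≠ ⊤ := by
    intro h1
    have h2 : (cen H W).Normal := ⟨fun x hx g => conj_mem_cen (by rw [h1]; exact mem_top g) hx⟩
    exact hEne (le_bot_iff.1 (hEcen.trans (h.core _ h2 hcen2).le))
  have hTR : T ≤ stb H W := D.TR.trans hR₀
  have hcenE : cen H W = E := by
    refine le_antisymm ?_ hEcen
    have h1 : cen H W ≤ o2 (stb H W) := Cfsg.Agent.MinSimple.VModule.le_o2 (cen_le_stb W) hcen2
      (le_normalizer_of fun g hg x hx => conj_mem_cen hg hx)
    have h2 : o2 (stb H W) ≤ o2 R₀ := Cfsg.Agent.MinSimple.VModule.le_o2 ((hT hTR).trans D.TR) (o2_isPGroup _)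
      (hR₀.trans (le_normalizer_o2 _))
    exact h1.trans (h2.trans D.core)
  have hRE : ∀ g ∈ stb H W, ∀ e ∈ E, g * e * g⁻¹ ∈ E := by
    intro g hg e he
    rw [← hcenE] at he ⊢
    exact conj_mem_cen hg he
  -- an element mapping some `1 ≠ e ∈ E` into `E` is in `R`
  have hTI : ∀ g : H, ∀ e ∈ E, e ≠ 1 → g * e * g⁻¹ ∈ E → g ∈ stb H W := by
    intro g e he he1 hge m
    have hne : g * e * g⁻¹ ≠ 1 := by
      intro h1
      apply he1
      rw [mul_inv_eq_one] at h1
      exact mul_left_cancel (h1.trans (mul_one g).symm)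
    constructor
    · intro h1
      refine hfix e he he1 m ?_
      have h2 := hWE _ h1 _ hge
      rw [mul_smul, mul_smul, inv_smul_smul] at h2
      exact (smul_left_cancel g h2)
    · intro h1
      refine hfix _ hge hne _ ?_
      rw [mul_smul, mul_smul, inv_smul_smul, hWE m h1 e he]
  -- `C_H(z) ≤ R`
  have hz : ∀ c : H, c • z = z → c ∈ stb H W := by
    intro c hc
    obtain ⟨x, hx, hx1⟩ : ∃ x ∈ X, x ≠ 1 := by
      obtain ⟨a, ha⟩ := ne_bot_iff_exists_ne_one.1 hXne
      exact ⟨a, a.2, fun h1 => ha (Subtype.ext h1)⟩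
    exact hTI c x (hEX hx) hx1 (hEX (hXn c hc x hx))
  have hEP : ∀ R : Subgroup H, T ≤ R → R ≠ ⊤ → E ≤ o2 R := by
    intro R hR hR'
    exact h.red E E R hE2 (fun q hq => h.fixT q (hET hq)) (fun g hg q hq => hRE g (hz g hg) q hq) le_rfl D.sq hEs hR hR'
  -- the second overgroup
  obtain ⟨P, hTP, hPne, hPR⟩ := two (stb H W) hTR hRne
  obtain ⟨p, hp, hpR⟩ : ∃ p ∈ P, p ∉ stb H W := by
    by_contra hcon
    push Not at hcon
    exact hPR hcon
  have hEoP := hEP P hTP hPne
  have hoT := hT hTP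
  obtain ⟨e, he, he1⟩ : ∃ x ∈ E, x ≠ 1 := by
    obtain ⟨a, ha⟩ := ne_bot_iff_exists_ne_one.1 hEne
    exact ⟨a, a.2, fun h1 => ha (Subtype.ext h1)⟩
  have hconj : ∀ {g : H}, g ∈ P → ∀ {x : H}, x ∈ E → g * x * g⁻¹ ∈ T := fun {g} hg {x} hx =>
    hoT (conj_mem_of_le (le_normalizer_o2 P) hg (hEoP hx))
  -- `p e p⁻¹` centralises `E`
  have hyE : p * e * p⁻¹ ∈ E := by
    refine D.cT _ (hconj hp he) fun x hx => ?_
    -- the commutator is in `E` and in `E^p`
    have h1 : (p * e * p⁻¹) * x * (p * e * p⁻¹)⁻¹ ∈ E := conj_mem_of_le (D.TR.trans D.nE) (hconj hp he) hx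
    have h2 : (p * e * p⁻¹) * x * (p * e * p⁻¹)⁻¹ * x⁻¹ ∈ E := E.mul_mem h1 (E.inv_mem hx)
    have h3 : p⁻¹ * ((p * e * p⁻¹) * x * (p * e * p⁻¹)⁻¹ * x⁻¹) * p ∈ E := by
      have h4 : p⁻¹ * x * p⁻¹⁻¹ ∈ T := hconj (P.inv_mem hp) hx
      rw [inv_inv] at h4
      have h5 : (p⁻¹ * x * p) * e⁻¹ * (p⁻¹ * x * p)⁻¹ ∈ E := conj_mem_of_le (D.TR.trans D.nE) h4 (E.inv_mem he)
      have h6 := E.mul_mem he h5
      have e1 : p⁻¹ * ((p * e * p⁻¹) * x * (p * e * p⁻¹)⁻¹ * x⁻¹) * p = e * ((p⁻¹ * x * p) * e⁻¹ * (p⁻¹ * x * p)⁻¹) := by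
        group
      rw [e1]
      exact h6
    by_contra hne
    refine hpR (hTI p _ h3 ?_ ?_)
    · intro h4
      apply hne
      have h5 : (p * e * p⁻¹) * x * (p * e * p⁻¹)⁻¹ * x⁻¹ = 1 := by
        have h6 : p * (p⁻¹ * ((p * e * p⁻¹) * x * (p * e * p⁻¹)⁻¹ * x⁻¹) * p) * p⁻¹ = p * 1 * p⁻¹ := by rw [h4]
        rw [mul_one, mul_inv_cancel] at h6
        rw [← h6]
        group
      rw [mul_inv_eq_one, mul_inv_eq_iff_eq_mul] at h5
      exact h5
    · have e1 : p * (p⁻¹ * ((p * e * p⁻¹) * x * (p * e * p⁻¹)⁻¹ * x⁻¹) * p) * p⁻¹ =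
          (p * e * p⁻¹) * x * (p * e * p⁻¹)⁻¹ * x⁻¹ := by group
      rw [e1]
      exact h2
  exact hpR (hTI p e he he1 hyE)

/-- **THEOREM LOC** for the frame -/
theorem _root_.Cfsg.Agent.Omega.ML.MinFrame.Fr.loc (h : Fr K False H M T Q A z) (D : Dat H M T R₀ E L)
    (two : ∀ R : Subgroup H, T ≤ R → R ≠ ⊤ → ∃ P : Subgroup H, T ≤ P ∧ P ≠ ⊤ ∧ ¬ P ≤ R) : False :=
  h.base.loc D two

end Cfsg.Agent.Omega.ML.Loc

end

section


/-!
# (ML), the K-list end: THEOREM LOC with a cyclic `L` (helper667, helper907; OMEGA #17388)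

`Base.false_of_prime`: no minimal counterexample has an elementary abelian `E ≤ T` of order `2ⁿ` normalised by the Sylow
2-subgroup `T`, `C_T(E) ≤ E`, and an element `x` with `x ^ p = 1`, `p` an odd prime not dividing `2ᵏ - 1` for `0 < k < n`,
normalising `E` and not centralising it.
-/

set_option autoImplicit false

namespace Cfsg.Agent.Omega.ML.LocPrime

open Subgroup Cfsg Cfsg.Agent.ClassTwoFusion.Quad Cfsg.Agent.Omega.NOThree.NoOver Cfsg.Agent.Omega.ML.CD
open Cfsg.Agent.ZN Cfsg.Agent.MinSimple.VModule Cfsg.Agent.Omega.ML.MinFrame Cfsg.Agent.Omega.ML.Loc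

universe u v

/-- a `p`-group acts trivially on a 2-group of order `< 2ⁿ` if `p` is odd and does not divide `2ᵏ - 1`, `0 < k < n` -/
theorem smul_eq_of_card {C V : Type*} [Group C] [Group V] [Finite V] [MulDistribMulAction C V] {p n : ℕ}
    (hp : p.Prime) (hp2 : p ≠ 2) (nd : ∀ k, 0 < k → k < n → ¬ p ∣ 2 ^ k - 1) (hC : IsPGroup p C)
    (h2 : IsPGroup 2 V) (hV : Nat.card V < 2 ^ n) (c : C) (v : V) : c • v = v := by
  have hpf : Fact p.Prime := ⟨hp⟩
  have h2f : Fact (Nat.Prime 2) := ⟨Nat.prime_two⟩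
  obtain ⟨k, hk⟩ := IsPGroup.iff_card.1 h2
  have hF2 : IsPGroup 2 (cv V (Set.univ : Set C)) := h2.to_subgroup _
  obtain ⟨j, hj⟩ := IsPGroup.iff_card.1 hF2
  have h1 := hC.card_modEq_card_fixedPoints V
  have h3 : Nat.card (MulAction.fixedPoints C V) = Nat.card (cv V (Set.univ : Set C)) := by
    have e : (MulAction.fixedPoints C V) = ((cv V (Set.univ : Set C) : Subgroup V) : Set V) := by
      ext w
      constructor
      · intro hw a _
        exact hw a
      · intro hw a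
        exact hw a (Set.mem_univ a)
    rw [e]
    rfl
  rw [h3, hj, hk] at h1
  have hkn : k < n := by
    rw [hk] at hV
    exact (Nat.pow_lt_pow_iff_right (by norm_num)).1 hV
  have hjk : j ≤ k := by
    have h4 := card_subgroup_dvd_card (cv V (Set.univ : Set C))
    rw [hk, hj] at h4
    exact (Nat.pow_dvd_pow_iff_le_right (by norm_num)).1 h4
  rcases hjk.lt_or_eq with hlt | heq
  · exfalso
    have h4 : p ∣ 2 ^ k - 2 ^ j := (Nat.modEq_iff_dvd' (Nat.pow_le_pow_right (by norm_num) hjk)).1 h1.symm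
    have h5 : 2 ^ k - 2 ^ j = 2 ^ j * (2 ^ (k - j) - 1) := by
      rw [Nat.mul_sub, mul_one, ← pow_add, Nat.add_sub_cancel' hjk]
    rw [h5] at h4
    have h6 : Nat.Coprime p (2 ^ j) := Nat.Coprime.pow_right j ((Nat.coprime_primes hp Nat.prime_two).2 hp2)
    exact nd (k - j) (by omega) (by omega) (h6.dvd_of_dvd_mul_left h4)
  · have h4 : cv V (Set.univ : Set C) = ⊤ := by
      rw [← card_eq_iff_eq_top, hj, hk, heq]
    have h5 : v ∈ cv V (Set.univ : Set C) := by rw [h4]; exact mem_top v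
    exact h5 c (Set.mem_univ c)

/-- the action on a quotient -/
abbrev quo {X U : Type*} [Group X] [Group U] [MulDistribMulAction X U] (D : Subgroup U) [D.Normal]
    (hD : ∀ x : X, ∀ d ∈ D, x • d ∈ D) : MulDistribMulAction X (U ⧸ D) where
  smul x := QuotientGroup.map D D (MulDistribMulAction.toMonoidHom U x) fun d hd => hD x d hd
  one_smul q := by
    obtain ⟨u, rfl⟩ := QuotientGroup.mk_surjective q
    exact congrArg (QuotientGroup.mk (s := D)) (one_smul X u)
  mul_smul x y q := by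
    obtain ⟨u, rfl⟩ := QuotientGroup.mk_surjective q
    exact congrArg (QuotientGroup.mk (s := D)) (mul_smul x y u)
  smul_mul x p q := map_mul (QuotientGroup.map D D (MulDistribMulAction.toMonoidHom U x) fun d hd => hD x d hd) p q
  smul_one x := map_one (QuotientGroup.map D D (MulDistribMulAction.toMonoidHom U x) fun d hd => hD x d hd)

/-- a `p`-group acts trivially on the sections `U / D` of order `< 2ⁿ` -/
theorem smul_mul_inv_mem {C U : Type*} [Group C] [Group U] [Finite U] [MulDistribMulAction C U] {p n : ℕ}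
    (hp : p.Prime) (hp2 : p ≠ 2) (nd : ∀ k, 0 < k → k < n → ¬ p ∣ 2 ^ k - 1) (hC : IsPGroup p C)
    (h2 : ∀ u : U, u * u = 1) {D : Subgroup U} (hD : ∀ x : C, ∀ d ∈ D, x • d ∈ D) (hi : D.index < 2 ^ n) (c : C) (u : U) :
    c • u * u⁻¹ ∈ D := by
  have hcomm := comm_of_sq h2
  have hN : D.Normal := ⟨fun d hd g => by rwa [hcomm g d, mul_inv_cancel_right]⟩
  let _ := quo D hD
  have h3 : IsPGroup 2 (U ⧸ D) := by
    intro q
    obtain ⟨u, rfl⟩ := QuotientGroup.mk_surjective q
    refine ⟨1, ?_⟩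
    rw [pow_one, pow_two, ← QuotientGroup.mk_mul, h2]
    rfl
  have h4 : Nat.card (U ⧸ D) < 2 ^ n := hi
  have h5 := smul_eq_of_card hp hp2 nd hC h3 h4 c (QuotientGroup.mk u)
  have h6 : (QuotientGroup.mk (c • u) : U ⧸ D) = QuotientGroup.mk u := h5
  rw [eq_comm, QuotientGroup.eq] at h6
  rwa [hcomm] at h6

/-- conjugation -/
abbrev cja {H : Type*} [Group H] (C E : Subgroup H) (h : ∀ c ∈ C, ∀ e ∈ E, c * e * c⁻¹ ∈ E) : MulDistribMulAction C E where
  smul c e := ⟨(c : H) * e * (c : H)⁻¹, h c c.2 e e.2⟩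
  one_smul e := Subtype.ext (by
    change (1 : H) * e * (1 : H)⁻¹ = e
    group)
  mul_smul c d e := Subtype.ext (by
    change ((c : H) * d) * e * ((c : H) * d)⁻¹ = (c : H) * ((d : H) * e * (d : H)⁻¹) * (c : H)⁻¹
    group)
  smul_mul c e f := Subtype.ext (by
    change (c : H) * ((e : H) * f) * (c : H)⁻¹ = ((c : H) * e * (c : H)⁻¹) * ((c : H) * f * (c : H)⁻¹)
    group)
  smul_one c := Subtype.ext (by
    change (c : H) * 1 * (c : H)⁻¹ = 1
    group)

section

variable {H : Type*} [Group H] [Finite H] {E C : Subgroup H} {p n : ℕ}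

/-- an element of odd prime order `p` is irreducible on `E` or centralises it -/
theorem irr_of (hp : p.Prime) (hp2 : p ≠ 2) (nd : ∀ k, 0 < k → k < n → ¬ p ∣ 2 ^ k - 1) (hC : IsPGroup p C)
    (el : ∀ e ∈ E, e * e = 1) (card : Nat.card E ≤ 2 ^ n) (norm : ∀ c ∈ C, ∀ e ∈ E, c * e * c⁻¹ ∈ E)
    {E₁ : Subgroup H} (hE : E₁ ≤ E) (h1 : ∀ c ∈ C, ∀ e ∈ E₁, c * e * c⁻¹ ∈ E₁) :
    (E₁ = ⊥ ∨ E₁ = E) ∨ ∀ c ∈ C, ∀ e ∈ E, c * e = e * c := by
  by_cases hne : E₁ = E
  · exact Or.inl (Or.inr hne)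
  by_cases hbot : E₁ = ⊥
  · exact Or.inl (Or.inl hbot)
  right
  have hlt : Nat.card E₁ < 2 ^ n := by
    refine lt_of_lt_of_le ?_ card
    have h2 := Set.ncard_lt_ncard (SetLike.coe_ssubset_coe.2 (lt_of_le_of_ne hE hne)) (Set.toFinite _)
    rwa [← Nat.card_coe_set_eq, ← Nat.card_coe_set_eq] at h2
  -- trivial on `E₁`
  have ht1 : ∀ c ∈ C, ∀ e ∈ E₁, c * e * c⁻¹ = e := by
    intro c hc e he
    let _ := cja C E₁ h1
    have hE2 : IsPGroup 2 E₁ := isPGroup_of_sq fun e he => el e (hE he)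
    exact congrArg Subtype.val (smul_eq_of_card hp hp2 nd hC hE2 hlt ⟨c, hc⟩ ⟨e, he⟩)
  -- trivial on `E / E₁`
  have ht2 : ∀ c ∈ C, ∀ e ∈ E, c * e * c⁻¹ * e⁻¹ ∈ E₁ := by
    intro c hc e he
    let _ := cja C E norm
    have hi : (E₁.subgroupOf E).index < 2 ^ n := by
      refine lt_of_lt_of_le ?_ card
      have h2 : (E₁.subgroupOf E).index * Nat.card (E₁.subgroupOf E) = Nat.card E := by
        rw [mul_comm]; exact Subgroup.card_mul_index _
      have h3 : 1 < Nat.card (E₁.subgroupOf E) := by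
        rw [Subgroup.one_lt_card_iff_ne_bot]
        intro h4
        rw [subgroupOf_eq_bot] at h4
        exact hbot ((disjoint_iff.1 h4).symm ▸ (inf_eq_left.2 hE).symm)
      have h4 : 0 < (E₁.subgroupOf E).index := Nat.pos_of_ne_zero index_ne_zero_of_finite
      nlinarith
    have h2 := smul_mul_inv_mem (U := E) hp hp2 nd hC (fun u => Subtype.ext (el u u.2)) (D := E₁.subgroupOf E)
      (fun x d hd => by
        rw [mem_subgroupOf] at hd ⊢
        exact h1 x x.2 d hd) hi ⟨c, hc⟩ ⟨e, he⟩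
    rw [mem_subgroupOf] at h2
    exact h2
  -- so trivial on `E`
  intro c hc e he
  obtain ⟨a, ha⟩ : ∃ a, a = c * e * c⁻¹ * e⁻¹ := ⟨_, rfl⟩
  have haE : a ∈ E₁ := by rw [ha]; exact ht2 c hc e he
  have hca : ∀ i : ℕ, c ^ i * e * (c ^ i)⁻¹ = a ^ i * e := by
    intro i
    induction i with
    | zero => simp
    | succ i ih =>
      have h3 : c * a ^ i * c⁻¹ = a ^ i := ht1 c hc _ (E₁.pow_mem haE i)
      have h4 : c * e * c⁻¹ = a * e := by rw [ha]; group
      calc c ^ (i + 1) * e * (c ^ (i + 1))⁻¹ = c * (c ^ i * e * (c ^ i)⁻¹) * c⁻¹ := by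
            rw [pow_succ']; group
        _ = (c * a ^ i * c⁻¹) * (c * e * c⁻¹) := by rw [ih]; group
        _ = a ^ (i + 1) * e := by rw [h3, h4, pow_succ]; group
  obtain ⟨k, hk⟩ := hC ⟨c, hc⟩
  have hk' : c ^ p ^ k = 1 := congrArg Subtype.val hk
  have h5 := hca (p ^ k)
  rw [hk', one_mul, inv_one, mul_one] at h5
  have h6 : a ^ p ^ k = 1 := by
    have h7 : a ^ p ^ k * e = 1 * e := by rw [one_mul]; exact h5.symm
    exact mul_right_cancel h7
  have h7 : a ^ 2 = 1 := by rw [pow_two]; exact el a (hE haE)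
  have h8 : Nat.Coprime (p ^ k) 2 := Nat.Coprime.pow_left k ((Nat.coprime_primes hp Nat.prime_two).2 hp2)
  have h9 : a = 1 := by
    have h10 := orderOf_dvd_of_pow_eq_one h6
    have h11 := orderOf_dvd_of_pow_eq_one h7
    exact orderOf_eq_one_iff.1 (Nat.eq_one_of_dvd_coprimes h8 h10 h11)
  rw [h9] at ha
  have h10 : c * e * c⁻¹ = e := by
    rw [eq_comm, mul_inv_eq_one] at ha
    exact ha
  rw [mul_inv_eq_iff_eq_mul] at h10
  exact h10

end

variable {H : Type u} [Group H] [Finite H] {M : Type v} [Group M] [Finite M]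
  [MulDistribMulAction H M] {T Q A E : Subgroup H} {z : M} {x : H} {p n : ℕ}

/-- **THEOREM LOC, cyclic form** -/
theorem _root_.Cfsg.Agent.Omega.ML.Loc.Base.false_of_prime (h : Base H M T Q A z)
    (two : ∀ R : Subgroup H, T ≤ R → R ≠ ⊤ → ∃ P : Subgroup H, T ≤ P ∧ P ≠ ⊤ ∧ ¬ P ≤ R)
    (hET : E ≤ T) (hTE : ∀ t ∈ T, ∀ e ∈ E, t * e * t⁻¹ ∈ E) (el : ∀ e ∈ E, e * e = 1) (card : Nat.card E ≤ 2 ^ n)
    (cen : ∀ t ∈ T, (∀ e ∈ E, t * e = e * t) → t ∈ E) (hp : p.Prime) (hp2 : p ≠ 2)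
    (nd : ∀ k, 0 < k → k < n → ¬ p ∣ 2 ^ k - 1) (hx : x ^ p = 1) (norm : ∀ e ∈ E, x * e * x⁻¹ ∈ E)
    (hne : ∃ e ∈ E, x * e ≠ e * x) : False := by
  have hpf : Fact p.Prime := ⟨hp⟩
  have h2f : Fact (Nat.Prime 2) := ⟨Nat.prime_two⟩
  have hC : IsPGroup p (zpowers x) := by
    rintro ⟨y, k, rfl⟩
    refine ⟨1, Subtype.ext ?_⟩
    change (x ^ k) ^ p ^ 1 = 1
    rw [pow_one, ← zpow_natCast, ← zpow_mul, mul_comm, zpow_mul, zpow_natCast, hx, one_zpow]
  have hxN : x ∈ normalizer (E : Set H) := by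
    rw [Subgroup.mem_normalizer_iff_map_conj_eq]
    refine eq_of_le_of_card_ge ?_ (Nat.card_congr (E.equivMapOfInjective _ (MulAut.conj x).injective).toEquiv).le
    rintro _ ⟨b, hb, rfl⟩
    exact norm b hb
  have hzN : zpowers x ≤ normalizer (E : Set H) := by rwa [zpowers_le]
  have hnorm : ∀ c ∈ zpowers x, ∀ e ∈ E, c * e * c⁻¹ ∈ E := fun c hc e he => (mem_normalizer_iff.1 (hzN hc) e).1 he
  have hirr : ∀ E₁ ≤ E, (∀ l ∈ zpowers x, ∀ y ∈ E₁, l * y * l⁻¹ ∈ E₁) → E₁ = ⊥ ∨ E₁ = E := by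
    intro E₁ h1 h2
    refine (irr_of hp hp2 nd hC el card hnorm h1 h2).resolve_right fun h3 => ?_
    obtain ⟨e, he, hne⟩ := hne
    exact hne (h3 x (mem_zpowers x) e he)
  have hEne : E ≠ ⊥ := by
    rintro rfl
    obtain ⟨e, he, hne⟩ := hne
    rw [mem_bot] at he
    rw [he, mul_one, one_mul] at hne
    exact hne rfl
  have hE2 : IsPGroup 2 E := isPGroup_of_sq el
  have hTR : T ≤ normalizer (E : Set H) := le_normalizer_of hTE
  refine h.loc (R₀ := normalizer (E : Set H)) (E := E) (L := zpowers x) ?_ two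
  refine ⟨hTR, ?_, le_normalizer, le_rfl, el, ?_, cen, hzN, hirr, ?_⟩
  · intro h1
    have h2 : E.Normal := normalizer_eq_top_iff.1 h1
    exact hEne (h.core E h2 hE2)
  · -- `O₂(N(E)) ≤ E`
    obtain ⟨O, hO⟩ : ∃ O, O = o2 (normalizer (E : Set H)) := ⟨_, rfl⟩
    rw [← hO]
    have hOT : O ≤ T := by rw [hO]; exact h.o2_le hTR
    have hO2 : IsPGroup 2 O := by rw [hO]; exact o2_isPGroup _
    have hON : normalizer (E : Set H) ≤ normalizer (O : Set H) := by rw [hO]; exact le_normalizer_o2 _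
    have h3 : ∀ l ∈ zpowers x, ∀ y ∈ E ⊓ centralizer (O : Set H), l * y * l⁻¹ ∈ E ⊓ centralizer (O : Set H) := by
      intro l hl y hy
      refine ⟨hnorm l hl y hy.1, ?_⟩
      refine mem_centralizer_iff.2 ?_
      intro o ho
      have h4 : l⁻¹ * o * l ∈ O := by
        have := conj_mem_of_le hON (hzN ((zpowers x).inv_mem hl)) ho
        rwa [inv_inv] at this
      have h5 := mem_centralizer_iff.1 hy.2 _ h4
      calc o * (l * y * l⁻¹) = l * ((l⁻¹ * o * l) * y) * l⁻¹ := by group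
        _ = l * (y * (l⁻¹ * o * l)) * l⁻¹ := by rw [h5]
        _ = l * y * l⁻¹ * o := by group
    rcases hirr _ inf_le_left h3 with h4 | h4
    · exfalso
      have hOE : ∀ c ∈ O, ∀ e ∈ E, c * e * c⁻¹ ∈ E := fun c hc e he => hTE c (hOT hc) e he
      let _ := cja O E hOE
      have h5 : 2 ∣ Nat.card E := by
        obtain ⟨k, hk⟩ := IsPGroup.iff_card.1 hE2
        rw [hk]
        refine dvd_pow_self 2 ?_
        rintro rfl
        rw [pow_zero, card_eq_one] at hk
        exact hEne hk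
      obtain ⟨b, hb, hb1⟩ := hO2.exists_fixed_point_of_prime_dvd_card_of_fixed_point E h5
        (a := (1 : E)) (fun c => smul_one c)
      apply hb1
      have h6 : (b : H) ∈ E ⊓ centralizer (O : Set H) := by
        refine ⟨b.2, ?_⟩
        refine mem_centralizer_iff.2 ?_
        intro o ho
        have h7 : o * (b : H) * o⁻¹ = b := congrArg Subtype.val (hb ⟨o, ho⟩)
        rwa [mul_inv_eq_iff_eq_mul] at h7
      rw [h4, mem_bot] at h6
      exact (Subtype.ext h6).symm
    · intro y hy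
      refine cen y (hOT hy) fun e he => ?_
      have h5 : e ∈ E ⊓ centralizer (O : Set H) := by rw [h4]; exact he
      exact mem_centralizer_iff.1 h5.2 y hy
  · intro W hW _ hi l hl m
    let _ : MulDistribMulAction (zpowers x) M := inferInstance
    exact smul_mul_inv_mem (C := zpowers x) (U := M) hp hp2 nd hC h.sq (D := W) (fun c d hd => hW c c.2 d hd)
      (lt_of_lt_of_le hi card) ⟨l, hl⟩ m

end Cfsg.Agent.Omega.ML.LocPrime

end

section


/-!
# (ML), the K-list end: THEOREM LOC for the rows `In H M K T A` (helper667)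

* `In.exists_base` : a row situation gives `Loc.Base` for some `z ∈ C_M(T)`;
* `In.false_of_prime` : **THEOREM LOC, cyclic form**;  `In.false_of_dat` : general form;
* `InZ`, `DeadZ` : the rows together with the point `z` (not needed any more).
-/

set_option autoImplicit false

namespace Cfsg.Agent.Omega.ML.LocRow

open Subgroup Cfsg Cfsg.Agent.ClassTwoFusion.Quad Cfsg.Agent.Omega.NOThree.NoOver Cfsg.Agent.Omega.ML.CD
open Cfsg.Agent.ZN Cfsg.Agent.Omega.ML.Rows Cfsg.Agent.Omega.ML.Loc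
open Cfsg.Agent.Omega.ML.MinFrame (le_normalizer_of)

universe u v

/-- the situation of the rows together with the point -/
structure InZ (H : Type u) [Group H] (M : Type v) [Group M] [MulDistribMulAction H M] (K T Q A : Subgroup H) (z : M) :
    Prop where
  row : In H M K T A
  base : Base H M T Q A z

/-- the class `𝒮` does not occur -/
def DeadZ (𝒮 : ∀ (S : Type u) [Group S], Prop) : Prop :=
  ∀ (H : Type u) [Group H] [Finite H] (M : Type v) [Group M] [Finite M] [MulDistribMulAction H M]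
    (K T Q A : Subgroup H) (z : M), InZ H M K T Q A z → 𝒮 (K ⧸ center K) → False

theorem Dead.deadZ {𝒮 : ∀ (S : Type u) [Group S], Prop} (h : Dead.{u, v} 𝒮) : DeadZ.{u, v} 𝒮 :=
  fun H _ _ M _ _ _ K T _ A _ hI hS => h H M K T A hI.row hS

theorem two_of_nmax {H : Type*} [Group H] {T : Subgroup H}
    (nmax : ¬ ∃ N : Subgroup H, N ≠ ⊤ ∧ ∀ R : Subgroup H, T ≤ R → R ≠ ⊤ → R ≤ N) :
    ∀ R : Subgroup H, T ≤ R → R ≠ ⊤ → ∃ P : Subgroup H, T ≤ P ∧ P ≠ ⊤ ∧ ¬ P ≤ R := by
  intro R _ hR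
  by_contra hc
  push Not at hc
  exact nmax ⟨R, hR, fun P hP hP' => hc P hP hP'⟩

variable {H : Type u} [Group H] [Finite H] {M : Type v} [Group M] [Finite M]
  [MulDistribMulAction H M] {K T Q A : Subgroup H} {z : M}

omit [Finite H] in
theorem exists_fixed (hsq : ∀ m : M, m * m = 1) (hT : IsPGroup 2 T) {W : Subgroup M} (hW : ∀ t ∈ T, ∀ w ∈ W, t • w ∈ W)
    (hne : W ≠ ⊥) : ∃ w ∈ W, w ≠ 1 ∧ ∀ t ∈ T, t • w = w := by
  have h2f : Fact (Nat.Prime 2) := ⟨Nat.prime_two⟩
  let _ : MulDistribMulAction T W :=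
    { smul := fun t w => ⟨(t : H) • (w : M), hW t t.2 w w.2⟩
      one_smul := fun w => Subtype.ext (one_smul H (w : M))
      mul_smul := fun c d w => Subtype.ext (mul_smul (c : H) d (w : M))
      smul_mul := fun c u w => Subtype.ext (smul_mul' (c : H) (u : M) w)
      smul_one := fun c => Subtype.ext (smul_one (c : H)) }
  have h1 : IsPGroup 2 W := fun w => ⟨1, by rw [pow_one, pow_two]; exact Subtype.ext (hsq w)⟩
  have h5 : 2 ∣ Nat.card W := by
    obtain ⟨k, hk⟩ := IsPGroup.iff_card.1 h1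
    rw [hk]
    refine dvd_pow_self 2 ?_
    rintro rfl
    rw [pow_zero, card_eq_one] at hk
    exact hne hk
  obtain ⟨b, hb, hb1⟩ := hT.exists_fixed_point_of_prime_dvd_card_of_fixed_point W h5 (a := (1 : W)) (fun c => smul_one c)
  refine ⟨b, b.2, fun h => hb1 (Subtype.ext h.symm), fun t ht => ?_⟩
  exact congrArg Subtype.val (hb ⟨t, ht⟩)

/-- the row gives the base -/
theorem _root_.Cfsg.Agent.Omega.ML.Rows.In.exists_base (h : In H M K T A) :
    ∃ z : M, z ≠ 1 ∧ Base H M T (o2 (MulAction.stabilizer H z)) A z := by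
  have hA1 : A ≠ ⊥ := by
    rintro rfl
    have := h.eight
    rw [card_bot] at this
    omega
  have htop : (⊤ : Subgroup M) ≠ ⊥ := by
    intro h1
    apply hA1
    rw [eq_bot_iff]
    intro a _
    rw [mem_bot]
    apply h.faith
    intro m
    have h2 : ∀ m : M, m = 1 := fun m => mem_bot.1 (h1 ▸ mem_top m)
    rw [h2 m, smul_one]
  obtain ⟨z, -, hz1, hz⟩ := exists_fixed h.sq h.two (W := (⊤ : Subgroup M)) (fun _ _ _ _ => mem_top _) htop
  have hcore : ∀ N : Subgroup H, N.Normal → IsPGroup 2 N → N = ⊥ := by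
    intro N hN h2
    obtain ⟨w, -, hw1, hw⟩ := exists_fixed h.sq h2 (W := (⊤ : Subgroup M)) (fun _ _ _ _ => mem_top _) htop
    have h3 : cv M (N : Set H) = ⊤ := by
      refine (h.irr (cv M (N : Set H)) fun g m hm n hn => ?_).resolve_left fun h4 => hw1 ?_
      · have h5 := hm _ (hN.conj_mem n hn g⁻¹)
        rw [inv_inv, mul_smul, mul_smul, inv_smul_eq_iff] at h5
        exact h5
      · have h5 : w ∈ cv M (N : Set H) := fun n hn => hw n hn
        rw [h4] at h5
        exact mem_bot.1 h5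
    rw [eq_bot_iff]
    intro n hn
    rw [mem_bot]
    apply h.faith
    intro m
    have h4 : m ∈ cv M (N : Set H) := by rw [h3]; exact mem_top m
    exact h4 n hn
  have hTs : T ≤ MulAction.stabilizer H z := fun t ht => hz t ht
  have hst : MulAction.stabilizer H z ≠ ⊤ := by
    intro h1
    have h2 : zpowers z = ⊤ := by
      refine (h.irr (zpowers z) fun g w hw => ?_).resolve_left fun h3 => hz1 (by
        have : z ∈ zpowers z := mem_zpowers z
        rw [h3] at this
        exact mem_bot.1 this)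
      obtain ⟨k, rfl⟩ := hw
      have h3 : g • z = z := MulAction.mem_stabilizer_iff.1 (h1 ▸ mem_top g)
      change g • (z ^ k) ∈ zpowers z
      rw [smul_zpow', h3]
      exact zpow_mem_zpowers z k
    apply hA1
    rw [eq_bot_iff]
    intro a _
    rw [mem_bot]
    apply h.faith
    intro m
    have h3 : m ∈ zpowers z := by rw [h2]; exact mem_top m
    obtain ⟨k, rfl⟩ := h3
    have h4 : a • z = z := MulAction.mem_stabilizer_iff.1 (h1 ▸ mem_top a)
    change a • (z ^ k) = z ^ k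
    rw [smul_zpow', h4]
  have hQT : ∀ Q' : Subgroup H, IsPGroup 2 Q' → (∀ q ∈ Q', q • z = z) → (∀ g : H, g • z = z → ∀ q ∈ Q', g * q * g⁻¹ ∈ Q') →
      Q' ≤ o2 (MulAction.stabilizer H z) := fun Q' hQ hQz hQn =>
    Cfsg.Agent.MinSimple.VModule.le_o2 (fun q hq => hQz q hq) hQ (le_normalizer_of fun g hg x hx => hQn g hg x hx)
  have hoT : o2 (MulAction.stabilizer H z) ≤ T := Cfsg.Agent.MinSimple.VModule.o2_le_of_sylow h.two fun h2 =>
    h.syl (h2.trans (Dvd.intro _ (relIndex_mul_index hTs)))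
  refine ⟨z, hz1, h.sq, h.faith, hcore, h.two, h.syl, hz, Cfsg.Agent.MinSimple.VModule.o2_isPGroup _,
    fun q hq => Cfsg.Agent.MinSimple.VModule.o2_le _ hq, ?_, h.low _ hTs hst, h.el, h.strict, hA1, ?_⟩
  · intro g hg q hq
    exact Cfsg.Agent.Omega.ML.MinFrame.conj_mem_of_le (Cfsg.Agent.MinSimple.VModule.le_normalizer_o2 _) hg hq
  · intro Q' B R hQ hQz hQn hBQ hB2 hB hR hR'
    have h1 : Q' ≤ T := (hQT Q' hQ hQz hQn).trans hoT
    have h2 : ¬ 2 ∣ T.relIndex R := fun h2 => h.syl (h2.trans (Dvd.intro _ (relIndex_mul_index hR)))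
    refine h.bb R T B z hR' hR h.two h2 hz hB2 hB (hBQ.trans ?_)
    refine Cfsg.Agent.MinSimple.VModule.le_o2 (le_inf (h1.trans hR) fun q hq => hQz q hq) hQ
      (le_normalizer_of fun g hg x hx => hQn g hg.2 x hx)

/-- **THEOREM LOC, cyclic form** -/
theorem _root_.Cfsg.Agent.Omega.ML.Rows.In.false_of_prime (h : In H M K T A) {E : Subgroup H} {x : H} {p n : ℕ}
    (hET : E ≤ T) (hTE : ∀ t ∈ T, ∀ e ∈ E, t * e * t⁻¹ ∈ E) (el : ∀ e ∈ E, e * e = 1) (card : Nat.card E ≤ 2 ^ n)
    (cen : ∀ t ∈ T, (∀ e ∈ E, t * e = e * t) → t ∈ E) (hp : p.Prime) (hp2 : p ≠ 2)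
    (nd : ∀ k, 0 < k → k < n → ¬ p ∣ 2 ^ k - 1) (hx : x ^ p = 1) (norm : ∀ e ∈ E, x * e * x⁻¹ ∈ E)
    (hne : ∃ e ∈ E, x * e ≠ e * x) : False := by
  obtain ⟨z, -, hz⟩ := h.exists_base
  exact hz.false_of_prime (two_of_nmax h.nmax) hET hTE el card cen hp hp2 nd hx norm hne

omit [Finite H] [Finite M] in
/-- `A ≤ K` implies `H = K` -/
theorem _root_.Cfsg.Agent.Omega.ML.Rows.In.eq_top_of_le (h : In H M K T A) (hA : A ≤ K) : K = ⊤ := by
  rw [← h.gen]
  exact (sup_eq_left.2 hA).symm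

end Cfsg.Agent.Omega.ML.LocRow

end

private theorem dce_69678a6668fb : _root_.True := by
  try have : _root_.True := by simp only [_root_.Cfsg.Agent.Omega.ML.MinFrame.orb.eq_1]
  exact _root_.True.intro
end

-- part: Mrg/Omega/ML/MinIrr
section
prune_inst 0x300000000000000000000100000000000000000000000000000000000000000000000000000000000000000000000000000000000000000000000000000000010000000000000000000000000000000000000000000000000000000000000000
set_option linter.all false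
open scoped Cfsg.Agent.FastGrp

section


/-!
# (ML): the module of a minimal counterexample is irreducible (#15719 (2), #16000 (1), (5)); K-free

For `h : Fr K p H M T Q A z`:

* `Fr.fix_eq_one` : `C_M(H) = 1`;  `Fr.irred` : `M` is irreducible;
* `Fr.point` : every `T`-fixed `z' ≠ 1` gives a frame (with `Q' = O₂(C_H(z'))`), same `A`;
* `Fr.le_o2_cent` : `A ≤ O₂(C_H(B))` for every hyperplane `B` of `A`;
* `Fr.odd_comm` : `A` centralises every subgroup of odd order which it normalises.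
-/

set_option autoImplicit false

namespace Cfsg.Agent.Omega.ML.MinFrame

open Subgroup Cfsg Cfsg.Agent.ClassTwoFusion.Quad Cfsg.Agent.Omega.NOThree.NoOver Cfsg.Agent.Omega.ML.CD
open Cfsg.Agent.ZN Cfsg.Agent.MinSimple.VModule

universe u v

section Mod

variable {H : Type*} [Group H] {M : Type*} [Group M] [MulDistribMulAction H M]

/-- a 2-group has fixed points on invariant subgroups of `M` -/
theorem exists_fixed [Finite M] (sq : ∀ m : M, m * m = 1) {B : Subgroup H} (hB : IsPGroup 2 B) {W : Subgroup M}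
    (hW : W ≠ ⊥) (hWB : ∀ b ∈ B, ∀ x ∈ W, b • x ∈ W) : ∃ w ∈ W, w ≠ 1 ∧ ∀ b ∈ B, b • w = w := by
  let _ : MulAction B W :=
    { smul := fun b x => ⟨(b : H) • (x : M), hWB b b.2 x x.2⟩
      one_smul := fun x => Subtype.ext (one_smul H (x : M))
      mul_smul := fun b c x => Subtype.ext (mul_smul (b : H) (c : H) (x : M)) }
  have hcard : 2 ∣ Nat.card W := by
    have h1 : IsPGroup 2 W := fun x => ⟨1, by
      rw [pow_one, pow_two]
      exact Subtype.ext (sq x)⟩
    have : Nontrivial W := (Subgroup.nontrivial_iff_ne_bot _).2 hW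
    obtain ⟨k, hk⟩ := IsPGroup.iff_card.1 h1
    rw [hk]
    refine dvd_pow_self 2 ?_
    rintro rfl
    have h2 : 1 < Nat.card W := Finite.one_lt_card
    rw [hk, pow_zero] at h2
    omega
  have : Fact (Nat.Prime 2) := ⟨Nat.prime_two⟩
  obtain ⟨b, hb1, hb2⟩ := hB.exists_fixed_point_of_prime_dvd_card_of_fixed_point (α := W) hcard (a := 1)
    (fun b => Subtype.ext (smul_one (b : H)))
  exact ⟨b, b.2, fun h => hb2 (Subtype.ext h.symm), fun c hc => congrArg Subtype.val (hb1 ⟨c, hc⟩)⟩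

theorem le_fxr_of_strict [Finite H] [Finite M] {B : Subgroup H} (hB : Strict (fab M 1 1) B) {W : Subgroup M}
    (h : (fxr H W).relIndex B ≤ (cv M (B : Set H)).relIndex W) : B ≤ fxr H W := by
  by_contra hc
  have hlt : B ⊓ fxr H W < B := lt_of_le_of_ne inf_le_left fun h3 => hc (inf_eq_left.1 h3)
  have h3 := relIndex_lt_of_moves hB (W := W) hlt (cv_inf_eq_iff.2 inf_le_right)
  rw [pow_one, pow_one, inf_relIndex_left] at h3
  omega

/-- the action on the quotient by an invariant normal subgroup -/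
@[reducible] def modAct (N : Subgroup M) [N.Normal] (hN : ∀ g : H, ∀ m ∈ N, g • m ∈ N) :
    MulDistribMulAction H (M ⧸ N) where
  smul g := QuotientGroup.map N N (MulDistribMulAction.toMonoidHom M g) (fun m hm => hN g m hm)
  one_smul x := by
    obtain ⟨m, rfl⟩ := QuotientGroup.mk_surjective x
    exact congrArg _ (one_smul H m)
  mul_smul g k x := by
    obtain ⟨m, rfl⟩ := QuotientGroup.mk_surjective x
    exact congrArg _ (mul_smul g k m)
  smul_mul g x y := map_mul _ x y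
  smul_one g := map_one _

end Mod

/-- `B ⟨x⟩` -/
def adj {H : Type*} [Group H] (B : Subgroup H) (x : H) (hx : x * x = 1) (hc : ∀ b ∈ B, x * b = b * x) :
    Subgroup H where
  carrier := {y | y ∈ B ∨ y * x ∈ B}
  one_mem' := Or.inl B.one_mem
  mul_mem' := by
    rintro y w (hy | hy) (hw | hw)
    · exact Or.inl (B.mul_mem hy hw)
    · right
      rw [mul_assoc]
      exact B.mul_mem hy hw
    · right
      rw [mul_assoc, ← hc w hw, ← mul_assoc]
      exact B.mul_mem hy hw
    · left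
      have h1 : y * w = y * x * (w * x) := by
        rw [mul_assoc y x, hc _ hw, mul_assoc w x x, hx, mul_one]
      rw [h1]
      exact B.mul_mem hy hw
  inv_mem' := by
    rintro y (hy | hy)
    · exact Or.inl (B.inv_mem hy)
    · right
      have h1 : (y * x)⁻¹ ∈ B := B.inv_mem hy
      have h2 : x⁻¹ = x := inv_eq_of_mul_eq_one_right hx
      rw [mul_inv_rev, h2] at h1
      have h3 := hc _ h1
      rw [← mul_assoc, hx, one_mul] at h3
      have h4 : y⁻¹ * x = x * y⁻¹ := by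
        calc y⁻¹ * x = x * y⁻¹ * x * x := by rw [← h3]
          _ = x * y⁻¹ := by rw [mul_assoc, hx, mul_one]
      rw [h4]
      exact h1

theorem mem_adj {H : Type*} [Group H] {B : Subgroup H} {x : H} {hx : x * x = 1} {hc : ∀ b ∈ B, x * b = b * x}
    {y : H} : y ∈ adj B x hx hc ↔ y ∈ B ∨ y * x ∈ B := Iff.rfl

namespace Fr

variable {K : Frame.Cls.{u}} {p : Prop} {H : Type u} [Group H] [Finite H] {M : Type v} [Group M] [Finite M]
  [MulDistribMulAction H M] {T Q A : Subgroup H} {z : M}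

/-- a `T`-fixed vector which does not generate `M` is fixed by `H` -/
theorem fixed_of_orb_ne (h : Fr K p H M T Q A z) {z' : M} (hz : ∀ t ∈ T, t • z' = z')
    (hne : orb (⊤ : Subgroup H) z' ≠ ⊤) : ∀ g : H, g • z' = z' := by
  by_contra hc
  have hR : MulAction.stabilizer H z' ≠ ⊤ := fun h1 => hc fun g => by
    have : g ∈ MulAction.stabilizer H z' := by rw [h1]; exact mem_top g
    exact this
  have hT : T ≤ MulAction.stabilizer H z' := fun t ht => hz t ht
  have hA := h.le_o2 hT hR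
  have hinv : ∀ g : H, ∀ u ∈ orb (⊤ : Subgroup H) z', g • u ∈ orb (⊤ : Subgroup H) z' :=
    fun g u hu => smul_mem_orb (mem_top g) hu
  have hlt : Nat.card (orb (⊤ : Subgroup H) z') < Nat.card M := by
    have h1 : orb (⊤ : Subgroup H) z' < ⊤ := lt_top_iff_ne_top.2 hne
    have h2 := Set.ncard_lt_ncard (SetLike.coe_ssubset_coe.2 h1) (Set.toFinite _)
    rwa [coe_top, Set.ncard_univ, ← Nat.card_coe_set_eq] at h2
  let _ := subAct (orb (⊤ : Subgroup H) z') hinv
  have h2 := rel_sub (p := p) (orb (⊤ : Subgroup H) z') hinv (h.ind H (orb (⊤ : Subgroup H) z') h.KH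
    (fun x => Subtype.ext (h.sq x)) (Or.inr ⟨rfl, hlt⟩))
  have h3 := h2 T (o2 (MulAction.stabilizer H z')) A z' (mem_orb_self _ z') h.two le_top
    (by rw [relIndex_top_right]; exact h.odd) hz (o2_isPGroup _) le_top (fun q hq => o2_le _ hq)
    (fun g _ hg q hq => conj_mem_of_le (le_normalizer_o2 _) hg hq) hA h.Asq h.nrmA
  have h4 := le_fxr_of_strict h.strict h3
  have h5 := h.eq_top_of_normal (fxr_normal hinv) h4
  apply hc
  intro g
  have h6 : g ∈ fxr H (orb (⊤ : Subgroup H) z') := by rw [h5]; exact mem_top g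
  exact h6 z' (mem_orb_self _ z')

omit [Finite M] in
theorem nontriv (h : Fr K p H M T Q A z) : ¬ IsPGroup 2 (⊤ : Subgroup H) := fun h1 => by
  have h2 := h.o2_eq_bot (N := ⊤) inferInstance h1
  exact h.ne (le_bot_iff.1 (h2 ▸ (le_top : A ≤ ⊤)))

/-- `C_M(H) = 1` -/
theorem fix_eq_one (h : Fr K p H M T Q A z) {m : M} (hm : ∀ g : H, g • m = m) : m = 1 := by
  have hM := comm_of_sq h.sq
  let M0 : Subgroup M := cv M (Set.univ : Set H)
  have hM0 : ∀ {x : M}, x ∈ M0 ↔ ∀ g : H, g • x = x := ⟨fun h1 g => h1 g (Set.mem_univ g), fun h1 g _ => h1 g⟩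
  by_contra hne
  have hb : M0 ≠ ⊥ := fun h1 => hne (mem_bot.1 (h1 ▸ hM0.2 hm))
  have hnor : M0.Normal := ⟨fun x hx g => by rw [hM g x, mul_inv_cancel_right]; exact hx⟩
  have hinv : ∀ g : H, ∀ x ∈ M0, g • x ∈ M0 := fun g x hx => by rwa [hM0.1 hx g]
  let _ := modAct (H := H) M0 hinv
  have hsm : ∀ (g : H) (x : M), g • (QuotientGroup.mk x : M ⧸ M0) = QuotientGroup.mk (g • x) := fun _ _ => rfl
  have hinvM : ∀ x : M, x⁻¹ = x := fun x => inv_eq_of_mul_eq_one_right (h.sq x)
  have hmk : ∀ x y : M, (QuotientGroup.mk x : M ⧸ M0) = QuotientGroup.mk y ↔ x * y ∈ M0 := by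
    intro x y
    rw [QuotientGroup.eq, hinvM]
  -- elements acting trivially on `M / M₀`
  have hsq2 : ∀ g : H, (∀ x : M, g • x * x ∈ M0) → g * g = 1 := by
    intro g hg
    apply h.faithful
    intro x
    have h1 := hM0.1 (hg x) g
    rw [smul_mul', ← mul_smul] at h1
    exact mul_right_cancel (h1.trans (hM _ _))
  have hlt : Nat.card (M ⧸ M0) < Nat.card M := by
    have h1 := Subgroup.card_mul_index M0
    have h2 : 1 < Nat.card M0 := (Subgroup.one_lt_card_iff_ne_bot _).2 hb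
    have h3 : 0 < M0.index := Nat.pos_of_ne_zero index_ne_zero_of_finite
    have h4 : M0.index = Nat.card (M ⧸ M0) := rfl
    rw [← h4, ← h1]
    nlinarith only [h2, h3]
  have key := h.ind H (M ⧸ M0) h.KH (fun x => by
    obtain ⟨y, rfl⟩ := QuotientGroup.mk_surjective x
    rw [← QuotientGroup.mk_mul, h.sq]
    rfl) (Or.inr ⟨rfl, hlt⟩)
  set zb : M ⧸ M0 := QuotientGroup.mk z with hzb
  have hTR : T ≤ MulAction.stabilizer H zb := fun t ht => by
    change t • zb = zb
    rw [hzb, hsm, h.fixT t ht]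
  -- the orbit of `zb` generates
  have hgen : ∀ x : M, (QuotientGroup.mk x : M ⧸ M0) ∈ orb (⊤ : Subgroup H) zb := by
    intro x
    have h1 : orb (⊤ : Subgroup H) z ≤ (orb (⊤ : Subgroup H) zb).comap (QuotientGroup.mk' M0) :=
      orb_le fun g _ => smul_mem_orb_self (mem_top g)
    rw [h.gen] at h1
    exact h1 (mem_top x)
  have hR : MulAction.stabilizer H zb ≠ ⊤ := by
    intro h1
    have h2 : ∀ g : H, g • z * z ∈ M0 := by
      intro g
      have h3 : g ∈ MulAction.stabilizer H zb := by rw [h1]; exact mem_top g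
      have h4 : g • zb = zb := h3
      rw [hzb, hsm, hmk] at h4
      exact h4
    have h3 : ∀ g : H, ∀ x : M, g • x * x ∈ M0 := by
      intro g
      let W : Subgroup M :=
        { carrier := {x | g • x * x ∈ M0}
          one_mem' := by
            change g • (1 : M) * 1 ∈ M0
            rw [smul_one, mul_one]; exact one_mem _
          mul_mem' := fun {x y} hx hy => by
            change g • (x * y) * (x * y) ∈ M0
            have e : g • (x * y) * (x * y) = (g • x * x) * (g • y * y) := by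
              rw [smul_mul', mul_assoc, mul_assoc, ← mul_assoc (g • y) x y, hM (g • y) x, mul_assoc x (g • y) y]
            rw [e]
            exact mul_mem hx hy
          inv_mem' := fun {x} hx => by
            rw [hinvM]
            exact hx }
      have hW : orb (⊤ : Subgroup H) z ≤ W := by
        refine orb_le fun k _ => ?_
        change g • k • z * (k • z) ∈ M0
        have e : g • k • z * (k • z) = ((g * k) • z * z) * (k • z * z) := by
          rw [mul_smul, mul_assoc, hM (k • z) z, ← mul_assoc z z, h.sq, one_mul]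
        rw [e]
        exact mul_mem (h2 _) (h2 _)
      rw [h.gen] at hW
      exact fun x => hW (mem_top x)
    exact h.nontriv fun g => ⟨1, by
      rw [pow_one, pow_two]
      exact Subtype.ext (hsq2 g (h3 g))⟩
  have hA := h.le_o2 hTR hR
  have h1 := key T (o2 (MulAction.stabilizer H zb)) A zb (mem_top _) h.two le_top
    (by rw [relIndex_top_right]; exact h.odd) (fun t ht => hTR ht) (o2_isPGroup _) le_top (fun q hq => o2_le _ hq)
    (fun g _ hg q hq => conj_mem_of_le (le_normalizer_o2 _) hg hq) hA h.Asq h.nrmA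
  have htop : orb (⊤ : Subgroup H) zb = ⊤ := by
    rw [eq_top_iff]
    intro x _
    obtain ⟨y, rfl⟩ := QuotientGroup.mk_surjective x
    exact hgen y
  have hf : fxr H (⊤ : Subgroup (M ⧸ M0)) = ⊥ := by
    apply h.o2_eq_bot (fxr_normal fun _ _ _ => mem_top _)
    intro g
    refine ⟨1, ?_⟩
    rw [pow_one, pow_two]
    refine Subtype.ext (hsq2 g fun x => ?_)
    have h2 := g.2 (QuotientGroup.mk x) (mem_top _)
    rw [hsm, hmk] at h2
    exact h2
  rw [htop, hf, relIndex_bot_left, relIndex_top_right] at h1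
  have h2 : (cv (M ⧸ M0) (A : Set H)).index ≤ (cv M (A : Set H)).index := by
    have h3 : (cv M (A : Set H)) ≤ (cv (M ⧸ M0) (A : Set H)).comap (QuotientGroup.mk' M0) := by
      intro x hx a ha
      change a • (QuotientGroup.mk x : M ⧸ M0) = QuotientGroup.mk x
      rw [hsm, hx a ha]
    have h4 := index_antitone h3
    rwa [index_comap_of_surjective _ (QuotientGroup.mk'_surjective M0)] at h4
  have h3 := h.strict ⊥ (bot_lt_iff_ne_bot.2 h.ne)
  rw [fab_lt_iff bot_le, pow_one, pow_one, relIndex_bot_left, cv_bot, relIndex_top_right] at h3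
  omega

/-- **`M` is irreducible** -/
theorem irred (h : Fr K p H M T Q A z) {W : Subgroup M} (hW : ∀ g : H, ∀ m ∈ W, g • m ∈ W) : W = ⊥ ∨ W = ⊤ := by
  by_contra hc
  push Not at hc
  obtain ⟨w, hw, hw1, hwT⟩ := exists_fixed h.sq h.two hc.1 (fun b _ x hx => hW b x hx)
  have h1 : orb (⊤ : Subgroup H) w ≠ ⊤ := fun h2 => hc.2 (top_le_iff.1 (h2 ▸ orb_le fun g _ => hW g w hw))
  exact hw1 (h.fix_eq_one (h.fixed_of_orb_ne hwT h1))

theorem stab_ne_top (h : Fr K p H M T Q A z) {z' : M} (hz : z' ≠ 1) : MulAction.stabilizer H z' ≠ ⊤ := fun h1 =>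
  hz (h.fix_eq_one fun g => by
    have : g ∈ MulAction.stabilizer H z' := by rw [h1]; exact mem_top g
    exact this)

/-- every `T`-fixed vector `≠ 1` gives a frame, with the same `A` -/
theorem point (h : Fr K p H M T Q A z) {z' : M} (hz : z' ≠ 1) (hT : ∀ t ∈ T, t • z' = z') :
    Fr K p H M T (o2 (MulAction.stabilizer H z')) A z' where
  ind := h.ind
  sec := h.sec
  KH := h.KH
  sq := h.sq
  two := h.two
  odd := h.odd
  fixT := hT
  Q2 := o2_isPGroup _
  fixQ := fun q hq => o2_le _ hq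
  nrmQ := fun g hg q hq => conj_mem_of_le (le_normalizer_o2 _) hg hq
  AQ := h.le_o2 (fun t ht => hT t ht) (h.stab_ne_top hz)
  Asq := h.Asq
  nrmA := h.nrmA
  strict := h.strict
  ne := h.ne
  faithful := h.faithful
  gen := by
    refine (h.irred fun g m hm => smul_mem_orb (mem_top g) hm).resolve_left fun h1 => hz ?_
    exact mem_bot.1 (h1 ▸ mem_orb_self (⊤ : Subgroup H) z')

omit [Finite H] [Finite M] in
theorem A_comm (h : Fr K p H M T Q A z) {a b : H} (ha : a ∈ A) (hb : b ∈ A) : a * b = b * a := by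
  have h1 := h.Asq _ (A.mul_mem ha hb)
  have h2 : a⁻¹ = a := inv_eq_of_mul_eq_one_right (h.Asq a ha)
  have h3 : b⁻¹ = b := inv_eq_of_mul_eq_one_right (h.Asq b hb)
  calc a * b = (a * b)⁻¹ := (inv_eq_of_mul_eq_one_right h1).symm
    _ = b⁻¹ * a⁻¹ := mul_inv_rev a b
    _ = b * a := by rw [h2, h3]

omit [Finite H] in
/-- an odd order element commuting with the hyperplane `B` and centralising `C_M(B)` is trivial -/
theorem eq_one_of_hyp (h : Fr K p H M T Q A z) {B : Subgroup H} (hB : B ≤ A) {e : H} {n : ℕ} (hn : Odd n)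
    (he : e ^ n = 1) (hcom : ∀ b ∈ B, b * e = e * b) (hc : ∀ m ∈ cv M (B : Set H), e • m = m) : e = 1 :=
  h.faithful e fun m => axb h.sq (h.Q2.to_le (hB.trans h.AQ)) hn he hcom hc m

/-- **`A ≤ O₂(C_H(B))`** for the hyperplanes `B` of `A`. -/
theorem le_o2_cent (h : Fr K p H M T Q A z) {B : Subgroup H} (hB : B ≤ A) (h2 : B.relIndex A = 2) :
    A ≤ o2 (centralizer (B : Set H)) := by
  have hcv := cv_le_of_hyp h.strict hB h2
  have hinv : ∀ g ∈ centralizer (B : Set H), ∀ m ∈ cv M (B : Set H), g • m ∈ cv M (B : Set H) := by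
    intro g hg m hm b hb
    rw [← mul_smul, mem_centralizer_iff.1 hg b hb, mul_smul, hm b hb]
  have h3 : centralizer (B : Set H) ⊓ fxr H (cv M (B : Set H)) ≤ o2 (centralizer (B : Set H)) := by
    refine Cfsg.Agent.MinSimple.VModule.le_o2 inf_le_left ?_ (le_normalizer_of fun g hg x hx => ⟨?_, ?_⟩)
    · intro x
      obtain ⟨k, n, hn, hkn⟩ := Nat.exists_eq_two_pow_mul_odd (orderOf_pos (x : H)).ne'
      refine ⟨k, Subtype.ext ?_⟩
      have h5 : ((x : H) ^ 2 ^ k) ^ n = 1 := by rw [← pow_mul, ← hkn, pow_orderOf_eq_one]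
      have h6 : (x : H) ^ 2 ^ k ∈ centralizer (B : Set H) ⊓ fxr H (cv M (B : Set H)) := Subgroup.pow_mem _ x.2 _
      exact h.eq_one_of_hyp hB hn h5 (fun b hb => mem_centralizer_iff.1 h6.1 b hb) h6.2
    · exact Subgroup.mul_mem _ (Subgroup.mul_mem _ hg hx.1) (Subgroup.inv_mem _ hg)
    · exact conj_mem_fxr hinv hg hx.2
  refine le_trans (le_inf ?_ ?_) h3
  · exact fun a ha => mem_centralizer_iff.2 fun b hb => h.A_comm (hB hb) ha
  · exact fun a ha m hm => hcv hm a ha

/-- **`A` centralises the subgroups of odd order which it normalises.** -/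
theorem odd_comm (h : Fr K p H M T Q A z) {O : Subgroup H} (hO : Odd (Nat.card O))
    (hn : ∀ a ∈ A, ∀ x ∈ O, a * x * a⁻¹ ∈ O) {a x : H} (ha : a ∈ A) (hx : x ∈ O) : a * x = x * a := by
  -- hyperplanes
  have hyp : ∀ B ≤ A, B.relIndex A = 2 → O ⊓ centralizer (B : Set H) ≤ centralizer (A : Set H) := by
    rintro B hB h2 x ⟨hx, hxB⟩
    rw [mem_centralizer_iff]
    intro a ha
    have hcv := cv_le_of_hyp h.strict hB h2
    have haB : ∀ b ∈ B, a * b = b * a := fun b hb => h.A_comm ha (hB hb)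
    have h3 : x⁻¹ * (a * x * a⁻¹) ∈ O := O.mul_mem (O.inv_mem hx) (hn a ha x hx)
    have h4 : (x⁻¹ * (a * x * a⁻¹)) ^ Nat.card O = 1 := by
      have h5 : (⟨_, h3⟩ : O) ^ Nat.card O = 1 := pow_card_eq_one'
      exact congrArg Subtype.val h5
    have hxB' : ∀ b ∈ B, b * x = x * b := fun b hb => mem_centralizer_iff.1 hxB b hb
    have h5 : x⁻¹ * (a * x * a⁻¹) = 1 := by
      refine h.eq_one_of_hyp hB hO h4 (fun b hb => ?_) (fun m hm => ?_)
      · have c1 : Commute b x := hxB' b hb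
        have c2 : Commute b a := (haB b hb).symm
        exact (c1.inv_right.mul_right ((c2.mul_right c1).mul_right c2.inv_right)).eq
      · have hxm : x • m ∈ cv M (B : Set H) := by
          intro b hb
          rw [← mul_smul, hxB' b hb, mul_smul, hm b hb]
        rw [mul_smul, mul_smul, mul_smul, hcv hm a⁻¹ (A.inv_mem ha), hcv hxm a ha, inv_smul_smul]
    have h6 : a * x * a⁻¹ = x := by
      rw [inv_mul_eq_one] at h5
      exact h5.symm
    rw [mul_inv_eq_iff_eq_mul] at h6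
    exact h6
  -- all proper subgroups
  have main : ∀ B : Subgroup H, B < A → O ⊓ centralizer (B : Set H) ≤ centralizer (A : Set H) := by
    intro B
    induction B using WellFoundedGT.induction with
    | ind B ih =>
      intro hB
      by_cases h2 : B.relIndex A = 2
      · exact hyp B hB.le h2
      have hBc : ∀ x ∈ A, ∀ b ∈ B, x * b = b * x := fun x hx b hb => h.A_comm hx (hB.le hb)
      have hstep : ∀ x, ∀ hx : x ∈ A, x ∉ B →
          B < adj B x (h.Asq x hx) (hBc x hx) ∧ adj B x (h.Asq x hx) (hBc x hx) < A := by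
        intro x hx hxB
        have h3 : x ∈ adj B x (h.Asq x hx) (hBc x hx) := Or.inr (by rw [h.Asq x hx]; exact B.one_mem)
        refine ⟨lt_of_le_of_ne (fun b hb => Or.inl hb) fun h4 => hxB (h4 ▸ h3), lt_of_le_of_ne ?_ fun h4 => h2 ?_⟩
        · rintro y (hy | hy)
          · exact hB.le hy
          · have h5 := A.mul_mem (hB.le hy) (A.inv_mem hx)
            rwa [mul_inv_cancel_right] at h5
        · rw [relIndex_eq_two_iff]
          refine ⟨x, hx, fun b hb => ?_⟩
          have h5 : b ∈ adj B x (h.Asq x hx) (hBc x hx) := by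
            rw [h4]
            exact hb
          by_cases h6 : b ∈ B
          · refine Or.inr ⟨h6, fun h7 => hxB ?_⟩
            have := B.mul_mem (B.inv_mem h6) h7
            rwa [inv_mul_cancel_left] at this
          · exact Or.inl ⟨(mem_adj.1 h5).resolve_left h6, h6⟩
      obtain ⟨a, haA, haB⟩ := SetLike.exists_of_lt hB
      obtain ⟨ha1, ha2⟩ := hstep a haA haB
      obtain ⟨b, hbA, hbB⟩ := SetLike.exists_of_lt ha2
      have hbB' : b ∉ B := fun h3 => hbB (Or.inl h3)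
      have hab : a * b ∉ B := fun h3 => hbB (Or.inr (by rw [h.A_comm hbA haA]; exact h3))
      obtain ⟨hb1, hb2⟩ := hstep b hbA hbB'
      obtain ⟨hc1, hc2⟩ := hstep (a * b) (A.mul_mem haA hbA) hab
      have hodd : Odd (Nat.card (O ⊓ centralizer (B : Set H) : Subgroup H)) :=
        hO.of_dvd_nat (card_dvd_of_le inf_le_left)
      have hcB : ∀ x ∈ A, ∀ y ∈ O ⊓ centralizer (B : Set H), x * y * x⁻¹ ∈ O ⊓ centralizer (B : Set H) := by
        rintro x hx y ⟨hy1, hy2⟩
        refine ⟨hn x hx y hy1, mem_centralizer_iff.2 fun c hc => ?_⟩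
        have c1 : Commute c y := mem_centralizer_iff.1 hy2 c hc
        have c2 : Commute c x := (hBc x hx c hc).symm
        exact ((c2.mul_right c1).mul_right c2.inv_right).eq
      have hcl : ∀ x, ∀ hx : x ∈ A, adj B x (h.Asq x hx) (hBc x hx) < A → B < adj B x (h.Asq x hx) (hBc x hx) →
          ∀ y ∈ O ⊓ centralizer (B : Set H), x * y = y * x → y ∈ centralizer (A : Set H) := by
        intro x hx h3 h4 y hy hxy
        refine ih _ h4 h3 ⟨hy.1, mem_centralizer_iff.2 ?_⟩
        rintro c (hc | hc)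
        · exact mem_centralizer_iff.1 hy.2 c hc
        · have h5 := mem_centralizer_iff.1 hy.2 _ hc
          have h6 : c * x * y = c * y * x := by rw [mul_assoc, hxy, ← mul_assoc]
          rw [h6] at h5
          have h7 : c * y * x = y * c * x := by rw [h5, mul_assoc]
          exact mul_right_cancel h7
      refine Lib.KleinGen.le_of_klein (O ⊓ centralizer (B : Set H)) (centralizer (A : Set H)) hodd a b
        (h.Asq a haA) (h.Asq b hbA) (h.A_comm haA hbA) (hcB a haA) (hcB b hbA) ?_ ?_ ?_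
      · exact fun y hy => hcl a haA ha2 ha1 y hy.1 (mem_centralizer_iff.1 hy.2 a rfl)
      · exact fun y hy => hcl b hbA hb2 hb1 y hy.1 (mem_centralizer_iff.1 hy.2 b rfl)
      · exact fun y hy => hcl (a * b) (A.mul_mem haA hbA) hc2 hc1 y hy.1 (mem_centralizer_iff.1 hy.2 _ rfl)
  have h0 : x ∈ centralizer ((⊥ : Subgroup H) : Set H) := by
    rw [mem_centralizer_iff]
    intro b hb
    rw [SetLike.mem_coe, mem_bot] at hb
    rw [hb, one_mul, mul_one]
  have h1 := main ⊥ (bot_lt_iff_ne_bot.2 h.ne) ⟨hx, h0⟩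
  exact mem_centralizer_iff.1 h1 a ha

end Fr

end Cfsg.Agent.Omega.ML.MinFrame

end

section


/-!
# (ML): one component (#16000 (2)-(4)); K-free

For `h : Fr K p H M T Q A z` with `p` (that is, `T` normalises `A`):

* `Fr.odd_central` : the normal subgroups of odd order are central (any `p`); `Fr.center_odd`;
* `Fr.exists_component` : some component is not centralised by `A` (any `p`);
* `Fr.sup_eq_top` : `H = ⟨L^T⟩ T` for such a component `L`;
* `Fr.A_le_normalizer` : `A` normalises `L`;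
* `Fr.comp_normal`, `Fr.comp_sup_A` : `L ⊴ H`, `H = LA` (any `p`, once `A` normalises `L`);
* `Fr.exists_comp'`, `Fr.exists_comp` : the summary, `C_H(L) = Z(H) ≤ L` odd;
* `Fr.le_o2_normalizer` : `A ≤ O₂(N_H(T₀))` for `1 ≠ T₀ ⊴ T` (any `p`).
-/

set_option autoImplicit false

namespace Cfsg.Agent.Omega.ML.MinFrame

open Subgroup Cfsg Cfsg.Agent.ClassTwoFusion.Quad Cfsg.Agent.Omega.NOThree.NoOver Cfsg.Agent.Omega.ML.CD
open Cfsg.Agent.ZN Cfsg.Agent.MinSimple.VModule
open Cfsg.Agent.SignalizersComponents.Components Cfsg.Agent.SignalizersComponents.CompBasic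

universe u v

section Grp

variable {H : Type*} [Group H]

theorem mem_of_pow_mem {S : Subgroup H} {x : H} {m n : ℕ} (hc : m.Coprime n) (h1 : x ^ m ∈ S) (h2 : x ^ n ∈ S) :
    x ∈ S := by
  have h3 := Nat.gcd_eq_gcd_ab m n
  rw [hc.gcd_eq_one] at h3
  have h4 : x = (x ^ m) ^ (Nat.gcdA m n) * (x ^ n) ^ (Nat.gcdB m n) := by
    rw [← zpow_natCast, ← zpow_natCast, ← zpow_mul, ← zpow_mul, ← zpow_add, ← h3]
    simp
  rw [h4]
  exact S.mul_mem (S.zpow_mem h1 _) (S.zpow_mem h2 _)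

/-- the Sylow 2-subgroup meets the subnormal subgroups in Sylow 2-subgroups -/
theorem not_dvd_relIndex_of_subnormal [Finite H] {T L : Subgroup H} (hT : IsPGroup 2 T) (hTi : ¬ 2 ∣ T.index)
    (hL : L.IsSubnormal) : ¬ 2 ∣ T.relIndex L := by
  have : Fact (Nat.Prime 2) := ⟨Nat.prime_two⟩
  obtain ⟨P, hP⟩ := S0542.result 2 L hL (hT.toSylow hTi)
  have h1 := P.not_dvd_index
  rwa [hP] at h1

theorem odd_of_relIndex [Finite H] {T L : Subgroup H} (h : ¬ 2 ∣ T.relIndex L) (hb : T ⊓ L = ⊥) :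
    Odd (Nat.card L) := by
  rw [← inf_relIndex_right, hb, relIndex_bot_left] at h
  exact Nat.not_even_iff_odd.1 fun h1 => h h1.two_dvd

/-- `⟨L^T⟩` -/
def tcl (T L : Subgroup H) : Subgroup H := ⨆ t : T, L.map (MulAut.conj (t : H)).toMonoidHom

theorem map_conj_le_tcl {T L : Subgroup H} {t : H} (ht : t ∈ T) : L.map (MulAut.conj t).toMonoidHom ≤ tcl T L :=
  le_iSup (fun t : T => L.map (MulAut.conj (t : H)).toMonoidHom) ⟨t, ht⟩

theorem le_tcl (T L : Subgroup H) : L ≤ tcl T L := fun x hx =>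
  map_conj_le_tcl T.one_mem ⟨x, hx, by simp⟩

theorem tcl_le {T L S : Subgroup H} (h : ∀ t ∈ T, L.map (MulAut.conj t).toMonoidHom ≤ S) : tcl T L ≤ S :=
  iSup_le fun t => h t t.2

theorem map_conj_map_conj (g k : H) (L : Subgroup H) :
    (L.map (MulAut.conj g).toMonoidHom).map (MulAut.conj k).toMonoidHom = L.map (MulAut.conj (k * g)).toMonoidHom := by
  rw [Subgroup.map_map]
  congr 1
  ext x
  simp

theorem map_conj_eq_of_mem {g : H} {L : Subgroup H} (hg : g ∈ normalizer (L : Set H)) :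
    L.map (MulAut.conj g).toMonoidHom = L := by
  ext x
  constructor
  · rintro ⟨y, hy, rfl⟩
    exact (mem_normalizer_iff.1 hg y).1 hy
  · intro hx
    refine ⟨g⁻¹ * x * g, ?_, by simp only [mul_assoc, _root_.MulEquiv.toMonoidHom_eq_coe, _root_.MonoidHom.coe_coe, _root_.MulAut.conj_apply, _root_.mul_inv_cancel_left, _root_.mul_inv_cancel, _root_.mul_one]⟩
    have h1 := (mem_normalizer_iff.1 (inv_mem hg) x).1 hx
    rwa [inv_inv] at h1

theorem mem_normalizer_of_map {g : H} {L : Subgroup H} (h : L.map (MulAut.conj g).toMonoidHom = L) :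
    g ∈ normalizer (L : Set H) := by
  rw [mem_normalizer_iff]
  intro x
  constructor
  · intro hx
    rw [← SetLike.mem_coe, ← h]
    exact ⟨x, hx, rfl⟩
  · intro hx
    rw [← SetLike.mem_coe, ← h] at hx
    obtain ⟨y, hy, hyx⟩ := hx
    have h2 : g * y * g⁻¹ = g * x * g⁻¹ := hyx
    have h3 : y = x := by
      rw [mul_left_inj, mul_right_inj] at h2
      exact h2
    exact h3 ▸ hy

theorem map_sup_le {L T : Subgroup H} (k : H) (h : ∀ t ∈ T, L.map (MulAut.conj (k * t)).toMonoidHom ≤ tcl T L) :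
    (tcl T L).map (MulAut.conj k).toMonoidHom ≤ tcl T L := by
  rw [tcl, Subgroup.map_iSup]
  refine iSup_le fun t => ?_
  rw [map_conj_map_conj]
  exact h t t.2

theorem le_normalizer_of_map_le {R N : Subgroup H} (h : ∀ g ∈ R, N.map (MulAut.conj g).toMonoidHom ≤ N) :
    R ≤ normalizer (N : Set H) :=
  le_normalizer_of fun g hg x hx => h g hg ⟨x, hx, rfl⟩

theorem le_normalizer_tcl (T L : Subgroup H) : T ≤ normalizer (tcl T L : Set H) :=
  le_normalizer_of_map_le fun _ hk => map_sup_le _ fun _ ht => map_conj_le_tcl (T.mul_mem hk ht)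

variable [Finite H]

omit [Finite H] in
/-- `[E, O₂(R)] = 1` for `E ⊴ R` subnormal in `H`, `O₂(H) = 1` -/
theorem comm_of_o2 (h0 : ∀ N : Subgroup H, N.IsSubnormal → IsPGroup 2 N → N = ⊥) {E R : Subgroup H}
    (hE : E.IsSubnormal) (hER : E ≤ R) (hn : R ≤ normalizer (E : Set H)) {x y : H} (hx : x ∈ E) (hy : y ∈ o2 R) :
    x * y = y * x := by
  have h1 : E ≤ normalizer ((E ⊓ o2 R : Subgroup H) : Set H) := le_normalizer_of fun g hg x hx =>
    ⟨E.mul_mem (E.mul_mem hg hx.1) (E.inv_mem hg), conj_mem_of_le (le_normalizer_o2 R) (hER hg) hx.2⟩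
  have h2 : ((E ⊓ o2 R).subgroupOf E).Normal :=
    (normal_subgroupOf_iff_le_normalizer inf_le_left).2 h1
  have h3 : (E ⊓ o2 R).IsSubnormal := IsSubnormal.trans inf_le_left h2.isSubnormal hE
  have h4 := h0 _ h3 ((o2_isPGroup R).to_le inf_le_right)
  have h5 : x * y * x⁻¹ * y⁻¹ ∈ E ⊓ o2 R := by
    refine ⟨?_, ?_⟩
    · have h6 := conj_mem_of_le hn (o2_le R hy) (E.inv_mem hx)
      have h7 := E.mul_mem hx h6
      have e : x * (y * x⁻¹ * y⁻¹) = x * y * x⁻¹ * y⁻¹ := by group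
      rwa [e] at h7
    · exact Subgroup.mul_mem _ (conj_mem_of_le (le_normalizer_o2 R) (hER hx) hy) (Subgroup.inv_mem _ hy)
  rw [h4, mem_bot] at h5
  have h6 : x * y * x⁻¹ = y := mul_inv_eq_one.1 h5
  exact mul_inv_eq_iff_eq_mul.1 h6

/-- a nilpotent subnormal subgroup has odd order, if `O₂(H) = 1` -/
theorem odd_of_nilpotent (h0 : ∀ N : Subgroup H, N.IsSubnormal → IsPGroup 2 N → N = ⊥) {N : Subgroup H}
    (hN : N.IsSubnormal) (hn : Group.IsNilpotent N) : Odd (Nat.card N) := by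
  have : Fact (Nat.Prime 2) := ⟨Nat.prime_two⟩
  obtain ⟨P⟩ : Nonempty (Sylow 2 N) := inferInstance
  have h1 : (P : Subgroup N).Normal := (Group.isNilpotent_of_finite_tfae.out 0 3 rfl rfl).1 hn 2 this P
  have h2 := h0 _ (h1.isSubnormal.trans' hN) (P.isPGroup'.map _)
  rw [Subgroup.map_eq_bot_iff_of_injective _ N.subtype_injective] at h2
  have h3 := P.not_dvd_index
  rw [h2, index_bot] at h3
  exact Nat.not_even_iff_odd.1 fun h1 => h3 h1.two_dvd

/-- Burnside: a perfect group with `N(P) = C(P)` for the Sylow 2-subgroup `P` has odd order -/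
theorem odd_of_burnside {X : Type*} [Group X] [Finite X] (hX : Group.IsPerfect X) (P : Sylow 2 X)
    (hP : normalizer (P : Set X) ≤ centralizer (P : Set X)) : Odd (Nat.card X) := by
  have : Fact (Nat.Prime 2) := ⟨Nat.prime_two⟩
  have hc : ∀ a b : P, a * b = b * a := fun a b => Subtype.ext (hP (le_normalizer b.2) a a.2)
  let _ : CommGroup P := { (inferInstance : Group P) with mul_comm := hc }
  have h1 : (P : Subgroup X) = ⊥ := by
    rw [eq_bot_iff]
    intro x hx
    have h2 := hom_eq_one_of_perfect hX (MonoidHom.transferSylow P hP) x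
    rw [MonoidHom.transferSylow_eq_pow P hP x hx] at h2
    have h3 : x ^ (P : Subgroup X).index = 1 := congrArg Subtype.val h2
    obtain ⟨k, hk⟩ := P.isPGroup' ⟨x, hx⟩
    have h4 : x ^ 2 ^ k = 1 := congrArg Subtype.val hk
    have hcop : ((P : Subgroup X).index).Coprime (2 ^ k) :=
      Nat.Coprime.pow_right _ ((Nat.prime_two.coprime_iff_not_dvd.2 P.not_dvd_index).symm)
    exact mem_of_pow_mem hcop (h3 ▸ one_mem _) (h4 ▸ one_mem _)
  have h3 := P.not_dvd_index
  rw [h1, index_bot] at h3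
  exact Nat.not_even_iff_odd.1 fun h1 => h3 h1.two_dvd

omit [Finite H] in
theorem sup_eq_mul {A B : Subgroup H} (hT : B ≤ normalizer (A : Set H)) {x : H} (hx : x ∈ A ⊔ B) :
    ∃ y ∈ A, ∃ t ∈ B, x = y * t := by
  rw [← SetLike.mem_coe, coe_mul_of_right_le_normalizer_left A _ hT] at hx
  obtain ⟨y, hy, t, ht, rfl⟩ := hx
  exact ⟨y, hy, t, ht, rfl⟩

omit [Finite H] in
theorem relIndex_sup_of_le {A B : Subgroup H} (h : B ≤ normalizer (A : Set H)) :
    A.relIndex (A ⊔ B) = A.relIndex B := by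
  let f : B ⧸ A.subgroupOf B → (A ⊔ B : Subgroup H) ⧸ A.subgroupOf (A ⊔ B) :=
    Quotient.map' (fun y : B => (⟨y, (le_sup_right : B ≤ A ⊔ B) y.2⟩ : (A ⊔ B : Subgroup H))) (by
      intro y z hyz
      rw [QuotientGroup.leftRel_apply] at hyz ⊢
      exact hyz)
  have hf : Function.Bijective f := by
    constructor
    · intro y z
      obtain ⟨y, rfl⟩ := QuotientGroup.mk_surjective y
      obtain ⟨z, rfl⟩ := QuotientGroup.mk_surjective z
      intro hyz
      have h1 : (QuotientGroup.mk (⟨y, (le_sup_right : B ≤ A ⊔ B) y.2⟩ : (A ⊔ B : Subgroup H)) :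
        (A ⊔ B : Subgroup H) ⧸ A.subgroupOf (A ⊔ B)) =
          QuotientGroup.mk ⟨z, (le_sup_right : B ≤ A ⊔ B) z.2⟩ := hyz
      have h2 := QuotientGroup.eq.1 h1
      exact QuotientGroup.eq.2 (show (y : B)⁻¹ * z ∈ A.subgroupOf B from h2)
    · intro b
      obtain ⟨b, rfl⟩ := QuotientGroup.mk_surjective b
      obtain ⟨u, hu, y, hy, h1⟩ := sup_eq_mul h b.2
      refine ⟨QuotientGroup.mk ⟨y, hy⟩, ?_⟩
      change (QuotientGroup.mk (⟨y, (le_sup_right : B ≤ A ⊔ B) hy⟩ : (A ⊔ B : Subgroup H)) :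
        (A ⊔ B : Subgroup H) ⧸ A.subgroupOf (A ⊔ B)) = _
      apply QuotientGroup.eq.2
      rw [mem_subgroupOf]
      change y⁻¹ * (b : H) ∈ A
      rw [h1, ← mul_assoc]
      have h3 := conj_mem_of_le h (B.inv_mem hy) hu
      rwa [inv_inv] at h3
  exact (Nat.card_eq_of_bijective f hf).symm

/-- `[LT' : T'] = [L : L ∩ T']` -/
theorem relIndex_sup_comm {L T' : Subgroup H} (hT : T' ≤ normalizer (L : Set H)) :
    T'.relIndex (L ⊔ T') = T'.relIndex L := by
  have h1 : L.relIndex (L ⊔ T') = L.relIndex T' := relIndex_sup_of_le hT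
  have h2 := Lib.SylowNormalInf.card_mul_relIndex L (L ⊔ T') le_sup_left
  have h3 := Lib.SylowNormalInf.card_mul_relIndex T' (L ⊔ T') le_sup_right
  have h4 := Lib.SylowNormalInf.card_inf_mul_relIndex L T'
  have h5 := Lib.SylowNormalInf.card_inf_mul_relIndex T' L
  rw [inf_comm] at h5
  have hpos : 0 < Nat.card T' := Nat.card_pos
  apply Nat.eq_of_mul_eq_mul_left hpos
  rw [h3, ← h2, h1, ← h5, ← h4]
  ring

end Grp

namespace Fr

variable {K : Frame.Cls.{u}} {p : Prop} {H : Type u} [Group H] [Finite H] {M : Type v} [Group M] [Finite M]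
  [MulDistribMulAction H M] {T Q A : Subgroup H} {z : M}

omit [Finite M] in
theorem sub_bot (h : Fr K p H M T Q A z) (N : Subgroup H) (hN : N.IsSubnormal) (h2 : IsPGroup 2 N) : N = ⊥ := by
  have h1 := h.o2_eq_bot (Lib.Cores.pCore_normal (G := H) 2) (Lib.Cores.pCore_isPGroup 2)
  exact le_bot_iff.1 (h1 ▸ subnormal_pGroup_le_pCore hN h2)

/-- the normal subgroups of odd order are central -/
theorem odd_central (h : Fr K p H M T Q A z) {N : Subgroup H} (hN : N.Normal) (hO : Odd (Nat.card N)) :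
    N ≤ center H := by
  have h1 : centralizer (N : Set H) = ⊤ := h.eq_top_of_normal inferInstance fun a ha => by
    rw [mem_centralizer_iff]
    exact fun x hx => (h.odd_comm hO (fun b _ y hy => hN.conj_mem y hy b) ha hx).symm
  intro x hx
  rw [mem_center_iff]
  intro g
  have h2 : g ∈ centralizer (N : Set H) := h1 ▸ mem_top g
  exact (mem_centralizer_iff.1 h2 x hx).symm

/-- the subnormal subgroups of odd order are central -/
theorem odd_central_sub (h : Fr K p H M T Q A z) {N : Subgroup H} (hN : N.IsSubnormal) (hO : Odd (Nat.card N)) :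
    N ≤ center H := by
  have h1 : (Nat.card N).Coprime 2 := Nat.coprime_two_right.2 hO
  have h2 := subnormal_coprime_le_pPrimeCore hN h1
  exact h2.trans (h.odd_central (Lib.Cores.pPrimeCore_normal 2)
    (Nat.coprime_two_right.1 (Lib.Cores.pPrimeCore_coprime 2)))

/-- the normal nilpotent subgroups are central of odd order -/
theorem nilp_central (h : Fr K p H M T Q A z) {N : Subgroup H} (hN : N.IsSubnormal) (hn : Group.IsNilpotent N) :
    N ≤ center H :=
  h.odd_central_sub hN (odd_of_nilpotent h.sub_bot hN hn)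

omit [Finite M] in
theorem center_odd (h : Fr K p H M T Q A z) : Odd (Nat.card (center H)) :=
  odd_of_nilpotent h.sub_bot (Normal.isSubnormal inferInstance) (by
    let _ : CommGroup (center H) := { (inferInstance : Group (center H)) with
      mul_comm := fun x y => Subtype.ext (mem_center_iff.1 y.2 x) }
    exact CommGroup.isNilpotent)

omit [Finite M] in
theorem not_le_center (h : Fr K p H M T Q A z) : ¬ A ≤ center H := fun hc => by
  have h1 : A.Normal := ⟨fun a ha g => by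
    have h2 := mem_center_iff.1 (hc ha) g
    rw [h2, mul_inv_cancel_right]
    exact ha⟩
  exact h.ne (h.o2_eq_bot h1 (h.Q2.to_le h.AQ))

/-- some component is not centralised by `A` -/
theorem exists_component (h : Fr K p H M T Q A z) :
    ∃ L : Subgroup H, IsComponent L ∧ ¬ A ≤ centralizer (L : Set H) := by
  by_contra hc
  push Not at hc
  have h1 : A ≤ centralizer (generalizedFittingSubgroup H : Set H) := by
    have h2 : generalizedFittingSubgroup H ≤ centralizer (A : Set H) := by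
      rw [Lib.GenFitting.genFitting_def]
      refine sup_le ?_ ?_
      · rw [layer_le_iff]
        exact fun L hL => le_centralizer_iff.1 (hc L hL)
      · refine (h.nilp_central (Normal.isSubnormal Lib.Cores.fittingSubgroup_normal)
          Lib.Cores.fittingSubgroup_isNilpotent).trans ?_
        intro x hx
        rw [mem_centralizer_iff]
        exact fun a _ => mem_center_iff.1 hx a
    exact le_centralizer_iff.1 h2
  have hF := Lib.GenFitting.genFitting_normal (G := H)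
  have h2 : centralizer (generalizedFittingSubgroup H : Set H) = ⊤ := h.eq_top_of_normal inferInstance h1
  have h3 := Lib.GenFitting.centralizer_genFitting_le (G := H)
  rw [h2, top_le_iff] at h3
  rw [h3, coe_top, centralizer_univ] at h2
  exact h.not_le_center (h2 ▸ le_top)

/-- `A ≤ O₂(R)` for `A ≤ R < H` with a Sylow 2-subgroup inside `T` -/
theorem le_o2' (h : Fr K p H M T Q A z) {R T' : Subgroup H} (hR : R ≠ ⊤) (hAR : A ≤ R) (hT : T' ≤ T) (hTR : T' ≤ R)
    (hTi : ¬ 2 ∣ T'.relIndex R) : A ≤ o2 R :=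
  h.red_o2 hR (T' := T') (Q' := Q ⊓ R) (B := A) (z' := z) (h.two.to_le hT) hTR hTi
    (fun t ht => h.fixT t (hT ht)) (h.Q2.to_le inf_le_left) inf_le_right (fun q hq => h.fixQ q hq.1)
    (fun g hg hgz q hq => ⟨h.nrmQ g hgz q hq.1, R.mul_mem (R.mul_mem hg hq.2) (R.inv_mem hg)⟩)
    (le_inf h.AQ hAR) h.Asq (fun hp t ht a ha => h.nrmA hp t (hT ht) a ha) h.strict

/-- `A ≤ O₂(N_H(T₀))` for `1 ≠ T₀ ⊴ T` -/
theorem le_o2_normalizer (h : Fr K p H M T Q A z) {T₀ : Subgroup H} (hT : T₀ ≤ T) (hn : T ≤ normalizer (T₀ : Set H))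
    (hne : T₀ ≠ ⊥) : A ≤ o2 (normalizer (T₀ : Set H)) := by
  refine h.le_o2 hn fun h1 => hne (h.o2_eq_bot (normalizer_eq_top_iff.1 h1) (h.two.to_le hT))

section comp

variable {L : Subgroup H}

omit [Finite M] [Finite H] in
theorem tcl_normal_layer (hL : IsComponent L) : layer H ≤ normalizer (tcl T L : Set H) := by
  intro g hg
  have h1 : ∀ t : T, g ∈ normalizer ((L.map (MulAut.conj (t : H)).toMonoidHom : Subgroup H) : Set H) := fun t =>
    layer_le_normalizer_component (isComponent_conj (t : H) hL) hg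
  apply mem_normalizer_of_map
  rw [tcl, Subgroup.map_iSup]
  exact iSup_congr fun t => map_conj_eq_of_mem (h1 t)

omit [Finite M] [Finite H] in
theorem tcl_le_layer (hL : IsComponent L) : tcl T L ≤ layer H :=
  tcl_le fun t _ => component_le_layer (isComponent_conj t hL)

omit [Finite M] [Finite H] in
theorem tcl_subnormal (hL : IsComponent L) : (tcl T L).IsSubnormal :=
  IsSubnormal.trans (tcl_le_layer hL)
    ((normal_subgroupOf_iff_le_normalizer (tcl_le_layer hL)).2 (tcl_normal_layer hL)).isSubnormal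
    (Normal.isSubnormal (layer_normal H))

/-- `H = ⟨L^T⟩ T` -/
theorem sup_eq_top (h : Fr K p H M T Q A z) (hL : IsComponent L) (hLA : ¬ A ≤ centralizer (L : Set H)) :
    tcl T L ⊔ T = ⊤ := by
  by_contra hne
  have h1 := h.le_o2 le_sup_right hne
  apply hLA
  intro a ha
  rw [mem_centralizer_iff]
  exact fun x hx => comm_of_o2 h.sub_bot (tcl_subnormal hL) le_sup_left (sup_le le_normalizer (le_normalizer_tcl T L))
    (le_tcl T L hx) (h1 ha)

/-- the component `L` has even order -/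
theorem not_odd (h : Fr K p H M T Q A z) (hLs : L.IsSubnormal) (hLA : ¬ A ≤ centralizer (L : Set H)) :
    ¬ Odd (Nat.card L) := fun ho => hLA fun a _ => by
  rw [mem_centralizer_iff]
  exact fun x hx => (mem_center_iff.1 (h.odd_central_sub hLs ho hx) a).symm

/-- **`A` normalises `L`** -/
theorem A_le_normalizer (h : Fr K p H M T Q A z) (hp : p) (hL : IsComponent L)
    (hLA : ¬ A ≤ centralizer (L : Set H)) : A ≤ normalizer (L : Set H) := by
  have : Fact (Nat.Prime 2) := ⟨Nat.prime_two⟩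
  intro a ha
  by_contra hcon
  let L₂ : Subgroup H := L.map (MulAut.conj a).toMonoidHom
  have hL₂ : IsComponent L₂ := isComponent_conj a hL
  have hne : L ≠ L₂ := fun h1 => hcon (mem_normalizer_of_map h1.symm)
  have hcc := component_le_centralizer_of_ne hL hL₂ hne
  have hcomm : ∀ x ∈ L, ∀ y ∈ L₂, x * y = y * x := fun x hx y hy => (mem_centralizer_iff.1 (hcc hx) y hy).symm
  have hconj : ∀ x ∈ L, a * x * a⁻¹ ∈ L₂ := fun x hx => ⟨x, hx, rfl⟩
  -- `D = L ∩ L₂` is central in `L`, of odd order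
  let D : Subgroup H := L ⊓ L₂
  have hDc : ∀ x ∈ L, ∀ d ∈ D, x * d = d * x := fun x hx d hd => hcomm x hx d hd.2
  have hDn : (D.subgroupOf L).Normal := (normal_subgroupOf_iff_le_normalizer inf_le_left).2
    (le_normalizer_of fun g hg x hx => by
      rw [hDc g hg x hx, mul_inv_cancel_right]
      exact hx)
  have hDs : D.IsSubnormal := IsSubnormal.trans inf_le_left hDn.isSubnormal hL.1
  have hDo : Odd (Nat.card D) := by
    refine odd_of_nilpotent h.sub_bot hDs ?_
    let _ : CommGroup D := { (inferInstance : Group D) with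
      mul_comm := fun x y => Subtype.ext (hDc x x.2.1 y y.2) }
    exact CommGroup.isNilpotent
  have hD2 : ∀ x ∈ D, ∀ k : ℕ, x ^ 2 ^ k = 1 → x = 1 := by
    intro x hx k hk
    have h1 : x ^ Nat.card D = 1 := by
      have h5 : (⟨x, hx⟩ : D) ^ Nat.card D = 1 := pow_card_eq_one'
      exact congrArg Subtype.val h5
    have h2 : x ∈ (⊥ : Subgroup H) := mem_of_pow_mem (Nat.Coprime.pow_left k (Nat.coprime_two_left.2 hDo))
      (hk ▸ one_mem _) (h1 ▸ one_mem _)
    exact mem_bot.1 h2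
  -- `T₁` is elementary abelian
  let T₁ : Subgroup H := T ⊓ L
  have haT := h.A_le_T ha
  have hT₁sq : ∀ c ∈ T₁, c * c = 1 := by
    intro c hc
    have h1 : c⁻¹ * a * c⁻¹⁻¹ ∈ A := h.nrmA hp _ (T.inv_mem hc.1) a ha
    rw [inv_inv] at h1
    have h2 : c⁻¹ * a * c * a⁻¹ ∈ A := A.mul_mem h1 (A.inv_mem ha)
    have h3 := h.Asq _ h2
    have h4 : a * c * a⁻¹ ∈ L₂ := hconj c hc.2
    have h5 : c * (a * c * a⁻¹) = a * c * a⁻¹ * c := hcomm c hc.2 _ h4
    -- `c² = (a c a⁻¹)²`
    have h6 : c * c = (a * c * a⁻¹) * (a * c * a⁻¹) := by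
      have e : c⁻¹ * a * c * a⁻¹ = c⁻¹ * (a * c * a⁻¹) := by group
      rw [e] at h3
      have c1 : Commute c⁻¹ (a * c * a⁻¹) := Commute.inv_left h5
      have h7 : c⁻¹ * (a * c * a⁻¹) * (c⁻¹ * (a * c * a⁻¹)) =
          (c * c)⁻¹ * ((a * c * a⁻¹) * (a * c * a⁻¹)) := by
        have h8 : c⁻¹ * (a * c * a⁻¹) = (a * c * a⁻¹) * c⁻¹ := c1.eq
        calc c⁻¹ * (a * c * a⁻¹) * (c⁻¹ * (a * c * a⁻¹))
            = c⁻¹ * ((a * c * a⁻¹) * c⁻¹) * (a * c * a⁻¹) := by group
          _ = c⁻¹ * (c⁻¹ * (a * c * a⁻¹)) * (a * c * a⁻¹) := by rw [h8]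
          _ = _ := by group
      rw [h7] at h3
      exact inv_mul_eq_one.1 h3
    have h7 : c * c ∈ D := ⟨L.mul_mem hc.2 hc.2, h6 ▸ L₂.mul_mem h4 h4⟩
    obtain ⟨k, hk⟩ := h.two ⟨c, hc.1⟩
    have h8 : c ^ 2 ^ k = 1 := congrArg Subtype.val hk
    refine hD2 _ h7 k ?_
    rw [← pow_two, ← pow_mul, mul_comm, pow_mul, h8, one_pow]
  -- the Sylow 2-subgroup of `L`
  have hrel := not_dvd_relIndex_of_subnormal h.two h.odd hL.1
  have hP0 : IsPGroup 2 (T.subgroupOf L) := h.two.comap_of_injective L.subtype L.subtype_injective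
  let P : Sylow 2 L := hP0.toSylow hrel
  have hPm : ∀ x : L, x ∈ P ↔ (x : H) ∈ T := fun x => Iff.rfl
  -- `T₀`
  let T₀ : Subgroup H := tcl T T₁
  have hT₀T : T₀ ≤ T := tcl_le fun t ht => by
    rintro _ ⟨x, hx, rfl⟩
    exact T.mul_mem (T.mul_mem ht hx.1) (T.inv_mem ht)
  have hT₀ne : T₀ ≠ ⊥ := by
    intro h1
    have h2 : T ⊓ L = ⊥ := le_bot_iff.1 (h1 ▸ le_tcl T T₁)
    exact h.not_odd hL.1 hLA (odd_of_relIndex hrel h2)
  have hAo := h.le_o2_normalizer hT₀T (le_normalizer_tcl T T₁) hT₀ne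
  apply h.not_odd hL.1 hLA
  refine odd_of_burnside hL.2.1 P ?_
  intro n hn
  -- `n` normalises `T₁`
  have hn1 : (n : H) ∈ normalizer (T₁ : Set H) := by
    rw [mem_normalizer_iff]
    intro x
    constructor
    · intro hx
      have h1 := (mem_normalizer_iff.1 hn ⟨x, hx.2⟩).1 hx.1
      exact ⟨h1, L.mul_mem (L.mul_mem n.2 hx.2) (L.inv_mem n.2)⟩
    · intro hx
      have h2 : x ∈ L := by
        have := L.mul_mem (L.mul_mem (L.inv_mem n.2) hx.2) n.2
        have e : (n : H)⁻¹ * (n * x * (n : H)⁻¹) * n = x := by group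
        rwa [e] at this
      have h1 := (mem_normalizer_iff.1 hn ⟨x, h2⟩).2 hx.1
      exact ⟨h1, h2⟩
  have hnN : (n : H) ∈ normalizer (T₀ : Set H) := by
    apply mem_normalizer_of_map
    change (tcl T T₁).map _ = tcl T T₁
    rw [tcl, Subgroup.map_iSup]
    refine iSup_congr fun t => ?_
    apply map_conj_eq_of_mem
    by_cases htL : L.map (MulAut.conj (t : H)).toMonoidHom = L
    · have h1 : T₁.map (MulAut.conj (t : H)).toMonoidHom = T₁ := by
        have h2 : T.map (MulAut.conj (t : H)).toMonoidHom = T := map_conj_eq_of_mem (le_normalizer t.2)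
        change (T ⊓ L).map _ = T ⊓ L
        rw [Subgroup.map_inf_eq _ _ _ (MulEquiv.injective _), h2, htL]
      rw [h1]
      exact hn1
    · have h1 := component_le_centralizer_of_ne hL (isComponent_conj (t : H) hL) (Ne.symm htL)
      have h2 : (n : H) ∈ centralizer (T₁.map (MulAut.conj (t : H)).toMonoidHom : Set H) :=
        centralizer_le (SetLike.coe_subset_coe.2 (Subgroup.map_mono inf_le_right)) (h1 n.2)
      exact centralizer_le_normalizer _ h2
  -- a 2-power of `n` lies in `D`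
  have hcom1 : (n : H)⁻¹ * (a * n * a⁻¹) ∈ o2 (normalizer (T₀ : Set H)) := by
    have h1 := conj_mem_of_le (le_normalizer_o2 (normalizer (T₀ : Set H))) (Subgroup.inv_mem _ hnN) (hAo ha)
    rw [inv_inv] at h1
    have h2 := Subgroup.mul_mem _ h1 (Subgroup.inv_mem _ (hAo ha))
    have e : (n : H)⁻¹ * a * n * a⁻¹ = (n : H)⁻¹ * (a * n * a⁻¹) := by group
    rwa [e] at h2
  obtain ⟨k, hk⟩ := o2_isPGroup _ ⟨_, hcom1⟩
  have hk1 : ((n : H)⁻¹ * (a * n * a⁻¹)) ^ 2 ^ k = 1 := congrArg Subtype.val hk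
  have hcn : Commute (n : H)⁻¹ (a * n * a⁻¹) := Commute.inv_left (hcomm n n.2 _ (hconj n n.2))
  rw [hcn.mul_pow, inv_pow, inv_mul_eq_one] at hk1
  have hnD : (n : H) ^ 2 ^ k ∈ D := ⟨L.pow_mem n.2 _, hk1 ▸ L₂.pow_mem (hconj n n.2) _⟩
  -- the odd power of `n` lies in `P`
  have hnm : (n ^ Nat.card D : L) ∈ P := by
    have h1 : (n ^ Nat.card D) ^ 2 ^ k = 1 := by
      apply Subtype.ext
      have h5 : (⟨_, hnD⟩ : D) ^ Nat.card D = 1 := pow_card_eq_one'
      have h6 : ((n : H) ^ 2 ^ k) ^ Nat.card D = 1 := congrArg Subtype.val h5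
      change ((n : H) ^ Nat.card D) ^ 2 ^ k = 1
      rw [← pow_mul, mul_comm, pow_mul, h6]
    have h2 : IsPGroup 2 (zpowers (n ^ Nat.card D)) := by
      have h3 : orderOf (n ^ Nat.card D) ∣ 2 ^ k := orderOf_dvd_of_pow_eq_one h1
      obtain ⟨j, _, hj⟩ := (Nat.dvd_prime_pow Nat.prime_two).1 h3
      exact IsPGroup.iff_card.2 ⟨j, by rw [Nat.card_zpowers, hj]⟩
    have h3 := h2.inf_normalizer_sylow P
    have h4 : n ^ Nat.card D ∈ zpowers (n ^ Nat.card D) ⊓ normalizer (P : Set L) :=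
      ⟨mem_zpowers _, Subgroup.pow_mem _ hn _⟩
    rw [h3] at h4
    exact h4.2
  have hcop : (Nat.card D).Coprime (2 ^ k) := Nat.Coprime.pow_right k (Nat.coprime_two_right.2 hDo)
  refine mem_of_pow_mem hcop ?_ ?_
  · rw [mem_centralizer_iff]
    intro c hc
    have h1 := hT₁sq _ ⟨hnm, (n ^ Nat.card D : L).2⟩
    have h2 := hT₁sq _ ⟨hc, c.2⟩
    have h3 := hT₁sq (c * (n ^ Nat.card D : L) : L) ⟨T.mul_mem hc hnm, (c * n ^ Nat.card D : L).2⟩
    have e1 : ((n ^ Nat.card D : L) : L)⁻¹ = n ^ Nat.card D := inv_eq_of_mul_eq_one_right (Subtype.ext h1)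
    have e2 : c⁻¹ = c := inv_eq_of_mul_eq_one_right (Subtype.ext h2)
    calc c * n ^ Nat.card D = (c * n ^ Nat.card D)⁻¹ := (inv_eq_of_mul_eq_one_right (Subtype.ext h3)).symm
      _ = (n ^ Nat.card D)⁻¹ * c⁻¹ := mul_inv_rev _ _
      _ = n ^ Nat.card D * c := by rw [e1, e2]
  · rw [mem_centralizer_iff]
    intro c _
    exact Subtype.ext (hDc c c.2 _ hnD)

/-- **`L` is normal** (once `A` normalises `L`) -/
theorem comp_normal (h : Fr K p H M T Q A z) (hL : IsComponent L)
    (hLA : ¬ A ≤ centralizer (L : Set H)) (hAn : A ≤ normalizer (L : Set H)) :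
    L ⊔ (T ⊓ normalizer (L : Set H)) = ⊤ := by
  by_contra hne
  have hTi : ¬ 2 ∣ (T ⊓ normalizer (L : Set H)).relIndex (L ⊔ (T ⊓ normalizer (L : Set H))) := by
    rw [relIndex_sup_comm inf_le_right]
    have h1 := not_dvd_relIndex_of_subnormal h.two h.odd hL.1
    have h2 : (T ⊓ normalizer (L : Set H)).relIndex L = T.relIndex L := by
      rw [← inf_relIndex_right, inf_assoc, inf_eq_right.2 (le_normalizer (H := L)), inf_relIndex_right]
    rwa [h2]
  have h1 := h.le_o2' hne (le_sup_of_le_right (le_inf h.A_le_T hAn)) inf_le_left le_sup_right hTi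
  apply hLA
  intro a ha
  rw [mem_centralizer_iff]
  exact fun x hx => comm_of_o2 h.sub_bot hL.1 le_sup_left (sup_le le_normalizer inf_le_right) hx (h1 ha)

/-- **`H = LA`** (#16589), `L ⊴ H` -/
theorem comp_sup_A (h : Fr K p H M T Q A z) (hL : IsComponent L) (hLn : L.Normal)
    (hLA : ¬ A ≤ centralizer (L : Set H)) : L ⊔ A = ⊤ := by
  by_contra hne
  have h0 : L ⊔ T ⊓ (L ⊔ A) = L ⊔ A :=
    le_antisymm (sup_le le_sup_left inf_le_right) (sup_le_sup_left (le_inf h.A_le_T le_sup_right) L)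
  have hTi : ¬ 2 ∣ (T ⊓ (L ⊔ A)).relIndex (L ⊔ A) := by
    have h1 := not_dvd_relIndex_of_subnormal h.two h.odd hL.1
    have h2 := relIndex_sup_comm (L := L) (T' := T ⊓ (L ⊔ A))
      (fun x _ => (normalizer_eq_top_iff.2 hLn) ▸ mem_top x)
    rw [h0] at h2
    rw [h2, ← inf_relIndex_right, inf_assoc, inf_eq_right.2 (le_sup_left : L ≤ L ⊔ A), inf_relIndex_right]
    exact h1
  have h1 := h.le_o2' hne le_sup_right inf_le_left inf_le_right hTi
  apply hLA
  intro a ha
  rw [mem_centralizer_iff]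
  exact fun x hx => comm_of_o2 h.sub_bot hL.1 le_sup_left
    (fun y _ => (normalizer_eq_top_iff.2 hLn) ▸ mem_top y) hx (h1 ha)

/-- **Summary** (#16000 (2)-(4), #16589): `H = LA` with `L ⊴ H` quasisimple, `C_H(L) = Z(H) ≤ L` of odd order, if `A`
normalises the components which it does not centralise. -/
theorem exists_comp' (h : Fr K p H M T Q A z)
    (hAn : ∀ L : Subgroup H, IsComponent L → ¬ A ≤ centralizer (L : Set H) → A ≤ normalizer (L : Set H)) :
    ∃ L : Subgroup H, L.Normal ∧ IsQuasisimple L ∧ L ⊔ A = ⊤ ∧ centralizer (L : Set H) = center H ∧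
      center H ≤ L ∧ Odd (Nat.card (center H)) ∧ layer H = L := by
  obtain ⟨L, hL, hLA⟩ := h.exists_component
  have h1 := h.comp_normal hL hLA (hAn L hL hLA)
  have hLn : L.Normal := by
    rw [← normalizer_eq_top_iff, ← top_le_iff, ← h1]
    exact sup_le le_normalizer inf_le_right
  have hLT : L ⊔ T = ⊤ := top_le_iff.1 (h1 ▸ sup_le_sup_left inf_le_left L)
  -- 2-powers
  have hpow : ∀ x : H, ∃ k, x ^ 2 ^ k ∈ L := by
    intro x
    have hx : x ∈ L ⊔ T := hLT ▸ mem_top x
    obtain ⟨y, hy, t, ht, rfl⟩ := mem_sup_of_normal_left.1 hx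
    obtain ⟨k, hk⟩ := h.two ⟨t, ht⟩
    refine ⟨k, ?_⟩
    have h2 : t ^ 2 ^ k = 1 := congrArg Subtype.val hk
    rw [← QuotientGroup.eq_one_iff, QuotientGroup.mk_pow, QuotientGroup.mk_mul,
      (QuotientGroup.eq_one_iff y).2 hy, one_mul, ← QuotientGroup.mk_pow, h2, QuotientGroup.mk_one]
  -- `C = C_H(L)` is nilpotent
  have hCnil : Group.IsNilpotent (centralizer (L : Set H)) := by
    let f : centralizer (L : Set H) →* H ⧸ L := (QuotientGroup.mk' L).comp (centralizer (L : Set H)).subtype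
    have h2 : IsPGroup 2 f.range := by
      rintro ⟨_, ⟨c, rfl⟩⟩
      obtain ⟨k, hk⟩ := hpow c
      refine ⟨k, Subtype.ext ?_⟩
      change (QuotientGroup.mk (c : H) : H ⧸ L) ^ 2 ^ k = 1
      rw [← QuotientGroup.mk_pow]
      exact (QuotientGroup.eq_one_iff _).2 hk
    have : Fact (Nat.Prime 2) := ⟨Nat.prime_two⟩
    have h3 : Group.IsNilpotent f.range := h2.isNilpotent
    refine Subgroup.isNilpotent_of_ker_le_center f.rangeRestrict ?_
    rw [MonoidHom.ker_rangeRestrict]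
    intro c hc
    have h4 : (c : H) ∈ L := (QuotientGroup.eq_one_iff _).1 hc
    rw [mem_center_iff]
    exact fun d => Subtype.ext (mem_centralizer_iff.1 d.2 c h4).symm
  have hCs : (centralizer (L : Set H)).IsSubnormal := Normal.isSubnormal inferInstance
  have hC : centralizer (L : Set H) = center H :=
    le_antisymm (h.nilp_central hCs hCnil) (center_le_centralizer _)
  have hodd := h.center_odd
  refine ⟨L, hLn, hL.2, h.comp_sup_A hL hLn hLA, hC, ?_, hodd, ?_⟩
  · intro x hx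
    obtain ⟨k, hk⟩ := hpow x
    have h5 : (⟨x, hx⟩ : center H) ^ Nat.card (center H) = 1 := pow_card_eq_one'
    have h6 : x ^ Nat.card (center H) = 1 := congrArg Subtype.val h5
    exact mem_of_pow_mem (Nat.Coprime.pow_right k (Nat.coprime_two_right.2 hodd)) (h6 ▸ one_mem _) hk
  · apply le_antisymm _ (component_le_layer hL)
    rw [layer_le_iff]
    intro L' hL'
    by_contra hc
    have hne : L' ≠ L := fun h2 => hc h2.le
    have h2 := component_le_centralizer_of_ne hL' hL hne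
    rw [hC] at h2
    apply quasisimple_not_isMulCommutative hL'.2
    exact ⟨⟨fun x y => Subtype.ext (mem_center_iff.1 (h2 y.2) x)⟩⟩

/-- the case that `T` normalises `A` -/
theorem exists_comp (h : Fr K p H M T Q A z) (hp : p) :
    ∃ L : Subgroup H, L.Normal ∧ IsQuasisimple L ∧ L ⊔ A = ⊤ ∧ centralizer (L : Set H) = center H ∧
      center H ≤ L ∧ Odd (Nat.card (center H)) ∧ layer H = L :=
  h.exists_comp' fun _ hL hLA => h.A_le_normalizer hp hL hLA

end comp

end Fr

end Cfsg.Agent.Omega.ML.MinFrame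

end

section


/-!
# (ML): the final statement and its forms for the consumers (ruling R-PS, #17472)

* `KG` : the class of K-groups, `sec_KG` : closed under sections;
* **`MLK`** : (ML) for all K-groups: no over-offender in `O₂(C_H(z))`, `z` fixed by a Sylow 2-subgroup;
* `mlk_of` : `MLK` from the reduction `InOf` and the rows `DeadZ IsKnownSimple'`;
* `MLK.act` : for actions which are not faithful, everything modulo the kernel;
* `MLK.grp` : for subgroups of a group.
-/

set_option autoImplicit false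

namespace Cfsg.Agent.Omega.ML.Final

open Subgroup Cfsg Cfsg.Agent.ClassTwoFusion.Quad Cfsg.Agent.Omega.ML.MinFrame Cfsg.Agent.Omega.ML.LocRow

universe u v

/-! ### K-groups -/

theorem simple_congr {X Y : Type*} [Group X] [Group Y] (e : X ≃* Y) (h : IsSimpleGroup X) : IsSimpleGroup Y := by
  have : Nontrivial Y := e.symm.toEquiv.nontrivial
  exact IsSimpleGroup.isSimpleGroup_of_surjective e.toMonoidHom e.surjective

theorem not_comm_congr {X Y : Type*} [Group X] [Group Y] (e : X ≃* Y) (h : ¬ IsMulCommutative X) :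
    ¬ IsMulCommutative Y := by
  intro h'
  apply h
  refine ⟨⟨fun a b => ?_⟩⟩
  apply e.injective
  rw [map_mul, map_mul]
  exact h'.is_comm.comm _ _

/-- sections of K-groups are K-groups -/
theorem kgroup_of_surj {X Q : Type u} [Group X] [Group Q] (hX : IsKGroup X) (B : Subgroup X) (f : B →* Q)
    (hf : Function.Surjective f) : IsKGroup Q := by
  intro A M _ hs hna
  let C : Subgroup X := (A.comap f).map B.subtype
  let e : ↥(A.comap f) ≃* ↥C := (A.comap f).equivMapOfInjective _ B.subtype_injective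
  let g : ↥C →* ↥A ⧸ M := ((QuotientGroup.mk' M).comp (f.subgroupComap A)).comp e.symm.toMonoidHom
  have hg : Function.Surjective g := by
    refine ((QuotientGroup.mk'_surjective M).comp ?_).comp e.symm.surjective
    rintro ⟨y, hy⟩
    obtain ⟨x, rfl⟩ := hf y
    exact ⟨⟨x, hy⟩, rfl⟩
  let i : ↥C ⧸ g.ker ≃* ↥A ⧸ M := QuotientGroup.quotientKerEquivOfSurjective g hg
  have h1 := not_comm_congr i.symm hna
  exact OddHalf.Known.isKnownSimple'_congr i h1 (hX C g.ker (simple_congr i.symm hs) h1)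

/-- the class of K-groups -/
abbrev KG : Frame.Cls.{u} := fun G _ => IsKGroup G

theorem sec_KG : Sec KG.{u} where
  sub := fun _ _ _ hG R => kgroup_of_surj hG R (MonoidHom.id R) fun x => ⟨x, rfl⟩
  quo := fun G _ _ hG N _ => kgroup_of_surj hG ⊤ ((QuotientGroup.mk' N).comp (⊤ : Subgroup G).subtype) fun x => by
    obtain ⟨y, rfl⟩ := QuotientGroup.mk'_surjective N x
    exact ⟨⟨y, mem_top y⟩, rfl⟩

/-! ### The final statement -/

/-- **(ML) for K-groups** -/
def MLK : Prop :=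
  ∀ (H : Type u) [Group H] [Finite H] (M : Type v) [Group M] [Finite M] [MulDistribMulAction H M],
    IsKGroup H → (∀ m : M, m * m = 1) → MLS False H M

/-- THE REDUCTION: a minimal counterexample gives the situation of the rows -/
def InOf : Prop :=
  ∀ (H : Type u) [Group H] [Finite H] (M : Type v) [Group M] [Finite M] [MulDistribMulAction H M]
    (T Q A : Subgroup H) (z : M), Fr KG.{u} False H M T Q A z →
      ∃ (K T' Q' A' : Subgroup H) (z' : M), InZ H M K T' Q' A' z'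

/-- the same for a class `K` closed under sections -/
theorem mls_of {K : Frame.Cls.{u}} {p : Prop} (sec : Sec K)
    (hno : ∀ (H : Type u) [Group H] [Finite H] (M : Type v) [Group M] [Finite M] [MulDistribMulAction H M]
      (T Q A : Subgroup H) (z : M), ¬ Fr K p H M T Q A z)
    (H : Type u) [Group H] [Finite H] (M : Type v) [Group M] [Finite M] [MulDistribMulAction H M] (hK : K H)
    (sq : ∀ m : M, m * m = 1) : MLS p H M := by
  have key : ∀ n m : ℕ, ∀ (H : Type u) [Group H] [Finite H] (M : Type v) [Group M] [Finite M]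
      [MulDistribMulAction H M], K H → (∀ m : M, m * m = 1) → Nat.card H = n → Nat.card M = m → MLS p H M := by
    intro n
    induction n using Nat.strong_induction_on with
    | _ n ihn =>
      intro m
      induction m using Nat.strong_induction_on with
      | _ m ihm =>
        intro H _ _ M _ _ _ hK hsq hH hM
        by_contra hc
        obtain ⟨T, Q, A, z, hfr⟩ := exists_fr sec hK hsq (by
          intro H' _ _ M' _ _ _ hK' hsq' hlt
          rcases hlt with hlt | ⟨he, hlt⟩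
          · rw [hH] at hlt
            exact ihn _ hlt _ H' M' hK' hsq' rfl rfl
          · rw [hM] at hlt
            exact ihm _ hlt H' M' hK' hsq' (he.trans hH) rfl) hc
        exact hno H M T Q A z hfr
  exact key _ _ H M hK sq rfl rfl

/-- **(ML) from the reduction and the rows** -/
theorem mlk_of (hI : InOf.{u, v}) (hR : DeadZ.{u, v} fun S _ => IsKnownSimple' S) : MLK.{u, v} := by
  intro H _ _ M _ _ _ hK hsq
  refine mls_of sec_KG ?_ H M hK hsq
  intro H _ _ M _ _ _ T Q A z hfr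
  obtain ⟨K, T', Q', A', z', hz⟩ := hI H M T Q A z hfr
  refine hR H M K T' Q' A' z' hz ?_
  have h1 : IsSimpleGroup (K ⧸ center K) := hz.row.qs.2
  have h2 : IsKGroup (K ⧸ center K) :=
    kgroup_of_surj hfr.KH K (QuotientGroup.mk' (center K)) (QuotientGroup.mk'_surjective _)
  have h3 : ¬ IsMulCommutative (K ⧸ center K) := by
    intro h3
    have h4 : commutator K ≤ (QuotientGroup.mk' (center K)).ker := by
      let _ : CommGroup (K ⧸ center K) := { (inferInstance : Group (K ⧸ center K)) with mul_comm := h3.is_comm.comm }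
      exact Abelianization.commutator_subset_ker (QuotientGroup.mk' (center K))
    have := hz.row.qs.1
    rw [Group.IsPerfect.commutator_eq_top, QuotientGroup.ker_mk'] at h4
    obtain ⟨x, hx⟩ := exists_ne (1 : K ⧸ center K)
    obtain ⟨k, rfl⟩ := QuotientGroup.mk_surjective x
    exact hx ((QuotientGroup.eq_one_iff k).2 (h4 (mem_top k)))
  -- the group itself is one of its sections
  let e0 : ↥(⊤ : Subgroup (K ⧸ center K)) ⧸ (⊥ : Subgroup ↥(⊤ : Subgroup (K ⧸ center K))) ≃* (K ⧸ center K) :=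
    (QuotientGroup.quotientBot).trans Subgroup.topEquiv
  have h4 := h2 ⊤ ⊥ (simple_congr e0.symm h1) (not_comm_congr e0.symm h3)
  exact OddHalf.Known.isKnownSimple'_congr e0 (not_comm_congr e0.symm h3) h4

/-! ### Not faithful actions -/

section act

variable {C : Type u} [Group C] [Finite C] {V : Type v} [Group V] [Finite V] [MulDistribMulAction C V]

/-- the data of (ML) modulo the kernel of the action -/
structure Dat (T Q A : Subgroup C) (z : V) : Prop where
  sq : ∀ v : V, v * v = 1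
  two : IsPGroup 2 T
  odd : ¬ 2 ∣ T.index
  fixT : ∀ t ∈ T, t • z = z
  Q2 : ∀ q ∈ Q, ∃ n : ℕ, ∀ v : V, (q ^ 2 ^ n) • v = v
  fixQ : ∀ q ∈ Q, q • z = z
  nrmQ : ∀ g : C, g • z = z → ∀ q ∈ Q, ∃ q' ∈ Q, ∀ v : V, (g * q * g⁻¹) • v = q' • v
  AQ : ∀ a ∈ A, ∃ q ∈ Q, ∀ v : V, a • v = q • v
  Asq : ∀ a ∈ A, ∀ v : V, a • a • v = v

/-- **(ML), modulo the kernel** -/
theorem MLK.act (h : MLK.{u, v}) (hK : IsKGroup C) {T Q A : Subgroup C} {z : V} (D : Dat T Q A z) :
    (fxr C (orb (⊤ : Subgroup C) z)).relIndex A ≤ (cv V (A : Set C)).relIndex (orb (⊤ : Subgroup C) z) := by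
  have hN : (fxr C (⊤ : Subgroup V)).Normal := fxr_normal fun _ _ _ => mem_top _
  have htriv : ∀ x ∈ fxr C (⊤ : Subgroup V), ∀ m : V, x • m = m := fun x hx m => hx m (mem_top m)
  set N := fxr C (⊤ : Subgroup V) with hNdef
  let _ := quoAct N htriv
  let π : C →* C ⧸ N := QuotientGroup.mk' N
  have hπ : Function.Surjective π := QuotientGroup.mk'_surjective N
  have he : ∀ (g : C) (v : V), π g • v = g • v := fun _ _ => rfl
  have hker : ∀ x : C, (∀ v : V, x • v = v) → π x = 1 := fun x hx =>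
    (QuotientGroup.eq_one_iff x).2 fun v _ => hx v
  have hker2 : ∀ x y : C, (∀ v : V, x • v = y • v) → π x = π y := by
    intro x y hxy
    rw [← mul_inv_eq_one, ← map_inv, ← map_mul]
    refine hker _ fun v => ?_
    rw [mul_smul, hxy, smul_inv_smul]
  have key := h (C ⧸ N) V (sec_KG.quo C hK N) D.sq (T.map π) (Q.map π) (A.map π) z (mem_top _) (D.two.map π) le_top
    (by
      rw [relIndex_top_right]
      intro h2
      exact D.odd (h2.trans (index_map_dvd T hπ)))
    (by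
      rintro _ ⟨t, ht, rfl⟩
      rw [he, D.fixT t ht])
    (by
      rintro ⟨_, q, hq, rfl⟩
      obtain ⟨n, hn⟩ := D.Q2 q hq
      refine ⟨n, Subtype.ext ?_⟩
      change π q ^ 2 ^ n = 1
      rw [← map_pow]
      exact hker _ hn) le_top
    (by
      rintro _ ⟨q, hq, rfl⟩
      rw [he, D.fixQ q hq])
    (by
      rintro g' _ hg' _ ⟨q, hq, rfl⟩
      obtain ⟨g, rfl⟩ := hπ g'
      obtain ⟨q', hq', hqq⟩ := D.nrmQ g (by rw [← he, hg']) q hq
      refine ⟨q', hq', ?_⟩
      rw [← map_mul, ← map_inv, ← map_mul]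
      exact (hker2 _ _ hqq).symm)
    (by
      rintro _ ⟨a, ha, rfl⟩
      obtain ⟨q, hq, hqa⟩ := D.AQ a ha
      exact ⟨q, hq, (hker2 _ _ hqa).symm⟩)
    (by
      rintro _ ⟨a, ha, rfl⟩
      rw [← map_mul]
      refine hker _ fun v => ?_
      rw [mul_smul, D.Asq a ha])
    False.elim
  have horb : orb (⊤ : Subgroup (C ⧸ N)) z = orb (⊤ : Subgroup C) z := by
    apply le_antisymm
    · refine orb_le fun g' _ => ?_
      obtain ⟨g, rfl⟩ := hπ g'
      exact smul_mem_orb_self (mem_top g)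
    · exact orb_le fun g _ => smul_mem_orb_self (g := π g) (mem_top _)
  have hcv : cv V (A.map π : Set (C ⧸ N)) = cv V (A : Set C) := by
    ext v
    constructor
    · exact fun hv a ha => hv _ ⟨a, ha, rfl⟩
    · rintro hv _ ⟨a, ha, rfl⟩
      exact hv a ha
  have hfx : (fxr (C ⧸ N) (orb (⊤ : Subgroup C) z)).comap π = fxr C (orb (⊤ : Subgroup C) z) := by
    ext x
    exact Iff.rfl
  rw [horb, hcv, ← relIndex_comap, hfx] at key
  exact key

end act

/-! ### Subgroups of a group -/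

section grp

variable {G : Type u} [Group G]

/-- `C` acts on `W / Y` by conjugation -/
abbrev conjAct {C W Y : Subgroup G} (hW : C ≤ normalizer (W : Set G)) (hY : C ≤ normalizer (Y : Set G))
    [(Y.subgroupOf W).Normal] : MulDistribMulAction C (W ⧸ Y.subgroupOf W) :=
  let f : C → (W →* W) := fun g =>
    { toFun := fun x => ⟨(g : G) * x * (g : G)⁻¹, (mem_normalizer_iff.1 (hW g.2) x).1 x.2⟩
      map_one' := Subtype.ext (by simp)
      map_mul' := fun x y => Subtype.ext (by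
        change (g : G) * ((x : G) * y) * (g : G)⁻¹ = (g : G) * x * (g : G)⁻¹ * ((g : G) * y * (g : G)⁻¹)
        group) }
  { smul := fun g => QuotientGroup.map (Y.subgroupOf W) (Y.subgroupOf W) (f g) fun x hx =>
      (mem_normalizer_iff.1 (hY g.2) x).1 hx
    one_smul := by
      rintro ⟨x⟩
      refine congrArg (QuotientGroup.mk (s := Y.subgroupOf W)) (Subtype.ext ?_)
      change (1 : G) * (x : G) * (1 : G)⁻¹ = x
      group
    mul_smul := by
      rintro g k ⟨x⟩
      refine congrArg (QuotientGroup.mk (s := Y.subgroupOf W)) (Subtype.ext ?_)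
      change ((g : G) * k) * (x : G) * ((g : G) * k)⁻¹ = (g : G) * ((k : G) * x * (k : G)⁻¹) * (g : G)⁻¹
      group
    smul_mul := fun g x y => map_mul (QuotientGroup.map _ _ (f g) _) x y
    smul_one := fun g => map_one (QuotientGroup.map _ _ (f g) _) }

/-- the data of (ML) for the subgroup `C` of `G` acting on the section `W / Y` -/
structure GDat (C W Y T Q A : Subgroup G) (w : G) : Prop where
  nW : C ≤ normalizer (W : Set G)
  nY : C ≤ normalizer (Y : Set G)
  YW : Y ≤ W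
  WY : W ≤ normalizer (Y : Set G)
  sq : ∀ x ∈ W, x * x ∈ Y
  mem : w ∈ W
  /-- `W = ⟨w^C⟩ Y` -/
  gen : ∀ U : Subgroup G, w ∈ U → Y ≤ U → C ≤ normalizer (U : Set G) → W ≤ U
  TC : T ≤ C
  two : IsPGroup 2 T
  odd : ¬ 2 ∣ T.relIndex C
  fixT : ∀ t ∈ T, t * w * t⁻¹ * w⁻¹ ∈ Y
  QC : Q ≤ C
  Q2 : IsPGroup 2 Q
  fixQ : ∀ q ∈ Q, q * w * q⁻¹ * w⁻¹ ∈ Y
  nrmQ : ∀ g ∈ C, g * w * g⁻¹ * w⁻¹ ∈ Y → ∀ q ∈ Q, g * q * g⁻¹ ∈ Q
  AQ : A ≤ Q
  Asq : ∀ a ∈ A, ∀ x ∈ W, a * (a * x * a⁻¹) * a⁻¹ * x⁻¹ ∈ Y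

/-- **(ML) for subgroups**: `KA = C_A(W/Y)`, `CW / Y = C_{W/Y}(A)` -/
theorem MLK.grp [Finite G] (h : MLK.{u, u}) {C W Y T Q A : Subgroup G} {w : G} (hK : IsKGroup C)
    (D : GDat C W Y T Q A w) {KA CW : Subgroup G}
    (hKA : ∀ a, a ∈ KA ↔ a ∈ A ∧ ∀ x ∈ W, a * x * a⁻¹ * x⁻¹ ∈ Y)
    (hCW : ∀ x, x ∈ CW ↔ x ∈ W ∧ ∀ a ∈ A, a * x * a⁻¹ * x⁻¹ ∈ Y) :
    KA.relIndex A ≤ CW.relIndex W := by
  have hN : (Y.subgroupOf W).Normal := normal_subgroupOf_of_le_normalizer D.WY
  let _ := conjAct D.nW D.nY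
  set V := W ⧸ Y.subgroupOf W with hV
  let mk : W →* V := QuotientGroup.mk' (Y.subgroupOf W)
  have hmk : Function.Surjective mk := QuotientGroup.mk'_surjective _
  have hsm : ∀ (g : C) (x : W) (hx : (g : G) * x * (g : G)⁻¹ ∈ W), g • mk x = mk ⟨(g : G) * x * (g : G)⁻¹, hx⟩ :=
    fun _ _ _ => rfl
  have hmem : ∀ (g : C) (x : W), (g : G) * x * (g : G)⁻¹ ∈ W := fun g x =>
    (mem_normalizer_iff.1 (D.nW g.2) x).1 x.2
  have hone : ∀ x y : W, mk x = mk y ↔ (x : G) * (y : G)⁻¹ ∈ Y := by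
    intro x y
    rw [← mul_inv_eq_one, ← map_inv, ← map_mul, ← MonoidHom.mem_ker, QuotientGroup.ker_mk']
    exact Iff.rfl
  have hfix : ∀ (g : C) (x : W), g • mk x = mk x ↔ (g : G) * x * (g : G)⁻¹ * (x : G)⁻¹ ∈ Y := by
    intro g x
    rw [hsm g x (hmem g x), hone]
  have hAC : A ≤ C := D.AQ.trans D.QC
  set z : V := mk ⟨w, D.mem⟩ with hz
  have hD : Dat (C := C) (V := V) (T.subgroupOf C) (Q.subgroupOf C) (A.subgroupOf C) z := by
    refine ⟨?_, D.two.of_equiv (subgroupOfEquivOfLe D.TC).symm, D.odd, ?_, ?_, ?_, ?_, ?_, ?_⟩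
    · intro v
      obtain ⟨x, rfl⟩ := hmk v
      rw [← map_mul, ← map_one mk, hone]
      simpa only [_root_.Subgroup.coe_mul, _root_.OneMemClass.coe_one, _root_.inv_one, _root_.mul_one] using D.sq x x.2
    · intro t ht
      exact (hfix t _).2 (D.fixT _ ht)
    · intro q hq
      obtain ⟨n, hn⟩ := D.Q2 ⟨q, hq⟩
      refine ⟨n, fun v => ?_⟩
      have h2 : (q : G) ^ 2 ^ n = 1 := congrArg Subtype.val hn
      have h1 : q ^ 2 ^ n = 1 := Subtype.ext h2
      rw [h1, one_smul]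
    · intro q hq
      exact (hfix q _).2 (D.fixQ _ hq)
    · intro g hg q hq
      exact ⟨g * q * g⁻¹, D.nrmQ g g.2 ((hfix g _).1 hg) q hq, fun _ => rfl⟩
    · intro a ha
      exact ⟨a, D.AQ ha, fun _ => rfl⟩
    · intro a ha v
      obtain ⟨x, rfl⟩ := hmk v
      rw [hsm a x (hmem a x), hsm a _ (hmem a ⟨_, hmem a x⟩), hone]
      exact D.Asq a ha x x.2
  have key := h.act hK hD
  -- the orbit of `z` generates
  have hgen : orb (⊤ : Subgroup C) z = ⊤ := by
    set U : Subgroup G := ((orb (⊤ : Subgroup C) z).comap mk).map W.subtype with hU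
    have hUmem : ∀ x : W, (x : G) ∈ U ↔ mk x ∈ orb (⊤ : Subgroup C) z := by
      intro x
      constructor
      · rintro ⟨y, hy, hyx⟩
        rw [← (Subtype.ext hyx : y = x)]
        exact hy
      · exact fun hx => ⟨x, hx, rfl⟩
    have h1 : W ≤ U := by
      refine D.gen U ((hUmem ⟨w, D.mem⟩).2 (mem_orb_self _ z)) ?_ ?_
      · intro y hy
        refine (hUmem ⟨y, D.YW hy⟩).2 ?_
        have h2 : mk ⟨y, D.YW hy⟩ = 1 := by
          rw [← map_one mk, hone]
          simpa using hy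
        rw [h2]
        exact one_mem _
      · refine le_normalizer_of fun g hg x hx => ?_
        obtain ⟨y, hy, rfl⟩ := hx
        have h2 := smul_mem_orb (g := (⟨g, hg⟩ : C)) (mem_top _) hy
        rw [hsm ⟨g, hg⟩ y (hmem ⟨g, hg⟩ y)] at h2
        exact (hUmem ⟨_, hmem ⟨g, hg⟩ y⟩).2 h2
    rw [eq_top_iff]
    intro v _
    obtain ⟨x, rfl⟩ := hmk v
    exact (hUmem x).1 (h1 x.2)
  rw [hgen, relIndex_top_right] at key
  have e1 : KA.relIndex A = (fxr C (⊤ : Subgroup V)).relIndex (A.subgroupOf C) := by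
    rw [← relIndex_subgroupOf hAC, ← inf_relIndex_right (fxr C (⊤ : Subgroup V))]
    congr 1
    ext x
    rw [mem_inf, mem_subgroupOf, mem_subgroupOf, hKA]
    constructor
    · rintro ⟨h1, h2⟩
      refine ⟨fun v _ => ?_, h1⟩
      obtain ⟨y, rfl⟩ := hmk v
      exact (hfix x y).2 (h2 y y.2)
    · rintro ⟨h1, h2⟩
      exact ⟨h2, fun y hy => (hfix x ⟨y, hy⟩).1 (h1 _ (mem_top _))⟩
  have e2 : CW.relIndex W = (cv V (A.subgroupOf C : Set C)).index := by
    rw [← index_comap_of_surjective _ hmk, relIndex]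
    congr 1
    ext x
    rw [mem_subgroupOf, hCW, mem_comap]
    constructor
    · rintro ⟨-, h2⟩ a ha
      exact (hfix a x).2 (h2 a ha)
    · intro h1
      exact ⟨x.2, fun a ha => (hfix ⟨a, hAC ha⟩ x).1 (h1 ⟨a, hAC ha⟩ ha)⟩
  rw [e1, e2]
  exact key

end grp

end Cfsg.Agent.Omega.ML.Final

end

section


/-!
# 2-subgroups of symmetric groups: an overgroup with small `O₂`

Used for the alternating rows of (ML) (`Omega/ML/AltRow.lean`).

* `AP Δ` : even permutations which fix every point outside `Δ`;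
* `fix_of` : a 2-group preserving `Δ`, `|Δ| ≥ 5`, normalised by `AP Δ`, acts trivially on `Δ`;
* `card_le_four` : a 2-group supported on `Γ`, `|Γ| ≤ 4`, normalised by `AP Γ`, has order at most 4;
* `main` : `n ≥ 7`, `n ≠ 8`, `T ≤ S_n` a 2-group: there is `R ≥ T`, `A_n ≰ R`, such that every 2-subgroup of `R`
  normalised by `R ∩ A_n` has order at most 4.
-/

set_option autoImplicit false

namespace Cfsg.Agent.Omega.ML.AltPerm

open Equiv Equiv.Perm Subgroup

set_option linter.unusedSectionVars false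

variable {α : Type*} [DecidableEq α] [Fintype α]

/-- Even permutations which fix every point outside `Δ`. -/
def AP (Δ : Set α) (c : Perm α) : Prop := sign c = 1 ∧ ∀ x, x ∉ Δ → c x = x

/-- The 3-cycle `a → b → c → a` as a product of two transpositions. -/
def C3 (a b c : α) : Perm α := swap a b * swap b c

theorem C3_a {a b c : α} (h1 : a ≠ b) (h2 : a ≠ c) : C3 a b c a = b := by
  simp [C3, swap_apply_of_ne_of_ne h1 h2]

theorem C3_b {a b c : α} (h2 : a ≠ c) (h3 : b ≠ c) : C3 a b c b = c := by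
  simp [C3, swap_apply_of_ne_of_ne h2.symm h3.symm]

theorem C3_of_ne {a b c x : α} (h1 : x ≠ a) (h2 : x ≠ b) (h3 : x ≠ c) : C3 a b c x = x := by
  simp [C3, swap_apply_of_ne_of_ne h2 h3, swap_apply_of_ne_of_ne h1 h2]

theorem sign_C3 {a b c : α} (h1 : a ≠ b) (h3 : b ≠ c) : sign (C3 a b c) = 1 := by
  simp [C3, sign_swap h1, sign_swap h3]

theorem three_C3 {a b c : α} (h1 : a ≠ b) (h2 : a ≠ c) (h3 : b ≠ c) : (C3 a b c).IsThreeCycle := by
  have h := isThreeCycle_swap_mul_swap_same (a := b) (b := a) (c := c) h1.symm h3 h2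
  rwa [swap_comm b a] at h

theorem not_two {N : Subgroup (Perm α)} (hN : IsPGroup 2 N) {c : Perm α} (hc : c.IsThreeCycle) : c ∉ N := by
  intro h
  obtain ⟨k, hk⟩ := hN ⟨c, h⟩
  have h1 : c ^ 2 ^ k = 1 := congrArg Subtype.val hk
  have h2 := orderOf_dvd_of_pow_eq_one h1
  rw [hc.orderOf] at h2
  have h3 := Nat.Prime.dvd_of_dvd_pow Nat.prime_three h2
  omega

theorem fix_of {Δ : Set α} (h5 : 5 ≤ Nat.card Δ) (N : Subgroup (Perm α)) (hN : IsPGroup 2 N)
    (hp : ∀ g ∈ N, ∀ x ∈ Δ, g x ∈ Δ) (hn : ∀ c, AP Δ c → ∀ g ∈ N, c * g * c⁻¹ ∈ N) :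
    ∀ g ∈ N, ∀ x ∈ Δ, g x = x := by
  classical
  have : Fintype Δ := Fintype.ofFinite Δ
  have hS : IsSimpleGroup (alternatingGroup Δ) := alternatingGroup.isSimpleGroup (by simpa only [_root_.Nat.card_eq_fintype_card, _root_.Set.fintypeCard_eq_ncard] using h5)
  let ι : Perm Δ →* Perm α := ofSubtype (p := (· ∈ Δ))
  have hAP : ∀ s : Perm Δ, sign s = 1 → AP Δ (ι s) := fun s hs =>
    ⟨by rw [← hs]; exact sign_ofSubtype s, fun x hx => ofSubtype_apply_of_not_mem s hx⟩
  let N' : Subgroup (alternatingGroup Δ) := N.comap (ι.comp (alternatingGroup Δ).subtype)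
  have hN'n : N'.Normal := by
    refine ⟨fun n hn' s => ?_⟩
    have h1 := hn (ι s.1) (hAP s.1 (mem_alternatingGroup.1 s.2)) _ (Subgroup.mem_comap.1 hn')
    refine Subgroup.mem_comap.2 ?_
    simpa only [_root_.MonoidHom.coe_comp, _root_.Subgroup.coe_subtype, _root_.Function.comp_apply, _root_.Subgroup.coe_mul, _root_.InvMemClass.coe_inv, _root_.map_mul, _root_.map_inv] using h1
  have hbot : N' = ⊥ := by
    rcases hS.eq_bot_or_eq_top_of_normal N' hN'n with h | h
    · exact h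
    · exfalso
      have hc3 : 2 < Fintype.card Δ := by rw [← Nat.card_eq_fintype_card]; omega
      obtain ⟨a, b, c, hab, hac, hbc⟩ := Fintype.two_lt_card_iff.1 hc3
      have h1 : (⟨C3 a b c, mem_alternatingGroup.2 (sign_C3 hab hbc)⟩ : alternatingGroup Δ) ∈ N' := by
        rw [h]; trivial
      have h2 : ι (C3 a b c) ∈ N := Subgroup.mem_comap.1 h1
      obtain ⟨k, hk⟩ := hN ⟨_, h2⟩
      have h3 : ι (C3 a b c) ^ 2 ^ k = 1 := congrArg Subtype.val hk
      rw [← map_pow] at h3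
      have h4 : C3 a b c ^ 2 ^ k = 1 := ofSubtype_injective (by rw [map_one]; exact h3)
      have h5' := orderOf_dvd_of_pow_eq_one h4
      rw [(three_C3 hab hac hbc).orderOf] at h5'
      have h6 := Nat.Prime.dvd_of_dvd_pow Nat.prime_three h5'
      omega
  intro g hg x hx
  by_contra hne
  have hgp : ∀ z, g z ∈ Δ ↔ z ∈ Δ := fun z => by
    constructor
    · intro hz
      have := hp g⁻¹ (N.inv_mem hg) _ hz
      simpa using this
    · exact hp g hg z
  have hgi : ∀ z, g⁻¹ z ∈ Δ ↔ z ∈ Δ := fun z => by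
    have := hgp (g⁻¹ z)
    rw [show g (g⁻¹ z) = z from by simp] at this
    exact this.symm
  set y := g x with hy
  have hyΔ : y ∈ Δ := hp g hg x hx
  obtain ⟨u, hu, v, hv, huv⟩ : ∃ u ∈ ((Finset.univ : Finset Δ) \ {⟨x, hx⟩, ⟨y, hyΔ⟩}),
      ∃ v ∈ ((Finset.univ : Finset Δ) \ {⟨x, hx⟩, ⟨y, hyΔ⟩}), u ≠ v := by
    refine Finset.one_lt_card.1 ?_
    have h1 := Finset.le_card_sdiff ({⟨x, hx⟩, ⟨y, hyΔ⟩} : Finset Δ) (Finset.univ : Finset Δ)
    have h2 : ({⟨x, hx⟩, ⟨y, hyΔ⟩} : Finset Δ).card ≤ 2 := Finset.card_le_two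
    rw [Finset.card_univ, ← Nat.card_eq_fintype_card] at h1
    omega
  simp only [Finset.mem_sdiff, Finset.mem_univ, Finset.mem_insert, Finset.mem_singleton, true_and, not_or] at hu hv
  have hyu : (⟨y, hyΔ⟩ : Δ) ≠ u := fun h => hu.2 h.symm
  have hyv : (⟨y, hyΔ⟩ : Δ) ≠ v := fun h => hv.2 h.symm
  set c : Perm Δ := C3 ⟨y, hyΔ⟩ u v with hc
  have hcs : sign c = 1 := sign_C3 hyu huv
  have hcA := hAP c hcs
  set w := g * ι c * g⁻¹ * (ι c)⁻¹ with hw
  have hwN : w ∈ N := by
    have h1 := hn (ι c) hcA g⁻¹ (N.inv_mem hg)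
    have h2 := N.mul_mem hg h1
    have h3 : w = g * (ι c * g⁻¹ * (ι c)⁻¹) := by rw [hw]; group
    rw [h3]; exact h2
  have hws : sign w = 1 := by
    rw [hw]
    simp only [Perm.sign_mul, Perm.sign_inv, hcA.1]
    simp
  have hcfix : ∀ z, z ∉ Δ → (ι c)⁻¹ z = z := fun z hz => by
    rw [inv_eq_iff_eq]; exact (hcA.2 z hz).symm
  have hwfix : ∀ z, z ∉ Δ → w z = z := by
    intro z hz
    have h1 : g⁻¹ z ∉ Δ := fun h => hz ((hgi z).1 h)
    rw [hw]
    simp only [Perm.mul_apply]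
    rw [hcfix z hz, hcA.2 _ h1]
    simp
  have hwp : ∀ z, w z ∈ Δ ↔ z ∈ Δ := by
    intro z
    constructor
    · intro h
      by_contra hz
      rw [hwfix z hz] at h
      exact hz h
    · intro h
      by_contra hz
      have := hwfix _ hz
      have h2 := w.injective this
      rw [h2] at hz
      exact hz h
  have hwo : ι (w.subtypePerm hwp) = w := ofSubtype_subtypePerm hwp fun z hz => by
    by_contra h
    exact hz (hwfix z h)
  have hss : sign (w.subtypePerm hwp) = 1 := by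
    have h1 : sign (ι (w.subtypePerm hwp)) = sign (w.subtypePerm hwp) := sign_ofSubtype _
    rw [← h1, hwo, hws]
  have hmem : (⟨w.subtypePerm hwp, mem_alternatingGroup.2 hss⟩ : alternatingGroup Δ) ∈ N' := by
    refine Subgroup.mem_comap.2 ?_
    change ι (w.subtypePerm hwp) ∈ N
    rw [hwo]; exact hwN
  rw [hbot, Subgroup.mem_bot] at hmem
  have h1 : w.subtypePerm hwp = 1 := congrArg Subtype.val hmem
  have h2 : w = 1 := by rw [← hwo, h1, map_one]
  have h3 : g * ι c = ι c * g := by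
    have : w * ι c * g = g * ι c := by rw [hw]; group
    rw [h2, one_mul] at this
    exact this.symm
  have h4 := congrArg (fun f : Perm α => f x) h3
  simp only [Perm.mul_apply] at h4
  have h5 : ι c x = x := by
    have : ι c x = (c ⟨x, hx⟩ : Δ) := ofSubtype_apply_of_mem c hx
    rw [this, hc, C3_of_ne (fun h => hne (congrArg Subtype.val h).symm) (fun h => hu.1 h.symm)
      (fun h => hv.1 h.symm)]
  have h6 : ι c y = u := by
    have : ι c y = (c ⟨y, hyΔ⟩ : Δ) := ofSubtype_apply_of_mem c hyΔ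
    rw [this, hc, C3_a hyu hyv]
  rw [h5, ← hy, h6] at h4
  exact hyu (Subtype.ext h4)

/-! ### the small part -/

theorem dec4 : Fintype.card {x : Perm (Fin 4) // x ^ 8 = 1 ∧ ∀ a b c : Fin 4, a ≠ b → a ≠ c → b ≠ c →
    (x * (swap a b * swap b c * x * (swap a b * swap b c)⁻¹)) ^ 8 = 1} ≤ 4 := by
  (refine of_decide_eq_true ?_; (try (rewrite [Cfsg.Agent.LsF.finFintype_eq, Cfsg.Agent.LsF.tcard_eq, Cfsg.Agent.LsF.decLe_eq, Cfsg.Agent.LsF.dAnd_eq, Cfsg.Agent.LsF.dNot_eq, Cfsg.Agent.LsF.dFinEq_eq, Cfsg.Agent.LsF.dForallFin_eq, Cfsg.Agent.LsF.dAllP_eq, Cfsg.Agent.LsF.decide_eq])); decide +kernel)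

theorem card_le_four {Γ : Set α} (h4 : Nat.card Γ ≤ 4) (N : Subgroup (Perm α)) (hN : IsPGroup 2 N)
    (hp : ∀ g ∈ N, ∀ x, x ∉ Γ → g x = x) (hn : ∀ c, AP Γ c → ∀ g ∈ N, c * g * c⁻¹ ∈ N) :
    Nat.card N ≤ 4 := by
  classical
  have : Fintype Γ := Fintype.ofFinite Γ
  obtain ⟨k, hk⟩ : ∃ k, Nat.card Γ = k := ⟨_, rfl⟩
  have hfin : Nonempty (Γ ≃ Fin k) := ⟨(Finite.equivFinOfCardEq hk)⟩
  obtain ⟨e⟩ := hfin
  -- the embedding
  let F : Perm (Fin k) →* Perm α := (ofSubtype (p := (· ∈ Γ))).comp (e.symm.permCongrHom.toMonoidHom)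
  have hF : ∀ s : Perm (Fin k), sign s = 1 → AP Γ (F s) := by
    intro s hs
    refine ⟨?_, fun x hx => ofSubtype_apply_of_not_mem _ hx⟩
    have h1 : sign (F s) = sign (e.symm.permCongr s) := sign_ofSubtype _
    rw [h1, sign_permCongr, hs]
  have hFi : Function.Injective F :=
    (ofSubtype_injective (p := (· ∈ Γ))).comp (e.symm.permCongrHom.injective)
  have hsur : ∀ g ∈ N, ∃ s, F s = g := by
    intro g hg
    have hgp : ∀ z, g z ∈ Γ ↔ z ∈ Γ := by
      intro z
      constructor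
      · intro h
        by_contra hz
        rw [hp g hg z hz] at h
        exact hz h
      · intro h
        by_contra hz
        have := hp g hg _ hz
        have h2 := g.injective this
        rw [h2] at hz
        exact hz h
    refine ⟨e.permCongr (g.subtypePerm hgp), ?_⟩
    have h1 : e.symm.permCongr (e.permCongr (g.subtypePerm hgp)) = g.subtypePerm hgp := by
      ext x; simp [permCongr_apply]
    change ofSubtype (e.symm.permCongr (e.permCongr (g.subtypePerm hgp))) = g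
    rw [h1]
    exact ofSubtype_subtypePerm hgp fun z hz => by
      by_contra h
      exact hz (hp g hg z h)
  let N' : Subgroup (Perm (Fin k)) := N.comap F
  have hcard : Nat.card N = Nat.card N' := by
    have h1 : N'.map F = N := by
      refine le_antisymm (Subgroup.map_comap_le _ _) fun g hg => ?_
      obtain ⟨s, hs⟩ := hsur g hg
      exact ⟨s, Subgroup.mem_comap.2 (by rw [hs]; exact hg), hs⟩
    rw [← h1]
    exact Nat.card_congr (N'.equivMapOfInjective F hFi).symm.toEquiv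
  rw [hcard]
  have hN' : IsPGroup 2 N' := hN.comap_of_injective F hFi
  rcases Nat.lt_or_ge k 4 with h | h
  · -- at most 6 permutations
    obtain ⟨m, hm⟩ := (IsPGroup.iff_card (p := 2) (G := N')).1 hN'
    have h6 : Nat.card N' ≤ 6 := by
      refine (Nat.card_le_card_of_injective _ N'.subtype_injective).trans ?_
      rw [Nat.card_eq_fintype_card, Fintype.card_perm, Fintype.card_fin]
      interval_cases k <;> decide
    rw [hm] at h6 ⊢
    have : m < 3 := by
      by_contra hc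
      have := Nat.pow_le_pow_right (show 0 < 2 by norm_num) (not_lt.1 hc)
      omega
    calc 2 ^ m ≤ 2 ^ 2 := Nat.pow_le_pow_right (by norm_num) (by omega)
      _ = 4 := by norm_num
  · have hk4 : k = 4 := by omega
    subst hk4
    have hmem : ∀ x ∈ N', x ^ 8 = 1 := by
      intro x hx
      have h1 : orderOf x ∣ Nat.card N' := by
        have := _root_.orderOf_dvd_natCard (⟨x, hx⟩ : N')
        rwa [Subgroup.orderOf_mk] at this
      obtain ⟨m, hm⟩ := (IsPGroup.iff_card (p := 2) (G := N')).1 hN'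
      have h2 : orderOf x ∣ Nat.card (Perm (Fin 4)) := _root_.orderOf_dvd_natCard x
      rw [hm] at h1
      obtain ⟨j, hj, hj2⟩ := (Nat.dvd_prime_pow Nat.prime_two).1 h1
      rw [Nat.card_eq_fintype_card, Fintype.card_perm, Fintype.card_fin, hj2] at h2
      have hj3 : j ≤ 3 := by
        by_contra hc
        have h3 : 2 ^ 4 ∣ Nat.factorial 4 := (Nat.pow_dvd_pow 2 (by omega : 4 ≤ j)).trans h2
        revert h3
        decide
      refine orderOf_dvd_iff_pow_eq_one.1 ?_
      rw [hj2]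
      exact (Nat.pow_dvd_pow 2 hj3)
    have hconj : ∀ c : Perm (Fin 4), sign c = 1 → ∀ x ∈ N', c * x * c⁻¹ ∈ N' := by
      intro c hc x hx
      refine Subgroup.mem_comap.2 ?_
      have := hn (F c) (hF c hc) (F x) (Subgroup.mem_comap.1 hx)
      simpa only [_root_.map_mul, _root_.map_inv] using this
    refine le_trans ?_ dec4
    rw [← Nat.card_eq_fintype_card]
    refine Nat.card_le_card_of_injective (fun x : N' => ⟨x.1, hmem x.1 x.2, fun a b c h1 h2 h3 => ?_⟩) ?_
    · refine hmem _ (N'.mul_mem x.2 (hconj (swap a b * swap b c) ?_ x.1 x.2))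
      exact sign_C3 h1 h3
    · intro x y hxy
      have h1 : (x : Perm (Fin 4)) = y := congrArg (fun z => z.1) hxy
      exact Subtype.ext h1

/-! ### set stabilisers -/

/-- The stabiliser of the set `Δ`. -/
def St (Δ : Set α) : Subgroup (Perm α) where
  carrier := {g | ∀ x, g x ∈ Δ ↔ x ∈ Δ}
  mul_mem' {g h} hg hh := fun x => by rw [Perm.mul_apply, hg, hh]
  one_mem' := fun _ => Iff.rfl
  inv_mem' {g} hg := fun x => by
    have := hg (g⁻¹ x)
    rw [show g (g⁻¹ x) = x from by simp] at this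
    exact this.symm

theorem mem_St {Δ : Set α} {g : Perm α} : g ∈ St Δ ↔ ∀ x, g x ∈ Δ ↔ x ∈ Δ := Iff.rfl

theorem AP_St {Δ : Set α} {c : Perm α} (h : AP Δ c) : c ∈ St Δ := by
  intro x
  constructor
  · intro hx
    by_contra hz
    rw [h.2 x hz] at hx
    exact hz hx
  · intro hx
    by_contra hz
    have h1 := h.2 _ hz
    have h2 := c.injective h1
    rw [h2] at hz
    exact hz hx

theorem St_compl {Δ : Set α} : St Δᶜ = St Δ := by
  ext g
  rw [mem_St, mem_St]
  simp only [Set.mem_compl_iff, not_iff_not]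

theorem good_St {Δ : Set α} (h5 : 5 ≤ Nat.card Δ) (N : Subgroup (Perm α)) (hN : IsPGroup 2 N) (hS : N ≤ St Δ)
    (hn : ∀ c ∈ St Δ, sign c = 1 → ∀ g ∈ N, c * g * c⁻¹ ∈ N) :
    (∀ g ∈ N, ∀ x ∈ Δ, g x = x) ∧ Nat.card N ≤ 4 := by
  have h1 : ∀ g ∈ N, ∀ x ∈ Δ, g x = x :=
    fix_of h5 N hN (fun g hg x hx => (hS hg x).2 hx) (fun c hc => hn c (AP_St hc) hc.1)
  refine ⟨h1, ?_⟩
  by_cases h : 5 ≤ Nat.card (Δᶜ : Set α)
  · have h2 : ∀ g ∈ N, ∀ x ∈ Δᶜ, g x = x :=
      fix_of h N hN (fun g hg x hx hx' => hx ((hS hg x).1 hx')) (fun c hc => hn c (St_compl (Δ := Δ) ▸ AP_St hc) hc.1)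
    have h3 : N = ⊥ := by
      rw [Subgroup.eq_bot_iff_forall]
      intro g hg
      ext x
      by_cases hx : x ∈ Δ
      · exact h1 g hg x hx
      · exact h2 g hg x hx
    rw [h3, Subgroup.card_bot]
    norm_num
  · exact card_le_four (Γ := Δᶜ) (by omega) N hN (fun g hg x hx => h1 g hg x (not_not.1 hx))
      (fun c hc => hn c (St_compl (Δ := Δ) ▸ AP_St hc) hc.1)

theorem ex_St {Δ : Set α} (h2 : 2 ≤ Nat.card Δ) (h1 : ∃ d, d ∉ Δ) : ∃ c : Perm α, sign c = 1 ∧ c ∉ St Δ := by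
  classical
  obtain ⟨d, hd⟩ := h1
  have : Finite Δ := inferInstance
  obtain ⟨a, b, hab⟩ := Finite.one_lt_card_iff_nontrivial.1 h2
  have h1 : (a : α) ≠ b := fun h => hab (Subtype.ext h)
  have h3 : (a : α) ≠ d := fun h => hd (h ▸ a.2)
  have h4 : (b : α) ≠ d := fun h => hd (h ▸ b.2)
  refine ⟨C3 a d b, sign_C3 h3 h4.symm, fun h => ?_⟩
  have := (h a).2 a.2
  rw [C3_a h3 h1] at this
  exact hd this

/-! ### blocks -/

/-- The stabiliser of the partition `{Δ, Δᶜ}`. -/
def Bl (Δ : Set α) : Subgroup (Perm α) where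
  carrier := {g | (∀ x, g x ∈ Δ ↔ x ∈ Δ) ∨ (∀ x, g x ∈ Δ ↔ x ∉ Δ)}
  mul_mem' {g h} hg hh := by
    rcases hg with hg | hg <;> rcases hh with hh | hh
    · exact Or.inl fun x => by rw [Perm.mul_apply, hg, hh]
    · exact Or.inr fun x => by rw [Perm.mul_apply, hg, hh]
    · exact Or.inr fun x => by rw [Perm.mul_apply, hg, hh]
    · exact Or.inl fun x => by rw [Perm.mul_apply, hg, hh, not_not]
  one_mem' := Or.inl fun _ => Iff.rfl
  inv_mem' {g} hg := by
    rcases hg with hg | hg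
    · refine Or.inl fun x => ?_
      have := hg (g⁻¹ x)
      rw [show g (g⁻¹ x) = x from by simp] at this
      exact this.symm
    · refine Or.inr fun x => ?_
      have := hg (g⁻¹ x)
      rw [show g (g⁻¹ x) = x from by simp] at this
      rw [this, not_not]

theorem St_le_Bl {Δ : Set α} : St Δ ≤ Bl Δ := fun _ h => Or.inl h

theorem good_Bl {Δ : Set α} (h5 : 5 ≤ Nat.card Δ) (h5' : 5 ≤ Nat.card (Δᶜ : Set α)) (N : Subgroup (Perm α))
    (hN : IsPGroup 2 N) (hS : N ≤ Bl Δ) (hn : ∀ c ∈ Bl Δ, sign c = 1 → ∀ g ∈ N, c * g * c⁻¹ ∈ N) :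
    Nat.card N ≤ 2 := by
  have hN0 : IsPGroup 2 (N ⊓ St Δ : Subgroup (Perm α)) := hN.to_le inf_le_left
  have hn0 : ∀ c ∈ St Δ, sign c = 1 → ∀ g ∈ N ⊓ St Δ, c * g * c⁻¹ ∈ N ⊓ St Δ := fun c hc hc1 g hg =>
    ⟨hn c (St_le_Bl hc) hc1 g hg.1, (St Δ).mul_mem ((St Δ).mul_mem hc hg.2) ((St Δ).inv_mem hc)⟩
  have h1 := (good_St h5 (N ⊓ St Δ) hN0 inf_le_right hn0).1
  have h2 := (good_St (Δ := Δᶜ) h5' (N ⊓ St Δ) hN0 (by rw [St_compl]; exact inf_le_right)
    (by rw [St_compl]; exact hn0)).1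
  have h3 : ∀ g ∈ N, g ∈ St Δ → g = 1 := by
    intro g hg hg'
    ext x
    by_cases hx : x ∈ Δ
    · exact h1 g ⟨hg, hg'⟩ x hx
    · exact h2 g ⟨hg, hg'⟩ x hx
  have h4 : ∀ g ∈ N, ∀ h ∈ N, g ∉ St Δ → h ∉ St Δ → g = h := by
    intro g hg h hh hg' hh'
    have hg2 := (hS hg).resolve_left hg'
    have hh2 := (hS hh).resolve_left hh'
    have h5 : g * h⁻¹ ∈ St Δ := by
      intro x
      have e1 : h (h⁻¹ x) = x := by simp
      have e2 := hh2 (h⁻¹ x)
      rw [e1] at e2
      rw [Perm.mul_apply, hg2, e2]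
    have h6 := h3 _ (N.mul_mem hg (N.inv_mem hh)) h5
    exact mul_inv_eq_one.1 h6
  have h5 : Nat.card N ≤ Nat.card Prop := by
    refine Nat.card_le_card_of_injective (fun g : N => (g : Perm α) ∈ St Δ) ?_
    intro g h hgh
    have hgh' : ((g : Perm α) ∈ St Δ) = ((h : Perm α) ∈ St Δ) := hgh
    by_cases hg : (g : Perm α) ∈ St Δ
    · have hh : (h : Perm α) ∈ St Δ := hgh' ▸ hg
      exact Subtype.ext ((h3 _ g.2 hg).trans (h3 _ h.2 hh).symm)
    · have hh : (h : Perm α) ∉ St Δ := hgh' ▸ hg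
      exact Subtype.ext (h4 _ g.2 _ h.2 hg hh)
  refine h5.trans ?_
  rw [Nat.card_eq_fintype_card, Fintype.card_prop]

theorem ex_Bl {Δ : Set α} (h2 : 2 ≤ Nat.card Δ) (h1 : ∃ d, d ∉ Δ) : ∃ c : Perm α, sign c = 1 ∧ c ∉ Bl Δ := by
  classical
  obtain ⟨d, hd⟩ := h1
  have : Finite Δ := inferInstance
  obtain ⟨a, b, hab⟩ := Finite.one_lt_card_iff_nontrivial.1 h2
  have h1 : (a : α) ≠ b := fun h => hab (Subtype.ext h)
  have h3 : (a : α) ≠ d := fun h => hd (h ▸ a.2)
  have h4 : (b : α) ≠ d := fun h => hd (h ▸ b.2)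
  refine ⟨C3 b a d, sign_C3 h1.symm h3, fun h => ?_⟩
  rcases h with h | h
  · have := (h a).2 a.2
    rw [C3_b h4 h3] at this
    exact hd this
  · have := (h b).1 (by rw [C3_a h1.symm h4]; exact a.2)
    exact this b.2

/-! ### the overgroup -/

theorem main {n : ℕ} (h7 : 7 ≤ n) (h8 : n ≠ 8) (T : Subgroup (Perm (Fin n))) (hT : IsPGroup 2 T) :
    ∃ R : Subgroup (Perm (Fin n)), T ≤ R ∧ (∃ c, sign c = 1 ∧ c ∉ R) ∧
      ∀ N : Subgroup (Perm (Fin n)), N ≤ R → IsPGroup 2 N →
        (∀ c ∈ R, sign c = 1 → ∀ g ∈ N, c * g * c⁻¹ ∈ N) → Nat.card N ≤ 4 := by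
  classical
  -- a proper invariant set with at least five points is enough
  have key : ∀ Δ : Set (Fin n), 5 ≤ Nat.card Δ → (∃ d, d ∉ Δ) → T ≤ St Δ →
      ∃ R : Subgroup (Perm (Fin n)), T ≤ R ∧ (∃ c, sign c = 1 ∧ c ∉ R) ∧
      ∀ N : Subgroup (Perm (Fin n)), N ≤ R → IsPGroup 2 N →
        (∀ c ∈ R, sign c = 1 → ∀ g ∈ N, c * g * c⁻¹ ∈ N) → Nat.card N ≤ 4 := by
    intro Δ h5 hd hTS
    exact ⟨St Δ, hTS, ex_St (by omega) hd, fun N hN h2 hn => (good_St h5 N h2 hN hn).2⟩
  have hadd : ∀ Δ : Set (Fin n), Nat.card Δ + Nat.card (Δᶜ : Set (Fin n)) = n := by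
    intro Δ
    have h1 := Set.ncard_add_ncard_compl Δ
    rw [Nat.card_eq_fintype_card, Fintype.card_fin] at h1
    exact h1
  rcases Nat.even_or_odd n with he | ho
  · -- even degree, at least 10
    have h10 : 10 ≤ n := by
      rcases he with ⟨k, hk⟩
      omega
    have hpos : 0 < n := by omega
    set x₀ : Fin n := ⟨0, hpos⟩ with hx₀
    by_cases htr : ∀ x, ∃ h ∈ T, h x₀ = x
    · -- transitive
      let S : Subgroup T := (MulAction.stabilizer (Perm (Fin n)) x₀).subgroupOf T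
      have hSm : ∀ h : T, h ∈ S ↔ (h : Perm (Fin n)) x₀ = x₀ := fun h => by
        rw [Subgroup.mem_subgroupOf, MulAction.mem_stabilizer_iff]
        rfl
      obtain ⟨t, ht⟩ := (IsPGroup.iff_card (p := 2) (G := T)).1 hT
      obtain ⟨s, hs⟩ := (IsPGroup.iff_card (p := 2) (G := S)).1 (hT.to_subgroup S)
      have hst : s < t := by
        have h1 : Nat.card S ∣ Nat.card T := Subgroup.card_subgroup_dvd_card S
        have h2 : Nat.card S ≤ Nat.card T := Nat.le_of_dvd Nat.card_pos h1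
        rw [hs, ht] at h2
        have h3 : s ≤ t := (Nat.pow_le_pow_iff_right (by norm_num)).1 h2
        refine lt_of_le_of_ne h3 fun h => ?_
        have h4 : Nat.card S = Nat.card T := by rw [hs, ht, h]
        have h5 : S = ⊤ := Subgroup.eq_top_of_card_eq S h4
        obtain ⟨h, hh, hhx⟩ := htr ⟨1, by omega⟩
        have h6 : (⟨h, hh⟩ : T) ∈ S := by rw [h5]; trivial
        rw [hSm] at h6
        have h7 : (⟨1, by omega⟩ : Fin n) = x₀ := hhx.symm.trans h6
        rw [hx₀, Fin.mk.injEq] at h7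
        omega
      have hpt : 2 ^ (t - 1) ∣ Nat.card T := by
        rw [ht]; exact Nat.pow_dvd_pow 2 (by omega)
      obtain ⟨M, hM, hSM⟩ := Sylow.exists_subgroup_card_pow_prime_le 2 hpt S hs (by omega)
      have hMi : M.index = 2 := by
        have h1 := M.card_mul_index
        rw [hM, ht] at h1
        have h2 : 2 ^ t = 2 ^ (t - 1) * 2 := by
          rw [← pow_succ]; congr 1; omega
        rw [h2] at h1
        exact Nat.eq_of_mul_eq_mul_left (by positivity) h1
      let Δ : Set (Fin n) := {x | ∃ m : T, m ∈ M ∧ (m : Perm (Fin n)) x₀ = x}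
      have hΔ : ∀ h : T, (h : Perm (Fin n)) x₀ ∈ Δ ↔ h ∈ M := by
        intro h
        constructor
        · rintro ⟨m, hm, hmx⟩
          have h1 : m⁻¹ * h ∈ S := by
            rw [hSm]
            change ((m : Perm (Fin n))⁻¹ * (h : Perm (Fin n))) x₀ = x₀
            rw [Perm.mul_apply, ← hmx]
            simp
          have h2 := M.mul_mem hm (hSM h1)
          rwa [mul_inv_cancel_left] at h2
        · exact fun hh => ⟨h, hh, rfl⟩
      have hgx : ∀ g : T, ∀ x, (g : Perm (Fin n)) x ∈ Δ ↔ (g ∈ M ↔ x ∈ Δ) := by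
        intro g x
        obtain ⟨h, hh, hhx⟩ := htr x
        have h1 : (g : Perm (Fin n)) x = ((g * ⟨h, hh⟩ : T) : Perm (Fin n)) x₀ := by
          rw [← hhx]; rfl
        have h2 : x = ((⟨h, hh⟩ : T) : Perm (Fin n)) x₀ := hhx.symm
        rw [h1, hΔ, Subgroup.mul_mem_iff_of_index_two hMi]
        conv_rhs => rw [h2, hΔ]
      have hTB : T ≤ Bl Δ := by
        intro g hg
        by_cases hgM : (⟨g, hg⟩ : T) ∈ M
        · refine Or.inl fun x => ?_
          have := hgx ⟨g, hg⟩ x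
          simpa [hgM] using this
        · refine Or.inr fun x => ?_
          have := hgx ⟨g, hg⟩ x
          simpa [hgM] using this
      obtain ⟨g, hgM⟩ : ∃ g : T, g ∉ M := by
        by_contra hc
        push Not at hc
        have h1 : M = ⊤ := Subgroup.eq_top_iff' M |>.2 hc
        rw [h1, Subgroup.index_top] at hMi
        omega
      have hsw : ∀ x, (g : Perm (Fin n)) x ∈ Δ ↔ x ∉ Δ := fun x => by
        have := hgx g x
        simpa [hgM] using this
      have hc1 : Nat.card Δ ≤ Nat.card (Δᶜ : Set (Fin n)) := by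
        refine Nat.card_le_card_of_injective (fun x : Δ => (⟨(g : Perm (Fin n)) x, fun h => (hsw _).1 h x.2⟩ :
          (Δᶜ : Set (Fin n)))) ?_
        intro x y hxy
        exact Subtype.ext ((g : Perm (Fin n)).injective (congrArg Subtype.val hxy))
      have hc2 : Nat.card (Δᶜ : Set (Fin n)) ≤ Nat.card Δ := by
        refine Nat.card_le_card_of_injective (fun x : (Δᶜ : Set (Fin n)) => (⟨(g : Perm (Fin n)) x, (hsw _).2 x.2⟩ :
          Δ)) ?_
        intro x y hxy
        exact Subtype.ext ((g : Perm (Fin n)).injective (congrArg Subtype.val hxy))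
      have hsum := hadd Δ
      have h5 : 5 ≤ Nat.card Δ := by omega
      have h5' : 5 ≤ Nat.card (Δᶜ : Set (Fin n)) := by omega
      have hd : ∃ d, d ∉ Δ := by
        have : Nonempty (Δᶜ : Set (Fin n)) := (Nat.card_pos_iff.1 (by omega)).1
        exact ⟨this.some.1, this.some.2⟩
      refine ⟨Bl Δ, hTB, ex_Bl (by omega) hd, fun N hN h2 hn => ?_⟩
      have := good_Bl h5 h5' N h2 hN hn
      omega
    · -- intransitive
      push Not at htr
      obtain ⟨y, hy⟩ := htr
      let Δ : Set (Fin n) := {x | ∃ h ∈ T, h x₀ = x}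
      have hyΔ : y ∉ Δ := by
        rintro ⟨h, hh, hhy⟩
        exact hy h hh hhy
      have hTΔ : T ≤ St Δ := by
        intro g hg x
        constructor
        · rintro ⟨h, hh, hhx⟩
          refine ⟨g⁻¹ * h, T.mul_mem (T.inv_mem hg) hh, ?_⟩
          rw [Perm.mul_apply, hhx]
          simp
        · rintro ⟨h, hh, hhx⟩
          exact ⟨g * h, T.mul_mem hg hh, by rw [Perm.mul_apply, hhx]⟩
      have hsum := hadd Δ
      rcases Nat.lt_or_ge (Nat.card Δ) 5 with h | h
      · refine key Δᶜ (by omega) ⟨x₀, ?_⟩ (by rw [St_compl]; exact hTΔ)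
        rw [Set.mem_compl_iff, not_not]
        exact ⟨1, T.one_mem, rfl⟩
      · exact key Δ h ⟨y, hyΔ⟩ hTΔ
  · -- odd degree: a fixed point
    have h1 := hT.card_modEq_card_fixedPoints (Fin n)
    have h2 : (MulAction.fixedPoints T (Fin n)).Nonempty := by
      rw [← Set.nonempty_coe_sort]
      by_contra hc
      rw [not_nonempty_iff] at hc
      have h3 : Nat.card (MulAction.fixedPoints T (Fin n)) = 0 := Nat.card_of_isEmpty
      have h4 : Nat.card (Fin n) = n := by rw [Nat.card_eq_fintype_card, Fintype.card_fin]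
      rw [h3, h4] at h1
      have : n % 2 = 0 := h1
      obtain ⟨k, hk⟩ := ho
      omega
    obtain ⟨x, hx⟩ := h2
    have hx' : ∀ g ∈ T, g x = x := fun g hg => hx ⟨g, hg⟩
    have hsum := hadd {x}
    have hone : Nat.card ({x} : Set (Fin n)) = 1 := by simp
    refine key ({x}ᶜ) (by omega) ⟨x, by simp⟩ ?_
    rw [St_compl]
    intro g hg y
    rw [Set.mem_singleton_iff, Set.mem_singleton_iff]
    constructor
    · intro h
      exact g.injective (h.trans (hx' g hg).symm)
    · rintro rfl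
      exact hx' g hg

end Cfsg.Agent.Omega.ML.AltPerm

end

section


/-!
# (ML): the reduction to one component, for arbitrary `A` (#16589 of helper571, #16602 of helper270); K-free

Input: the abstract FF theorem `FFBr.AStmt` (proved in `FFBr.Final`).

* `Fr.nmax` : `T` lies in at least two maximal subgroups of `H`;
* `Fr.A_le_normalizer'` : `A` normalises the components which it does not centralise;
* `Fr.exists_comp''` : `H = LA`, `L ⊴ H` quasisimple, `C_H(L) = Z(H) ≤ L` of odd order.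
-/

set_option autoImplicit false

namespace Cfsg.Agent.Omega.ML.MinFrame

open Subgroup Cfsg Cfsg.Agent.ClassTwoFusion.Quad Cfsg.Agent.Omega.NOThree.NoOver Cfsg.Agent.Omega.ML.CD
open Cfsg.Agent.ZN Cfsg.Agent.MinSimple.VModule
open Cfsg.Agent.SignalizersComponents.Components Cfsg.Agent.SignalizersComponents.CompBasic

universe u v

/-- the action on the lifts -/
@[reducible] def liftAct (H : Type u) [Group H] (M : Type v) [Group M] [MulDistribMulAction H M] :
    MulDistribMulAction (ULift.{v} H) (ULift.{u} M) where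
  smul g m := ⟨g.down • m.down⟩
  one_smul m := ULift.ext _ _ (one_smul H m.down)
  mul_smul g k m := ULift.ext _ _ (mul_smul g.down k.down m.down)
  smul_mul g a b := ULift.ext _ _ (smul_mul' g.down a.down b.down)
  smul_one g := ULift.ext _ _ (smul_one g.down)

/-- central by 2-group: the normal Sylow 2-subgroup -/
theorem mem_of_two {X : Type*} [Group X] [Finite X] {D P : Subgroup X} (hD : D ≤ center X)
    (h2 : ∀ x : X, ∃ k : ℕ, x ^ 2 ^ k ∈ D) (hP : IsPGroup 2 P) (hPi : ¬ 2 ∣ P.index) {x : X} {k : ℕ}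
    (hx : x ^ 2 ^ k = 1) : x ∈ P := by
  have : Fact (Nat.Prime 2) := ⟨Nat.prime_two⟩
  have hDn : D.Normal := ⟨fun d hd g => by
    rw [mem_center_iff.1 (hD hd) g, mul_inv_cancel_right]
    exact hd⟩
  have h3 : IsPGroup 2 (X ⧸ D) := by
    intro q
    obtain ⟨y, rfl⟩ := QuotientGroup.mk_surjective q
    obtain ⟨j, hj⟩ := h2 y
    exact ⟨j, by rw [← QuotientGroup.mk_pow]; exact (QuotientGroup.eq_one_iff _).2 hj⟩
  have h4 : Group.IsNilpotent (X ⧸ D) := h3.isNilpotent
  have h5 : Group.IsNilpotent X := Subgroup.isNilpotent_of_ker_le_center (QuotientGroup.mk' D) (by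
    rw [QuotientGroup.ker_mk']
    exact hD)
  have h6 : ((hP.toSylow hPi : Sylow 2 X) : Subgroup X).Normal :=
    (Group.isNilpotent_of_finite_tfae.out 0 3 rfl rfl).1 h5 2 this _
  have h7 : P.Normal := h6
  refine mem_of_pow_mem (m := P.index) (n := 2 ^ k) ?_ (P.pow_index_mem x) (hx ▸ one_mem _)
  exact Nat.Coprime.pow_right _ ((Nat.prime_two.coprime_iff_not_dvd.2 hPi).symm)

namespace Fr

variable {K : Frame.Cls.{u}} {p : Prop} {H : Type u} [Group H] [Finite H] {M : Type v} [Group M] [Finite M]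
  [MulDistribMulAction H M] {T Q A : Subgroup H} {z : M}

omit [Finite H] [Finite M] in
theorem exists_moves (h : Fr K p H M T Q A z) : ∃ g : H, g • z ≠ z := by
  by_contra hc
  push Not at hc
  refine h.ne ((Subgroup.eq_bot_iff_forall A).2 fun a _ => h.faithful a fun m => ?_)
  have h1 : orb (⊤ : Subgroup H) z ≤ _root_.Subgroup.closure {z} := orb_le fun g _ => by
    rw [hc g]
    exact _root_.Subgroup.subset_closure rfl
  rw [h.gen] at h1
  obtain ⟨n, rfl⟩ := mem_closure_singleton.1 (h1 (mem_top m))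
  rw [smul_zpow', hc a]

omit [Finite H] [Finite M] in
/-- over-offender -/
theorem index_lt (h : Fr K p H M T Q A z) : (cv M (A : Set H)).index < Nat.card A := by
  have h1 := h.strict ⊥ (bot_lt_iff_ne_bot.2 h.ne)
  rw [fab_bot, fab, pow_one, pow_one, pow_one, ← Subgroup.index_mul_card (cv M (A : Set H))] at h1
  exact Nat.lt_of_mul_lt_mul_right h1

/-- **`T` lies in at least two maximal subgroups** (FF0) -/
theorem nmax (hFF : FFBr.AStmt.{max u v}) (h : Fr K p H M T Q A z) :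
    ¬ ∃ N : Subgroup H, N ≠ ⊤ ∧ ∀ R : Subgroup H, T ≤ R → R ≠ ⊤ → R ≤ N := by
  rintro ⟨N, hN, hmax⟩
  have hTne : T ≠ ⊤ := fun h1 => h.nontriv (h1 ▸ h.two)
  have hTN : T ≤ N := hmax T le_rfl hTne
  let _ := liftAct H M
  let e : ULift.{v} H →* H := (MulEquiv.ulift : ULift.{v} H ≃* H).toMonoidHom
  have hes : Function.Surjective e := (MulEquiv.ulift : ULift.{v} H ≃* H).surjective
  have hei : Function.Injective e := (MulEquiv.ulift : ULift.{v} H ≃* H).injective
  let f : ULift.{u} M →* M := (MulEquiv.ulift : ULift.{u} M ≃* M).toMonoidHom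
  have hfs : Function.Surjective f := (MulEquiv.ulift : ULift.{u} M ≃* M).surjective
  have hfi : Function.Injective f := (MulEquiv.ulift : ULift.{u} M ≃* M).injective
  have hsm : ∀ (g : ULift.{v} H) (m : ULift.{u} M), f (g • m) = e g • f m := fun _ _ => rfl
  have hT2 : IsPGroup 2 (T.comap e) := h.two.comap_of_injective e hei
  have hTi : ¬ 2 ∣ (T.comap e).index := by
    rw [index_comap_of_surjective T hes]
    exact h.odd
  obtain ⟨g0, hg0⟩ := h.exists_moves
  have abs : FFBr.Abs (ULift.{v} H) (ULift.{u} M) (hT2.toSylow hTi) (N.comap e) :=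
    { comm := fun v w => hfi (comm_of_sq h.sq _ _)
      sq := fun v => hfi (h.sq _)
      faith := fun x hx => hei (h.faithful _ fun m => by
        obtain ⟨m, rfl⟩ := hfs m
        rw [← hsm, hx])
      core := by
        intro B hB hB2
        have h1 := h.o2_eq_bot (hB.map e hes) (hB2.map e)
        rwa [Subgroup.map_eq_bot_iff_of_injective _ hei] at h1
      TM := comap_mono hTN
      Mne := fun h1 => hN (by
        rw [eq_top_iff]
        intro x _
        obtain ⟨y, rfl⟩ := hes x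
        have h2 : y ∈ N.comap e := h1 ▸ mem_top y
        exact h2)
      max := by
        intro B hB
        by_cases hBt : B.map e = ⊤
        · right
          rw [eq_top_iff]
          intro x _
          have h2 : e x ∈ B.map e := hBt ▸ mem_top _
          obtain ⟨y, hy, hyx⟩ := h2
          exact hei hyx ▸ hy
        · left
          have h1 : T ≤ B.map e := by
            intro t ht
            obtain ⟨y, rfl⟩ := hes t
            exact ⟨y, hB ht, rfl⟩
          intro x hx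
          exact hmax _ h1 hBt ⟨x, hx, rfl⟩
      gen := by
        intro W hW
        have h1 : orb (⊤ : Subgroup H) z ≤ W.map f := orb_le fun g _ => by
          obtain ⟨g, rfl⟩ := hes g
          obtain ⟨y, hy⟩ := hfs z
          refine ⟨g • y, hW y (fun t ht => hfi ?_) g, ?_⟩
          · rw [hsm, hy]
            exact h.fixT _ ht
          · rw [hsm, hy]
        rw [h.gen] at h1
        rw [eq_top_iff]
        intro w _
        obtain ⟨y, hy, hyw⟩ := h1 (mem_top (f w))
        exact hfi hyw ▸ hy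
      nfix := by
        obtain ⟨g, rfl⟩ := hes g0
        obtain ⟨y, hy⟩ := hfs z
        refine ⟨y, fun t ht => hfi ?_, g, fun h1 => hg0 ?_⟩
        · rw [hsm, hy]
          exact h.fixT _ ht
        · rw [← hy, ← hsm, h1] }
  have hA1 : ∀ a ∈ A.comap e, ∀ b ∈ A.comap e, a * b = b * a := fun a ha b hb => hei (h.A_comm ha hb)
  have hA2 : ∀ a ∈ A.comap e, a * a = 1 := fun a ha => hei (h.Asq _ ha)
  have hcard : Nat.card (A.comap e) = Nat.card A := by
    have h1 : (A.comap e).map e = A := map_comap_eq_self_of_surjective hes A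
    rw [← card_map_of_injective hei, h1]
  have hidx : (cv (ULift.{u} M) ((A.comap e : Subgroup (ULift.{v} H)) : Set (ULift.{v} H))).index =
      (cv M (A : Set H)).index := by
    rw [← index_comap_of_surjective (cv M (A : Set H)) hfs]
    congr 1
    ext m
    constructor
    · intro hm a ha
      obtain ⟨b, rfl⟩ := hes a
      rw [← hsm, hm b ha]
    · intro hm a ha
      exact hfi (by rw [hsm]; exact hm _ ha)
  have hlt := h.index_lt
  have hne : A.comap e ≠ ⊥ := fun h1 => h.ne (by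
    have h2 : (A.comap e).map e = A := map_comap_eq_self_of_surjective hes A
    rw [← h2, h1, Subgroup.map_bot])
  have hno := (hFF _ _ _ _ abs ⟨A.comap e, hA1, hA2, hne, by rw [hidx, hcard]; exact hlt.le⟩).1 (A.comap e) hA1 hA2
  rw [hidx, hcard] at hno
  omega

section comp

variable {L : Subgroup H}

/-- **`A` normalises `L`** -/
theorem A_le_normalizer' (h : Fr K p H M T Q A z)
    (hm : ¬ ∃ N : Subgroup H, N ≠ ⊤ ∧ ∀ R : Subgroup H, T ≤ R → R ≠ ⊤ → R ≤ N) (hL : IsComponent L)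
    (hLA : ¬ A ≤ centralizer (L : Set H)) : A ≤ normalizer (L : Set H) := by
  intro a ha
  by_contra hcon
  let L₂ : Subgroup H := L.map (MulAut.conj a).toMonoidHom
  have hL₂ : IsComponent L₂ := isComponent_conj a hL
  have hne : L ≠ L₂ := fun h1 => hcon (mem_normalizer_of_map h1.symm)
  have hcc := component_le_centralizer_of_ne hL hL₂ hne
  have hcomm : ∀ x ∈ L, ∀ y ∈ L₂, x * y = y * x := fun x hx y hy => (mem_centralizer_iff.1 (hcc hx) y hy).symm
  have hconj : ∀ x ∈ L, a * x * a⁻¹ ∈ L₂ := fun x hx => ⟨x, hx, rfl⟩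
  have hDc : ∀ x ∈ L, ∀ d ∈ L ⊓ L₂, x * d = d * x := fun x hx d hd => hcomm x hx d hd.2
  have hrel := not_dvd_relIndex_of_subnormal h.two h.odd hL.1
  let T₀ : Subgroup H := tcl T (T ⊓ L)
  have hT₀T : T₀ ≤ T := tcl_le fun t ht => by
    rintro _ ⟨x, hx, rfl⟩
    exact T.mul_mem (T.mul_mem ht hx.1) (T.inv_mem ht)
  have hT₀ne : T₀ ≠ ⊥ := by
    intro h1
    have h2 : T ⊓ L = ⊥ := le_bot_iff.1 (h1 ▸ le_tcl T (T ⊓ L))
    exact h.not_odd hL.1 hLA (odd_of_relIndex hrel h2)
  apply hm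
  refine ⟨normalizer (T₀ : Set H), fun h1 => hT₀ne (h.o2_eq_bot (normalizer_eq_top_iff.1 h1) (h.two.to_le hT₀T)),
    fun R hTR hR => ?_⟩
  have hAR := h.le_o2 hTR hR
  -- the 2-elements of `R ∩ L` are in `T`
  have key2 : ∀ x ∈ R ⊓ L, ∀ k : ℕ, x ^ 2 ^ k = 1 → x ∈ T := by
    intro x hx k hk
    have h1 : (⟨x, hx⟩ : (R ⊓ L : Subgroup H)) ∈ (T.subgroupOf (R ⊓ L)) := by
      refine mem_of_two (D := (L ⊓ L₂).subgroupOf (R ⊓ L)) (k := k) ?_ ?_
        (h.two.comap_of_injective _ (R ⊓ L).subtype_injective) ?_ (Subtype.ext hk)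
      · intro d hd
        rw [mem_center_iff]
        exact fun y => Subtype.ext (hDc y y.2.2 d hd)
      · intro y
        have hy := y.2
        have h2 : (y : H)⁻¹ * (a * y * a⁻¹) ∈ o2 R := by
          have h1 := conj_mem_of_le (le_normalizer_o2 R) (R.inv_mem hy.1) (hAR ha)
          rw [inv_inv] at h1
          have h2 := Subgroup.mul_mem _ h1 (Subgroup.inv_mem _ (hAR ha))
          have e : (y : H)⁻¹ * a * y * a⁻¹ = (y : H)⁻¹ * (a * y * a⁻¹) := by group
          rwa [e] at h2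
        obtain ⟨j, hj⟩ := o2_isPGroup R ⟨_, h2⟩
        have hj1 : ((y : H)⁻¹ * (a * y * a⁻¹)) ^ 2 ^ j = 1 := congrArg Subtype.val hj
        have hcn : Commute (y : H)⁻¹ (a * y * a⁻¹) := Commute.inv_left (hcomm y hy.2 _ (hconj y hy.2))
        rw [hcn.mul_pow, inv_pow, inv_mul_eq_one] at hj1
        have hj2 : (y : H) ^ 2 ^ j ∈ L₂ := by
          rw [hj1]
          exact L₂.pow_mem (hconj y hy.2) _
        exact ⟨j, L.pow_mem hy.2 _, hj2⟩
      · intro h3
        apply hrel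
        rw [← inf_relIndex_right, ← relIndex_mul_relIndex (T ⊓ L) (R ⊓ L) L (inf_le_inf_right L hTR) inf_le_right]
        have h4 : T.relIndex (R ⊓ L) = (T ⊓ L).relIndex (R ⊓ L) := by
          rw [← inf_relIndex_right T, ← inf_assoc, inf_eq_left.2 hTR]
        exact (h4 ▸ h3 : 2 ∣ (T ⊓ L).relIndex (R ⊓ L)).trans (Dvd.intro _ rfl)
    exact h1
  -- `R ∩ E` normalises `T₀`
  have key4 : ∀ e ∈ R, e ∈ tcl T L → e ∈ normalizer (T₀ : Set H) := by
    intro e heR heE
    change e ∈ normalizer (tcl T (T ⊓ L) : Set H)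
    apply mem_normalizer_of_map
    rw [tcl, Subgroup.map_iSup]
    refine iSup_congr fun t => ?_
    apply map_conj_eq_of_mem
    have hen : ∀ e ∈ tcl T L, e ∈ normalizer ((L.map (MulAut.conj (t : H)).toMonoidHom : Subgroup H) : Set H) :=
      fun e he => layer_le_normalizer_component (isComponent_conj (t : H) hL) (tcl_le_layer hL he)
    have hstep : ∀ e ∈ R ⊓ tcl T L, ∀ x ∈ (T ⊓ L).map (MulAut.conj (t : H)).toMonoidHom,
        e * x * e⁻¹ ∈ (T ⊓ L).map (MulAut.conj (t : H)).toMonoidHom := by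
      rintro e ⟨he1, he2⟩ x ⟨y, hy, rfl⟩
      have hx1 : (t : H) * y * (t : H)⁻¹ ∈ L.map (MulAut.conj (t : H)).toMonoidHom := ⟨y, hy.2, rfl⟩
      have hx2 : (t : H) * y * (t : H)⁻¹ ∈ R := R.mul_mem (R.mul_mem (hTR t.2) (hTR hy.1)) (R.inv_mem (hTR t.2))
      obtain ⟨w, hw, hwe⟩ := (mem_normalizer_iff.1 (hen e he2) _).1 hx1
      have hwe' : (t : H) * w * (t : H)⁻¹ = e * (t * y * (t : H)⁻¹) * e⁻¹ := hwe
      have hwR : w ∈ R := by
        have h1 : w = (t : H)⁻¹ * (e * (t * y * (t : H)⁻¹) * e⁻¹) * t := by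
          rw [← hwe']
          group
        rw [h1]
        exact R.mul_mem (R.mul_mem (R.inv_mem (hTR t.2)) (R.mul_mem (R.mul_mem he1 hx2) (R.inv_mem he1))) (hTR t.2)
      obtain ⟨k, hk⟩ := h.two ⟨y, hy.1⟩
      have hk1 : y ^ 2 ^ k = 1 := congrArg Subtype.val hk
      have hwk : w ^ 2 ^ k = 1 := by
        have h1 : w = ((t : H)⁻¹ * e * t) * y * ((t : H)⁻¹ * e * t)⁻¹ := by
          have h2 : w = (t : H)⁻¹ * (e * (t * y * (t : H)⁻¹) * e⁻¹) * t := by
            rw [← hwe']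
            group
          rw [h2]
          group
        rw [h1, conj_pow, hk1, mul_one, mul_inv_cancel]
      have hwT := key2 w ⟨hwR, hw⟩ k hwk
      exact ⟨w, ⟨hwT, hw⟩, hwe⟩
    rw [mem_normalizer_iff]
    intro x
    refine ⟨hstep e ⟨heR, heE⟩ x, fun hx => ?_⟩
    have h1 := hstep e⁻¹ (Subgroup.inv_mem _ ⟨heR, heE⟩) _ hx
    have e1 : e⁻¹ * (e * x * e⁻¹) * e⁻¹⁻¹ = x := by group
    rwa [e1] at h1
  intro r hr
  have h1 : r ∈ tcl T L ⊔ T := (h.sup_eq_top hL hLA) ▸ mem_top r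
  obtain ⟨e, he, t, ht, rfl⟩ := sup_eq_mul (le_normalizer_tcl T L) h1
  have heR : e ∈ R := by
    have := R.mul_mem hr (R.inv_mem (hTR ht))
    rwa [mul_inv_cancel_right] at this
  exact Subgroup.mul_mem _ (key4 e heR he) (le_normalizer_tcl T (T ⊓ L) ht)

/-- **Summary, arbitrary `A`** -/
theorem exists_comp'' (hFF : FFBr.AStmt.{max u v}) (h : Fr K p H M T Q A z) :
    ∃ L : Subgroup H, L.Normal ∧ IsQuasisimple L ∧ L ⊔ A = ⊤ ∧ centralizer (L : Set H) = center H ∧
      center H ≤ L ∧ Odd (Nat.card (center H)) ∧ layer H = L :=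
  h.exists_comp' fun _ hL hLA => h.A_le_normalizer' (h.nmax hFF) hL hLA

end comp

end Fr

end Cfsg.Agent.Omega.ML.MinFrame

end

private theorem dce_fafea49a285b : _root_.True := by
  try have : _root_.True := by simp only [_root_.Cfsg.Agent.Omega.ML.AltPerm.C3.eq_1]
  try have : _root_.True := by simp only [_root_.Cfsg.Agent.Omega.ML.MinFrame.tcl.eq_1]
  exact _root_.True.intro
end
end
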