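import Mathlib.GroupTheory.SpecificGroups.Alternating
import Mathlib.Tactic
import Cfsg.Agent.Omega.KFacts_m3
import Cfsg.Agent.StandardComponent.AltAut
import Cfsg.Agent.Mrg.Omega.NOThree.NoOver
import Cfsg.Agent.Mrg.Omega.ML.MinIrr
import Cfsg.Agent.S0252
import Cfsg.Agent.ClassTwoFusion.Quad
import Cfsg.Agent.Mrg.Omega.EH3.NodeHom
import Cfsg.Agent.Omega.TwoF.Rk
import Cfsg.Agent.Omega.Lie.HeisCover
import Cfsg.Agent.FastGrp
import Cfsg.Agent.Prune
set_option linter.all false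

section
prune_inst 0x7fbcfefbaff88ddeffff7e7faedddffc3894dfffefdff94bffe1ebffcbdf036709e5fb8d0de458fe8ef6e03410b87813f97e8efeeb29dc7ffffd5ff45ffbee1fe5ffbd0c51d7b8341ffc6ff79bf077ce7f3fffffffffffffffffffffffffffffffbfffffffff

-- part: Mrg/Omega/TwoF/AltRk
section
prune_inst 0x400000000030010000000051200000034000001000000000000000040080002200002200000000400100802000000000813100000020000000a00000000000000002a000000000000000086003083180c00000000000000000000000000000004000000000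
set_option linter.all false
open scoped Cfsg.Agent.FastGrp

-- merged: Cfsg.Agent.Omega.TwoF.AltCyc
section

/-!
# Three-cycles in the alternating group of a finite type

`C a b c` is the cycle `a → b → c → a` as an element of `alternatingGroup Ω`; `Sup S g`: `g` is supported in `S`.

* `conj`, `C_rot`, `C_sq`, `C_inv`;
* `exists_move`: `A_S` is transitive on ordered triples, `|S| ≥ 5`;
* `fixed_of_cycles`: a point fixed by all 3-cycles in `S` is fixed by `A_S`.
-/

set_option autoImplicit false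
set_option linter.unusedSectionVars false

namespace Cfsg.Agent.Omega.TwoF.AltCyc

open Equiv Equiv.Perm

universe u w

variable {Ω : Type u} [DecidableEq Ω] [Fintype Ω]

/-- the cycle `a → b → c → a` (junk for equal entries) -/
def C (a b c : Ω) : alternatingGroup Ω :=
  if h : a ≠ b ∧ b ≠ c then ⟨swap a b * swap b c, by
    rw [mem_alternatingGroup, Perm.sign_mul, sign_swap h.1, sign_swap h.2]; decide⟩ else 1

/-- supported in `S` -/
def Sup (S : Finset Ω) (g : alternatingGroup Ω) : Prop := ∀ x, x ∉ S → (g : Perm Ω) x = x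

theorem C_coe {a b c : Ω} (h1 : a ≠ b) (h2 : b ≠ c) : (C a b c : Perm Ω) = swap a b * swap b c := by
  rw [C, dif_pos ⟨h1, h2⟩]

/-- `a`, `b`, `c` distinct -/
def D3 (a b c : Ω) : Prop := a ≠ b ∧ a ≠ c ∧ b ≠ c

theorem D3.rot {a b c : Ω} (h : D3 a b c) : D3 b c a := ⟨h.2.2, h.1.symm, h.2.1.symm⟩

theorem D3.swap {a b c : Ω} (h : D3 a b c) : D3 a c b := ⟨h.2.1, h.1, h.2.2.symm⟩

theorem D3.swap' {a b c : Ω} (h : D3 a b c) : D3 b a c := ⟨h.1.symm, h.2.2, h.2.1⟩

theorem D3.map {a b c : Ω} (h : D3 a b c) (g : Perm Ω) : D3 (g a) (g b) (g c) :=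
  ⟨g.injective.ne h.1, g.injective.ne h.2.1, g.injective.ne h.2.2⟩

theorem C_a {a b c : Ω} (h : D3 a b c) : (C a b c : Perm Ω) a = b := by
  rw [C_coe h.1 h.2.2, Perm.mul_apply, swap_apply_of_ne_of_ne h.1 h.2.1, swap_apply_left]

theorem C_b {a b c : Ω} (h : D3 a b c) : (C a b c : Perm Ω) b = c := by
  rw [C_coe h.1 h.2.2, Perm.mul_apply, swap_apply_left, swap_apply_of_ne_of_ne h.2.1.symm h.2.2.symm]

theorem C_c {a b c : Ω} (h : D3 a b c) : (C a b c : Perm Ω) c = a := by
  rw [C_coe h.1 h.2.2, Perm.mul_apply, swap_apply_right, swap_apply_right]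

theorem C_of_ne {a b c x : Ω} (ha : x ≠ a) (hb : x ≠ b) (hc : x ≠ c) : (C a b c : Perm Ω) x = x := by
  by_cases h : a ≠ b ∧ b ≠ c
  · rw [C_coe h.1 h.2, Perm.mul_apply, swap_apply_of_ne_of_ne hb hc, swap_apply_of_ne_of_ne ha hb]
  · rw [C, dif_neg h]; rfl

theorem conj (g : alternatingGroup Ω) (a b c : Ω) :
    g * C a b c * g⁻¹ = C ((g : Perm Ω) a) ((g : Perm Ω) b) ((g : Perm Ω) c) := by
  by_cases h : a ≠ b ∧ b ≠ c
  · apply Subtype.ext
    rw [C_coe ((g : Perm Ω).injective.ne h.1) ((g : Perm Ω).injective.ne h.2), Equiv.swap_apply_apply,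
      Equiv.swap_apply_apply]
    show (g : Perm Ω) * (C a b c : Perm Ω) * (g : Perm Ω)⁻¹ = _
    rw [C_coe h.1 h.2]
    group
  · have h' : ¬ ((g : Perm Ω) a ≠ (g : Perm Ω) b ∧ (g : Perm Ω) b ≠ (g : Perm Ω) c) := by
      simpa using h
    rw [C, dif_neg h, C, dif_neg h']
    simp

theorem mul_C (g : alternatingGroup Ω) (a b c : Ω) :
    g * C a b c = C ((g : Perm Ω) a) ((g : Perm Ω) b) ((g : Perm Ω) c) * g := by
  rw [← conj]; group

theorem C_rot {a b c : Ω} (h : D3 a b c) : C b c a = C a b c := by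
  apply Subtype.ext
  ext x
  by_cases ha : x = a
  · subst ha; rw [C_a h, C_c h.rot]
  by_cases hb : x = b
  · subst hb; rw [C_b h, C_a h.rot]
  by_cases hc : x = c
  · subst hc; rw [C_c h, C_b h.rot]
  rw [C_of_ne ha hb hc, C_of_ne hb hc ha]

theorem C_sq {a b c : Ω} (h : D3 a b c) : C a b c * C a b c = C a c b := by
  apply Subtype.ext
  ext x
  show (C a b c : Perm Ω) ((C a b c : Perm Ω) x) = _
  by_cases ha : x = a
  · subst ha; rw [C_a h, C_b h, C_a h.swap]
  by_cases hb : x = b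
  · subst hb; rw [C_b h, C_c h, C_c h.swap]
  by_cases hc : x = c
  · subst hc; rw [C_c h, C_a h, C_b h.swap]
  rw [C_of_ne ha hb hc, C_of_ne ha hb hc, C_of_ne ha hc hb]

theorem C_mul_inv {a b c : Ω} (h : D3 a b c) : C a b c * C a c b = 1 := by
  apply Subtype.ext
  ext x
  show (C a b c : Perm Ω) ((C a c b : Perm Ω) x) = x
  by_cases ha : x = a
  · subst ha; rw [C_a h.swap, C_c h]
  by_cases hb : x = b
  · subst hb; rw [C_c h.swap, C_a h]
  by_cases hc : x = c
  · subst hc; rw [C_b h.swap, C_b h]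
  rw [C_of_ne ha hc hb, C_of_ne ha hb hc]

theorem C_inv {a b c : Ω} (h : D3 a b c) : (C a b c)⁻¹ = C a c b := by
  rw [inv_eq_iff_mul_eq_one]; exact C_mul_inv h

theorem Sup.mono {S T : Finset Ω} (h : S ⊆ T) {g : alternatingGroup Ω} (hg : Sup S g) : Sup T g :=
  fun x hx => hg x fun h' => hx (h h')

theorem sup_univ (g : alternatingGroup Ω) : Sup Finset.univ g := fun x hx => absurd (Finset.mem_univ x) hx

theorem Sup.one {S : Finset Ω} : Sup S (1 : alternatingGroup Ω) := fun _ _ => rfl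

theorem Sup.mul {S : Finset Ω} {g h : alternatingGroup Ω} (hg : Sup S g) (hh : Sup S h) : Sup S (g * h) := by
  intro x hx
  show (g : Perm Ω) ((h : Perm Ω) x) = x
  rw [hh x hx, hg x hx]

theorem Sup.inv {S : Finset Ω} {g : alternatingGroup Ω} (hg : Sup S g) : Sup S g⁻¹ := by
  intro x hx
  show (g : Perm Ω)⁻¹ x = x
  rw [Perm.inv_eq_iff_eq, hg x hx]

theorem Sup.mem {S : Finset Ω} {g : alternatingGroup Ω} (hg : Sup S g) {x : Ω} (hx : x ∈ S) :
    (g : Perm Ω) x ∈ S := by
  by_contra h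
  have := hg _ h
  rw [(g : Perm Ω).injective.eq_iff] at this
  rw [this] at h
  exact h hx

theorem sup_C {S : Finset Ω} {a b c : Ω} (ha : a ∈ S) (hb : b ∈ S) (hc : c ∈ S) : Sup S (C a b c) := by
  intro x hx
  exact C_of_ne (fun h => hx (h ▸ ha)) (fun h => hx (h ▸ hb)) (fun h => hx (h ▸ hc))

/-- elements supported off `{a, b, c}` commute with `C a b c` -/
theorem comm_C {S : Finset Ω} {g : alternatingGroup Ω} (hg : Sup S g) {a b c : Ω} (ha : a ∉ S) (hb : b ∉ S)
    (hc : c ∉ S) : g * C a b c = C a b c * g := by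
  rw [mul_C, hg a ha, hg b hb, hg c hc]

/-! ### Moving triples -/

/-- an element of `S` different from the given ones -/
theorem exists_not_mem {S : Finset Ω} (T : Finset Ω) (h : T.card < S.card) : ∃ x ∈ S, x ∉ T := by
  by_contra hn
  push Not at hn
  exact absurd (Finset.card_le_card fun x hx => hn x hx) (by omega)

theorem exists_move {S : Finset Ω} (hS : 5 ≤ S.card) {a b c a' b' c' : Ω} (h : D3 a b c) (h' : D3 a' b' c')
    (ha : a ∈ S) (hb : b ∈ S) (hc : c ∈ S) (ha' : a' ∈ S) (hb' : b' ∈ S) (hc' : c' ∈ S) :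
    ∃ g : alternatingGroup Ω, Sup S g ∧ (g : Perm Ω) a = a' ∧ (g : Perm Ω) b = b' ∧ (g : Perm Ω) c = c' := by
  classical
  have swS : ∀ x ∈ S, ∀ y ∈ S, ∀ z, z ∉ S → swap x y z = z := fun x hx y hy z hz =>
    swap_apply_of_ne_of_ne (fun e => hz (e ▸ hx)) (fun e => hz (e ▸ hy))
  have swM : ∀ x ∈ S, ∀ y ∈ S, ∀ z ∈ S, swap x y z ∈ S := by
    intro x hx y hy z hz
    rw [swap_apply_def]
    split_ifs <;> assumption
  obtain ⟨g, hg, e1, e2, e3⟩ : ∃ g : Perm Ω, (∀ x, x ∉ S → g x = x) ∧ g a = a' ∧ g b = b' ∧ g c = c' := by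
    let b₁ := swap a a' b
    let c₁ := swap a a' c
    let c₂ := swap b₁ b' c₁
    have hb1 : b₁ ≠ a' := by
      intro e
      have : swap a a' b = swap a a' a := by rw [swap_apply_left]; exact e
      exact h.1 ((swap a a').injective this).symm
    have hc1 : c₁ ≠ a' := by
      intro e
      have : swap a a' c = swap a a' a := by rw [swap_apply_left]; exact e
      exact h.2.1 ((swap a a').injective this).symm
    have hbc1 : c₁ ≠ b₁ := by
      intro e
      exact h.2.2 ((swap a a').injective e).symm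
    have hc2 : c₂ ≠ b' := by
      intro e
      have : swap b₁ b' c₁ = swap b₁ b' b₁ := by rw [swap_apply_left]; exact e
      exact hbc1 ((swap b₁ b').injective this)
    have hc2' : c₂ ≠ a' := by
      intro e
      have : swap b₁ b' c₁ = swap b₁ b' a' := by
        rw [swap_apply_of_ne_of_ne hb1.symm h'.1]; exact e
      exact hc1 ((swap b₁ b').injective this)
    have m1 : b₁ ∈ S := swM _ ha _ ha' _ hb
    have m2 : c₁ ∈ S := swM _ ha _ ha' _ hc
    have m3 : c₂ ∈ S := swM _ m1 _ hb' _ m2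
    refine ⟨swap c₂ c' * swap b₁ b' * swap a a', ?_, ?_, ?_, ?_⟩
    · intro x hx
      rw [Perm.mul_apply, Perm.mul_apply, swS _ ha _ ha' _ hx, swS _ m1 _ hb' _ hx, swS _ m3 _ hc' _ hx]
    · rw [Perm.mul_apply, Perm.mul_apply, swap_apply_left, swap_apply_of_ne_of_ne hb1.symm h'.1,
        swap_apply_of_ne_of_ne hc2'.symm h'.2.1]
    · rw [Perm.mul_apply, Perm.mul_apply]
      show swap c₂ c' (swap b₁ b' b₁) = b'
      rw [swap_apply_left, swap_apply_of_ne_of_ne hc2.symm h'.2.2]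
    · rw [Perm.mul_apply, Perm.mul_apply]
      show swap c₂ c' c₂ = c'
      rw [swap_apply_left]
  rcases Int.units_eq_one_or (sign g) with hs | hs
  · exact ⟨⟨g, mem_alternatingGroup.mpr hs⟩, hg, e1, e2, e3⟩
  · obtain ⟨d, hd, hd'⟩ := exists_not_mem (S := S) {a', b', c'} (lt_of_le_of_lt (Finset.card_le_three) (by omega))
    obtain ⟨e, he, he'⟩ := exists_not_mem (S := S) {a', b', c', d} (lt_of_le_of_lt (Finset.card_le_four) (by omega))
    simp only [Finset.mem_insert, Finset.mem_singleton, not_or] at hd' he'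
    refine ⟨⟨swap d e * g, ?_⟩, ?_, ?_, ?_, ?_⟩
    · rw [mem_alternatingGroup, Perm.sign_mul, hs, sign_swap (Ne.symm he'.2.2.2)]; decide
    · intro x hx
      show swap d e (g x) = x
      rw [hg x hx, swS _ hd _ he _ hx]
    · show swap d e (g a) = a'
      rw [e1, swap_apply_of_ne_of_ne (Ne.symm hd'.1) (Ne.symm he'.1)]
    · show swap d e (g b) = b'
      rw [e2, swap_apply_of_ne_of_ne (Ne.symm hd'.2.1) (Ne.symm he'.2.1)]
    · show swap d e (g c) = c'
      rw [e3, swap_apply_of_ne_of_ne (Ne.symm hd'.2.2) (Ne.symm he'.2.2.1)]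

/-! ### Generation by 3-cycles -/

/-- induction: the elements supported in `S` are products of 3-cycles in `S` -/
theorem sup_induction {S : Finset Ω} {P : alternatingGroup Ω → Prop} (h1 : P 1)
    (hC : ∀ a ∈ S, ∀ b ∈ S, ∀ c ∈ S, D3 a b c → ∀ g, Sup S g → P g → P (C a b c * g))
    {g : alternatingGroup Ω} (hg : Sup S g) : P g := by
  classical
  have key : ∀ (n : ℕ) (T : Finset Ω) (g : alternatingGroup Ω), T ⊆ S → T.card ≤ n → Sup T g → P g := by
    intro n
    induction n with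
    | zero =>
      intro T g _ hT hg
      have hT' : T = ∅ := Finset.card_eq_zero.mp (by omega)
      subst hT'
      have : g = 1 := by
        apply Subtype.ext
        ext x
        exact hg x (Finset.notMem_empty x)
      rw [this]; exact h1
    | succ n ih =>
      intro T g hTS hT hg
      by_cases hg1 : ∀ x, (g : Perm Ω) x = x
      · have : g = 1 := by
          apply Subtype.ext
          ext x
          exact hg1 x
        rw [this]; exact h1
      push Not at hg1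
      obtain ⟨a, ha⟩ := hg1
      have haT : a ∈ T := by
        by_contra h
        exact ha (hg a h)
      set b := (g : Perm Ω) a with hb
      have hbT : b ∈ T := hg.mem haT
      -- a third moved point
      obtain ⟨c, hca, hcb, hcT⟩ : ∃ c, c ≠ a ∧ c ≠ b ∧ c ∈ T := by
        by_contra hn
        push Not at hn
        have hgb : (g : Perm Ω) b = a := by
          have h1 : (g : Perm Ω) b ∈ T := hg.mem hbT
          by_contra h2
          refine hn _ h2 ?_ h1
          intro h3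
          have : (g : Perm Ω) b = (g : Perm Ω) a := h3
          exact ha ((g : Perm Ω).injective this)
        have hgs : (g : Perm Ω) = swap a b := by
          ext x
          by_cases hxa : x = a
          · subst hxa; rw [swap_apply_left]
          by_cases hxb : x = b
          · rw [hxb, swap_apply_right, hgb]
          rw [swap_apply_of_ne_of_ne hxa hxb]
          exact hg x fun h => hn x hxa hxb h
        have h2 := mem_alternatingGroup.mp g.2
        rw [hgs, sign_swap (Ne.symm ha)] at h2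
        exact absurd h2 (by decide)
      have hD : D3 a b c := ⟨Ne.symm ha, hca.symm, hcb.symm⟩
      -- remove `a` from the support
      have h3 : Sup (T.erase a) (C a c b * g) := by
        intro x hx
        show (C a c b : Perm Ω) ((g : Perm Ω) x) = x
        by_cases hxa : x = a
        · rw [hxa, ← hb, C_c hD.swap]
        · have hxT : x ∉ T := fun h => hx (Finset.mem_erase.mpr ⟨hxa, h⟩)
          rw [hg x hxT, C_of_ne hxa (fun h => hxT (h ▸ hcT)) (fun h => hxT (h ▸ hbT))]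
      have h4 : P (C a c b * g) := ih (T.erase a) _ ((Finset.erase_subset _ _).trans hTS)
        (by rw [Finset.card_erase_of_mem haT]; omega) h3
      have h5 := hC a (hTS haT) b (hTS hbT) c (hTS hcT) hD _
        ((h3.mono (Finset.erase_subset _ _)).mono hTS) h4
      rwa [← mul_assoc, C_mul_inv hD, one_mul] at h5
  exact key S.card S g (Finset.Subset.refl S) le_rfl hg

theorem fixed_of_cycles {S : Finset Ω} {X : Type w} [MulAction (alternatingGroup Ω) X] {v : X}
    (h : ∀ a ∈ S, ∀ b ∈ S, ∀ c ∈ S, D3 a b c → C a b c • v = v) {g : alternatingGroup Ω} (hg : Sup S g) :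
    g • v = v := by
  refine sup_induction (P := fun g => g • v = v) (one_smul _ _) ?_ hg
  intro a ha b hb c hc hD g _ hv
  rw [mul_smul, hv, h a ha b hb c hc hD]

end Cfsg.Agent.Omega.TwoF.AltCyc

end

-- merged: Cfsg.Agent.Omega.TwoF.AltSplit
section

/-!
# Elementary abelian 2-groups with an action of an alternating group, I: operators of order 3

* `F a b c`: the idempotent `C + C²` of the 3-cycle `C = C a b c`;
* `Om M ω`: `ω² + ω + 1 = 0` on `M`; `Mod4 S M ω`: moreover `A_S` acts on `M` and commutes with `ω`;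
* `split`: two commuting operators of this kind;
* `Mod4.sixteen`, `Mod4.quad`, `Mod4.six`: lower bounds for `|M|`.
-/

set_option autoImplicit false
set_option linter.unusedSectionVars false

namespace Cfsg.Agent.Omega.TwoF.AltSplit

open Equiv Equiv.Perm AltCyc

universe u w

/-- elementary abelian 2-groups, additively -/
class Two (V : Type w) [AddCommGroup V] : Prop where
  two : ∀ v : V, v + v = 0

section Two

variable {V : Type w} [AddCommGroup V] [Two V]

theorem aa (v : V) : v + v = 0 := Two.two v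

theorem aab (v w : V) : v + (v + w) = w := by rw [← add_assoc, aa, zero_add]

theorem neg_eq' (v : V) : -v = v := neg_eq_of_add_eq_zero_left (aa v)

theorem addz_iff {v w : V} : v + w = 0 ↔ v = w := by
  constructor
  · intro h
    calc v = v + (w + w) := by rw [aa, add_zero]
      _ = w := by rw [← add_assoc, h, zero_add]
  · rintro rfl; exact aa v

instance (M : AddSubgroup V) : Two M := ⟨fun v => Subtype.ext (aa (v : V))⟩

end Two

/-- normalise sums in characteristic 2 -/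
macro "two" : tactic =>
  `(tactic| simp only [add_comm, add_left_comm, add_assoc, aa, aab, add_zero, zero_add])

macro "two" "at" h:ident : tactic =>
  `(tactic| simp only [add_comm, add_left_comm, add_assoc, aa, aab, add_zero, zero_add] at $h:ident)

section Eqs

variable {V : Type w} [AddCommGroup V]

/-- the subgroup `{v ∈ M | f v = g v}` -/
def Eqz (M : AddSubgroup V) (f g : V →+ V) : AddSubgroup V where
  carrier := {v | v ∈ M ∧ f v = g v}
  zero_mem' := ⟨M.zero_mem, by rw [map_zero, map_zero]⟩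
  add_mem' := fun {a b} ha hb => ⟨M.add_mem ha.1 hb.1, by rw [map_add, map_add, ha.2, hb.2]⟩
  neg_mem' := fun {a} ha => ⟨M.neg_mem ha.1, by rw [map_neg, map_neg, ha.2]⟩

theorem Eqz_le {M : AddSubgroup V} {f g : V →+ V} : Eqz M f g ≤ M := fun _ h => h.1

theorem card_pos' [Finite V] (M : AddSubgroup V) : 0 < Nat.card M := Nat.card_pos

theorem card_mul_le [Finite V] {M A B : AddSubgroup V} (hA : A ≤ M) (hB : B ≤ M)
    (h : ∀ v ∈ A, v ∈ B → v = 0) : Nat.card A * Nat.card B ≤ Nat.card M := by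
  rw [← Nat.card_prod]
  refine Nat.card_le_card_of_injective (fun x : A × B => (⟨x.1 + x.2, M.add_mem (hA x.1.2) (hB x.2.2)⟩ : M)) ?_
  rintro ⟨a, b⟩ ⟨a', b'⟩ hab
  have h1 : (a : V) + b = a' + b' := congrArg Subtype.val hab
  have h2 : (a : V) - a' = b' - b := by
    rw [sub_eq_sub_iff_add_eq_add, h1, add_comm]
  have h3 : (a : V) - a' = 0 := h _ (A.sub_mem a.2 a'.2) (h2 ▸ B.sub_mem b'.2 b.2)
  have h4 : (a : V) = a' := sub_eq_zero.mp h3
  have h5 : (b : V) = b' := by
    rw [h3] at h2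
    exact (sub_eq_zero.mp h2.symm).symm
  exact Prod.ext (Subtype.ext h4) (Subtype.ext h5)

theorem card_eq_mul [Finite V] {M A B : AddSubgroup V} (hA : A ≤ M) (hB : B ≤ M)
    (h : ∀ v ∈ A, v ∈ B → v = 0) (hs : ∀ v ∈ M, ∃ a ∈ A, ∃ b ∈ B, v = a + b) :
    Nat.card M = Nat.card A * Nat.card B := by
  refine le_antisymm ?_ (card_mul_le hA hB h)
  rw [← Nat.card_prod]
  refine Nat.card_le_card_of_surjective (fun x : A × B => (⟨x.1 + x.2, M.add_mem (hA x.1.2) (hB x.2.2)⟩ : M)) ?_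
  rintro ⟨v, hv⟩
  obtain ⟨a, ha, b, hb, e⟩ := hs v hv
  exact ⟨⟨⟨a, ha⟩, ⟨b, hb⟩⟩, Subtype.ext e.symm⟩

theorem card_le_of_le [Finite V] {M A : AddSubgroup V} (hA : A ≤ M) : Nat.card A ≤ Nat.card M :=
  Nat.card_le_card_of_injective (AddSubgroup.inclusion hA) (AddSubgroup.inclusion_injective hA)

theorem eq_of_card_le [Finite V] {M A : AddSubgroup V} (hA : A ≤ M) (h : Nat.card M ≤ Nat.card A) : A = M :=
  AddSubgroup.eq_of_le_of_card_ge hA h

theorem card_le_one_iff [Finite V] {M : AddSubgroup V} : Nat.card M ≤ 1 ↔ ∀ v ∈ M, v = 0 := by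
  constructor
  · intro h v hv
    have := Finite.card_le_one_iff_subsingleton.mp h
    exact congrArg Subtype.val (Subsingleton.elim (⟨v, hv⟩ : M) 0)
  · intro h
    rw [Finite.card_le_one_iff_subsingleton]
    exact ⟨fun a b => Subtype.ext ((h a a.2).trans (h b b.2).symm)⟩

theorem exists_ne_of_card [Finite V] {M : AddSubgroup V} (h : 1 < Nat.card M) : ∃ v ∈ M, v ≠ 0 := by
  by_contra hn
  push Not at hn
  exact absurd (card_le_one_iff.mpr hn) (by omega)

theorem card_of_ne [Finite V] {M : AddSubgroup V} {v : V} (hv : v ∈ M) (h0 : v ≠ 0) : 1 < Nat.card M := by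
  by_contra hn
  exact h0 (card_le_one_iff.mp (by omega) v hv)

theorem two_le_card [Finite V] {M : AddSubgroup V} {v : V} (hv : v ∈ M) (h0 : v ≠ 0) : 2 ≤ Nat.card M :=
  card_of_ne hv h0

end Eqs

section Omega

variable {V : Type w} [AddCommGroup V] [Two V]

/-- `ω² + ω + 1 = 0` on the `ω`-invariant subgroup `M` -/
structure Om (M : AddSubgroup V) (ω : V →+ V) : Prop where
  mem : ∀ v ∈ M, ω v ∈ M
  sq : ∀ v ∈ M, ω (ω v) = ω v + v

theorem Om.ne_zero {M : AddSubgroup V} {ω : V →+ V} (h : Om M ω) {v : V} (hv : v ∈ M) (h0 : v ≠ 0) :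
    ω v ≠ 0 := by
  intro e
  have := h.sq v hv
  rw [e, map_zero, zero_add] at this
  exact h0 this.symm

theorem Om.ne_self {M : AddSubgroup V} {ω : V →+ V} (h : Om M ω) {v : V} (hv : v ∈ M) (h0 : v ≠ 0) :
    ω v ≠ v := by
  intro e
  have := h.sq v hv
  rw [e, e, aa] at this
  exact h0 this

theorem Om.four_le [Finite V] {M : AddSubgroup V} {ω : V →+ V} (h : Om M ω) {v : V} (hv : v ∈ M)
    (h0 : v ≠ 0) : 4 ≤ Nat.card M := by
  classical
  have h1 := h.ne_zero hv h0
  have h2 := h.ne_self hv h0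
  let f : Fin 4 → M := ![⟨0, M.zero_mem⟩, ⟨v, hv⟩, ⟨ω v, h.mem v hv⟩, ⟨v + ω v, M.add_mem hv (h.mem v hv)⟩]
  have h3 : v + ω v ≠ 0 := fun e => h2 (addz_iff.mp e).symm
  have h4 : v + ω v ≠ v := fun e => h1 (by
    have := congrArg (v + ·) e
    simpa only [aab, aa] using this)
  have h5 : v + ω v ≠ ω v := fun e => h0 (by
    have := congrArg (· + ω v) e
    simpa only [add_assoc, aa, add_zero] using this)
  have hf : Function.Injective f := by
    intro i j hij
    have hij' : (f i : V) = f j := congrArg Subtype.val hij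
    fin_cases i <;> fin_cases j <;> simp only [f, _root_.Fin.zero_eta, _root_.Fin.isValue, _root_.Matrix.cons_val_zero, _root_.Fin.mk_one, _root_.Matrix.cons_val_one, _root_.zero_ne_one, _root_.Fin.reduceFinMk, _root_.Matrix.cons_val, _root_.Fin.reduceEq, _root_.one_ne_zero, _root_.left_eq_add, _root_.right_eq_add, _root_.add_eq_left, _root_.add_eq_right] at hij' ⊢
    all_goals first
      | exact absurd hij' h0
      | exact absurd hij'.symm h0
      | exact absurd hij' h1
      | exact absurd hij'.symm h1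
      | exact absurd hij' h2
      | exact absurd hij'.symm h2
      | exact absurd hij' h3
      | exact absurd hij'.symm h3
  have := Nat.card_le_card_of_injective f hf
  simpa only [_root_.ge_iff_le, _root_.Nat.card_eq_fintype_card, _root_.Fintype.card_fin] using this

theorem Om.eqz {M : AddSubgroup V} {ω : V →+ V} (h : Om M ω) {f g : V →+ V}
    (hf : ∀ v ∈ M, f (ω v) = ω (f v)) (hg : ∀ v ∈ M, g (ω v) = ω (g v)) : Om (Eqz M f g) ω :=
  ⟨fun v hv => ⟨h.mem v hv.1, by rw [hf v hv.1, hg v hv.1, hv.2]⟩, fun v hv => h.sq v hv.1⟩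

/-- `v ↦ v + ω v` -/
abbrev om1 (ω : V →+ V) : V →+ V := ω + AddMonoidHom.id V

theorem om1_apply (ω : V →+ V) (v : V) : om1 ω v = ω v + v := rfl

/-- two commuting operators with `x² + x + 1 = 0` -/
theorem split [Finite V] {M : AddSubgroup V} {c ω : V →+ V} (hc : Om M c) (hω : Om M ω)
    (hcomm : ∀ v ∈ M, c (ω v) = ω (c v)) :
    Nat.card M = Nat.card (Eqz M c ω) * Nat.card (Eqz M c (om1 ω)) := by
  refine card_eq_mul Eqz_le Eqz_le ?_ ?_
  · intro v hv hv'
    have h1 := hv.2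
    have h2 := hv'.2
    rw [om1_apply, h1] at h2
    have := congrArg (ω v + ·) h2
    simpa only [aab, aa] using this.symm
  · intro v hv
    have e1 := hc.sq v hv
    have e2 := hω.sq v hv
    have e3 := hcomm v hv
    refine ⟨v + (c v + ω v), ⟨M.add_mem hv (M.add_mem (hc.mem v hv) (hω.mem v hv)), ?_⟩, c v + ω v,
      ⟨M.add_mem (hc.mem v hv) (hω.mem v hv), ?_⟩, ?_⟩
    · rw [map_add, map_add, map_add, map_add, e1, e2, e3]; two
    · rw [om1_apply, map_add, map_add, e1, e2, e3]; two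
    · two

end Omega

section Act

variable {Ω : Type u} [DecidableEq Ω] [Fintype Ω]
variable {V : Type w} [AddCommGroup V] [Two V] [DistribMulAction (alternatingGroup Ω) V]

/-- the operator `g` -/
def sm (g : alternatingGroup Ω) : V →+ V := DistribSMul.toAddMonoidHom V g

theorem sm_apply (g : alternatingGroup Ω) (v : V) : sm g v = g • v := rfl

/-- the idempotent `C + C²` -/
def F (a b c : Ω) : V →+ V := sm (C a b c) + sm (C a c b)

theorem F_apply (a b c : Ω) (v : V) : F a b c v = C a b c • v + C a c b • v := rfl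

variable {a b c d e f : Ω}

theorem CC (h : D3 a b c) (v : V) : C a b c • C a b c • v = C a c b • v := by rw [← mul_smul, C_sq h]

theorem CC' (h : D3 a b c) (v : V) : C a b c • C a c b • v = v := by rw [← mul_smul, C_mul_inv h, one_smul]

theorem CC'' (h : D3 a b c) (v : V) : C a c b • C a b c • v = v := CC' h.swap v

theorem F_swap (a b c : Ω) (v : V) : F a c b v = F a b c v := by rw [F_apply, F_apply, add_comm]

theorem F_rot (h : D3 a b c) (v : V) : F b c a v = F a b c v := by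
  rw [F_apply, F_apply, C_rot h, C_rot h.swap.rot, C_rot h.swap]

theorem smul_F (g : alternatingGroup Ω) (a b c : Ω) (v : V) :
    g • F a b c v = F ((g : Perm Ω) a) ((g : Perm Ω) b) ((g : Perm Ω) c) (g • v) := by
  rw [F_apply, F_apply, smul_add, ← mul_smul, ← mul_smul, mul_C, mul_C, mul_smul, mul_smul]

theorem F_F (h : D3 a b c) (v : V) : F a b c (F a b c v) = F a b c v := by
  rw [F_apply, F_apply, smul_add, smul_add, CC h, CC' h, CC'' h, CC h.swap]; two

theorem F_eq_zero_iff (h : D3 a b c) {v : V} : F a b c v = 0 ↔ C a b c • v = v := by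
  rw [F_apply, addz_iff]
  constructor
  · intro e
    have := congrArg (C a b c • ·) e
    simp only [CC' h, CC h] at this
    rw [e, this]
  · intro e
    rw [e, ← CC h, e, e]

theorem F_eq_self_iff (h : D3 a b c) {v : V} : F a b c v = v ↔ C a b c • C a b c • v = C a b c • v + v := by
  rw [F_apply, CC h]
  constructor
  · intro e
    have := congrArg (C a b c • v + ·) e
    simpa only [aab] using this
  · intro e
    rw [e]; two

/-- disjoint cycles commute -/
theorem C_comm (h1 : d ≠ a ∧ d ≠ b ∧ d ≠ c) (h2 : e ≠ a ∧ e ≠ b ∧ e ≠ c) (h3 : f ≠ a ∧ f ≠ b ∧ f ≠ c) :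
    C a b c * C d e f = C d e f * C a b c := by
  rw [mul_C, C_of_ne h1.1 h1.2.1 h1.2.2, C_of_ne h2.1 h2.2.1 h2.2.2, C_of_ne h3.1 h3.2.1 h3.2.2]

theorem C_smul_comm (h1 : d ≠ a ∧ d ≠ b ∧ d ≠ c) (h2 : e ≠ a ∧ e ≠ b ∧ e ≠ c) (h3 : f ≠ a ∧ f ≠ b ∧ f ≠ c)
    (v : V) : C a b c • C d e f • v = C d e f • C a b c • v := by
  rw [← mul_smul, ← mul_smul, C_comm h1 h2 h3]

theorem C_smul_F (h1 : d ≠ a ∧ d ≠ b ∧ d ≠ c) (h2 : e ≠ a ∧ e ≠ b ∧ e ≠ c) (h3 : f ≠ a ∧ f ≠ b ∧ f ≠ c)
    (v : V) : C a b c • F d e f v = F d e f (C a b c • v) := by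
  rw [smul_F, C_of_ne h1.1 h1.2.1 h1.2.2, C_of_ne h2.1 h2.2.1 h2.2.2, C_of_ne h3.1 h3.2.1 h3.2.2]

theorem F_comm (h1 : d ≠ a ∧ d ≠ b ∧ d ≠ c) (h2 : e ≠ a ∧ e ≠ b ∧ e ≠ c) (h3 : f ≠ a ∧ f ≠ b ∧ f ≠ c)
    (v : V) : F a b c (F d e f v) = F d e f (F a b c v) := by
  rw [F_apply a b c, C_smul_F h1 h2 h3, C_smul_F ⟨h1.1, h1.2.2, h1.2.1⟩ ⟨h2.1, h2.2.2, h2.2.1⟩
    ⟨h3.1, h3.2.2, h3.2.1⟩, ← map_add, ← F_apply]

/-- `M` is invariant under `A_S` -/
def Inv (S : Finset Ω) (M : AddSubgroup V) : Prop := ∀ g : alternatingGroup Ω, Sup S g → ∀ v ∈ M, g • v ∈ M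

theorem Inv.mono {S T : Finset Ω} (hST : S ⊆ T) {M : AddSubgroup V} (h : Inv T M) : Inv S M :=
  fun g hg v hv => h g (hg.mono hST) v hv

theorem Inv.C {S : Finset Ω} {M : AddSubgroup V} (h : Inv S M) (ha : a ∈ S) (hb : b ∈ S) (hc : c ∈ S) {v : V}
    (hv : v ∈ M) : C a b c • v ∈ M := h _ (sup_C ha hb hc) v hv

theorem Inv.F {S : Finset Ω} {M : AddSubgroup V} (h : Inv S M) (ha : a ∈ S) (hb : b ∈ S) (hc : c ∈ S) {v : V}
    (hv : v ∈ M) : F a b c v ∈ M := M.add_mem (h.C ha hb hc hv) (h.C ha hc hb hv)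

/-- `[M, C a b c]` -/
abbrev cm (M : AddSubgroup V) (a b c : Ω) : AddSubgroup V := Eqz M (F a b c) (AddMonoidHom.id V)

theorem mem_cm {M : AddSubgroup V} {v : V} : v ∈ cm M a b c ↔ v ∈ M ∧ F a b c v = v := Iff.rfl

/-- `C_M(C a b c)` -/
abbrev ce (M : AddSubgroup V) (a b c : Ω) : AddSubgroup V := Eqz M (F a b c) 0

theorem F_mem_cm {S : Finset Ω} {M : AddSubgroup V} (h : Inv S M) (hD : D3 a b c) (ha : a ∈ S) (hb : b ∈ S)
    (hc : c ∈ S) {v : V} (hv : v ∈ M) : F a b c v ∈ cm M a b c := ⟨h.F ha hb hc hv, F_F hD v⟩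

theorem compl_mem_ce {S : Finset Ω} {M : AddSubgroup V} (h : Inv S M) (hD : D3 a b c) (ha : a ∈ S) (hb : b ∈ S)
    (hc : c ∈ S) {v : V} (hv : v ∈ M) : v + F a b c v ∈ ce M a b c :=
  ⟨M.add_mem hv (h.F ha hb hc hv), by rw [map_add, F_F hD, aa]; rfl⟩

theorem card_cm_mul_ce [Finite V] {S : Finset Ω} {M : AddSubgroup V} (h : Inv S M) (hD : D3 a b c) (ha : a ∈ S)
    (hb : b ∈ S) (hc : c ∈ S) : Nat.card M = Nat.card (cm M a b c) * Nat.card (ce M a b c) := by
  refine card_eq_mul Eqz_le Eqz_le (fun v hv hv' => hv.2.symm.trans hv'.2) ?_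
  intro v hv
  exact ⟨_, F_mem_cm h hD ha hb hc hv, _, compl_mem_ce h hD ha hb hc hv, by two⟩

theorem inv_cm {S T : Finset Ω} {M : AddSubgroup V} (h : Inv S M) (hT : T ⊆ S) (ha : a ∉ T) (hb : b ∉ T)
    (hc : c ∉ T) : Inv T (cm M a b c) := by
  intro g hg v hv
  refine ⟨h g (hg.mono hT) v hv.1, ?_⟩
  have := smul_F g a b c v
  rw [hg a ha, hg b hb, hg c hc, hv.2] at this
  exact this.symm

theorem inv_ce {S T : Finset Ω} {M : AddSubgroup V} (h : Inv S M) (hT : T ⊆ S) (ha : a ∉ T) (hb : b ∉ T)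
    (hc : c ∉ T) : Inv T (ce M a b c) := by
  intro g hg v hv
  refine ⟨h g (hg.mono hT) v hv.1, ?_⟩
  have := smul_F g a b c v
  rw [hg a ha, hg b hb, hg c hc, hv.2] at this
  simpa only [_root_.AddMonoidHom.zero_apply, _root_.smul_zero] using this.symm

theorem om_cm (S : Finset Ω) {M : AddSubgroup V} (h : Inv S M) (hD : D3 a b c) (ha : a ∈ S) (hb : b ∈ S)
    (hc : c ∈ S) : Om (cm M a b c) (sm (C a b c)) := by
  refine ⟨fun v hv => ⟨h.C ha hb hc hv.1, ?_⟩, fun v hv => (F_eq_self_iff hD).mp hv.2⟩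
  have h1 := smul_F (C a b c) a b c v
  rw [C_a hD, C_b hD, C_c hD, hv.2, F_rot hD] at h1
  exact h1.symm

/-- nontrivial action of 3-cycles -/
def Nt (S : Finset Ω) (M : AddSubgroup V) : Prop :=
  ∃ a ∈ S, ∃ b ∈ S, ∃ c ∈ S, D3 a b c ∧ ∃ v ∈ M, F a b c v ≠ 0

theorem Nt.all {S : Finset Ω} {M : AddSubgroup V} (h : Nt S M) (hM : Inv S M) (hS : 5 ≤ S.card)
    (hD : D3 a b c) (ha : a ∈ S) (hb : b ∈ S) (hc : c ∈ S) : ∃ v ∈ M, F a b c v ≠ 0 := by
  obtain ⟨a', ha', b', hb', c', hc', hD', v, hv, h0⟩ := h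
  obtain ⟨g, hg, e1, e2, e3⟩ := exists_move hS hD' hD ha' hb' hc' ha hb hc
  refine ⟨g • v, hM g hg v hv, ?_⟩
  have := smul_F g a' b' c' v
  rw [e1, e2, e3] at this
  rw [← this]
  intro h1
  exact h0 ((smul_eq_zero_iff_eq g).mp h1)

/-- trivial action -/
theorem not_nt {S : Finset Ω} {M : AddSubgroup V} (h : ¬ Nt S M) {g : alternatingGroup Ω} (hg : Sup S g) {v : V}
    (hv : v ∈ M) : g • v = v := by
  refine fixed_of_cycles (S := S) ?_ hg
  intro a ha b hb c hc hD
  rw [← F_eq_zero_iff hD]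
  by_contra h1
  exact h ⟨a, ha, b, hb, c, hc, hD, v, hv, h1⟩

theorem card_le_of_smul [Finite V] {A B : AddSubgroup V} (g : alternatingGroup Ω) (h : ∀ v ∈ A, g • v ∈ B) :
    Nat.card A ≤ Nat.card B :=
  Nat.card_le_card_of_injective (fun v : A => (⟨g • (v : V), h v v.2⟩ : B)) fun _ _ hvw =>
    Subtype.ext (MulAction.injective g (congrArg Subtype.val hvw))

/-- `M` with an `A_S`-action commuting with `ω`, `ω² + ω + 1 = 0` -/
structure Mod4 (S : Finset Ω) (M : AddSubgroup V) (ω : V →+ V) : Prop extends Om M ω where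
  inv : Inv S M
  comm : ∀ g : alternatingGroup Ω, Sup S g → ∀ v ∈ M, ω (g • v) = g • ω v

theorem Mod4.mono {S T : Finset Ω} {M : AddSubgroup V} {ω : V →+ V} (h : Mod4 T M ω) (hST : S ⊆ T) :
    Mod4 S M ω := ⟨h.toOm, h.inv.mono hST, fun g hg => h.comm g (hg.mono hST)⟩

theorem Mod4.F_comm {S : Finset Ω} {M : AddSubgroup V} {ω : V →+ V} (h : Mod4 S M ω) (ha : a ∈ S) (hb : b ∈ S)
    (hc : c ∈ S) {v : V} (hv : v ∈ M) : F a b c (ω v) = ω (F a b c v) := by
  rw [F_apply, F_apply, map_add, h.comm _ (sup_C ha hb hc) v hv, h.comm _ (sup_C ha hc hb) v hv]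

/-- the top example -/
theorem mod4_cm {S T : Finset Ω} {M : AddSubgroup V} (h : Inv S M) (hD : D3 a b c) (ha : a ∈ S) (hb : b ∈ S)
    (hc : c ∈ S) (hT : T ⊆ S) (ha' : a ∉ T) (hb' : b ∉ T) (hc' : c ∉ T) :
    Mod4 T (cm M a b c) (sm (C a b c)) :=
  ⟨om_cm S h hD ha hb hc, inv_cm h hT ha' hb' hc', fun g hg v _ => by
    rw [sm_apply, sm_apply, ← mul_smul, ← mul_smul, comm_C hg ha' hb' hc']⟩

end Act

end Cfsg.Agent.Omega.TwoF.AltSplit

end

-- merged: Cfsg.Agent.Omega.TwoF.AltSix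
section

/-!
# Elementary abelian 2-groups with an action of an alternating group, II: six points

* `Mod4.cm_sq`: `|[M, C]| = |P|²`, `P = {v ∈ [M, C] | C v = ω v}`;
* `Mod4.quad`: if `F a b c` and `F d e f` (disjoint) do not annihilate `M`, then `|F F M| ≥ 4⁴`;
* `Mod4.six`: a nontrivial `Mod4` module for `A_S`, `|S| ≥ 6`, has order at least `4⁴`;
* `quad`, `six`: the same without `ω`: `2⁴`.
-/

set_option autoImplicit false
set_option linter.unusedSectionVars false

namespace Cfsg.Agent.Omega.TwoF.AltSix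

open Equiv Equiv.Perm AltCyc AltSplit

universe u w

variable {Ω : Type u} [DecidableEq Ω] [Fintype Ω]

/-- six distinct points -/
def D6 (a b c d e f : Ω) : Prop :=
  D3 a b c ∧ D3 d e f ∧ (d ≠ a ∧ d ≠ b ∧ d ≠ c) ∧ (e ≠ a ∧ e ≠ b ∧ e ≠ c) ∧ (f ≠ a ∧ f ≠ b ∧ f ≠ c)

theorem D6.symm {a b c d e f : Ω} (h : D6 a b c d e f) : D6 d e f a b c := by
  obtain ⟨h1, h2, h3, h4, h5⟩ := h
  exact ⟨h2, h1, ⟨h3.1.symm, h4.1.symm, h5.1.symm⟩, ⟨h3.2.1.symm, h4.2.1.symm, h5.2.1.symm⟩,
    ⟨h3.2.2.symm, h4.2.2.symm, h5.2.2.symm⟩⟩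

theorem exists_three {S : Finset Ω} (hS : 6 ≤ S.card) {a b c : Ω} (hD : D3 a b c) :
    ∃ d ∈ S, ∃ e ∈ S, ∃ f ∈ S, D6 a b c d e f := by
  obtain ⟨d, hd, hd'⟩ := exists_not_mem (S := S) {a, b, c} (lt_of_le_of_lt (Finset.card_le_three) (by omega))
  obtain ⟨e, he, he'⟩ := exists_not_mem (S := S) {a, b, c, d} (lt_of_le_of_lt (Finset.card_le_four) (by omega))
  obtain ⟨f, hf, hf'⟩ := exists_not_mem (S := S) {a, b, c, d, e} (lt_of_le_of_lt (Finset.card_le_five) (by omega))
  simp only [Finset.mem_insert, Finset.mem_singleton, not_or] at hd' he' hf'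
  exact ⟨d, hd, e, he, f, hf, hD, ⟨Ne.symm he'.2.2.2, Ne.symm hf'.2.2.2.1, Ne.symm hf'.2.2.2.2⟩, hd',
    ⟨he'.1, he'.2.1, he'.2.2.1⟩, ⟨hf'.1, hf'.2.1, hf'.2.2.1⟩⟩

/-- the element `(a d)(b e c f)` -/
theorem exists_quad {S : Finset Ω} {a b c d e f : Ω} (h : D6 a b c d e f) (ha : a ∈ S) (hb : b ∈ S) (hc : c ∈ S)
    (hd : d ∈ S) (he : e ∈ S) (hf : f ∈ S) :
    ∃ s : alternatingGroup Ω, Sup S s ∧ (s : Perm Ω) a = d ∧ (s : Perm Ω) b = e ∧ (s : Perm Ω) c = f ∧
      (s : Perm Ω) d = a ∧ (s : Perm Ω) e = c ∧ (s : Perm Ω) f = b := by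
  obtain ⟨⟨ab, ac, bc⟩, ⟨de, df, ef⟩, ⟨da, db, dc⟩, ⟨ea, eb, ec⟩, ⟨fa, fb, fc⟩⟩ := h
  have swS : ∀ x ∈ S, ∀ y ∈ S, ∀ z, z ∉ S → swap x y z = z := fun x hx y hy z hz =>
    swap_apply_of_ne_of_ne (fun e => hz (e ▸ hx)) (fun e => hz (e ▸ hy))
  refine ⟨⟨swap b c * (swap a d * (swap b e * swap c f)), ?_⟩, ?_, ?_, ?_, ?_, ?_, ?_, ?_⟩
  · rw [mem_alternatingGroup, Perm.sign_mul, Perm.sign_mul, Perm.sign_mul, sign_swap bc, sign_swap da.symm,
      sign_swap eb.symm, sign_swap fc.symm]; decide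
  · intro x hx
    show swap b c (swap a d (swap b e (swap c f x))) = x
    rw [swS _ hc _ hf _ hx, swS _ hb _ he _ hx, swS _ ha _ hd _ hx, swS _ hb _ hc _ hx]
  · show swap b c (swap a d (swap b e (swap c f a))) = d
    rw [swap_apply_of_ne_of_ne ac fa.symm, swap_apply_of_ne_of_ne ab ea.symm, swap_apply_left,
      swap_apply_of_ne_of_ne db dc]
  · show swap b c (swap a d (swap b e (swap c f b))) = e
    rw [swap_apply_of_ne_of_ne bc fb.symm, swap_apply_left, swap_apply_of_ne_of_ne ea de.symm,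
      swap_apply_of_ne_of_ne eb ec]
  · show swap b c (swap a d (swap b e (swap c f c))) = f
    rw [swap_apply_left, swap_apply_of_ne_of_ne fb ef.symm, swap_apply_of_ne_of_ne fa df.symm,
      swap_apply_of_ne_of_ne fb fc]
  · show swap b c (swap a d (swap b e (swap c f d))) = a
    rw [swap_apply_of_ne_of_ne dc df, swap_apply_of_ne_of_ne db de, swap_apply_right,
      swap_apply_of_ne_of_ne ab ac]
  · show swap b c (swap a d (swap b e (swap c f e))) = c
    rw [swap_apply_of_ne_of_ne ec ef, swap_apply_right, swap_apply_of_ne_of_ne ab.symm db.symm, swap_apply_left]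
  · show swap b c (swap a d (swap b e (swap c f f))) = b
    rw [swap_apply_right, swap_apply_of_ne_of_ne bc.symm ec.symm, swap_apply_of_ne_of_ne ac.symm dc.symm,
      swap_apply_right]

variable {V : Type w} [AddCommGroup V] [Two V] [DistribMulAction (alternatingGroup Ω) V]
variable {a b c d e f : Ω} {S : Finset Ω} {M : AddSubgroup V} {ω : V →+ V}

section

/-- `g C g⁻¹ = C'` on vectors -/
theorem smul_C (g : alternatingGroup Ω) (a b c : Ω) (v : V) :
    g • C a b c • v = C ((g : Perm Ω) a) ((g : Perm Ω) b) ((g : Perm Ω) c) • g • v := by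
  rw [← mul_smul, ← mul_smul, mul_C]

theorem Cb (hD : D3 a b c) {v : V} (hv : v ∈ cm M a b c) : C a c b • v = C a b c • v + v := by
  rw [← CC hD]; exact (F_eq_self_iff hD).mp hv.2

/-- the part of `M` on which `C a b c` acts as `θ` -/
abbrev pc (M : AddSubgroup V) (a b c : Ω) (θ : V →+ V) : AddSubgroup V := Eqz M (sm (C a b c)) θ

theorem Mod4.om_cm (h : Mod4 S M ω) (ha : a ∈ S) (hb : b ∈ S) (hc : c ∈ S) : Om (cm M a b c) ω :=
  h.toOm.eqz (fun _ hv => h.F_comm ha hb hc hv) fun _ _ => rfl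

/-- `|[M, C]| = |P|²` -/
theorem Mod4.cm_sq [Finite V] (hS : 5 ≤ S.card) (h : Mod4 S M ω) (hD : D3 a b c) (ha : a ∈ S) (hb : b ∈ S)
    (hc : c ∈ S) : Nat.card (cm M a b c) = Nat.card (pc (cm M a b c) a b c ω) * Nat.card (pc (cm M a b c) a b c ω) ∧
      Nat.card (pc (cm M a b c) a b c (om1 ω)) = Nat.card (pc (cm M a b c) a b c ω) := by
  obtain ⟨g, hg, e1, e2, e3⟩ := exists_move hS hD hD.swap' ha hb hc hb ha hc
  have hc1 : Om (cm M a b c) (sm (C a b c)) := AltSplit.om_cm S h.inv hD ha hb hc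
  have hc2 := Mod4.om_cm h ha hb hc
  have h1 := split hc1 hc2 fun v hv => (h.comm _ (sup_C ha hb hc) v hv.1).symm
  have hgC : ∀ v : V, g • C a c b • v = C a b c • g • v := by
    intro v
    rw [smul_C, e1, e2, e3, C_rot hD]
  have hgm : ∀ v ∈ cm M a b c, g • v ∈ cm M a b c := by
    intro v hv
    refine ⟨h.inv g hg v hv.1, ?_⟩
    have := smul_F g a b c v
    rw [e1, e2, e3, hv.2] at this
    rw [← F_rot hD, F_swap]
    exact this.symm
  have i1 : Nat.card (pc (cm M a b c) a b c ω) ≤ Nat.card (pc (cm M a b c) a b c (om1 ω)) := by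
    refine card_le_of_smul g fun v hv => ⟨hgm v hv.1, ?_⟩
    have hv2 : C a b c • v = ω v := hv.2
    rw [sm_apply, ← hgC, Cb hD hv.1, hv2, smul_add, om1_apply, h.comm g hg v hv.1.1]
  have i2 : Nat.card (pc (cm M a b c) a b c (om1 ω)) ≤ Nat.card (pc (cm M a b c) a b c ω) := by
    refine card_le_of_smul g fun v hv => ⟨hgm v hv.1, ?_⟩
    have hv2 : C a b c • v = ω v + v := hv.2
    rw [sm_apply, ← hgC, Cb hD hv.1, hv2, add_assoc, aa, add_zero, h.comm g hg v hv.1.1]
  have i3 := le_antisymm i1 i2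
  exact ⟨by rw [h1, ← i3], i3.symm⟩

theorem Mod4.om_pc (h : Mod4 S M ω) (ha : a ∈ S) (hb : b ∈ S) (hc : c ∈ S) :
    Om (pc (cm M a b c) a b c ω) ω :=
  (Mod4.om_cm h ha hb hc).eqz (fun v hv => (h.comm _ (sup_C ha hb hc) v hv.1).symm) fun _ _ => rfl

theorem Mod4.sixteen [Finite V] (hS : 5 ≤ S.card) (h : Mod4 S M ω) (hD : D3 a b c) (ha : a ∈ S) (hb : b ∈ S)
    (hc : c ∈ S) {v : V} (hv : v ∈ M) (h0 : F a b c v ≠ 0) : 16 ≤ Nat.card (cm M a b c) := by
  obtain ⟨h1, -⟩ := Mod4.cm_sq hS h hD ha hb hc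
  have h2 : 1 < Nat.card (cm M a b c) := card_of_ne (F_mem_cm h.inv hD ha hb hc hv) h0
  have h3 : 1 < Nat.card (pc (cm M a b c) a b c ω) := by
    by_contra hn
    have h4 : Nat.card (pc (cm M a b c) a b c ω) ≤ 1 := by omega
    have := Nat.mul_le_mul h4 h4
    omega
  obtain ⟨x, hx, hx0⟩ := exists_ne_of_card h3
  have h4 := (Mod4.om_pc h ha hb hc).four_le hx hx0
  have := Nat.mul_le_mul h4 h4
  omega

/-- both cycles -/
abbrev cm2 (M : AddSubgroup V) (a b c d e f : Ω) : AddSubgroup V :=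
  Eqz (cm M a b c) (F d e f) (AddMonoidHom.id V)

theorem F_F_mem (hM : _root_.Cfsg.Agent.Omega.TwoF.AltSplit.Inv S M) (hD : D6 a b c d e f) (ha : a ∈ S) (hb : b ∈ S) (hc : c ∈ S) (hd : d ∈ S)
    (he : e ∈ S) (hf : f ∈ S) {v : V} (hv : v ∈ M) : F a b c (F d e f v) ∈ cm2 M a b c d e f :=
  ⟨F_mem_cm hM hD.1 ha hb hc (hM.F hd he hf hv), by
    rw [F_comm hD.2.2.1 hD.2.2.2.1 hD.2.2.2.2, F_F hD.2.1]; rfl⟩

/-- the operator `d e f` on `cm2` -/
theorem omD (hM : _root_.Cfsg.Agent.Omega.TwoF.AltSplit.Inv S M) (hD : D6 a b c d e f) (ha : a ∈ S) (hb : b ∈ S) (hc : c ∈ S) (hd : d ∈ S)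
    (he : e ∈ S) (hf : f ∈ S) : Om (cm2 M a b c d e f) (sm (C d e f)) := by
  have h1 : Om (cm M d e f) (sm (C d e f)) := AltSplit.om_cm S hM hD.2.1 hd he hf
  refine ⟨fun v hv => ?_, fun v hv => (F_eq_self_iff hD.2.1).mp hv.2⟩
  have h2 := h1.mem v ⟨hv.1.1, hv.2⟩
  refine ⟨⟨h2.1, ?_⟩, h2.2⟩
  have h3 := C_smul_F hD.symm.2.2.1 hD.symm.2.2.2.1 hD.symm.2.2.2.2 v
  rw [hv.1.2] at h3
  exact h3.symm

theorem omA (hM : _root_.Cfsg.Agent.Omega.TwoF.AltSplit.Inv S M) (hD : D6 a b c d e f) (ha : a ∈ S) (hb : b ∈ S) (hc : c ∈ S) :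
    Om (cm2 M a b c d e f) (sm (C a b c)) := by
  have h1 : Om (cm M a b c) (sm (C a b c)) := AltSplit.om_cm S hM hD.1 ha hb hc
  refine ⟨fun v hv => ⟨h1.mem v hv.1, ?_⟩, fun v hv => h1.sq v hv.1⟩
  have h3 := C_smul_F hD.2.2.1 hD.2.2.2.1 hD.2.2.2.2 v
  rw [hv.2] at h3
  exact h3.symm

theorem Mod4.om_cm2 (h : Mod4 S M ω) (ha : a ∈ S) (hb : b ∈ S) (hc : c ∈ S) (hd : d ∈ S)
    (he : e ∈ S) (hf : f ∈ S) : Om (cm2 M a b c d e f) ω :=
  (Mod4.om_cm h ha hb hc).eqz (fun _ hv => h.F_comm hd he hf hv.1) fun _ _ => rfl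

/-- the element `s` maps `cm2` to itself and `C d e f` to `(C a b c)⁻¹` -/
theorem quad_aux (hM : _root_.Cfsg.Agent.Omega.TwoF.AltSplit.Inv S M) (hD : D6 a b c d e f) (ha : a ∈ S) (hb : b ∈ S) (hc : c ∈ S) (hd : d ∈ S)
    (he : e ∈ S) (hf : f ∈ S) : ∃ s : alternatingGroup Ω, Sup S s ∧
      (∀ v ∈ cm2 M a b c d e f, s • v ∈ cm2 M a b c d e f) ∧ (∀ v : V, s • C a b c • v = C d e f • s • v) ∧
      (∀ v : V, s • C d e f • v = C a c b • s • v) := by
  obtain ⟨s, hs, e1, e2, e3, e4, e5, e6⟩ := exists_quad hD ha hb hc hd he hf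
  refine ⟨s, hs, ?_, ?_, ?_⟩
  · intro v hv
    have h1 := smul_F s a b c v
    have h2 := smul_F s d e f v
    rw [e1, e2, e3] at h1
    rw [e4, e5, e6, F_swap a b c] at h2
    have h3 : F a b c v = v := hv.1.2
    have h4 : F d e f v = v := hv.2
    rw [h3] at h1
    rw [h4] at h2
    exact ⟨⟨hM s hs v hv.1.1, h2.symm⟩, h1.symm⟩
  · intro v
    rw [smul_C, e1, e2, e3]
  · intro v
    rw [smul_C, e4, e5, e6]

/-- **the four patterns** -/
theorem Mod4.quad [Finite V] (h : Mod4 S M ω) (hD : D6 a b c d e f) (ha : a ∈ S) (hb : b ∈ S)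
    (hc : c ∈ S) (hd : d ∈ S) (he : e ∈ S) (hf : f ∈ S) {v : V} (hv : v ∈ M) (h0 : F a b c (F d e f v) ≠ 0) :
    4 ^ 4 ≤ Nat.card (cm2 M a b c d e f) := by
  obtain ⟨s, hs, hsm, hs1, hs2⟩ := quad_aux h.inv hD ha hb hc hd he hf
  have o1 := omA h.inv hD ha hb hc
  have o2 := omD h.inv hD ha hb hc hd he hf
  have o3 := Mod4.om_cm2 h ha hb hc hd he hf
  have c1 : ∀ v ∈ cm2 M a b c d e f, sm (C a b c) (ω v) = ω (sm (C a b c) v) := fun v hv =>
    (h.comm _ (sup_C ha hb hc) v hv.1.1).symm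
  have c2 : ∀ v ∈ cm2 M a b c d e f, sm (C d e f) (ω v) = ω (sm (C d e f) v) := fun v hv =>
    (h.comm _ (sup_C hd he hf) v hv.1.1).symm
  have c3 : ∀ v : V, sm (C a b c) (sm (C d e f) v) = sm (C d e f) (sm (C a b c) v) := fun v =>
    C_smul_comm hD.2.2.1 hD.2.2.2.1 hD.2.2.2.2 v
  have k1 := split o1 o3 c1
  have k2 : ∀ θ : V →+ V, (∀ v ∈ cm2 M a b c d e f, θ (sm (C d e f) v) = sm (C d e f) (θ v)) →
      (∀ v ∈ cm2 M a b c d e f, θ (ω v) = ω (θ v)) →
      Nat.card (pc (cm2 M a b c d e f) a b c θ) = Nat.card (pc (pc (cm2 M a b c d e f) a b c θ) d e f ω) *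
        Nat.card (pc (pc (cm2 M a b c d e f) a b c θ) d e f (om1 ω)) := by
    intro θ hθ hθ'
    exact split (o2.eqz (fun v _ => c3 v) hθ) (o3.eqz c1 hθ') fun v hv => c2 v hv.1
  have t1 := k2 ω (fun v hv => (c2 v hv).symm) fun _ _ => rfl
  have t2 := k2 (om1 ω) (fun v hv => by
    rw [om1_apply, om1_apply, map_add, c2 v hv]) fun v hv => by
    rw [om1_apply, om1_apply, map_add]
  -- how `s` acts on the patterns
  have hCd : ∀ v ∈ cm2 M a b c d e f, C a c b • (s • v) = C a b c • (s • v) + s • v := fun v hv =>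
    Cb hD.1 (hsm v hv).1
  have p1 : Nat.card (pc (pc (cm2 M a b c d e f) a b c ω) d e f ω) ≤
      Nat.card (pc (pc (cm2 M a b c d e f) a b c (om1 ω)) d e f ω) := by
    refine card_le_of_smul s fun v hv => ?_
    have hv0 := hv.1.1
    have e1 : C a b c • v = ω v := hv.1.2
    have e2 : C d e f • v = ω v := hv.2
    refine ⟨⟨hsm v hv0, ?_⟩, ?_⟩
    · have h1 := hCd v hv0
      rw [← hs2, e2, h.comm s hs v hv0.1.1 |>.symm] at h1
      rw [sm_apply, om1_apply, h1]; two
    · rw [sm_apply, ← hs1, e1, h.comm s hs v hv0.1.1]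
  have p2 : Nat.card (pc (pc (cm2 M a b c d e f) a b c (om1 ω)) d e f ω) ≤
      Nat.card (pc (pc (cm2 M a b c d e f) a b c (om1 ω)) d e f (om1 ω)) := by
    refine card_le_of_smul s fun v hv => ?_
    have hv0 := hv.1.1
    have e1 : C a b c • v = ω v + v := hv.1.2
    have e2 : C d e f • v = ω v := hv.2
    refine ⟨⟨hsm v hv0, ?_⟩, ?_⟩
    · have h1 := hCd v hv0
      rw [← hs2, e2, h.comm s hs v hv0.1.1 |>.symm] at h1
      rw [sm_apply, om1_apply, h1]; two
    · rw [sm_apply, ← hs1, e1, om1_apply, smul_add, h.comm s hs v hv0.1.1]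
  have p3 : Nat.card (pc (pc (cm2 M a b c d e f) a b c (om1 ω)) d e f (om1 ω)) ≤
      Nat.card (pc (pc (cm2 M a b c d e f) a b c ω) d e f (om1 ω)) := by
    refine card_le_of_smul s fun v hv => ?_
    have hv0 := hv.1.1
    have e1 : C a b c • v = ω v + v := hv.1.2
    have e2 : C d e f • v = ω v + v := hv.2
    refine ⟨⟨hsm v hv0, ?_⟩, ?_⟩
    · have h1 := hCd v hv0
      rw [← hs2, e2, smul_add, h.comm s hs v hv0.1.1 |>.symm] at h1
      rw [sm_apply]
      exact (add_right_cancel h1).symm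
    · rw [sm_apply, ← hs1, e1, om1_apply, smul_add, h.comm s hs v hv0.1.1]
  have p4 : Nat.card (pc (pc (cm2 M a b c d e f) a b c ω) d e f (om1 ω)) ≤
      Nat.card (pc (pc (cm2 M a b c d e f) a b c ω) d e f ω) := by
    refine card_le_of_smul s fun v hv => ?_
    have hv0 := hv.1.1
    have e1 : C a b c • v = ω v := hv.1.2
    have e2 : C d e f • v = ω v + v := hv.2
    refine ⟨⟨hsm v hv0, ?_⟩, ?_⟩
    · have h1 := hCd v hv0
      rw [← hs2, e2, smul_add, h.comm s hs v hv0.1.1 |>.symm] at h1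
      rw [sm_apply]
      exact (add_right_cancel h1).symm
    · rw [sm_apply, ← hs1, e1, h.comm s hs v hv0.1.1]
  set y := Nat.card (pc (pc (cm2 M a b c d e f) a b c ω) d e f ω) with hy
  have q2 : Nat.card (pc (pc (cm2 M a b c d e f) a b c (om1 ω)) d e f ω) = y := by omega
  have q3 : Nat.card (pc (pc (cm2 M a b c d e f) a b c (om1 ω)) d e f (om1 ω)) = y := by omega
  have q4 : Nat.card (pc (pc (cm2 M a b c d e f) a b c ω) d e f (om1 ω)) = y := by omega
  have hcard : Nat.card (cm2 M a b c d e f) = y ^ 4 := by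
    rw [k1, t1, t2, q2, q3, q4]; ring
  have h2 : 1 < Nat.card (cm2 M a b c d e f) := card_of_ne (F_F_mem h.inv hD ha hb hc hd he hf hv) h0
  have h3 : 1 < y := by
    by_contra hn
    have h4 : y ≤ 1 := by omega
    have := Nat.pow_le_pow_left h4 4
    omega
  obtain ⟨x, hx, hx0⟩ := exists_ne_of_card h3
  have o4 : Om (pc (pc (cm2 M a b c d e f) a b c ω) d e f ω) ω :=
    (o3.eqz c1 fun _ _ => rfl).eqz (fun v hv => c2 v hv.1) fun _ _ => rfl
  have h4 := o4.four_le hx hx0
  rw [hcard]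
  exact Nat.pow_le_pow_left h4 4

/-- the same without `ω` -/
theorem quad [Finite V] (hM : _root_.Cfsg.Agent.Omega.TwoF.AltSplit.Inv S M) (hD : D6 a b c d e f) (ha : a ∈ S) (hb : b ∈ S)
    (hc : c ∈ S) (hd : d ∈ S) (he : e ∈ S) (hf : f ∈ S) {v : V} (hv : v ∈ M) (h0 : F a b c (F d e f v) ≠ 0) :
    2 ^ 4 ≤ Nat.card (cm2 M a b c d e f) := by
  obtain ⟨s, hs, hsm, hs1, hs2⟩ := quad_aux hM hD ha hb hc hd he hf
  have o1 := omA hM hD ha hb hc
  have o2 := omD hM hD ha hb hc hd he hf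
  have c3 : ∀ v : V, sm (C a b c) (sm (C d e f) v) = sm (C d e f) (sm (C a b c) v) := fun v =>
    C_smul_comm hD.2.2.1 hD.2.2.2.1 hD.2.2.2.2 v
  have k1 := split o2 o1 fun v _ => (c3 v).symm
  have hCd : ∀ v ∈ cm2 M a b c d e f, C a c b • (s • v) = C a b c • (s • v) + s • v := fun v hv =>
    Cb hD.1 (hsm v hv).1
  have hCe : ∀ v ∈ cm2 M a b c d e f, C d f e • v = C d e f • v + v := fun v hv =>
    Cb hD.2.1 (M := cm M a b c) ⟨hv.1, hv.2⟩
  have p1 : Nat.card (pc (cm2 M a b c d e f) d e f (sm (C a b c))) ≤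
      Nat.card (pc (cm2 M a b c d e f) d e f (om1 (sm (C a b c)))) := by
    refine card_le_of_smul s fun v hv => ⟨hsm v hv.1, ?_⟩
    have e2 : C d e f • v = C a b c • v := hv.2
    rw [sm_apply, ← hs1, ← e2, hs2, hCd v hv.1]
    rfl
  have p2 : Nat.card (pc (cm2 M a b c d e f) d e f (om1 (sm (C a b c)))) ≤
      Nat.card (pc (cm2 M a b c d e f) d e f (sm (C a b c))) := by
    refine card_le_of_smul s fun v hv => ⟨hsm v hv.1, ?_⟩
    have e2 : C d e f • v = C a b c • v + v := hv.2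
    have e3 : C a b c • v = C d f e • v := by
      rw [hCe v hv.1, e2]; two
    have e4 : C d e f • (s • v) = C d e f • s • v := rfl
    rw [sm_apply, sm_apply, ← hs1, e3]
    -- `s C'⁻¹ = C s`
    have e5 : s • C d f e • v = C a b c • s • v := by
      have h5 := hs2 (C d f e • v)
      rw [CC' hD.2.1] at h5
      rw [h5, CC' hD.1]
    exact e5
  have q2 := le_antisymm p1 p2
  have h2 : 1 < Nat.card (cm2 M a b c d e f) := card_of_ne (F_F_mem hM hD ha hb hc hd he hf hv) h0
  set y := Nat.card (pc (cm2 M a b c d e f) d e f (sm (C a b c))) with hy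
  rw [← q2] at k1
  have h3 : 1 < y := by
    by_contra hn
    have h4 : y ≤ 1 := by omega
    have := Nat.mul_le_mul h4 h4
    omega
  obtain ⟨x, hx, hx0⟩ := exists_ne_of_card h3
  have o4 : Om (pc (cm2 M a b c d e f) d e f (sm (C a b c))) (sm (C a b c)) :=
    o1.eqz (fun v _ => (c3 v).symm) fun _ _ => rfl
  have h4 := o4.four_le hx hx0
  have := Nat.mul_le_mul h4 h4
  rw [k1]
  omega

/-- **six points** -/
theorem Mod4.six [Finite V] (hS : 6 ≤ S.card) (h : Mod4 S M ω) (hn : Nt S M) : 4 ^ 4 ≤ Nat.card M := by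
  obtain ⟨a, ha, b, hb, c, hc, hD, v, hv, h0⟩ := hn
  obtain ⟨d, hd, e, he, f, hf, hD6⟩ := exists_three hS hD
  by_cases hff : ∃ v ∈ M, F a b c (F d e f v) ≠ 0
  · obtain ⟨x, hx, hx0⟩ := hff
    exact (Mod4.quad h hD6 ha hb hc hd he hf hx hx0).trans (card_le_of_le (Eqz_le.trans Eqz_le))
  · push Not at hff
    have hn : Nt S M := ⟨a, ha, b, hb, c, hc, hD, v, hv, h0⟩
    obtain ⟨x, hx, hx0⟩ := hn.all h.inv (by omega) hD6.2.1 hd he hf
    have h1 := Mod4.sixteen (by omega) h hD ha hb hc hv h0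
    have h2 := Mod4.sixteen (by omega) h hD6.2.1 hd he hf hx hx0
    have h3 := card_mul_le (M := M) (A := cm M a b c) (B := cm M d e f) Eqz_le Eqz_le (by
      intro y hy hy'
      have e1 := hff y hy.1
      have e2 : F d e f y = y := hy'.2
      have e3 : F a b c y = y := hy.2
      rw [e2, e3] at e1
      exact e1)
    have h4 := Nat.mul_le_mul h1 h2
    exact le_trans (by norm_num) (h4.trans h3)

theorem six [Finite V] (hS : 6 ≤ S.card) (h : _root_.Cfsg.Agent.Omega.TwoF.AltSplit.Inv S M) (hn : Nt S M) : 2 ^ 4 ≤ Nat.card M := by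
  obtain ⟨a, ha, b, hb, c, hc, hD, v, hv, h0⟩ := hn
  obtain ⟨d, hd, e, he, f, hf, hD6⟩ := exists_three hS hD
  by_cases hff : ∃ v ∈ M, F a b c (F d e f v) ≠ 0
  · obtain ⟨x, hx, hx0⟩ := hff
    exact (quad h hD6 ha hb hc hd he hf hx hx0).trans (card_le_of_le (Eqz_le.trans Eqz_le))
  · push Not at hff
    have hn : Nt S M := ⟨a, ha, b, hb, c, hc, hD, v, hv, h0⟩
    obtain ⟨x, hx, hx0⟩ := hn.all h (by omega) hD6.2.1 hd he hf
    have h1 := (AltSplit.om_cm S h hD ha hb hc).four_le (F_mem_cm h hD ha hb hc hv) h0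
    have h2 := (AltSplit.om_cm S h hD6.2.1 hd he hf).four_le (F_mem_cm h hD6.2.1 hd he hf hx) hx0
    have h3 := card_mul_le (M := M) (A := cm M a b c) (B := cm M d e f) Eqz_le Eqz_le (by
      intro y hy hy'
      have e1 := hff y hy.1
      have e2 : F d e f y = y := hy'.2
      have e3 : F a b c y = y := hy.2
      rw [e2, e3] at e1
      exact e1)
    have h4 := Nat.mul_le_mul h1 h2
    exact le_trans (by norm_num) (h4.trans h3)

end

end Cfsg.Agent.Omega.TwoF.AltSix

end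

-- merged: Cfsg.Agent.Omega.TwoF.AltNat
section

/-!
# Elementary abelian 2-groups with an action of an alternating group, III: natural type

`Natl S M`: disjoint 3-cycles `c`, `c'` in `S` satisfy `[M, c, c'] = 0`.  Then, for `|S| ≥ 6`:

* `NN S M p q r = {v ∈ [M, (p q r)] | v fixed by the elements p ↔ q, r ↦ r of A_S}` is fixed by the stabiliser of
  `{p, q}` in `A_S` (`NN.fix`), so `E a b v = g • v` (`g p = a`, `g q = b`) is well defined (`E_eq`);
* `E_add`: `E a b v + E b c v = E a c v`;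
* `cm_eq`: `[M, (p q r)] = N + (p q r) N`;
* `card_pow_le`: `|N| ^ (|S| - 2) ≤ |M|`.
-/

set_option autoImplicit false
set_option linter.unusedSectionVars false

namespace Cfsg.Agent.Omega.TwoF.AltNat

open Equiv Equiv.Perm AltCyc AltSplit AltSix

universe u w

variable {Ω : Type u} [DecidableEq Ω] [Fintype Ω]
variable {V : Type w} [AddCommGroup V] [Two V] [DistribMulAction (alternatingGroup Ω) V]
variable {a b c d e f p q r : Ω} {S : Finset Ω} {M : AddSubgroup V}

/-- natural type -/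
def Natl (S : Finset Ω) (M : AddSubgroup V) : Prop :=
  ∀ a ∈ S, ∀ b ∈ S, ∀ c ∈ S, ∀ d ∈ S, ∀ e ∈ S, ∀ f ∈ S, D6 a b c d e f → ∀ v ∈ M, F a b c (F d e f v) = 0

/-- the subgroup `N` -/
def NN (S : Finset Ω) (M : AddSubgroup V) (p q r : Ω) : AddSubgroup V where
  carrier := {v | v ∈ M ∧ F p q r v = v ∧ ∀ g : alternatingGroup Ω, Sup S g → (g : Perm Ω) p = q →
    (g : Perm Ω) q = p → (g : Perm Ω) r = r → g • v = v}
  zero_mem' := ⟨M.zero_mem, map_zero _, fun g _ _ _ _ => smul_zero g⟩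
  add_mem' := fun {a b} ha hb => ⟨M.add_mem ha.1 hb.1, by rw [map_add, ha.2.1, hb.2.1], fun g h1 h2 h3 h4 => by
    rw [smul_add, ha.2.2 g h1 h2 h3 h4, hb.2.2 g h1 h2 h3 h4]⟩
  neg_mem' := fun {a} ha => ⟨M.neg_mem ha.1, by rw [map_neg, ha.2.1], fun g h1 h2 h3 h4 => by
    rw [smul_neg, ha.2.2 g h1 h2 h3 h4]⟩

/-- elements of `[M, (a b c)]` are fixed by `A_{S ∖ {a, b, c}}` -/
theorem fixT (hN : Natl S M) (hD : D3 a b c) (ha : a ∈ S) (hb : b ∈ S) (hc : c ∈ S) {v : V} (hv : v ∈ M)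
    (hF : F a b c v = v) {g : alternatingGroup Ω} (hg : Sup S g) (h1 : (g : Perm Ω) a = a)
    (h2 : (g : Perm Ω) b = b) (h3 : (g : Perm Ω) c = c) : g • v = v := by
  have hg' : Sup (S \ {a, b, c}) g := by
    intro x hx
    by_cases hxS : x ∈ S
    · have : x = a ∨ x = b ∨ x = c := by
        by_contra hn
        apply hx
        simp only [Finset.mem_sdiff, Finset.mem_insert, Finset.mem_singleton]
        exact ⟨hxS, hn⟩
      rcases this with rfl | rfl | rfl <;> assumption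
    · exact hg x hxS
  refine fixed_of_cycles ?_ hg'
  intro d hd e he f hf hD'
  simp only [Finset.mem_sdiff, Finset.mem_insert, Finset.mem_singleton, not_or] at hd he hf
  rw [← F_eq_zero_iff hD', ← hF]
  exact hN d hd.1 e he.1 f hf.1 a ha b hb c hc (D6.symm ⟨hD, hD', hd.2, he.2, hf.2⟩) v hv

/-- two elements with the same action on `p`, `q`, `r` -/
theorem smul_eq_of (hN : Natl S M) (hD : D3 a b c) (ha : a ∈ S) (hb : b ∈ S) (hc : c ∈ S) {v : V} (hv : v ∈ M)
    (hF : F a b c v = v) {g h : alternatingGroup Ω} (hg : Sup S g) (hh : Sup S h)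
    (h1 : (g : Perm Ω) a = (h : Perm Ω) a)
    (h2 : (g : Perm Ω) b = (h : Perm Ω) b) (h3 : (g : Perm Ω) c = (h : Perm Ω) c) : g • v = h • v := by
  have key := fixT hN hD ha hb hc hv hF (g := h⁻¹ * g) (hh.inv.mul hg)
    (by show (h : Perm Ω).symm ((g : Perm Ω) a) = a; rw [h1, Equiv.symm_apply_apply])
    (by show (h : Perm Ω).symm ((g : Perm Ω) b) = b; rw [h2, Equiv.symm_apply_apply])
    (by show (h : Perm Ω).symm ((g : Perm Ω) c) = c; rw [h3, Equiv.symm_apply_apply])
  rw [mul_smul, inv_smul_eq_iff] at key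
  exact key

section W

/-- the operator `g`, `g p = a`, `g q = b`, `g r = c` -/
noncomputable def W (S : Finset Ω) (p q r a b c : Ω) : V →+ V := by
  classical
  exact if h : ∃ g : alternatingGroup Ω, Sup S g ∧ (g : Perm Ω) p = a ∧ (g : Perm Ω) q = b ∧ (g : Perm Ω) r = c
    then sm h.choose else 0

theorem W_eq (hN : Natl S M) (hD : D3 p q r) (hp : p ∈ S) (hq : q ∈ S) (hr : r ∈ S) {v : V} (hv : v ∈ M)
    (hF : F p q r v = v) {g : alternatingGroup Ω} (hg : Sup S g) :
    W S p q r ((g : Perm Ω) p) ((g : Perm Ω) q) ((g : Perm Ω) r) v = g • v := by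
  have h : ∃ g' : alternatingGroup Ω, Sup S g' ∧ (g' : Perm Ω) p = (g : Perm Ω) p ∧
      (g' : Perm Ω) q = (g : Perm Ω) q ∧ (g' : Perm Ω) r = (g : Perm Ω) r := ⟨g, hg, rfl, rfl, rfl⟩
  rw [W, dif_pos h]
  exact smul_eq_of hN hD hp hq hr hv hF h.choose_spec.1 hg h.choose_spec.2.1 h.choose_spec.2.2.1
    h.choose_spec.2.2.2

variable (hS : 6 ≤ S.card) (hM : _root_.Cfsg.Agent.Omega.TwoF.AltSplit.Inv S M) (hN : Natl S M) (hD : D3 p q r) (hp : p ∈ S) (hq : q ∈ S) (hr : r ∈ S)

include hS hN hD hp hq hr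

theorem smul_W {v : V} (hv : v ∈ NN S M p q r) (hD' : D3 a b c) (ha : a ∈ S) (hb : b ∈ S) (hc : c ∈ S)
    {g : alternatingGroup Ω} (hg : Sup S g) :
    g • W S p q r a b c v = W S p q r ((g : Perm Ω) a) ((g : Perm Ω) b) ((g : Perm Ω) c) v := by
  obtain ⟨h, hh, e1, e2, e3⟩ := exists_move (by omega) hD hD' hp hq hr ha hb hc
  have h1 := W_eq hN hD hp hq hr hv.1 hv.2.1 hh
  have h2 := W_eq hN hD hp hq hr hv.1 hv.2.1 (hg.mul hh)
  rw [e1, e2, e3] at h1
  rw [h1, ← mul_smul, ← h2]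
  show W S p q r ((g : Perm Ω) ((h : Perm Ω) p)) ((g : Perm Ω) ((h : Perm Ω) q)) ((g : Perm Ω) ((h : Perm Ω) r)) v
    = _
  rw [e1, e2, e3]

theorem W_base {v : V} (hv : v ∈ NN S M p q r) : W S p q r p q r v = v := by
  have := W_eq hN hD hp hq hr hv.1 hv.2.1 (g := 1) Sup.one
  rw [one_smul] at this
  exact this

theorem W_swap {v : V} (hv : v ∈ NN S M p q r) (hD' : D3 a b c) (ha : a ∈ S) (hb : b ∈ S) (hc : c ∈ S) :
    W S p q r b a c v = W S p q r a b c v := by
  obtain ⟨h, hh, e1, e2, e3⟩ := exists_move (by omega) hD hD' hp hq hr ha hb hc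
  obtain ⟨t, ht, t1, t2, t3⟩ := exists_move (by omega) hD hD.swap' hp hq hr hq hp hr
  have h1 := W_eq hN hD hp hq hr hv.1 hv.2.1 hh
  have h2 := W_eq hN hD hp hq hr hv.1 hv.2.1 (hh.mul ht)
  have t4 := hv.2.2 t ht t1 t2 t3
  rw [mul_smul, t4, ← h1] at h2
  have h3 : W S p q r ((h : Perm Ω) ((t : Perm Ω) p)) ((h : Perm Ω) ((t : Perm Ω) q))
    ((h : Perm Ω) ((t : Perm Ω) r)) v = _ := h2
  rw [t1, t2, t3, e1, e2, e3] at h3
  exact h3

theorem C_W {v : V} (hv : v ∈ NN S M p q r) (hD' : D3 a b c) (ha : a ∈ S) (hb : b ∈ S) (hc : c ∈ S)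
    (hd : d ∈ S) (he : e ∈ S) (hf : f ∈ S) :
    C d e f • W S p q r a b c v =
      W S p q r ((C d e f : Perm Ω) a) ((C d e f : Perm Ω) b) ((C d e f : Perm Ω) c) v :=
  smul_W hS hN hD hp hq hr hv hD' ha hb hc (sup_C hd he hf)

/-- `R1` -/
theorem W_sum {v : V} (hv : v ∈ NN S M p q r) (hD' : D3 a b c) (ha : a ∈ S) (hb : b ∈ S) (hc : c ∈ S) :
    W S p q r a b c v = W S p q r b c a v + W S p q r c a b v := by
  obtain ⟨h, hh, e1, e2, e3⟩ := exists_move (by omega) hD hD' hp hq hr ha hb hc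
  have h1 := W_eq hN hD hp hq hr hv.1 hv.2.1 hh
  have h2 := smul_F h p q r v
  rw [e1, e2, e3] at h1 h2
  rw [hv.2.1, ← h1] at h2
  rw [h2, F_apply, C_W hS hN hD hp hq hr hv hD' ha hb hc ha hb hc,
    C_W hS hN hD hp hq hr hv hD' ha hb hc ha hc hb, C_a hD', C_b hD', C_c hD', C_a hD'.swap, C_b hD'.swap,
    C_c hD'.swap]

include hM

theorem W_mem {v : V} (hv : v ∈ NN S M p q r) (hD' : D3 a b c) (ha : a ∈ S) (hb : b ∈ S) (hc : c ∈ S) :
    W S p q r a b c v ∈ M := by
  obtain ⟨h, hh, e1, e2, e3⟩ := exists_move (by omega) hD hD' hp hq hr ha hb hc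
  have h1 := W_eq hN hD hp hq hr hv.1 hv.2.1 hh
  rw [e1, e2, e3] at h1
  rw [h1]
  exact hM h hh v hv.1

/-- relation (i) -/
theorem rel1 {v : V} (hv : v ∈ NN S M p q r) (h6 : D6 a b c d e f) (ha : a ∈ S) (hb : b ∈ S) (hc : c ∈ S)
    (hd : d ∈ S) (he : e ∈ S) (hf : f ∈ S) :
    W S p q r b c e v + W S p q r b c f v = W S p q r c a e v + W S p q r c a f v := by
  obtain ⟨hD1, hD2, ⟨da, db, dc⟩, ⟨ea, eb, ec⟩, ⟨fa, fb, fc⟩⟩ := h6
  have h6 : D6 a b c d e f := ⟨hD1, hD2, ⟨da, db, dc⟩, ⟨ea, eb, ec⟩, ⟨fa, fb, fc⟩⟩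
  have hab := hD1.1
  have Dabd : D3 a b d := ⟨hab, da.symm, db.symm⟩
  have Dabe : D3 a b e := ⟨hab, ea.symm, eb.symm⟩
  have Dabf : D3 a b f := ⟨hab, fa.symm, fb.symm⟩
  have h0 := hN a ha b hb c hc d hd e he f hf h6 _ (W_mem hS hM hN hD hp hq hr hv Dabd ha hb hd)
  have k : ∀ {x y z u v' w : Ω} (_ : D3 x y z) (_ : x ∈ S) (_ : y ∈ S) (_ : z ∈ S) (_ : u ∈ S) (_ : v' ∈ S)
      (_ : w ∈ S), C u v' w • W S p q r x y z v =
      W S p q r ((C u v' w : Perm Ω) x) ((C u v' w : Perm Ω) y) ((C u v' w : Perm Ω) z) v :=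
    fun h1 h2 h3 h4 h5 h6 h7 => C_W hS hN hD hp hq hr hv h1 h2 h3 h4 h5 h6 h7
  have e1 : F d e f (W S p q r a b d v) = W S p q r a b e v + W S p q r a b f v := by
    rw [F_apply, k Dabd ha hb hd hd he hf, k Dabd ha hb hd hd hf he, C_of_ne da.symm ea.symm fa.symm,
      C_of_ne db.symm eb.symm fb.symm, C_a hD2, C_of_ne da.symm fa.symm ea.symm,
      C_of_ne db.symm fb.symm eb.symm, C_a hD2.swap]
  have e2 : ∀ x : Ω, x ≠ a → x ≠ b → x ≠ c → x ∈ S →
      F a b c (W S p q r a b x v) = W S p q r b c x v + W S p q r c a x v := by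
    intro x xa xb xc hx
    have Dx : D3 a b x := ⟨hab, xa.symm, xb.symm⟩
    rw [F_apply, k Dx ha hb hx ha hb hc, k Dx ha hb hx ha hc hb, C_a hD1, C_b hD1, C_of_ne xa xb xc,
      C_a hD1.swap, C_c hD1.swap, C_of_ne xa xc xb]
  rw [e1, map_add, e2 e ea eb ec he, e2 f fa fb fc hf] at h0
  rw [← addz_iff]
  rw [← h0]
  two

/-- relation (ii) -/
theorem rel2 {v : V} (hv : v ∈ NN S M p q r) (h6 : D6 a b c d e f) (ha : a ∈ S) (hb : b ∈ S) (hc : c ∈ S)
    (hd : d ∈ S) (he : e ∈ S) (hf : f ∈ S) :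
    W S p q r b e c v + W S p q r b f c v = W S p q r c e a v + W S p q r c f a v := by
  obtain ⟨hD1, hD2, ⟨da, db, dc⟩, ⟨ea, eb, ec⟩, ⟨fa, fb, fc⟩⟩ := h6
  have h6 : D6 a b c d e f := ⟨hD1, hD2, ⟨da, db, dc⟩, ⟨ea, eb, ec⟩, ⟨fa, fb, fc⟩⟩
  have hab := hD1.1
  have Dadb : D3 a d b := ⟨da.symm, hab, db⟩
  have h0 := hN a ha b hb c hc d hd e he f hf h6 _ (W_mem hS hM hN hD hp hq hr hv Dadb ha hd hb)
  have k : ∀ {x y z u v' w : Ω} (_ : D3 x y z) (_ : x ∈ S) (_ : y ∈ S) (_ : z ∈ S) (_ : u ∈ S) (_ : v' ∈ S)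
      (_ : w ∈ S), C u v' w • W S p q r x y z v =
      W S p q r ((C u v' w : Perm Ω) x) ((C u v' w : Perm Ω) y) ((C u v' w : Perm Ω) z) v :=
    fun h1 h2 h3 h4 h5 h6 h7 => C_W hS hN hD hp hq hr hv h1 h2 h3 h4 h5 h6 h7
  have e1 : F d e f (W S p q r a d b v) = W S p q r a e b v + W S p q r a f b v := by
    rw [F_apply, k Dadb ha hd hb hd he hf, k Dadb ha hd hb hd hf he, C_of_ne da.symm ea.symm fa.symm,
      C_of_ne db.symm eb.symm fb.symm, C_a hD2, C_of_ne da.symm fa.symm ea.symm,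
      C_of_ne db.symm fb.symm eb.symm, C_a hD2.swap]
  have e2 : ∀ x : Ω, x ≠ a → x ≠ b → x ≠ c → x ∈ S →
      F a b c (W S p q r a x b v) = W S p q r b x c v + W S p q r c x a v := by
    intro x xa xb xc hx
    have Dx : D3 a x b := ⟨xa.symm, hab, xb⟩
    rw [F_apply, k Dx ha hx hb ha hb hc, k Dx ha hx hb ha hc hb, C_a hD1, C_b hD1, C_of_ne xa xb xc,
      C_a hD1.swap, C_c hD1.swap, C_of_ne xa xc xb]
  rw [e1, map_add, e2 e ea eb ec he, e2 f fa fb fc hf] at h0
  rw [← addz_iff]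
  rw [← h0]
  two

/-- `[b c | e] = [b c | f]` -/
theorem W_third {v : V} (hv : v ∈ NN S M p q r) (hbc : D3 b c e) (hf1 : f ≠ b) (hf2 : f ≠ c) (hb : b ∈ S)
    (hc : c ∈ S) (he : e ∈ S) (hf : f ∈ S) : W S p q r b c f v = W S p q r b c e v := by
  by_cases hef : e = f
  · rw [hef]
  obtain ⟨a, ha, ha'⟩ := exists_not_mem (S := S) {b, c, e, f} (lt_of_le_of_lt (Finset.card_le_four) (by omega))
  obtain ⟨d, hd, hd'⟩ := exists_not_mem (S := S) {b, c, e, f, a}
    (lt_of_le_of_lt (Finset.card_le_five) (by omega))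
  simp only [Finset.mem_insert, Finset.mem_singleton, not_or] at ha' hd'
  obtain ⟨ab, ac, ae, af⟩ := ha'
  obtain ⟨db, dc, de, df, da⟩ := hd'
  obtain ⟨bc, be, ce⟩ := hbc
  have h6 : D6 a b c d e f := ⟨⟨ab, ac, bc⟩, ⟨de, df, hef⟩, ⟨da, db, dc⟩,
    ⟨Ne.symm ae, be.symm, ce.symm⟩, ⟨Ne.symm af, hf1, hf2⟩⟩
  have r2 := rel2 hS hM hN hD hp hq hr hv h6 ha hb hc hd he hf
  have s1 := W_sum hS hN hD hp hq hr hv (a := b) (b := e) (c := c) ⟨be, bc, ce.symm⟩ hb he hc
  have s2 := W_sum hS hN hD hp hq hr hv (a := b) (b := f) (c := c) ⟨hf1.symm, bc, hf2⟩ hb hf hc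
  -- the pairs `c e`, `c f` over `a`, `b`
  have h6' : D6 e f c d b a := ⟨⟨hef, ce.symm, hf2⟩, ⟨db, da, Ne.symm ab⟩, ⟨de, df, dc⟩,
    ⟨be, hf1.symm, bc⟩, ⟨ae, af, ac⟩⟩
  have r1 := rel1 hS hM hN hD hp hq hr hv h6' he hf hc hd hb ha
  -- `W f c b + W f c a = W c e b + W c e a`
  have w1 : W S p q r e c b v = W S p q r c e b v :=
    W_swap hS hN hD hp hq hr hv (a := c) (b := e) (c := b) ⟨ce, bc.symm, be.symm⟩ hc he hb
  have w2 : W S p q r c b e v = W S p q r b c e v :=
    W_swap hS hN hD hp hq hr hv (a := b) (b := c) (c := e) ⟨bc, be, ce⟩ hb hc he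
  have w3 : W S p q r c b f v = W S p q r b c f v :=
    W_swap hS hN hD hp hq hr hv (a := b) (b := c) (c := f) ⟨bc, hf1.symm, hf2.symm⟩ hb hc hf
  have w4 : W S p q r c f a v = W S p q r f c a v :=
    W_swap hS hN hD hp hq hr hv (a := f) (b := c) (c := a) ⟨hf2, af |> Ne.symm, ac |> Ne.symm⟩ hf hc ha
  rw [s1, s2, w1, w2, w3, w4] at r2
  rw [← addz_iff] at r1 r2 ⊢
  have h3 := congrArg₂ (· + ·) r1 r2
  simp only [add_zero] at h3
  rw [← h3]
  two

/-- **elements of `N` are fixed by the stabiliser of `p`, `q`** -/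
theorem NN_fix {v : V} (hv : v ∈ NN S M p q r) {g : alternatingGroup Ω} (hg : Sup S g)
    (h1 : (g : Perm Ω) p = p) (h2 : (g : Perm Ω) q = q) : g • v = v := by
  have h3 := W_eq hN hD hp hq hr hv.1 hv.2.1 hg
  have hD' : D3 p q ((g : Perm Ω) r) := by
    have := hD.map (g : Perm Ω)
    rwa [h1, h2] at this
  rw [h1, h2, W_third hS hM hN hD hp hq hr hv hD hD'.2.1.symm hD'.2.2.symm hp hq hr (hg.mem hr),
    W_base hS hN hD hp hq hr hv] at h3
  exact h3.symm

end W

section E

/-- the operator `g`, `g p = a`, `g q = b` -/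
noncomputable def E (S : Finset Ω) (p q a b : Ω) : V →+ V := by
  classical
  exact if h : ∃ g : alternatingGroup Ω, Sup S g ∧ (g : Perm Ω) p = a ∧ (g : Perm Ω) q = b
    then sm h.choose else 0

variable (hS : 6 ≤ S.card) (hM : _root_.Cfsg.Agent.Omega.TwoF.AltSplit.Inv S M) (hN : Natl S M) (hD : D3 p q r) (hp : p ∈ S) (hq : q ∈ S) (hr : r ∈ S)

theorem exists_move2 (hS : 6 ≤ S.card) (hD : D3 p q r) (hp : p ∈ S) (hq : q ∈ S) (hr : r ∈ S) (hab : a ≠ b)
    (ha : a ∈ S) (hb : b ∈ S) : ∃ g : alternatingGroup Ω, Sup S g ∧ (g : Perm Ω) p = a ∧ (g : Perm Ω) q = b := by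
  obtain ⟨c, hc, hc'⟩ := exists_not_mem (S := S) {a, b} (lt_of_le_of_lt (Finset.card_le_two) (by omega))
  simp only [Finset.mem_insert, Finset.mem_singleton, not_or] at hc'
  obtain ⟨g, hg, e1, e2, -⟩ := exists_move (by omega) hD (a' := a) (b' := b) (c' := c)
    ⟨hab, Ne.symm hc'.1, Ne.symm hc'.2⟩ hp hq hr ha hb hc
  exact ⟨g, hg, e1, e2⟩

include hS hM hN hD hp hq hr

theorem E_eq {v : V} (hv : v ∈ NN S M p q r) {g : alternatingGroup Ω} (hg : Sup S g) :
    E S p q ((g : Perm Ω) p) ((g : Perm Ω) q) v = g • v := by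
  have h : ∃ g' : alternatingGroup Ω, Sup S g' ∧ (g' : Perm Ω) p = (g : Perm Ω) p ∧
      (g' : Perm Ω) q = (g : Perm Ω) q := ⟨g, hg, rfl, rfl⟩
  rw [E, dif_pos h]
  obtain ⟨h1, h2, h3⟩ := h.choose_spec
  have key := NN_fix hS hM hN hD hp hq hr hv (g := g⁻¹ * h.choose) (hg.inv.mul h1)
    (by show (g : Perm Ω).symm ((h.choose : Perm Ω) p) = p; rw [h2, Equiv.symm_apply_apply])
    (by show (g : Perm Ω).symm ((h.choose : Perm Ω) q) = q; rw [h3, Equiv.symm_apply_apply])
  rw [mul_smul, inv_smul_eq_iff] at key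
  exact key

theorem E_base {v : V} (hv : v ∈ NN S M p q r) : E S p q p q v = v := by
  have := E_eq hS hM hN hD hp hq hr hv (g := 1) Sup.one
  rw [one_smul] at this
  exact this

theorem smul_E {v : V} (hv : v ∈ NN S M p q r) (hab : a ≠ b) (ha : a ∈ S) (hb : b ∈ S)
    {g : alternatingGroup Ω} (hg : Sup S g) :
    g • E S p q a b v = E S p q ((g : Perm Ω) a) ((g : Perm Ω) b) v := by
  obtain ⟨h, hh, e1, e2⟩ := exists_move2 hS hD hp hq hr hab ha hb
  have h1 := E_eq hS hM hN hD hp hq hr hv hh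
  have h2 := E_eq hS hM hN hD hp hq hr hv (hg.mul hh)
  rw [e1, e2] at h1
  rw [h1, ← mul_smul, ← h2]
  show E S p q ((g : Perm Ω) ((h : Perm Ω) p)) ((g : Perm Ω) ((h : Perm Ω) q)) v = _
  rw [e1, e2]

theorem E_mem {v : V} (hv : v ∈ NN S M p q r) (hab : a ≠ b) (ha : a ∈ S) (hb : b ∈ S) :
    E S p q a b v ∈ M := by
  obtain ⟨h, hh, e1, e2⟩ := exists_move2 hS hD hp hq hr hab ha hb
  have h1 := E_eq hS hM hN hD hp hq hr hv hh
  rw [e1, e2] at h1
  rw [h1]
  exact hM h hh v hv.1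

theorem E_swap {v : V} (hv : v ∈ NN S M p q r) (hab : a ≠ b) (ha : a ∈ S) (hb : b ∈ S) :
    E S p q b a v = E S p q a b v := by
  obtain ⟨h, hh, e1, e2⟩ := exists_move2 hS hD hp hq hr hab ha hb
  obtain ⟨t, ht, t1, t2, t3⟩ := exists_move (by omega) hD hD.swap' hp hq hr hq hp hr
  have t4 := hv.2.2 t ht t1 t2 t3
  have h1 := E_eq hS hM hN hD hp hq hr hv hh
  have h2 := E_eq hS hM hN hD hp hq hr hv (hh.mul ht)
  rw [mul_smul, t4, ← h1] at h2
  have h3 : E S p q ((h : Perm Ω) ((t : Perm Ω) p)) ((h : Perm Ω) ((t : Perm Ω) q)) v = _ := h2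
  rw [t1, t2, e1, e2] at h3
  exact h3

theorem E_inj {v : V} (hv : v ∈ NN S M p q r) (hab : a ≠ b) (ha : a ∈ S) (hb : b ∈ S)
    (h0 : E S p q a b v = 0) : v = 0 := by
  obtain ⟨h, hh, e1, e2⟩ := exists_move2 hS hD hp hq hr hab ha hb
  have h1 := E_eq hS hM hN hD hp hq hr hv hh
  rw [e1, e2, h0] at h1
  exact (smul_eq_zero_iff_eq h).mp h1.symm

theorem W_eq_E {v : V} (hv : v ∈ NN S M p q r) (hD' : D3 a b c) (ha : a ∈ S) (hb : b ∈ S) (hc : c ∈ S) :
    W S p q r a b c v = E S p q a b v := by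
  obtain ⟨h, hh, e1, e2, e3⟩ := exists_move (by omega) hD hD' hp hq hr ha hb hc
  have h1 := W_eq hN hD hp hq hr hv.1 hv.2.1 hh
  have h2 := E_eq hS hM hN hD hp hq hr hv hh
  rw [e1, e2, e3] at h1
  rw [e1, e2] at h2
  rw [h1, h2]

/-- **additivity** -/
theorem E_add {v : V} (hv : v ∈ NN S M p q r) (hD' : D3 a b c) (ha : a ∈ S) (hb : b ∈ S) (hc : c ∈ S) :
    E S p q a b v + E S p q b c v = E S p q a c v := by
  have h1 := W_sum hS hN hD hp hq hr hv hD' ha hb hc
  rw [W_eq_E hS hM hN hD hp hq hr hv hD' ha hb hc, W_eq_E hS hM hN hD hp hq hr hv hD'.rot hb hc ha,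
    W_eq_E hS hM hN hD hp hq hr hv hD'.rot.rot hc ha hb,
    E_swap hS hM hN hD hp hq hr hv hD'.2.1 ha hc] at h1
  rw [h1]
  two

/-- `[M, (p q r)] = N + (p q r) N` -/
theorem cm_eq {v : V} (hv : v ∈ M) (hF : F p q r v = v) :
    ∃ x ∈ NN S M p q r, ∃ y ∈ NN S M p q r, v = x + C p q r • y := by
  obtain ⟨t, ht, t1, t2, t3⟩ := exists_move (by omega) hD hD.swap' hp hq hr hq hp hr
  have htM : ∀ w ∈ M, F p q r w = w → t • w ∈ M ∧ F p q r (t • w) = t • w := by
    intro w hw hw'
    refine ⟨hM t ht w hw, ?_⟩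
    have := smul_F t p q r w
    rw [t1, t2, t3, hw'] at this
    rw [← F_rot hD, F_swap]
    exact this.symm
  -- `t²` is trivial on `[M, (p q r)]`
  have htt : ∀ w ∈ M, F p q r w = w → t • t • w = w := by
    intro w hw hw'
    rw [← mul_smul]
    exact fixT hN hD hp hq hr hw hw' (ht.mul ht)
      (by show (t : Perm Ω) ((t : Perm Ω) p) = p; rw [t1, t2])
      (by show (t : Perm Ω) ((t : Perm Ω) q) = q; rw [t2, t1])
      (by show (t : Perm Ω) ((t : Perm Ω) r) = r; rw [t3, t3])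
  -- membership in `N`
  have hmem : ∀ w ∈ M, F p q r w = w → t • w = w → w ∈ NN S M p q r := by
    intro w hw hw' hw''
    refine ⟨hw, hw', ?_⟩
    intro g hg g1 g2 g3
    rw [smul_eq_of hN hD hp hq hr hw hw' hg ht (by rw [g1, t1]) (by rw [g2, t2]) (by rw [g3, t3])]
    exact hw''
  have hCF : ∀ w ∈ M, F p q r w = w → C p q r • w ∈ M ∧ F p q r (C p q r • w) = C p q r • w := fun w hw hw' =>
    (AltSplit.om_cm S hM hD hp hq hr).mem w ⟨hw, hw'⟩
  have hC2 : ∀ w : V, F p q r w = w → C p r q • w = C p q r • w + w := fun w hw' => by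
    rw [← CC hD]; exact (F_eq_self_iff hD).mp hw'
  have htC : ∀ w : V, t • C p q r • w = C p r q • t • w := by
    intro w
    rw [smul_C, t1, t2, t3, C_rot hD.swap.rot, C_rot hD.swap]
  obtain ⟨hv1, hv2⟩ := htM v hv hF
  have hy : v + t • v ∈ NN S M p q r := by
    refine hmem _ (M.add_mem hv hv1) (by rw [map_add, hF, hv2]) ?_
    rw [smul_add, htt v hv hF, add_comm]
  have hy1 : v + t • v ∈ M := M.add_mem hv hv1
  have hy2 : F p q r (v + t • v) = v + t • v := by rw [map_add, hF, hv2]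
  obtain ⟨hz1, hz2⟩ := hCF _ hy1 hy2
  have hx : v + C p q r • (v + t • v) ∈ NN S M p q r := by
    refine hmem _ (M.add_mem hv hz1) (by rw [map_add, hF, hz2]) ?_
    rw [smul_add, htC]
    have e1 : t • (v + t • v) = v + t • v := by rw [smul_add, htt v hv hF, add_comm]
    rw [e1, hC2 _ hy2]
    two
  exact ⟨_, hx, _, hy, by two⟩

theorem NN_ne {v : V} (hv : v ∈ M) (hF : F p q r v = v) (h0 : v ≠ 0) : ∃ x ∈ NN S M p q r, x ≠ 0 := by
  obtain ⟨x, hx, y, hy, e⟩ := cm_eq hS hM hN hD hp hq hr hv hF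
  by_contra hn
  push Not at hn
  rw [hn x hx, hn y hy, smul_zero, add_zero] at e
  exact h0 e

/-- the key step of the count -/
theorem sum_eq_zero {s m : Ω} (hs : s ∈ S) (hm : m ∈ S) (hsm : s ≠ m) {x : Ω → V}
    (hx : ∀ j, x j ∈ NN S M p q r) (h0 : ∑ j ∈ S \ {s, m}, E S p q s j (x j) = 0) {j : Ω}
    (hj : j ∈ S \ {s, m}) : x j = 0 := by
  obtain ⟨i, hi, hi'⟩ := exists_not_mem (S := S) {s, m, j} (lt_of_le_of_lt (Finset.card_le_three) (by omega))
  simp only [Finset.mem_sdiff, Finset.mem_insert, Finset.mem_singleton, not_or] at hj hi'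
  obtain ⟨hjS, js, jm⟩ := hj
  obtain ⟨is, im, ij⟩ := hi'
  have hDy : D3 j m i := ⟨jm, Ne.symm ij, Ne.symm im⟩
  -- apply `1 + y`
  have h1 : ∑ k ∈ S \ {s, m}, (C j m i • E S p q s k (x k) + E S p q s k (x k)) = 0 := by
    rw [Finset.sum_add_distrib, ← Finset.smul_sum, h0, smul_zero, add_zero]
  have h2 : ∑ k ∈ ({i, j} : Finset Ω), (C j m i • E S p q s k (x k) + E S p q s k (x k)) = 0 := by
    rw [← h1]
    refine Finset.sum_subset ?_ ?_
    · intro k hk
      simp only [Finset.mem_insert, Finset.mem_singleton] at hk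
      simp only [Finset.mem_sdiff, Finset.mem_insert, Finset.mem_singleton, not_or]
      rcases hk with rfl | rfl
      · exact ⟨hi, is, im⟩
      · exact ⟨hjS, js, jm⟩
    · intro k hk hk'
      simp only [Finset.mem_sdiff, Finset.mem_insert, Finset.mem_singleton, not_or] at hk hk'
      rw [smul_E hS hM hN hD hp hq hr (hx k) (Ne.symm hk.2.1) hs hk.1 (sup_C hjS hm hi),
        C_of_ne (Ne.symm js) hsm (Ne.symm is), C_of_ne hk'.2 hk.2.2 hk'.1, aa]
  rw [Finset.sum_pair ij, smul_E hS hM hN hD hp hq hr (hx i) (Ne.symm is) hs hi (sup_C hjS hm hi),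
    smul_E hS hM hN hD hp hq hr (hx j) (Ne.symm js) hs hjS (sup_C hjS hm hi),
    C_of_ne (Ne.symm js) hsm (Ne.symm is), C_c hDy, C_a hDy] at h2
  -- `E i j (x i) + E j m (x j) = 0`
  have e1 : E S p q s j (x i) + E S p q s i (x i) = E S p q i j (x i) := by
    have h3 := E_add hS hM hN hD hp hq hr (hx i) (a := i) (b := s) (c := j) ⟨is, ij, Ne.symm js⟩ hi hs hjS
    rw [E_swap hS hM hN hD hp hq hr (hx i) (Ne.symm is) hs hi] at h3
    rw [← h3, add_comm]
  have e2 : E S p q s m (x j) + E S p q s j (x j) = E S p q j m (x j) := by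
    have h3 := E_add hS hM hN hD hp hq hr (hx j) (a := j) (b := s) (c := m) ⟨js, jm, hsm⟩ hjS hs hm
    rw [E_swap hS hM hN hD hp hq hr (hx j) (Ne.symm js) hs hjS] at h3
    rw [← h3, add_comm]
  rw [e1, e2] at h2
  -- apply `1 + z`
  obtain ⟨a, ha, ha'⟩ := exists_not_mem (S := S) {i, j, m} (lt_of_le_of_lt (Finset.card_le_three) (by omega))
  obtain ⟨b, hb, hb'⟩ := exists_not_mem (S := S) {i, j, m, a} (lt_of_le_of_lt (Finset.card_le_four) (by omega))
  simp only [Finset.mem_insert, Finset.mem_singleton, not_or] at ha' hb'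
  obtain ⟨ai, aj, am⟩ := ha'
  obtain ⟨bi, bj, bm, ba⟩ := hb'
  have hDz : D3 m a b := ⟨Ne.symm am, Ne.symm bm, Ne.symm ba⟩
  have h3 : C m a b • (E S p q i j (x i) + E S p q j m (x j)) + (E S p q i j (x i) + E S p q j m (x j)) = 0 := by
    rw [h2, smul_zero, add_zero]
  rw [smul_add, smul_E hS hM hN hD hp hq hr (hx i) ij hi hjS (sup_C hm ha hb),
    smul_E hS hM hN hD hp hq hr (hx j) jm hjS hm (sup_C hm ha hb), C_of_ne im (Ne.symm ai) (Ne.symm bi),
    C_of_ne jm (Ne.symm aj) (Ne.symm bj), C_a hDz] at h3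
  have e3 : E S p q j a (x j) + E S p q j m (x j) = E S p q a m (x j) := by
    have h4 := E_add hS hM hN hD hp hq hr (hx j) (a := a) (b := j) (c := m) ⟨aj, am, jm⟩ ha hjS hm
    rw [E_swap hS hM hN hD hp hq hr (hx j) (Ne.symm aj) hjS ha] at h4
    exact h4
  have h4 : E S p q a m (x j) = 0 := by
    rw [← e3, ← h3]
    two
  exact E_inj hS hM hN hD hp hq hr (hx j) am ha hm h4

/-- **the count** -/
theorem card_pow_le [Finite V] : Nat.card (NN S M p q r) ^ (S.card - 2) ≤ Nat.card M := by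
  classical
  let J : Finset Ω := S \ {p, q}
  have hJ : Nat.card J = S.card - 2 := by
    rw [Nat.card_eq_fintype_card, Fintype.card_coe, Finset.card_sdiff_of_subset, Finset.card_pair hD.1]
    intro x hx
    simp only [Finset.mem_insert, Finset.mem_singleton] at hx
    rcases hx with rfl | rfl <;> assumption
  rw [← hJ]
  have : Nat.card (NN S M p q r) ^ Nat.card J = Nat.card (J → NN S M p q r) := by
    rw [Nat.card_fun]
  rw [this]
  let ext : (J → NN S M p q r) → Ω → V := fun x j => if h : j ∈ J then (x ⟨j, h⟩ : V) else 0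
  have hext : ∀ x j, ext x j ∈ NN S M p q r := by
    intro x j
    show (if h : j ∈ J then (x ⟨j, h⟩ : V) else 0) ∈ _
    split_ifs with h
    · exact (x ⟨j, h⟩).2
    · exact (NN S M p q r).zero_mem
  have hmemJ : ∀ j ∈ J, j ∈ S ∧ p ≠ j := by
    intro j hj
    simp only [J, Finset.mem_sdiff, Finset.mem_insert, Finset.mem_singleton, not_or] at hj
    exact ⟨hj.1, Ne.symm hj.2.1⟩
  refine Nat.card_le_card_of_injective (fun x : J → NN S M p q r =>
    (⟨∑ j ∈ J, E S p q p j (ext x j), M.sum_mem fun j hj =>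
      E_mem hS hM hN hD hp hq hr (hext x j) (hmemJ j hj).2 hp (hmemJ j hj).1⟩ : M)) ?_
  intro x y hxy
  have h1 : ∑ j ∈ J, E S p q p j (ext x j) = ∑ j ∈ J, E S p q p j (ext y j) := congrArg Subtype.val hxy
  have h2 : ∑ j ∈ J, E S p q p j (ext x j + ext y j) = 0 := by
    simp only [map_add]
    rw [Finset.sum_add_distrib, h1, aa]
  funext ⟨j, hj⟩
  have h3 := sum_eq_zero hS hM hN hD hp hq hr hp hq hD.1 (x := fun j => ext x j + ext y j)
    (fun j => (NN S M p q r).add_mem (hext x j) (hext y j)) h2 hj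
  have h4 : ext x j = ext y j := addz_iff.mp h3
  apply Subtype.ext
  have h5 : ext x j = (x ⟨j, hj⟩ : V) := dif_pos hj
  have h6 : ext y j = (y ⟨j, hj⟩ : V) := dif_pos hj
  rw [← h5, ← h6, h4]

end E

/-- in a `Mod4` module `N` is `ω`-invariant -/
theorem om_NN {ω : V →+ V} (h : Mod4 S M ω) (hp : p ∈ S) (hq : q ∈ S) (hr : r ∈ S) : Om (NN S M p q r) ω :=
  ⟨fun v hv => ⟨h.mem v hv.1, by rw [h.F_comm hp hq hr hv.1, hv.2.1], fun g hg h1 h2 h3 => by
    rw [← h.comm g hg v hv.1, hv.2.2 g hg h1 h2 h3]⟩, fun v hv => h.sq v hv.1⟩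

/-- natural type, `Mod4` -/
theorem Mod4.natl [Finite V] (hS : 6 ≤ S.card) {ω : V →+ V} (h : Mod4 S M ω) (hN : Natl S M) (hn : Nt S M) :
    4 ^ (S.card - 2) ≤ Nat.card M := by
  obtain ⟨p, hp, q, hq, r, h88⟩ := hn
  revert h88; rintro ⟨hr, hD, v, hv, h0⟩
  obtain ⟨x, hx, hx0⟩ := NN_ne hS h.inv hN hD hp hq hr (h.inv.F hp hq hr hv) (F_F hD v) h0
  have h1 := (om_NN h hp hq hr).four_le hx hx0
  exact (Nat.pow_le_pow_left h1 _).trans (card_pow_le hS h.inv hN hD hp hq hr)

/-- natural type, `F₂` -/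
theorem natl [Finite V] (hS : 6 ≤ S.card) (h : _root_.Cfsg.Agent.Omega.TwoF.AltSplit.Inv S M) (hN : Natl S M) (hn : Nt S M) :
    2 ^ (S.card - 2) ≤ Nat.card M := by
  obtain ⟨p, hp, q, hq, r, h88⟩ := hn
  revert h88; rintro ⟨hr, hD, v, hv, h0⟩
  obtain ⟨x, hx, hx0⟩ := NN_ne hS h hN hD hp hq hr (h.F hp hq hr hv) (F_F hD v) h0
  have h1 := two_le_card hx hx0
  exact (Nat.pow_le_pow_left h1 _).trans (card_pow_le hS h hN hD hp hq hr)

end Cfsg.Agent.Omega.TwoF.AltNat

end

-- merged: Cfsg.Agent.Omega.TwoF.AltPure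
section

/-!
# Elementary abelian 2-groups with an action of an alternating group, IV: pure type

All 3-cycles satisfy `1 + c + c² = 0` on `M`.  The operators `X_i = (p q i)` generate a Clifford algebra:

* `halve`: `a² = 0`, `a b + b' a = 1` on `M` ⟹ `|M| = |ker a|²`;
* `clifford`: six operators with `v_i² = 1`, `v_i v_j + v_j v_i = 1` ⟹ `|M| = y ^ 8`;
* `pure_nine`, `pure_ten`: `|M| = y ^ 8` (`|S| ≥ 9`), `|M| = y ^ 16` (`|S| ≥ 10`).
-/

set_option autoImplicit false
set_option linter.unusedSectionVars false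

namespace Cfsg.Agent.Omega.TwoF.AltPure

open Equiv Equiv.Perm AltCyc AltSplit AltSix AltNat

universe u w

section Ring

variable {V : Type w} [AddCommGroup V] [Two V]

theorem end_aa (a : AddMonoid.End V) : a + a = 0 := by
  ext v
  exact aa (a v)

theorem end_aab (a b : AddMonoid.End V) : a + (a + b) = b := by rw [← add_assoc, end_aa, zero_add]

/-- normalise sums of endomorphisms in characteristic 2 -/
macro "etwo" : tactic =>
  `(tactic| simp only [add_comm, add_left_comm, add_assoc, end_aa, end_aab, add_zero, zero_add])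

/-- the kernel of `a` on `M` -/
def kr (M : AddSubgroup V) (a : AddMonoid.End V) : AddSubgroup V where
  carrier := {v | v ∈ M ∧ a v = 0}
  zero_mem' := ⟨M.zero_mem, map_zero a⟩
  add_mem' := fun {x y} hx hy => ⟨M.add_mem hx.1 hy.1, by rw [map_add, hx.2, hy.2, add_zero]⟩
  neg_mem' := fun {x} hx => ⟨M.neg_mem hx.1, by rw [map_neg, hx.2, neg_zero]⟩

/-- **the halving lemma** -/
theorem halve [Finite V] {M : AddSubgroup V} {a b b' : AddMonoid.End V} (ha : ∀ v ∈ M, a v ∈ M)
    (hb : ∀ v ∈ M, b v ∈ M) (h1 : a * a = 0) (h2 : a * b + b' * a = 1) :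
    Nat.card M = Nat.card (kr M a) ^ 2 := by
  have e1 : ∀ v, a (a v) = 0 := fun v => DFunLike.congr_fun h1 v
  have e2 : ∀ v, a (b v) + b' (a v) = v := fun v => DFunLike.congr_fun h2 v
  have e3 : ∀ v, a v = 0 → a (b v) = v := by
    intro v hv
    have := e2 v
    rwa [hv, map_zero, add_zero] at this
  rw [pow_two, ← Nat.card_prod]
  refine Nat.card_congr
    { toFun := fun v => (⟨a v, ha v v.2, e1 v⟩, ⟨v + b (a v), M.add_mem v.2 (hb _ (ha _ v.2)), ?_⟩)
      invFun := fun x => ⟨x.2 + b x.1, M.add_mem x.2.2.1 (hb _ x.1.2.1)⟩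
      left_inv := ?_
      right_inv := ?_ }
  · rw [map_add, e3 _ (e1 v)]; exact aa _
  · intro v
    apply Subtype.ext
    show (v : V) + b (a v) + b (a v) = v
    rw [add_assoc, aa, add_zero]
  · rintro ⟨⟨x, hx, hx'⟩, ⟨y, hy, hy'⟩⟩
    have hx'' : a x = 0 := hx'
    have hy'' : a y = 0 := hy'
    refine Prod.ext (Subtype.ext ?_) (Subtype.ext ?_)
    · show a (y + b x) = x
      rw [map_add, hy'', zero_add, e3 x hx'']
    · show y + b x + b (a (y + b x)) = y
      rw [map_add a, hy'', zero_add, e3 x hx'', add_assoc, aa, add_zero]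

theorem mem_ker_of_comm {M : AddSubgroup V} {a c : AddMonoid.End V} (hc : ∀ v ∈ M, c v ∈ M)
    (h : a * c = c * a) : ∀ v ∈ kr M a, c v ∈ kr M a := by
  intro v hv
  refine ⟨hc v hv.1, ?_⟩
  have h1 : a (c v) = c (a v) := DFunLike.congr_fun h v
  rw [h1, hv.2, map_zero]

/-- the Clifford relations for six operators -/
structure Cl (v1 v2 v3 v4 v5 v6 : AddMonoid.End V) : Prop where
  h11 : v1 * v1 = 1
  h22 : v2 * v2 = 1
  h33 : v3 * v3 = 1
  h44 : v4 * v4 = 1
  h55 : v5 * v5 = 1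
  h66 : v6 * v6 = 1
  h21 : v2 * v1 = v1 * v2 + 1
  h31 : v3 * v1 = v1 * v3 + 1
  h41 : v4 * v1 = v1 * v4 + 1
  h51 : v5 * v1 = v1 * v5 + 1
  h61 : v6 * v1 = v1 * v6 + 1
  h32 : v3 * v2 = v2 * v3 + 1
  h42 : v4 * v2 = v2 * v4 + 1
  h52 : v5 * v2 = v2 * v5 + 1
  h62 : v6 * v2 = v2 * v6 + 1
  h43 : v4 * v3 = v3 * v4 + 1
  h53 : v5 * v3 = v3 * v5 + 1
  h63 : v6 * v3 = v3 * v6 + 1
  h54 : v5 * v4 = v4 * v5 + 1
  h64 : v6 * v4 = v4 * v6 + 1
  h65 : v6 * v5 = v5 * v6 + 1

/-- the last kernel -/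
abbrev Kc (M : AddSubgroup V) (v1 v2 v3 v4 v5 : AddMonoid.End V) : AddSubgroup V :=
  kr (kr (kr M (v1 + 1)) (v3 + v1 + v2)) (v5 + (v1 + v2 + v3 + v4) + 1)

theorem clifford [Finite V] {M : AddSubgroup V} {v1 v2 v3 v4 v5 v6 : AddMonoid.End V}
    (h : Cl v1 v2 v3 v4 v5 v6) (m1 : ∀ v ∈ M, v1 v ∈ M) (m2 : ∀ v ∈ M, v2 v ∈ M) (m3 : ∀ v ∈ M, v3 v ∈ M)
    (m4 : ∀ v ∈ M, v4 v ∈ M) (m5 : ∀ v ∈ M, v5 v ∈ M) (m6 : ∀ v ∈ M, v6 v ∈ M) :
    Nat.card M = Nat.card (Kc M v1 v2 v3 v4 v5) ^ 8 := by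
  obtain ⟨h11, h22, h33, h44, h55, h66, h21, h31, h41, h51, h61, h32, h42, h52, h62, h43, h53, h63, h54, h64,
    h65⟩ := h
  have add_mem : ∀ {a b : AddMonoid.End V}, (∀ v ∈ M, a v ∈ M) → (∀ v ∈ M, b v ∈ M) → ∀ v ∈ M, (a + b) v ∈ M :=
    fun ha hb v hv => M.add_mem (ha v hv) (hb v hv)
  have one_mem : ∀ v ∈ M, (1 : AddMonoid.End V) v ∈ M := fun v hv => hv
  have s1 : Nat.card M = Nat.card (kr M (v1 + 1)) ^ 2 := by
    refine halve (b := v2) (b' := v2) (add_mem m1 one_mem) m2 ?_ ?_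
    · simp only [mul_add, add_mul, mul_one, one_mul, h11]; etwo
    · simp only [mul_add, add_mul, mul_one, one_mul, h21]; etwo
  have ma2 := mem_ker_of_comm (a := v1 + 1) (add_mem (add_mem m3 m1) m2) (by
    simp only [mul_add, add_mul, mul_one, one_mul, h11, h21, h31]; etwo)
  have mb2 := mem_ker_of_comm (a := v1 + 1) (add_mem (add_mem m4 m1) m2) (by
    simp only [mul_add, add_mul, mul_one, one_mul, h11, h21, h41]; etwo)
  have s2 : Nat.card (kr M (v1 + 1)) = Nat.card (kr (kr M (v1 + 1)) (v3 + v1 + v2)) ^ 2 := by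
    refine halve (b := v4 + v1 + v2) (b' := v4 + v1 + v2) ma2 mb2 ?_ ?_
    · simp only [mul_add, add_mul, h11, h21, h31, h22, h32, h33]; etwo
    · simp only [mul_add, add_mul, h11, h21, h31, h41, h22, h32, h42, h43]; etwo
  have ms := add_mem (add_mem (add_mem m1 m2) m3) m4
  have ma3 := mem_ker_of_comm (a := v1 + 1) (add_mem (add_mem m5 ms) one_mem) (by
    simp only [mul_add, add_mul, mul_one, one_mul, h11, h21, h31, h41, h51]; etwo)
  have mb3 := mem_ker_of_comm (a := v1 + 1) (add_mem m6 ms) (by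
    simp only [mul_add, add_mul, mul_one, one_mul, h11, h21, h31, h41, h61]; etwo)
  have ma3' := mem_ker_of_comm (a := v3 + v1 + v2) ma3 (by
    simp only [mul_add, add_mul, mul_one, one_mul, h11, h21, h31, h41, h51, h22, h32, h42, h52, h33, h43, h53]
    etwo)
  have mb3' := mem_ker_of_comm (a := v3 + v1 + v2) mb3 (by
    simp only [mul_add, add_mul, mul_one, one_mul, h11, h21, h31, h41, h61, h22, h32, h42, h62, h33, h43, h63]
    etwo)
  have s3 : Nat.card (kr (kr M (v1 + 1)) (v3 + v1 + v2)) = Nat.card (Kc M v1 v2 v3 v4 v5) ^ 2 := by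
    have ss : (v1 + v2 + v3 + v4) * (v1 + v2 + v3 + v4) = 0 := by
      simp only [mul_add, add_mul, h11, h21, h31, h41, h22, h32, h42, h33, h43, h44]
      etwo
    have s5 : v5 * (v1 + v2 + v3 + v4) = (v1 + v2 + v3 + v4) * v5 := by
      simp only [mul_add, add_mul, h51, h52, h53, h54]
      etwo
    have s6 : v6 * (v1 + v2 + v3 + v4) = (v1 + v2 + v3 + v4) * v6 := by
      simp only [mul_add, add_mul, h61, h62, h63, h64]
      etwo
    refine halve (b := v6 + (v1 + v2 + v3 + v4)) (b' := v6 + (v1 + v2 + v3 + v4)) ma3' mb3' ?_ ?_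
    · generalize v1 + v2 + v3 + v4 = s at *
      simp only [mul_add, add_mul, mul_one, one_mul, ss, s5, h55]
      etwo
    · generalize v1 + v2 + v3 + v4 = s at *
      simp only [mul_add, add_mul, mul_one, one_mul, ss, s5, s6, h65]
      etwo
  rw [s1, s2, s3]
  ring

/-- operators commuting with the `v`s -/
theorem Kc_mem {M : AddSubgroup V} {v1 v2 v3 v4 v5 ω : AddMonoid.End V} (hω : ∀ v ∈ M, ω v ∈ M)
    (c1 : v1 * ω = ω * v1) (c2 : v2 * ω = ω * v2) (c3 : v3 * ω = ω * v3) (c4 : v4 * ω = ω * v4)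
    (c5 : v5 * ω = ω * v5) : ∀ v ∈ Kc M v1 v2 v3 v4 v5, ω v ∈ Kc M v1 v2 v3 v4 v5 := by
  refine mem_ker_of_comm (mem_ker_of_comm (mem_ker_of_comm hω ?_) ?_) ?_
  · simp only [mul_add, add_mul, mul_one, one_mul, c1]
  · simp only [mul_add, add_mul, c1, c2, c3]
  · simp only [mul_add, add_mul, mul_one, one_mul, c1, c2, c3, c4, c5]

/-- the relations of the `X_i` -/
structure Xs {n : ℕ} (X : Fin n → AddMonoid.End V) : Prop where
  sq : ∀ i, X i * X i = X i + 1
  comm : ∀ i j, i ≠ j → X j * X i = X i * X j + X i + X j + 1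

theorem Xs.v_sq {n : ℕ} {X : Fin n → AddMonoid.End V} (h : Xs X) {i j : Fin n} (hij : i ≠ j) :
    (X i + X j) * (X i + X j) = 1 := by
  simp only [mul_add, add_mul, h.sq, h.comm i j hij]; etwo

theorem Xs.v_comm {n : ℕ} {X : Fin n → AddMonoid.End V} (h : Xs X) {i j k : Fin n} (hij : i ≠ j) (hik : i ≠ k)
    (hjk : j ≠ k) : (X i + X k) * (X i + X j) = (X i + X j) * (X i + X k) + 1 := by
  simp only [mul_add, add_mul, h.sq, h.comm i j hij, h.comm i k hik, h.comm j k hjk]; etwo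

theorem Xs.cl {n : ℕ} {X : Fin n → AddMonoid.End V} (h : Xs X) (j : Fin 7 → Fin n) (hj : Function.Injective j) :
    Cl (X (j 0) + X (j 1)) (X (j 0) + X (j 2)) (X (j 0) + X (j 3)) (X (j 0) + X (j 4)) (X (j 0) + X (j 5))
      (X (j 0) + X (j 6)) := by
  have k : ∀ a b : Fin 7, a ≠ b → j a ≠ j b := fun a b hab => hj.ne hab
  constructor <;> first
    | exact h.v_sq (k _ _ (by decide))
    | exact h.v_comm (k _ _ (by decide)) (k _ _ (by decide)) (k _ _ (by decide))

/-- nine points -/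
theorem Xs.nine [Finite V] {X : Fin 7 → AddMonoid.End V} (h : Xs X) : ∃ y, Nat.card V = y ^ 8 := by
  have h1 := clifford (M := (⊤ : AddSubgroup V)) (h.cl id Function.injective_id) (fun _ _ => trivial)
    (fun _ _ => trivial) (fun _ _ => trivial) (fun _ _ => trivial) (fun _ _ => trivial) (fun _ _ => trivial)
  rw [AddSubgroup.card_top] at h1
  exact ⟨_, h1⟩

/-- ten points, in terms of the `v_i` -/
theorem ten_aux [Finite V] {x v1 v2 v3 v4 v5 v6 v7 : AddMonoid.End V} (h : Cl v1 v2 v3 v4 v5 v6)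
    (h77 : v7 * v7 = 1) (h71 : v7 * v1 = v1 * v7 + 1) (h72 : v7 * v2 = v2 * v7 + 1)
    (h73 : v7 * v3 = v3 * v7 + 1) (h74 : v7 * v4 = v4 * v7 + 1) (h75 : v7 * v5 = v5 * v7 + 1)
    (h76 : v7 * v6 = v6 * v7 + 1) (x1 : x * v1 = v1 * x + v1 + 1) (x2 : x * v2 = v2 * x + v2 + 1)
    (x3 : x * v3 = v3 * x + v3 + 1) (x4 : x * v4 = v4 * x + v4 + 1) (x5 : x * v5 = v5 * x + v5 + 1)
    (x6 : x * v6 = v6 * x + v6 + 1) (x7 : x * v7 = v7 * x + v7 + 1) :
    Nat.card V = Nat.card (Kc (kr ⊤ (v1 + v2 + v3 + v4 + v5 + v6 + v7)) v1 v2 v3 v4 v5) ^ 16 := by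
  obtain ⟨h11, h22, h33, h44, h55, h66, h21, h31, h41, h51, h61, h32, h42, h52, h62, h43, h53, h63, h54, h64,
    h65⟩ := id h
  have s1 : Nat.card (⊤ : AddSubgroup V) = Nat.card (kr ⊤ (v1 + v2 + v3 + v4 + v5 + v6 + v7)) ^ 2 := by
    refine halve (b := x) (b' := x + 1) (fun _ _ => trivial) (fun _ _ => trivial) ?_ ?_
    · simp only [mul_add, add_mul, h11, h22, h33, h44, h55, h66, h77, h21, h31, h41, h51, h61, h71, h32, h42, h52,
        h62, h72, h43, h53, h63, h73, h54, h64, h74, h65, h75, h76]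
      etwo
    · simp only [mul_add, add_mul, one_mul, x1, x2, x3, x4, x5, x6, x7]
      etwo
  have m1 := mem_ker_of_comm (M := ⊤) (a := v1 + v2 + v3 + v4 + v5 + v6 + v7) (c := v1) (fun _ _ => trivial) (by
    simp only [mul_add, add_mul, h11, h21, h31, h41, h51, h61, h71]; etwo)
  have m2 := mem_ker_of_comm (M := ⊤) (a := v1 + v2 + v3 + v4 + v5 + v6 + v7) (c := v2) (fun _ _ => trivial) (by
    simp only [mul_add, add_mul, h22, h21, h32, h42, h52, h62, h72]; etwo)
  have m3 := mem_ker_of_comm (M := ⊤) (a := v1 + v2 + v3 + v4 + v5 + v6 + v7) (c := v3) (fun _ _ => trivial) (by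
    simp only [mul_add, add_mul, h33, h31, h32, h43, h53, h63, h73]; etwo)
  have m4 := mem_ker_of_comm (M := ⊤) (a := v1 + v2 + v3 + v4 + v5 + v6 + v7) (c := v4) (fun _ _ => trivial) (by
    simp only [mul_add, add_mul, h44, h41, h42, h43, h54, h64, h74]; etwo)
  have m5 := mem_ker_of_comm (M := ⊤) (a := v1 + v2 + v3 + v4 + v5 + v6 + v7) (c := v5) (fun _ _ => trivial) (by
    simp only [mul_add, add_mul, h55, h51, h52, h53, h54, h65, h75]; etwo)
  have m6 := mem_ker_of_comm (M := ⊤) (a := v1 + v2 + v3 + v4 + v5 + v6 + v7) (c := v6) (fun _ _ => trivial) (by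
    simp only [mul_add, add_mul, h66, h61, h62, h63, h64, h65, h76]; etwo)
  have s2 := clifford h m1 m2 m3 m4 m5 m6
  rw [← AddSubgroup.card_top, s1, s2]
  ring

/-- ten points -/
theorem Xs.ten [Finite V] {X : Fin 8 → AddMonoid.End V} (h : Xs X) : ∃ K : AddSubgroup V,
    Nat.card V = Nat.card K ^ 16 ∧ ∀ ω : AddMonoid.End V, (∀ i, X i * ω = ω * X i) → ∀ v ∈ K, ω v ∈ K := by
  have hcl := h.cl (Fin.castSucc : Fin 7 → Fin 8) (Fin.castSucc_injective 7)
  have hv7 : ∀ i : Fin 8, i ≠ 0 → i ≠ 7 → (X 0 + X 7) * (X 0 + X i) = (X 0 + X i) * (X 0 + X 7) + 1 :=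
    fun i hi hi' => h.v_comm hi.symm (by decide) hi'
  have hX : ∀ i : Fin 8, i ≠ 0 → X 0 * (X 0 + X i) = (X 0 + X i) * X 0 + (X 0 + X i) + 1 := by
    intro i hi
    simp only [mul_add, add_mul, h.sq, h.comm 0 i hi.symm]; etwo
  refine ⟨_, ten_aux (x := X 0) (v1 := X 0 + X 1) (v2 := X 0 + X 2) (v3 := X 0 + X 3) (v4 := X 0 + X 4)
    (v5 := X 0 + X 5) (v6 := X 0 + X 6) (v7 := X 0 + X 7) hcl (h.v_sq (by decide))
    (hv7 1 (by decide) (by decide)) (hv7 2 (by decide) (by decide)) (hv7 3 (by decide) (by decide))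
    (hv7 4 (by decide) (by decide)) (hv7 5 (by decide) (by decide)) (hv7 6 (by decide) (by decide))
    (hX 1 (by decide)) (hX 2 (by decide)) (hX 3 (by decide)) (hX 4 (by decide)) (hX 5 (by decide))
    (hX 6 (by decide)) (hX 7 (by decide)), ?_⟩
  intro ω hω
  have c : ∀ i, (X 0 + X i) * ω = ω * (X 0 + X i) := by
    intro i
    rw [mul_add, add_mul, hω, hω]
  refine Kc_mem (mem_ker_of_comm (fun _ _ => trivial) ?_) (c 1) (c 2) (c 3) (c 4) (c 5)
  rw [add_mul, add_mul, add_mul, add_mul, add_mul, add_mul, mul_add, mul_add, mul_add, mul_add, mul_add, mul_add,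
    c, c, c, c, c, c, c]

end Ring

section Mod

variable {Ω : Type u} [DecidableEq Ω] [Fintype Ω]
variable {V : Type w} [AddCommGroup V] [Two V] [DistribMulAction (alternatingGroup Ω) V]
variable {a b c d e f p q : Ω} {S : Finset Ω} {M : AddSubgroup V}

/-- pure type: every 3-cycle in `S` satisfies `1 + c + c² = 0` on `M` -/
def Pr (S : Finset Ω) (M : AddSubgroup V) : Prop :=
  ∀ a ∈ S, ∀ b ∈ S, ∀ c ∈ S, D3 a b c → ∀ v ∈ M, F a b c v = v

theorem pr_of_one (hS : 5 ≤ S.card) (hM : _root_.Cfsg.Agent.Omega.TwoF.AltSplit.Inv S M) (hD : D3 a b c) (ha : a ∈ S) (hb : b ∈ S) (hc : c ∈ S)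
    (h : ∀ v ∈ M, F a b c v = v) : Pr S M := by
  intro a' ha' b' hb' c' hc' hD' v hv
  obtain ⟨g, hg, e1, e2, e3⟩ := exists_move hS hD hD' ha hb hc ha' hb' hc'
  have h1 := smul_F g a b c (g⁻¹ • v)
  rw [e1, e2, e3, smul_inv_smul, h _ (hM _ hg.inv v hv), smul_inv_smul] at h1
  exact h1.symm

/-- the restriction to `M` -/
def rs (hM : _root_.Cfsg.Agent.Omega.TwoF.AltSplit.Inv S M) (g : alternatingGroup Ω) (hg : Sup S g) : AddMonoid.End M where
  toFun v := ⟨g • (v : V), hM g hg v v.2⟩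
  map_zero' := Subtype.ext (smul_zero g)
  map_add' v w := Subtype.ext (smul_add g (v : V) w)

theorem rs_apply (hM : _root_.Cfsg.Agent.Omega.TwoF.AltSplit.Inv S M) (g : alternatingGroup Ω) (hg : Sup S g) (v : M) :
    ((rs hM g hg v : M) : V) = g • (v : V) := rfl

theorem C_mul_C_sq {i j : Ω} (h1 : D3 p q i) (h2 : D3 p q j) (hij : i ≠ j) :
    (C p q i * C p q j) * (C p q i * C p q j) = 1 := by
  have key : ∀ x : Ω, (C p q i : Perm Ω) ((C p q j : Perm Ω) x) =
      if x = p then i else if x = i then p else if x = q then j else if x = j then q else x := by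
    intro x
    by_cases hp : x = p
    · rw [hp, C_a h2, C_b h1, if_pos rfl]
    by_cases hi : x = i
    · rw [hi, C_of_ne h1.2.1.symm h1.2.2.symm hij, C_c h1, if_neg h1.2.1.symm, if_pos rfl]
    by_cases hq : x = q
    · rw [hq, C_b h2, C_of_ne h2.2.1.symm h2.2.2.symm hij.symm, if_neg h1.1.symm, if_neg h1.2.2, if_pos rfl]
    by_cases hj : x = j
    · rw [hj, C_c h2, C_a h1, if_neg h2.2.1.symm, if_neg hij.symm, if_neg h2.2.2.symm, if_pos rfl]
    rw [C_of_ne hp hq hj, C_of_ne hp hq hi, if_neg hp, if_neg hi, if_neg hq, if_neg hj]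
  apply Subtype.ext
  ext x
  show (C p q i : Perm Ω) ((C p q j : Perm Ω) ((C p q i : Perm Ω) ((C p q j : Perm Ω) x))) = x
  rw [key, key]
  obtain ⟨pq, pi, qi⟩ := h1
  obtain ⟨-, pj, qj⟩ := h2
  by_cases hp : x = p
  · subst hp; rw [if_pos rfl, if_neg pi.symm, if_pos rfl]
  by_cases hi : x = i
  · subst hi; rw [if_neg pi.symm, if_pos rfl, if_pos rfl]
  by_cases hq : x = q
  · subst hq; rw [if_neg pq.symm, if_neg qi, if_pos rfl, if_neg pj.symm, if_neg hij.symm, if_neg qj.symm, if_pos rfl]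
  by_cases hj : x = j
  · subst hj
    rw [if_neg pj.symm, if_neg hij.symm, if_neg qj.symm, if_pos rfl, if_neg pq.symm, if_neg qi, if_pos rfl]
  rw [if_neg hp, if_neg hi, if_neg hq, if_neg hj, if_neg hp, if_neg hi, if_neg hq, if_neg hj]

theorem comm_of_sq {R : Type w} [AddCommGroup R] [Two R] {x y : AddMonoid.End R} (hx : x * x = x + 1)
    (hy : y * y = y + 1) (h : (x * y) * (x * y) = 1) : y * x = x * y + x + y + 1 := by
  have hx3 : x * (x * x) = 1 := by rw [hx, mul_add, hx, mul_one]; etwo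
  have hy3 : (y * y) * y = 1 := by rw [hy, add_mul, hy, one_mul]; etwo
  calc y * x = (x * (x * x)) * (y * x) * ((y * y) * y) := by rw [hx3, hy3, one_mul, mul_one]
    _ = (x * x) * ((x * y) * (x * y)) * (y * y) := by simp only [mul_assoc]
    _ = (x + 1) * (y + 1) := by rw [h, hx, hy, mul_one]
    _ = x * y + x + y + 1 := by
      simp only [mul_add, add_mul, mul_one, one_mul]; etwo

/-- the operators `(p q t_i)` -/
theorem exists_xs (hM : _root_.Cfsg.Agent.Omega.TwoF.AltSplit.Inv S M) (hpr : Pr S M) (n : ℕ) (hS : n + 2 ≤ S.card) :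
    ∃ X : Fin n → AddMonoid.End M, Xs X ∧ ∀ ω : AddMonoid.End M,
      (∀ (g : alternatingGroup Ω) (hg : Sup S g), rs hM g hg * ω = ω * rs hM g hg) → ∀ i, X i * ω = ω * X i := by
  obtain ⟨p, hp, -⟩ := exists_not_mem (S := S) ∅ (by rw [Finset.card_empty]; omega)
  obtain ⟨q, hq, hq'⟩ := exists_not_mem (S := S) {p} (by rw [Finset.card_singleton]; omega)
  have hqp : p ≠ q := fun h => hq' (by simp [h])
  have hT : n ≤ (S \ {p, q}).card := by
    rw [Finset.card_sdiff_of_subset, Finset.card_pair hqp]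
    · omega
    · intro x hx
      simp only [Finset.mem_insert, Finset.mem_singleton] at hx
      rcases hx with rfl | rfl <;> assumption
  let t : Fin n → Ω := fun i => ((S \ {p, q}).equivFin.symm (Fin.castLE hT i) : Ω)
  have ht : Function.Injective t := by
    intro i j hij
    exact Fin.castLE_injective hT ((S \ {p, q}).equivFin.symm.injective (Subtype.ext hij))
  have htm : ∀ i, t i ∈ S ∧ D3 p q (t i) := by
    intro i
    have := ((S \ {p, q}).equivFin.symm (Fin.castLE hT i)).2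
    simp only [Finset.mem_sdiff, Finset.mem_insert, Finset.mem_singleton, not_or] at this
    exact ⟨this.1, hqp, Ne.symm this.2.1, Ne.symm this.2.2⟩
  have hsup : ∀ i, Sup S (C p q (t i)) := fun i => sup_C hp hq (htm i).1
  have hsq : ∀ i, rs hM (C p q (t i)) (hsup i) * rs hM (C p q (t i)) (hsup i) =
      rs hM (C p q (t i)) (hsup i) + 1 := by
    intro i
    ext v
    exact (F_eq_self_iff (htm i).2).mp (hpr p hp q hq (t i) (htm i).1 (htm i).2 v v.2)
  refine ⟨fun i => rs hM (C p q (t i)) (hsup i), ⟨hsq, ?_⟩, fun ω hω i => hω _ _⟩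
  intro i j hij
  refine comm_of_sq (hsq i) (hsq j) ?_
  ext v
  show C p q (t i) • C p q (t j) • C p q (t i) • C p q (t j) • (v : V) = v
  rw [← mul_smul, ← mul_smul, ← mul_smul, mul_assoc (C p q (t i) * C p q (t j)),
    C_mul_C_sq (htm i).2 (htm j).2 (ht.ne hij), one_smul]

theorem pure_nine [Finite V] (hM : _root_.Cfsg.Agent.Omega.TwoF.AltSplit.Inv S M) (hpr : Pr S M) (hS : 9 ≤ S.card) : ∃ y, Nat.card M = y ^ 8 := by
  obtain ⟨X, hX, -⟩ := exists_xs hM hpr 7 hS
  exact hX.nine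

theorem pure_ten [Finite V] (hM : _root_.Cfsg.Agent.Omega.TwoF.AltSplit.Inv S M) (hpr : Pr S M) (hS : 10 ≤ S.card) (h1 : 1 < Nat.card M) :
    2 ^ 16 ≤ Nat.card M := by
  obtain ⟨X, hX, -⟩ := exists_xs hM hpr 8 hS
  obtain ⟨K, hK, -⟩ := hX.ten
  have h2 : 2 ≤ Nat.card K := by
    by_contra hn
    have h4 : Nat.card K ≤ 1 := by omega
    have := Nat.pow_le_pow_left h4 16
    omega
  rw [hK]
  exact Nat.pow_le_pow_left h2 16

theorem Mod4.pure_ten [Finite V] {ω : V →+ V} (h : Mod4 S M ω) (hpr : Pr S M) (hS : 10 ≤ S.card)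
    (h1 : 1 < Nat.card M) : 4 ^ 16 ≤ Nat.card M := by
  obtain ⟨X, hX, hX'⟩ := exists_xs h.inv hpr 8 hS
  obtain ⟨K, hK, hK'⟩ := hX.ten
  have h2 : 1 < Nat.card K := by
    by_contra hn
    have h4 : Nat.card K ≤ 1 := by omega
    have := Nat.pow_le_pow_left h4 16
    omega
  let ω' : AddMonoid.End M :=
    { toFun := fun v => ⟨ω v, h.mem v v.2⟩
      map_zero' := Subtype.ext (map_zero ω)
      map_add' := fun v w => Subtype.ext (map_add ω (v : V) w) }
  have h3 : Om K ω' := by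
    refine ⟨hK' ω' (hX' ω' ?_), ?_⟩
    · intro g hg
      ext v
      exact (h.comm g hg v v.2).symm
    · intro v _
      exact Subtype.ext (h.sq v v.2)
  obtain ⟨x, hx, hx0⟩ := exists_ne_of_card h2
  rw [hK]
  exact Nat.pow_le_pow_left (h3.four_le hx hx0) 16

end Mod

end Cfsg.Agent.Omega.TwoF.AltPure

end

-- merged: Cfsg.Agent.Omega.TwoF.AltDeg
section

/-!
# Elementary abelian 2-groups with an action of an alternating group, V: the degree theorem

* `Mod4.deg`: a nontrivial `Mod4` module for `A_S` has order at least `4 ^ D |S|`, `D m = m - 2` for `m ≥ 9`,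
  `D 6 = D 7 = D 8 = 4`;
* `natl_of_card`: `|S| ≥ 10`, `|M| ≤ 2 ^ (2 ⌊|S| / 2⌋ + 2)` ⟹ natural type;
* `nine`: `|S| = 9`, `|M| ≤ 2 ^ 10` ⟹ natural type, or the operators `F a b c` are all equal on `M`.
-/

set_option autoImplicit false
set_option linter.unusedSectionVars false

namespace Cfsg.Agent.Omega.TwoF.AltDeg

open Equiv Equiv.Perm AltCyc AltSplit AltSix AltNat AltPure

universe u w

variable {Ω : Type u} [DecidableEq Ω] [Fintype Ω]
variable {V : Type w} [AddCommGroup V] [Two V] [DistribMulAction (alternatingGroup Ω) V]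
variable {a b c d e f p q : Ω} {S T : Finset Ω} {M : AddSubgroup V} {ω : V →+ V}

/-- the exponent -/
def Dg (m : ℕ) : ℕ := if m < 9 then 4 else m - 2

theorem sdiff3 (hD : D3 a b c) (ha : a ∈ S) (hb : b ∈ S) (hc : c ∈ S) :
    (S \ {a, b, c}).card = S.card - 3 ∧ a ∉ S \ {a, b, c} ∧ b ∉ S \ {a, b, c} ∧ c ∉ S \ {a, b, c} ∧
      S \ {a, b, c} ⊆ S ∧ ∀ x, x ∈ S \ {a, b, c} ↔ x ∈ S ∧ x ≠ a ∧ x ≠ b ∧ x ≠ c := by
  have h3 : ({a, b, c} : Finset Ω).card = 3 := Finset.card_eq_three.mpr ⟨a, b, c, hD.1, hD.2.1, hD.2.2, rfl⟩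
  refine ⟨?_, ?_, ?_, ?_, Finset.sdiff_subset, ?_⟩
  · rw [Finset.card_sdiff_of_subset, h3]
    intro x hx
    simp only [Finset.mem_insert, Finset.mem_singleton] at hx
    rcases hx with rfl | rfl | rfl <;> assumption
  · simp
  · simp
  · simp
  · intro x
    simp only [Finset.mem_sdiff, Finset.mem_insert, Finset.mem_singleton, not_or]

/-- not natural type: a pair of disjoint cycles -/
theorem exists_of_not_natl (h : ¬ Natl S M) : ∃ a ∈ S, ∃ b ∈ S, ∃ c ∈ S, ∃ d ∈ S, ∃ e ∈ S, ∃ f ∈ S,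
    D6 a b c d e f ∧ ∃ v ∈ M, F a b c (F d e f v) ≠ 0 := by
  rw [Natl] at h
  push Not at h
  exact h

theorem Mod4.pc_mod4 (h : Mod4 S M ω) (ha : a ∈ S) (hb : b ∈ S) (hc : c ∈ S) (hT : T ⊆ S)
    (ha' : a ∉ T) (hb' : b ∉ T) (hc' : c ∉ T) {θ : V →+ V}
    (hθ : ∀ g : alternatingGroup Ω, Sup T g → ∀ v ∈ M, θ (g • v) = g • θ v)
    (hθ' : ∀ v ∈ M, θ (ω v) = ω (θ v)) : Mod4 T (pc (cm M a b c) a b c θ) ω := by
  have h1 := Mod4.om_cm h ha hb hc
  refine ⟨⟨?_, ?_⟩, ?_, ?_⟩
  · intro v hv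
    refine ⟨h1.mem v hv.1, ?_⟩
    have e1 : C a b c • v = θ v := hv.2
    rw [hθ' v hv.1.1, ← e1]
    exact (h.comm _ (sup_C ha hb hc) v hv.1.1).symm
  · intro v hv
    exact h.sq v hv.1.1
  · intro g hg v hv
    refine ⟨inv_cm h.inv hT ha' hb' hc' g hg v hv.1, ?_⟩
    have e1 : C a b c • v = θ v := hv.2
    rw [hθ g hg v hv.1.1, ← e1, sm_apply, ← mul_smul, ← mul_smul, comm_C hg ha' hb' hc']
  · intro g hg v hv
    exact h.comm g (hg.mono hT) v hv.1.1

/-- the splitting of the `F d e f`-part -/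
theorem Mod4.step [Finite V] (hS : 5 ≤ S.card) (h : Mod4 S M ω) (hD : D6 a b c d e f) (ha : a ∈ S) (hb : b ∈ S)
    (hc : c ∈ S) (hd : d ∈ S) (he : e ∈ S) (hf : f ∈ S) {v : V} (hv : v ∈ M) (h0 : F a b c (F d e f v) ≠ 0)
    {n : ℕ} (ih : ∀ (P : AddSubgroup V), Mod4 (S \ {a, b, c}) P ω → Nt (S \ {a, b, c}) P → n ≤ Nat.card P) :
    n * n ≤ Nat.card (cm M a b c) := by
  obtain ⟨-, ha', hb', hc', hT, hmem⟩ := sdiff3 hD.1 ha hb hc
  have hd' : d ∈ S \ {a, b, c} := (hmem d).mpr ⟨hd, hD.2.2.1⟩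
  have he' : e ∈ S \ {a, b, c} := (hmem e).mpr ⟨he, hD.2.2.2.1⟩
  have hf' : f ∈ S \ {a, b, c} := (hmem f).mpr ⟨hf, hD.2.2.2.2⟩
  obtain ⟨k1, k2⟩ := Mod4.cm_sq hS h hD.1 ha hb hc
  have hP : Mod4 (S \ {a, b, c}) (pc (cm M a b c) a b c ω) ω :=
    Mod4.pc_mod4 h ha hb hc hT ha' hb' hc' (fun g hg v hv => h.comm g (hg.mono hT) v hv) fun _ _ => rfl
  have hQ : Mod4 (S \ {a, b, c}) (pc (cm M a b c) a b c (om1 ω)) ω :=
    Mod4.pc_mod4 h ha hb hc hT ha' hb' hc' (fun g hg v hv => by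
      rw [om1_apply, om1_apply, h.comm g (hg.mono hT) v hv, smul_add]) fun v hv => by
      rw [om1_apply, om1_apply, map_add]
  rw [k1]
  -- one of the parts is nontrivial
  by_cases hn : Nt (S \ {a, b, c}) (pc (cm M a b c) a b c ω)
  · have := ih _ hP hn
    exact Nat.mul_le_mul this this
  by_cases hn' : Nt (S \ {a, b, c}) (pc (cm M a b c) a b c (om1 ω))
  · have := ih _ hQ hn'
    rw [k2] at this
    exact Nat.mul_le_mul this this
  exfalso
  -- decompose `x = F a b c v`
  have hx : F a b c v ∈ cm M a b c := F_mem_cm h.inv hD.1 ha hb hc hv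
  set x := F a b c v with hxdef
  have hx1 : F d e f x ≠ 0 := by
    rw [hxdef, ← F_comm hD.2.2.1 hD.2.2.2.1 hD.2.2.2.2]; exact h0
  have o1 : Om (cm M a b c) (sm (C a b c)) := AltSplit.om_cm S h.inv hD.1 ha hb hc
  have o2 := Mod4.om_cm h ha hb hc
  have e1 := o1.sq x hx
  have e2 := o2.sq x hx
  have e3 : sm (C a b c) (ω x) = ω (sm (C a b c) x) := (h.comm _ (sup_C ha hb hc) x hx.1).symm
  have hx2 : x + (sm (C a b c) x + ω x) ∈ pc (cm M a b c) a b c ω := by
    refine ⟨(cm M a b c).add_mem hx ((cm M a b c).add_mem (o1.mem x hx) (o2.mem x hx)), ?_⟩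
    rw [map_add, map_add, map_add, map_add, e1, e2, e3]; two
  have hx3 : sm (C a b c) x + ω x ∈ pc (cm M a b c) a b c (om1 ω) := by
    refine ⟨(cm M a b c).add_mem (o1.mem x hx) (o2.mem x hx), ?_⟩
    rw [om1_apply, map_add, map_add, e1, e2, e3]; two
  have z1 : F d e f (x + (sm (C a b c) x + ω x)) = 0 := by
    by_contra hne
    exact hn ⟨d, hd', e, he', f, hf', hD.2.1, _, hx2, hne⟩
  have z2 : F d e f (sm (C a b c) x + ω x) = 0 := by
    by_contra hne
    exact hn' ⟨d, hd', e, he', f, hf', hD.2.1, _, hx3, hne⟩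
  apply hx1
  rw [map_add, z2, add_zero] at z1
  exact z1

/-- **the degree of a nontrivial `Mod4` module** -/
theorem Mod4.deg [Finite V] : ∀ (m : ℕ) (S : Finset Ω) (M : AddSubgroup V) (ω : V →+ V), S.card = m → 6 ≤ m →
    Mod4 S M ω → Nt S M → 4 ^ Dg m ≤ Nat.card M := by
  intro m
  induction m using Nat.strong_induction_on with
  | _ m IH =>
  intro S M ω hSm hm h hn
  by_cases h9 : m < 9
  · rw [Dg, if_pos h9]
    exact Mod4.six (by omega) h hn
  rw [Dg, if_neg h9]
  by_cases hN : Natl S M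
  · have := Mod4.natl (by omega) h hN hn
    rwa [hSm] at this
  obtain ⟨a, ha, b, hb, c, h88⟩ := exists_of_not_natl hN
  revert h88; rintro ⟨hc, d, hd, e, he, h88⟩
  revert h88; rintro ⟨f, hf, hD, v, hv, h0⟩
  obtain ⟨hcard, -⟩ := sdiff3 hD.1 ha hb hc
  have h1 := Mod4.step (n := 4 ^ Dg (m - 3)) (by omega) h hD ha hb hc hd he hf hv h0 fun P hP hnP =>
    IH (m - 3) (by omega) _ P ω (by omega) (by omega) hP hnP
  have h2 : Nat.card (cm M a b c) ≤ Nat.card M := card_le_of_le Eqz_le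
  rw [← pow_add] at h1
  by_cases h11 : m = 11
  · have h3 : Dg (m - 3) = 4 := by rw [Dg, if_pos (by omega)]
    rw [h3] at h1
    by_cases htop : ∀ v ∈ M, F a b c v = v
    · -- pure
      have hpr : Pr S M := pr_of_one (by omega) h.inv hD.1 ha hb hc htop
      have hMne : 1 < Nat.card M := by
        refine lt_of_lt_of_le ?_ (h1.trans h2)
        norm_num
      have := Mod4.pure_ten h hpr (by omega) hMne
      refine le_trans ?_ this
      exact Nat.pow_le_pow_right (by norm_num) (by omega)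
    · push Not at htop
      obtain ⟨x, hx, hx'⟩ := htop
      have hce : Om (ce M a b c) ω :=
        h.toOm.eqz (fun _ hv => h.F_comm ha hb hc hv) fun v _ => by
          show (0 : V) = ω 0
          rw [map_zero]
      have h4 := hce.four_le (compl_mem_ce h.inv hD.1 ha hb hc hx) (fun h5 => hx' (addz_iff.mp h5).symm)
      rw [card_cm_mul_ce h.inv hD.1 ha hb hc]
      have h5 := Nat.mul_le_mul h1 h4
      refine le_trans ?_ h5
      rw [h11]
      norm_num
  · refine le_trans ?_ (h1.trans h2)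
    apply Nat.pow_le_pow_right (by norm_num)
    unfold Dg
    split_ifs <;> omega

/-! ### The operators `F` -/

theorem D6_unmap {a b c d e f : Ω} (g : Perm Ω) (h : D6 (g a) (g b) (g c) (g d) (g e) (g f)) :
    D6 a b c d e f := by
  have k : ∀ {x y : Ω}, g x ≠ g y → x ≠ y := fun h e => h (by rw [e])
  obtain ⟨⟨x1, x2, x3⟩, ⟨x4, x5, x6⟩, ⟨y1, y2, y3⟩, ⟨y4, y5, y6⟩, ⟨y7, y8, y9⟩⟩ := h
  exact ⟨⟨k x1, k x2, k x3⟩, ⟨k x4, k x5, k x6⟩, ⟨k y1, k y2, k y3⟩, ⟨k y4, k y5, k y6⟩, ⟨k y7, k y8, k y9⟩⟩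

/-- `F d e f F a b c = F a b c` for one triple `a b c` and all `d e f` -/
theorem all_of_one (hS : 5 ≤ S.card) (hM : _root_.Cfsg.Agent.Omega.TwoF.AltSplit.Inv S M) (hD : D3 a b c) (ha : a ∈ S) (hb : b ∈ S) (hc : c ∈ S)
    (h : ∀ d ∈ S, ∀ e ∈ S, ∀ f ∈ S, D6 a b c d e f → ∀ v ∈ M, F d e f (F a b c v) = F a b c v) :
    ∀ a' ∈ S, ∀ b' ∈ S, ∀ c' ∈ S, ∀ d ∈ S, ∀ e ∈ S, ∀ f ∈ S, D6 a' b' c' d e f → ∀ v ∈ M,
      F d e f (F a' b' c' v) = F a' b' c' v := by
  intro a' ha' b' hb' c' hc' d hd e he f hf hD' v hv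
  obtain ⟨g, hg, e1, e2, e3⟩ := exists_move hS hD hD'.1 ha hb hc ha' hb' hc'
  -- `d = g d₁`
  have hinv : ∀ x ∈ S, ∃ y ∈ S, (g : Perm Ω) y = x := fun x hx =>
    ⟨(g : Perm Ω).symm x, hg.inv.mem hx, Equiv.apply_symm_apply _ _⟩
  obtain ⟨d₁, hd₁, f1⟩ := hinv d hd
  obtain ⟨e₁, he₁, f2⟩ := hinv e he
  obtain ⟨f₁, hf₁, f3⟩ := hinv f hf
  subst f1 f2 f3 e1 e2 e3
  have hD₁ : D6 a b c d₁ e₁ f₁ := by
    exact D6_unmap _ hD'
  have h1 := h d₁ hd₁ e₁ he₁ f₁ hf₁ hD₁ (g⁻¹ • v) (hM _ hg.inv v hv)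
  have h2 := congrArg (g • ·) h1
  simp only [smul_F, smul_inv_smul] at h2
  exact h2

/-- then all `F`s are equal -/
theorem F_all_eq (hS : 9 ≤ S.card)
    (h : ∀ a ∈ S, ∀ b ∈ S, ∀ c ∈ S, ∀ d ∈ S, ∀ e ∈ S, ∀ f ∈ S, D6 a b c d e f → ∀ v ∈ M,
      F d e f (F a b c v) = F a b c v)
    (hD : D3 a b c) (hD' : D3 d e f) (ha : a ∈ S) (hb : b ∈ S) (hc : c ∈ S) (hd : d ∈ S) (he : e ∈ S)
    (hf : f ∈ S) : ∀ v ∈ M, F a b c v = F d e f v := by
  have key : ∀ {a b c x y z : Ω}, D6 a b c x y z → a ∈ S → b ∈ S → c ∈ S → x ∈ S → y ∈ S → z ∈ S →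
      ∀ v ∈ M, F a b c v = F x y z v := by
    intro a b c x y z hD ha hb hc hx hy hz v hv
    rw [← h a ha b hb c hc x hx y hy z hz hD v hv, ← F_comm hD.2.2.1 hD.2.2.2.1 hD.2.2.2.2,
      h x hx y hy z hz a ha b hb c hc hD.symm v hv]
  obtain ⟨x, hx, hx'⟩ := exists_not_mem (S := S) {a, b, c, d, e, f} (lt_of_le_of_lt (Finset.card_le_six) (by omega))
  have k7 : (insert x ({a, b, c, d, e, f} : Finset Ω)).card ≤ 7 :=
    (Finset.card_insert_le _ _).trans (by have := Finset.card_le_six (a := a) (b := b) (c := c) (d := d) (e := e) (f := f); omega)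
  obtain ⟨y, hy, hy'⟩ := exists_not_mem (S := S) (insert x {a, b, c, d, e, f}) (by omega)
  have k8 : (insert y (insert x ({a, b, c, d, e, f} : Finset Ω))).card ≤ 8 :=
    (Finset.card_insert_le _ _).trans (by omega)
  obtain ⟨z, hz, hz'⟩ := exists_not_mem (S := S) (insert y (insert x {a, b, c, d, e, f})) (by omega)
  simp only [Finset.mem_insert, Finset.mem_singleton, not_or] at hx' hy' hz'
  obtain ⟨xa, xb, xc, xd, xe, xf⟩ := hx'
  obtain ⟨yx, ya, yb, yc, yd, ye, yf⟩ := hy'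
  obtain ⟨zy, zx, za, zb, zc, zd, ze, zf⟩ := hz'
  have hDx : D3 x y z := ⟨Ne.symm yx, Ne.symm zx, Ne.symm zy⟩
  intro v hv
  rw [key (x := x) (y := y) (z := z) ⟨hD, hDx, ⟨xa, xb, xc⟩, ⟨ya, yb, yc⟩, ⟨za, zb, zc⟩⟩ ha hb hc hx hy hz v hv,
    key (x := x) (y := y) (z := z) ⟨hD', hDx, ⟨xd, xe, xf⟩, ⟨yd, ye, yf⟩, ⟨zd, ze, zf⟩⟩ hd he hf hx hy hz v hv]

/-- case A: `A_{S ∖ {a, b, c}}` is trivial on `C_M(a b c)` -/
theorem caseA (hS : 5 ≤ S.card) (hM : _root_.Cfsg.Agent.Omega.TwoF.AltSplit.Inv S M) (hD : D3 a b c) (ha : a ∈ S) (hb : b ∈ S) (hc : c ∈ S)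
    (hn : ¬ Nt (S \ {a, b, c}) (ce M a b c)) :
    ∀ a ∈ S, ∀ b ∈ S, ∀ c ∈ S, ∀ d ∈ S, ∀ e ∈ S, ∀ f ∈ S, D6 a b c d e f → ∀ v ∈ M,
      F d e f (F a b c v) = F a b c v := by
  obtain ⟨-, -, -, -, -, hmem⟩ := sdiff3 hD ha hb hc
  have h1 : ∀ d ∈ S, ∀ e ∈ S, ∀ f ∈ S, D6 a b c d e f → ∀ v ∈ M, F d e f (F a b c v) = F d e f v := by
    intro d hd e he f hf hD' v hv
    have h2 : F d e f (v + F a b c v) = 0 := by
      by_contra hne
      exact hn ⟨d, (hmem d).mpr ⟨hd, hD'.2.2.1⟩, e, (hmem e).mpr ⟨he, hD'.2.2.2.1⟩, f,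
        (hmem f).mpr ⟨hf, hD'.2.2.2.2⟩, hD'.2.1, _, compl_mem_ce hM hD ha hb hc hv, hne⟩
    rw [map_add] at h2
    exact (addz_iff.mp h2).symm
  -- move
  intro a' ha' b' hb' c' hc' d hd e he f hf hD' v hv
  obtain ⟨g, hg, e1, e2, e3⟩ := exists_move hS hD hD'.2.1 ha hb hc hd he hf
  have hinv : ∀ x ∈ S, ∃ y ∈ S, (g : Perm Ω) y = x := fun x hx =>
    ⟨(g : Perm Ω).symm x, hg.inv.mem hx, Equiv.apply_symm_apply _ _⟩
  obtain ⟨a₁, ha₁, f1⟩ := hinv a' ha'
  obtain ⟨b₁, hb₁, f2⟩ := hinv b' hb'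
  obtain ⟨c₁, hc₁, f3⟩ := hinv c' hc'
  subst f1 f2 f3 e1 e2 e3
  have hD₁ : D6 a b c a₁ b₁ c₁ := by
    exact D6_unmap _ hD'.symm
  have h2 := h1 a₁ ha₁ b₁ hb₁ c₁ hc₁ hD₁ (g⁻¹ • v) (hM _ hg.inv v hv)
  rw [F_comm hD₁.symm.2.2.1 hD₁.symm.2.2.2.1 hD₁.symm.2.2.2.2] at h2
  have h3 := congrArg (g • ·) h2
  simp only [smul_F, smul_inv_smul] at h3
  exact h3

/-- all `F` equal and not zero: a pure part -/
theorem pure_part [Finite V] (hS : 10 ≤ S.card) (hM : _root_.Cfsg.Agent.Omega.TwoF.AltSplit.Inv S M)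
    (h : ∀ a ∈ S, ∀ b ∈ S, ∀ c ∈ S, ∀ d ∈ S, ∀ e ∈ S, ∀ f ∈ S, D6 a b c d e f → ∀ v ∈ M,
      F d e f (F a b c v) = F a b c v)
    (hD : D3 a b c) (ha : a ∈ S) (hb : b ∈ S) (hc : c ∈ S) {v : V} (hv : v ∈ M) (h0 : F a b c v ≠ 0) :
    2 ^ 16 ≤ Nat.card M := by
  have hinv : _root_.Cfsg.Agent.Omega.TwoF.AltSplit.Inv S (cm M a b c) := by
    intro g hg w hw
    refine ⟨hM g hg w hw.1, ?_⟩
    have h1 := smul_F g a b c w
    have h2 : F a b c w = w := hw.2
    rw [h2] at h1
    rw [F_all_eq (by omega) h hD (hD.map (g : Perm Ω)) ha hb hc (hg.mem ha) (hg.mem hb) (hg.mem hc) _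
      (hM g hg w hw.1)]
    exact h1.symm
  have hpr : Pr S (cm M a b c) := by
    intro x hx y hy z hz hD' w hw
    rw [F_all_eq (by omega) h hD' hD hx hy hz ha hb hc w hw.1]
    exact hw.2
  exact (pure_ten hinv hpr hS (card_of_ne (F_mem_cm hM hD ha hb hc hv) h0)).trans (card_le_of_le Eqz_le)

/-- **nine points** -/
theorem nine [Finite V] (hS : S.card = 9) (hM : _root_.Cfsg.Agent.Omega.TwoF.AltSplit.Inv S M) (hcard : Nat.card M ≤ 2 ^ 10) : Natl S M ∨
    ∀ a ∈ S, ∀ b ∈ S, ∀ c ∈ S, D3 a b c → ∀ d ∈ S, ∀ e ∈ S, ∀ f ∈ S, D3 d e f → ∀ v ∈ M,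
      F a b c v = F d e f v := by
  by_cases hN : Natl S M
  · exact Or.inl hN
  refine Or.inr ?_
  obtain ⟨a, ha, b, hb, c, h88⟩ := exists_of_not_natl hN
  revert h88; rintro ⟨hc, d, hd, e, he, h88⟩
  revert h88; rintro ⟨f, hf, hD, v, hv, h0⟩
  obtain ⟨hcT, ha', hb', hc', hT, hmem⟩ := sdiff3 hD.1 ha hb hc
  have hM1 : Mod4 (S \ {a, b, c}) (cm M a b c) (sm (C a b c)) := mod4_cm hM hD.1 ha hb hc hT ha' hb' hc'
  have hn1 : Nt (S \ {a, b, c}) (cm M a b c) := by
    refine ⟨d, (hmem d).mpr ⟨hd, hD.2.2.1⟩, e, (hmem e).mpr ⟨he, hD.2.2.2.1⟩, f,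
        (hmem f).mpr ⟨hf, hD.2.2.2.2⟩, hD.2.1, F a b c v, F_mem_cm hM hD.1 ha hb hc hv, ?_⟩
    rw [← F_comm hD.2.2.1 hD.2.2.2.1 hD.2.2.2.2]
    exact h0
  have h1 := Mod4.six (by omega) hM1 hn1
  have hn0 : ¬ Nt (S \ {a, b, c}) (ce M a b c) := by
    intro hn
    have h2 := six (by omega) (inv_ce hM hT ha' hb' hc') hn
    rw [card_cm_mul_ce hM hD.1 ha hb hc] at hcard
    have h3 := (Nat.mul_le_mul h1 h2).trans hcard
    norm_num at h3
  have h2 := caseA (by omega) hM hD.1 ha hb hc hn0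
  intro a ha b hb c hc hD d hd e he f hf hD'
  exact F_all_eq (by omega) h2 hD hD' ha hb hc hd he hf

/-- ten points -/
theorem ten [Finite V] (hS : S.card = 10) (hM : _root_.Cfsg.Agent.Omega.TwoF.AltSplit.Inv S M) (hcard : Nat.card M ≤ 2 ^ 12) : Natl S M := by
  by_contra hN
  obtain ⟨a, ha, b, hb, c, h88⟩ := exists_of_not_natl hN
  revert h88; rintro ⟨hc, d, hd, e, he, h88⟩
  revert h88; rintro ⟨f, hf, hD, v, hv, h0⟩
  obtain ⟨hcT, ha', hb', hc', hT, hmem⟩ := sdiff3 hD.1 ha hb hc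
  have hM1 : Mod4 (S \ {a, b, c}) (cm M a b c) (sm (C a b c)) := mod4_cm hM hD.1 ha hb hc hT ha' hb' hc'
  have hn1 : Nt (S \ {a, b, c}) (cm M a b c) := by
    refine ⟨d, (hmem d).mpr ⟨hd, hD.2.2.1⟩, e, (hmem e).mpr ⟨he, hD.2.2.2.1⟩, f,
        (hmem f).mpr ⟨hf, hD.2.2.2.2⟩, hD.2.1, F a b c v, F_mem_cm hM hD.1 ha hb hc hv, ?_⟩
    rw [← F_comm hD.2.2.1 hD.2.2.2.1 hD.2.2.2.2]
    exact h0
  have hF0 : F a b c v ≠ 0 := by
    intro h
    apply h0
    rw [F_comm hD.2.2.1 hD.2.2.2.1 hD.2.2.2.2, h, map_zero]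
  have h1 := Mod4.six (by omega) hM1 hn1
  have hM0 := inv_ce hM hT ha' hb' hc'
  have hprod := card_cm_mul_ce hM hD.1 ha hb hc
  -- it is enough to have `F d e f F a b c = F a b c`
  suffices key : ∀ a ∈ S, ∀ b ∈ S, ∀ c ∈ S, ∀ d ∈ S, ∀ e ∈ S, ∀ f ∈ S, D6 a b c d e f → ∀ v ∈ M,
      F d e f (F a b c v) = F a b c v by
    have := pure_part (by omega) hM key hD.1 ha hb hc hv hF0
    have := this.trans hcard
    norm_num at this
  by_cases hn0 : Nt (S \ {a, b, c}) (ce M a b c)
  · -- case B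
    have hN0 : ¬ Natl (S \ {a, b, c}) (ce M a b c) := by
      intro hN0
      have h2 := natl (by omega) hM0 hN0 hn0
      have h3 : (S \ {a, b, c}).card - 2 = 5 := by omega
      rw [h3] at h2
      rw [hprod] at hcard
      have h4 := (Nat.mul_le_mul h1 h2).trans hcard
      norm_num at h4
    have h16 : 2 ^ 4 ≤ Nat.card (ce M a b c) := by
      obtain ⟨x1, i1, x2, i2, x3, h88⟩ := exists_of_not_natl hN0
      revert h88; rintro ⟨i3, x4, i4, x5, i5, h88⟩
      revert h88; rintro ⟨x6, i6, hD', w, hw, hw0⟩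
      exact (quad hM0 hD' i1 i2 i3 i4 i5 i6 hw hw0).trans (card_le_of_le (Eqz_le.trans Eqz_le))
    have h256 : Nat.card (cm M a b c) ≤ 2 ^ 8 := by
      rw [hprod] at hcard
      by_contra hlt
      have h3 : 2 ^ 8 + 1 ≤ Nat.card (cm M a b c) := by omega
      have h4 := (Nat.mul_le_mul h3 h16).trans hcard
      norm_num at h4
    have hN1 : ¬ Natl (S \ {a, b, c}) (cm M a b c) := by
      intro hN1
      have h2 := Mod4.natl (by omega) hM1 hN1 hn1
      have h3 : (S \ {a, b, c}).card - 2 = 5 := by omega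
      rw [h3] at h2
      have h4 := h2.trans h256
      norm_num at h4
    obtain ⟨x1, i1, x2, i2, x3, h88⟩ := exists_of_not_natl hN1
    revert h88; rintro ⟨i3, x4, i4, x5, i5, h88⟩
    revert h88; rintro ⟨x6, i6, hD', w, hw, hw0⟩
    have h2 := Mod4.quad hM1 hD' i1 i2 i3 i4 i5 i6 hw hw0
    have h3 : cm2 (cm M a b c) x1 x2 x3 x4 x5 x6 = cm M a b c :=
      eq_of_card_le (Eqz_le.trans Eqz_le) (h256.trans (le_trans (by norm_num) h2))
    have h4 : ∀ w ∈ cm M a b c, F x1 x2 x3 w = w := by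
      intro w hw
      rw [← h3] at hw
      exact hw.1.2
    -- all triples in `S ∖ {a, b, c}`
    have h5 : Pr (S \ {a, b, c}) (cm M a b c) := pr_of_one (by omega) hM1.inv hD'.1 i1 i2 i3 h4
    refine all_of_one (by omega) hM hD.1 ha hb hc ?_
    intro d hd e he f hf hD' v hv
    exact h5 d ((hmem d).mpr ⟨hd, hD'.2.2.1⟩) e ((hmem e).mpr ⟨he, hD'.2.2.2.1⟩) f
      ((hmem f).mpr ⟨hf, hD'.2.2.2.2⟩) hD'.2.1 _ (F_mem_cm hM hD.1 ha hb hc hv)
  · exact caseA (by omega) hM hD.1 ha hb hc hn0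

/-- natural type is detected on ten points -/
theorem natl_of_sub {n : ℕ} (hn : 6 ≤ n) (hS : n ≤ S.card)
    (h : ∀ T : Finset Ω, T ⊆ S → T.card = n → Natl T M) : Natl S M := by
  intro a ha b hb c hc d hd e he f hf hD v hv
  have h6 : ({a, b, c, d, e, f} : Finset Ω) ⊆ S := by
    intro x hx
    simp only [Finset.mem_insert, Finset.mem_singleton] at hx
    rcases hx with rfl | rfl | rfl | rfl | rfl | rfl <;> assumption
  obtain ⟨T, hT1, hT2, hT3⟩ := Finset.exists_subsuperset_card_eq h6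
    (Finset.card_le_six.trans hn) hS
  have hm : ∀ x ∈ ({a, b, c, d, e, f} : Finset Ω), x ∈ T := fun x hx => hT1 hx
  exact h T hT2 hT3 a (hm a (by simp)) b (hm b (by simp)) c (hm c (by simp)) d (hm d (by simp)) e (hm e (by simp)) f
    (hm f (by simp)) hD v hv

/-- **the degree theorem** -/
theorem natl_of_card [Finite V] (hS : 10 ≤ S.card) (hM : _root_.Cfsg.Agent.Omega.TwoF.AltSplit.Inv S M)
    (hcard : Nat.card M ≤ 2 ^ (2 * (S.card / 2) + 2)) : Natl S M := by
  by_cases h10 : S.card = 10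
  · rw [h10] at hcard
    exact ten h10 hM hcard
  by_cases h11 : S.card = 11
  · rw [h11] at hcard
    exact natl_of_sub (n := 10) (by omega) hS fun T hT hT' => ten hT' (hM.mono hT) hcard
  by_contra hN
  obtain ⟨a, ha, b, hb, c, h88⟩ := exists_of_not_natl hN
  revert h88; rintro ⟨hc, d, hd, e, he, h88⟩
  revert h88; rintro ⟨f, hf, hD, v, hv, h0⟩
  obtain ⟨hcT, ha', hb', hc', hT, hmem⟩ := sdiff3 hD.1 ha hb hc
  have hM1 : Mod4 (S \ {a, b, c}) (cm M a b c) (sm (C a b c)) := mod4_cm hM hD.1 ha hb hc hT ha' hb' hc'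
  have hn1 : Nt (S \ {a, b, c}) (cm M a b c) := by
    refine ⟨d, (hmem d).mpr ⟨hd, hD.2.2.1⟩, e, (hmem e).mpr ⟨he, hD.2.2.2.1⟩, f,
        (hmem f).mpr ⟨hf, hD.2.2.2.2⟩, hD.2.1, F a b c v, F_mem_cm hM hD.1 ha hb hc hv, ?_⟩
    rw [← F_comm hD.2.2.1 hD.2.2.2.1 hD.2.2.2.2]
    exact h0
  have h1 := Mod4.deg (S.card - 3) _ _ _ hcT (by omega) hM1 hn1
  have h2 : Nat.card (cm M a b c) ≤ Nat.card M := card_le_of_le Eqz_le
  have h3 : Dg (S.card - 3) = S.card - 5 := by
    rw [Dg, if_neg (by omega)]; omega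
  rw [h3, show (4 : ℕ) = 2 ^ 2 by norm_num, ← pow_mul] at h1
  by_cases h12 : S.card = 12
  · rw [h12] at h1 hcard
    have h4 : cm M a b c = M := eq_of_card_le Eqz_le (hcard.trans (le_trans (by norm_num) h1))
    have h5 : Pr S M := pr_of_one (by omega) hM hD.1 ha hb hc fun w hw => by
      rw [← h4] at hw
      exact hw.2
    have h6 : 1 < Nat.card M := lt_of_lt_of_le (by norm_num) (h1.trans h2)
    have h7 := (pure_ten hM h5 (by omega) h6).trans hcard
    norm_num at h7
  · have h4 := (h1.trans h2).trans hcard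
    have h5 := (Nat.pow_le_pow_iff_right (by norm_num : 1 < 2)).mp h4
    omega

end Cfsg.Agent.Omega.TwoF.AltDeg

end

-- merged: Cfsg.Agent.Mrg.Omega.TwoF.AltRk
section

section


/-!
# Elementary abelian 2-subgroups of symmetric groups

* `card_sq_le`: `E ≤ Sym Ω` elementary abelian 2-group supported in `S`: `|E|² ≤ 2 ^ |S|`;
* `rk_alt`: `RK A_n ⌊n / 2⌋`, `n ≥ 7`.
-/

set_option autoImplicit false

namespace Cfsg.Agent.Omega.TwoF.AltRk

open Equiv Equiv.Perm Subgroup

universe u w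

variable {Ω : Type u} [DecidableEq Ω] [Fintype Ω]

theorem sq_le_two_pow {m : ℕ} (h : m = 2 ∨ 4 ≤ m) : m ^ 2 ≤ 2 ^ m := by
  rcases h with rfl | h
  · norm_num
  · induction m, h using Nat.le_induction with
    | base => norm_num
    | succ m hm ih =>
      rw [pow_succ 2]
      nlinarith

theorem comm_of_sq {G : Type w} [Group G] {x y : G} (hx : x * x = 1) (hy : y * y = 1)
    (hxy : x * y * (x * y) = 1) : x * y = y * x := by
  have e1 : x⁻¹ = x := inv_eq_of_mul_eq_one_left hx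
  have e2 : y⁻¹ = y := inv_eq_of_mul_eq_one_left hy
  have e3 : (x * y)⁻¹ = x * y := inv_eq_of_mul_eq_one_left hxy
  rw [← e3, mul_inv_rev, e1, e2]

/-- **elementary abelian 2-subgroups of `Sym Ω`** -/
theorem card_sq_le : ∀ (n : ℕ) (E : Subgroup (Perm Ω)) (S : Finset Ω), S.card ≤ n → (∀ x ∈ E, x * x = 1) →
    (∀ x ∈ E, ∀ a, a ∉ S → x a = a) → Nat.card E ^ 2 ≤ 2 ^ S.card := by
  classical
  intro n
  induction n using Nat.strong_induction_on with
  | _ n ih =>
  intro E S hn h2 hS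
  by_cases h1 : ∀ x ∈ E, ∀ a, x a = a
  · have : E = ⊥ := by
      rw [eq_bot_iff]
      intro x hx
      rw [mem_bot]
      ext a
      exact h1 x hx a
    rw [this, card_bot, one_pow]
    exact Nat.one_le_two_pow
  push Not at h1
  obtain ⟨x₀, hx₀, a, ha⟩ := h1
  have hcomm : ∀ x ∈ E, ∀ y ∈ E, x * y = y * x := fun x hx y hy =>
    comm_of_sq (h2 x hx) (h2 y hy) (h2 _ (E.mul_mem hx hy))
  have haS : a ∈ S := by
    by_contra h
    exact ha (hS x₀ hx₀ a h)
  -- the orbit
  let O : Finset Ω := Finset.univ.filter fun b => b ∈ MulAction.orbit E a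
  have hO : ∀ b, b ∈ O ↔ ∃ x ∈ E, x a = b := by
    intro b
    simp only [O, Finset.mem_filter, Finset.mem_univ, true_and, MulAction.mem_orbit_iff]
    constructor
    · rintro ⟨x, hx⟩; exact ⟨x, x.2, hx⟩
    · rintro ⟨x, hx, e⟩; exact ⟨⟨x, hx⟩, e⟩
  have hOcard : Nat.card (MulAction.orbit E a) = O.card := by
    rw [← Nat.card_eq_card_finite_toFinset (Set.toFinite (MulAction.orbit E a)) |>.symm]
    congr 1
    ext b
    simp only [O, _root_.Set.toFinite_toFinset, _root_.Set.mem_toFinset, _root_.Finset.mem_filter, _root_.Finset.mem_univ, _root_.true_and]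
  have hOS : O ⊆ S := by
    intro b hb
    obtain ⟨x, hx, rfl⟩ := (hO b).mp hb
    by_contra h
    have h3 := hS x hx _ h
    rw [x.injective h3] at h
    exact h haS
  have hmul : Nat.card E = O.card * Nat.card (MulAction.stabilizer E a) := by
    rw [← hOcard, Nat.card_congr (MulAction.orbitEquivQuotientStabilizer E a)]
    exact Subgroup.card_eq_card_quotient_mul_card_subgroup _
  have h2p : IsPGroup 2 E := fun x => ⟨1, Subtype.ext (by
    rw [pow_one, pow_two]; exact h2 x x.2)⟩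
  have := Fact.mk Nat.prime_two
  obtain ⟨k, hk⟩ := IsPGroup.iff_card.mp h2p
  have hOdvd : O.card ∣ 2 ^ k := by
    rw [← hk, hmul]; exact dvd_mul_right _ _
  obtain ⟨j, -, hj⟩ := (Nat.dvd_prime_pow Nat.prime_two).mp hOdvd
  have hO2 : 1 < O.card := by
    rw [Finset.one_lt_card]
    exact ⟨a, (hO a).mpr ⟨1, E.one_mem, rfl⟩, x₀ a, (hO _).mpr ⟨x₀, hx₀, rfl⟩, Ne.symm ha⟩
  have hO4 : O.card = 2 ∨ 4 ≤ O.card := by
    rw [hj] at hO2 ⊢
    rcases j with _ | _ | j
    · simp at hO2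
    · left; rfl
    · right
      rw [pow_succ, pow_succ, mul_assoc]
      have := Nat.one_le_two_pow (n := j)
      omega
  -- the stabiliser
  set E' : Subgroup (Perm Ω) := (MulAction.stabilizer E a).map E.subtype with hE'
  have hE'card : Nat.card E' = Nat.card (MulAction.stabilizer E a) :=
    (Nat.card_congr ((MulAction.stabilizer E a).equivMapOfInjective E.subtype E.subtype_injective).toEquiv).symm
  have hE'mem : ∀ y ∈ E', y ∈ E ∧ y a = a := by
    rintro _ ⟨y, hy, rfl⟩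
    exact ⟨y.2, hy⟩
  have key := ih (S \ O).card (by
      have h3 := Finset.card_sdiff_of_subset hOS
      have h4 := Finset.card_le_card hOS
      omega) E' (S \ O) le_rfl (fun y hy => h2 y (hE'mem y hy).1) (by
      intro y hy b hb
      by_cases hbS : b ∈ S
      · have hbO : b ∈ O := by
          by_contra h
          exact hb (Finset.mem_sdiff.mpr ⟨hbS, h⟩)
        obtain ⟨x, hx, rfl⟩ := (hO b).mp hbO
        have h3 := hcomm y (hE'mem y hy).1 x hx
        have h4 : y (x a) = x (y a) := DFunLike.congr_fun h3 a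
        rw [h4, (hE'mem y hy).2]
      · exact hS y (hE'mem y hy).1 b hbS)
  rw [hmul, mul_pow, ← hE'card]
  have h3 := Finset.card_sdiff_of_subset hOS
  have h4 := Finset.card_le_card hOS
  calc O.card ^ 2 * Nat.card E' ^ 2 ≤ 2 ^ O.card * 2 ^ (S \ O).card := Nat.mul_le_mul (sq_le_two_pow hO4) key
    _ = 2 ^ S.card := by rw [← pow_add]; congr 1; omega

theorem card_le (E : Subgroup (Perm Ω)) (h2 : ∀ x ∈ E, x * x = 1) : Nat.card E ≤ 2 ^ (Fintype.card Ω / 2) := by
  have h1 := card_sq_le _ E Finset.univ le_rfl h2 (fun x _ a ha => absurd (Finset.mem_univ a) ha)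
  rw [Finset.card_univ] at h1
  have h2p : IsPGroup 2 E := fun x => ⟨1, Subtype.ext (by
    rw [pow_one, pow_two]; exact h2 x x.2)⟩
  have := Fact.mk Nat.prime_two
  obtain ⟨k, hk⟩ := IsPGroup.iff_card.mp h2p
  rw [hk, ← pow_mul] at h1
  have h3 := (Nat.pow_le_pow_iff_right (by norm_num : 1 < 2)).mp h1
  rw [hk]
  exact Nat.pow_le_pow_right (by norm_num) (by omega)

theorem rk_of_hom {n : ℕ} (ψ : MulAut (alternatingGroup (Fin n)) →* Perm (Fin n))
    (hψ : Function.Injective ψ) : RK (alternatingGroup (Fin n)) (n / 2) := by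
  refine RK.of_injective ψ hψ ?_
  intro A hA
  have := card_le A (fun x hx => by rw [← pow_two]; exact hA x hx)
  rwa [Fintype.card_fin] at this

theorem exists_psi {n : ℕ} (hn : 7 ≤ n) : ∃ ψ : MulAut (alternatingGroup (Fin n)) →* Perm (Fin n),
    Function.Injective ψ ∧ ∀ (e : MulAut (alternatingGroup (Fin n))) (x : alternatingGroup (Fin n)),
      ((e x : alternatingGroup (Fin n)) : Perm (Fin n)) = ψ e * x * (ψ e)⁻¹ := by
  obtain ⟨ψ, hψ⟩ := Cfsg.Agent.StandardComponent.AltAut.exists_autHom n hn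
  refine ⟨ψ, ?_, hψ⟩
  rw [injective_iff_map_eq_one]
  intro e he
  ext x : 2
  rw [hψ, he]
  simp

theorem rk_alt {n : ℕ} (hn : 7 ≤ n) : RK (alternatingGroup (Fin n)) (n / 2) := by
  obtain ⟨ψ, h, -⟩ := exists_psi hn
  exact rk_of_hom ψ h

end Cfsg.Agent.Omega.TwoF.AltRk

end

section


/-!
# The natural module of the alternating group

`H` acts on `V`, permuting the 3-cycles of `A_Ω` through `σ : H → Sym Ω`; `V` is of natural type, `N = {0, v₀}`.

* `ε a b`: the vectors `E a b v₀`; `smul_ep`: `h • ε a b = ε (σ h a) (σ h b)`;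
* `ev o B = ∑_{b ∈ B} ε o b`; for even `B` it does not depend on `o`; `ev_eq_zero`: the kernel is `∅`, `Ω`;
* `exists_ev`: if `H` is irreducible, every vector is `ev o B`, `B` even;
* `card_le_four`: a normal elementary abelian 2-subgroup of the stabiliser of a vector has order at most 4.
-/

set_option autoImplicit false
set_option linter.unusedSectionVars false

namespace Cfsg.Agent.Omega.TwoF.AltKill

open Equiv Equiv.Perm AltCyc AltSplit AltSix AltNat AltPure AltDeg

universe u w x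

variable {Ω : Type u} [DecidableEq Ω] [Fintype Ω]
variable {V : Type w} [AddCommGroup V] [Two V] [DistribMulAction (alternatingGroup Ω) V]
variable {H : Type x} [Group H] [DistribMulAction H V]

theorem conjN (s : Perm Ω) (a b c : Ω) :
    (MulAut.conjNormal s (C a b c) : alternatingGroup Ω) = C (s a) (s b) (s c) := by
  by_cases h : a ≠ b ∧ b ≠ c
  · apply Subtype.ext
    rw [MulAut.conjNormal_apply, C_coe (s.injective.ne h.1) (s.injective.ne h.2), Equiv.swap_apply_apply,
      Equiv.swap_apply_apply, C_coe h.1 h.2]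
    group
  · have h' : ¬ (s a ≠ s b ∧ s b ≠ s c) := by simpa using h
    rw [C, dif_neg h, C, dif_neg h', map_one]

/-- `H` acts on `V` and on `A_Ω` through `σ` -/
structure Act (V : Type w) [AddCommGroup V] [DistribMulAction (alternatingGroup Ω) V] [DistribMulAction H V]
    (σ : H →* Perm Ω) (ι : alternatingGroup Ω →* H) : Prop where
  conj : ∀ (h : H) (g : alternatingGroup Ω) (v : V),
    h • g • v = (MulAut.conjNormal (σ h) g : alternatingGroup Ω) • h • v
  act : ∀ (g : alternatingGroup Ω) (v : V), ι g • v = g • v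
  coe : ∀ g : alternatingGroup Ω, σ (ι g) = g

variable {σ : H →* Perm Ω} {ι : alternatingGroup Ω →* H}

theorem smulF (hA : Act V σ ι) (h : H) (a b c : Ω) (v : V) :
    h • F a b c v = F (σ h a) (σ h b) (σ h c) (h • v) := by
  rw [F_apply, F_apply, smul_add, hA.conj, hA.conj, conjN, conjN]

theorem inv_univ (M : AddSubgroup V) (hM : M = ⊤) : _root_.Cfsg.Agent.Omega.TwoF.AltSplit.Inv (Finset.univ : Finset Ω) M := by
  subst hM
  exact fun _ _ _ _ => trivial

section Nat

variable {p q r : Ω} {v₀ : V}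

/-- the situation: natural type, `N = {0, v₀}` -/
structure Nt1 (p q r : Ω) (v₀ : V) : Prop where
  card : 6 ≤ Fintype.card Ω
  natl : Natl (Finset.univ : Finset Ω) (⊤ : AddSubgroup V)
  D : D3 p q r
  mem : v₀ ∈ NN (Finset.univ : Finset Ω) (⊤ : AddSubgroup V) p q r
  ne : v₀ ≠ 0
  eq : ∀ v ∈ NN (Finset.univ : Finset Ω) (⊤ : AddSubgroup V) p q r, v = 0 ∨ v = v₀

/-- `ε a b` -/
noncomputable def ep (p q : Ω) (v₀ : V) (a b : Ω) : V :=
  if a = b then 0 else E (Finset.univ : Finset Ω) p q a b v₀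

theorem ep_self (a : Ω) : ep p q v₀ a a = 0 := if_pos rfl

theorem ep_of_ne {a b : Ω} (h : a ≠ b) : ep p q v₀ a b = E (Finset.univ : Finset Ω) p q a b v₀ := if_neg h

variable (hN : Nt1 p q r v₀)

include hN

theorem cardU : 6 ≤ (Finset.univ : Finset Ω).card := by rw [Finset.card_univ]; exact hN.card

theorem ep_ne {a b : Ω} (h : a ≠ b) : ep p q v₀ a b ≠ 0 := by
  rw [ep_of_ne h]
  intro h0
  exact hN.ne (E_inj (cardU hN) (inv_univ _ rfl) hN.natl hN.D (Finset.mem_univ _) (Finset.mem_univ _)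
    (Finset.mem_univ _) hN.mem h (Finset.mem_univ _) (Finset.mem_univ _) h0)

theorem ep_symm (a b : Ω) : ep p q v₀ a b = ep p q v₀ b a := by
  by_cases h : a = b
  · rw [h]
  rw [ep_of_ne h, ep_of_ne (Ne.symm h)]
  exact (E_swap (cardU hN) (inv_univ _ rfl) hN.natl hN.D (Finset.mem_univ _) (Finset.mem_univ _)
    (Finset.mem_univ _) hN.mem h (Finset.mem_univ _) (Finset.mem_univ _)).symm

theorem ep_add (a b c : Ω) : ep p q v₀ a b + ep p q v₀ b c = ep p q v₀ a c := by
  by_cases hab : a = b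
  · rw [hab, ep_self, zero_add]
  by_cases hbc : b = c
  · rw [hbc, ep_self, add_zero]
  by_cases hac : a = c
  · rw [hac, ep_self, ep_symm hN b c, aa]
  rw [ep_of_ne hab, ep_of_ne hbc, ep_of_ne hac]
  exact E_add (cardU hN) (inv_univ _ rfl) hN.natl hN.D (Finset.mem_univ _) (Finset.mem_univ _)
    (Finset.mem_univ _) hN.mem ⟨hab, hac, hbc⟩ (Finset.mem_univ _) (Finset.mem_univ _) (Finset.mem_univ _)

seal _root_.Finset.card _root_.Finset.filter in
theorem smul_ep_alt (g : alternatingGroup Ω) (a b : Ω) :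
    g • ep p q v₀ a b = ep p q v₀ ((g : Perm Ω) a) ((g : Perm Ω) b) := by
  by_cases h : a = b
  · rw [h, ep_self, ep_self, smul_zero]
  rw [ep_of_ne h, ep_of_ne ((g : Perm Ω).injective.ne h)]
  exact smul_E (cardU hN) (inv_univ _ rfl) hN.natl hN.D (Finset.mem_univ _) (Finset.mem_univ _)
    (Finset.mem_univ _) hN.mem h (Finset.mem_univ _) (Finset.mem_univ _) (sup_univ g)

theorem ep_base : ep p q v₀ p q = v₀ := by
  rw [ep_of_ne hN.D.1]
  exact E_base (cardU hN) (inv_univ _ rfl) hN.natl hN.D (Finset.mem_univ _) (Finset.mem_univ _)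
    (Finset.mem_univ _) hN.mem

/-- `h • v₀` -/
theorem smul_v₀ (hA : Act V σ ι) (h : H) : h • v₀ = ep p q v₀ (σ h p) (σ h q) := by
  obtain ⟨k, -, k1, k2, k3⟩ := exists_move (S := (Finset.univ : Finset Ω)) (by have := cardU hN; omega) hN.D
    (hN.D.map (σ h)) (Finset.mem_univ _) (Finset.mem_univ _) (Finset.mem_univ _) (Finset.mem_univ _)
    (Finset.mem_univ _) (Finset.mem_univ _)
  have hw : k⁻¹ • h • v₀ ∈ NN (Finset.univ : Finset Ω) (⊤ : AddSubgroup V) p q r := by
    refine ⟨trivial, ?_, ?_⟩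
    · have h1 : h • v₀ = F (σ h p) (σ h q) (σ h r) (h • v₀) := by
        rw [← smulF hA, hN.mem.2.1]
      have h2 := smul_F k⁻¹ (σ h p) (σ h q) (σ h r) (h • v₀)
      rw [← h1, ← k1, ← k2, ← k3] at h2
      have e : ∀ a : Ω, ((k⁻¹ : alternatingGroup Ω) : Perm Ω) ((k : Perm Ω) a) = a := fun a =>
        (k : Perm Ω).symm_apply_apply a
      rw [e, e, e] at h2
      exact h2.symm
    · intro g _ g1 g2 g3
      -- `g' = k g k⁻¹`, `g'' = g'` conjugated back by `σ h`
      set g'' : alternatingGroup Ω := MulAut.conjNormal (σ h)⁻¹ (k * g * k⁻¹) with hg''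
      have hgg : (MulAut.conjNormal (σ h) g'' : alternatingGroup Ω) = k * g * k⁻¹ := by
        rw [hg'', ← MulAut.mul_apply, ← map_mul, mul_inv_cancel, map_one, MulAut.one_apply]
      have e : ∀ a b : Ω, (g : Perm Ω) a = b → (k : Perm Ω) a = σ h a → (k : Perm Ω) b = σ h b →
          (g'' : Perm Ω) a = b := by
        intro a b h1 h2 h3
        rw [hg'', MulAut.conjNormal_apply]
        show (σ h).symm ((k : Perm Ω) ((g : Perm Ω) ((k : Perm Ω).symm (σ h a)))) = b
        rw [← h2, Equiv.symm_apply_apply, h1, h3, Equiv.symm_apply_apply]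
      have h4 := hN.mem.2.2 g'' (sup_univ _) (e p q g1 k1 k2) (e q p g2 k2 k1) (e r r g3 k3 k3)
      have h5 := hA.conj h g'' v₀
      rw [h4, hgg] at h5
      rw [mul_smul, mul_smul] at h5
      have h6 := congrArg (k⁻¹ • ·) h5
      simp only [inv_smul_smul] at h6
      exact h6.symm
  have hne : k⁻¹ • h • v₀ ≠ 0 := by
    intro h0
    rw [smul_eq_zero_iff_eq, smul_eq_zero_iff_eq] at h0
    exact hN.ne h0
  have h1 := (hN.eq _ hw).resolve_left hne
  rw [inv_smul_eq_iff] at h1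
  have h2 := smul_ep_alt hN k p q
  rw [ep_base hN, k1, k2, ← h1] at h2
  exact h2

theorem smul_ep (hA : Act V σ ι) (h : H) (a b : Ω) :
    h • ep p q v₀ a b = ep p q v₀ (σ h a) (σ h b) := by
  by_cases hab : a = b
  · rw [hab, ep_self, ep_self, smul_zero]
  obtain ⟨g, -, g1, g2⟩ := exists_move2 (cardU hN) hN.D (Finset.mem_univ _) (Finset.mem_univ _)
    (Finset.mem_univ _) hab (Finset.mem_univ _) (Finset.mem_univ _)
  have h1 := smul_ep_alt hN g p q
  rw [ep_base hN, g1, g2] at h1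
  rw [← h1, hA.conj, smul_v₀ hN hA, smul_ep_alt hN]
  have e : ∀ c : Ω, ((MulAut.conjNormal (σ h) g : alternatingGroup Ω) : Perm Ω) (σ h c) = σ h ((g : Perm Ω) c) := by
    intro c
    rw [MulAut.conjNormal_apply]
    show σ h ((g : Perm Ω) ((σ h).symm (σ h c))) = _
    rw [Equiv.symm_apply_apply]
  rw [e, e, g1, g2]

/-- `ε` of a set -/
noncomputable def ev (p q : Ω) (v₀ : V) (o : Ω) (B : Finset Ω) : V :=
  ∑ b, if b ∈ B then ep p q v₀ o b else 0

theorem ev_eq (o : Ω) (B : Finset Ω) : ev p q v₀ o B = ∑ b ∈ B, ep p q v₀ o b := by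
  rw [ev, Finset.sum_ite_mem, Finset.univ_inter]

theorem ev_add (o : Ω) (B B' : Finset Ω) : ev p q v₀ o B + ev p q v₀ o B' = ev p q v₀ o (symmDiff B B') := by
  rw [ev, ev, ev, ← Finset.sum_add_distrib]
  refine Finset.sum_congr rfl fun b _ => ?_
  by_cases h1 : b ∈ B <;> by_cases h2 : b ∈ B' <;> simp [Finset.mem_symmDiff, h1, h2, aa]

theorem even_nsmul {n : ℕ} (hn : Even n) (v : V) : n • v = 0 := by
  obtain ⟨k, rfl⟩ := hn
  rw [← two_mul, mul_comm, mul_nsmul, two_nsmul]
  rw [← nsmul_add, aa, nsmul_zero]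

/-- independence of the base point -/
theorem ev_base {B : Finset Ω} (hB : Even B.card) (o o' : Ω) : ev p q v₀ o B = ev p q v₀ o' B := by
  rw [ev_eq hN, ev_eq hN]
  have h1 : ∑ b ∈ B, ep p q v₀ o b = ∑ b ∈ B, (ep p q v₀ o o' + ep p q v₀ o' b) :=
    Finset.sum_congr rfl fun b _ => (ep_add hN o o' b).symm
  rw [h1, Finset.sum_add_distrib, Finset.sum_const, even_nsmul hN hB, zero_add]

theorem smul_ev (hA : Act V σ ι) (h : H) (o : Ω) {B : Finset Ω} (hB : Even B.card) :
    h • ev p q v₀ o B = ev p q v₀ o (B.map (σ h).toEmbedding) := by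
  have h1 : h • ev p q v₀ o B = ev p q v₀ (σ h o) (B.map (σ h).toEmbedding) := by
    rw [ev_eq hN, ev_eq hN, Finset.smul_sum, Finset.sum_map]
    exact Finset.sum_congr rfl fun b _ => smul_ep hN hA h o b
  rw [h1]
  exact ev_base hN (by rwa [Finset.card_map]) _ _

theorem ev_pair {a b : Ω} (hab : a ≠ b) (o : Ω) : ev p q v₀ o {a, b} = ep p q v₀ a b := by
  rw [ev_eq hN, Finset.sum_pair hab, ep_symm hN o a, ep_add hN]

/-- **the kernel** -/
theorem ev_eq_zero {B : Finset Ω} (hB : Even B.card) {o : Ω} (h0 : ev p q v₀ o B = 0) :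
    B = ∅ ∨ B = Finset.univ := by
  by_contra hn
  push Not at hn
  obtain ⟨s, hs⟩ := hn.1
  obtain ⟨m, hm⟩ : ∃ m, m ∉ B := by
    by_contra h
    push Not at h
    exact hn.2 (Finset.eq_univ_iff_forall.mpr h)
  have hsm : s ≠ m := fun e => hm (e ▸ hs)
  rw [ev_base hN hB o s] at h0
  have h1 : ∑ j ∈ Finset.univ \ {s, m}, E (Finset.univ : Finset Ω) p q s j (if j ∈ B then v₀ else 0) = 0 := by
    refine Eq.trans ?_ h0
    rw [ev, ← Finset.sum_subset (s₁ := Finset.univ \ {s, m}) (Finset.subset_univ _)]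
    · refine Finset.sum_congr rfl fun j hj => ?_
      simp only [Finset.mem_sdiff, Finset.mem_insert, Finset.mem_singleton, not_or] at hj
      by_cases hjB : j ∈ B
      · rw [if_pos hjB, if_pos hjB, ep_of_ne (Ne.symm hj.2.1)]
      · rw [if_neg hjB, if_neg hjB, map_zero]
    · intro j _ hj
      simp only [Finset.mem_sdiff, Finset.mem_univ, true_and, Finset.mem_insert, Finset.mem_singleton,
        not_not] at hj
      rcases hj with rfl | rfl
      · rw [if_pos hs, ep_self]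
      · rw [if_neg hm]
  have hx : ∀ j : Ω, (if j ∈ B then v₀ else 0) ∈ NN (Finset.univ : Finset Ω) (⊤ : AddSubgroup V) p q r := by
    intro j
    split_ifs
    · exact hN.mem
    · exact (NN _ _ p q r).zero_mem
  -- another element of `B`
  obtain ⟨j, hj, hjs⟩ : ∃ j ∈ B, j ≠ s := by
    by_contra h
    push Not at h
    have h2 : B = {s} := Finset.eq_singleton_iff_unique_mem.mpr ⟨hs, h⟩
    rw [h2, Finset.card_singleton] at hB
    exact absurd hB (by decide)
  have hjm : j ≠ m := fun e => hm (e ▸ hj)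
  have h2 := sum_eq_zero (cardU hN) (inv_univ _ rfl) hN.natl hN.D (Finset.mem_univ _) (Finset.mem_univ _)
    (Finset.mem_univ _) (Finset.mem_univ s) (Finset.mem_univ m) hsm hx h1 (j := j) (by
      simp only [Finset.mem_sdiff, Finset.mem_univ, true_and, Finset.mem_insert, Finset.mem_singleton, not_or]
      exact ⟨hjs, hjm⟩)
  rw [if_pos hj] at h2
  exact hN.ne h2

theorem even_symmDiff {B B' : Finset Ω} (hB : Even B.card) (hB' : Even B'.card) : Even (symmDiff B B').card := by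
  have h1 : (symmDiff B B').card = (B \ B').card + (B' \ B).card := by
    rw [symmDiff, Finset.sup_eq_union]
    apply Finset.card_union_of_disjoint
    rw [Finset.disjoint_left]
    intro x hx hx'
    rw [Finset.mem_sdiff] at hx hx'
    exact hx.2 hx'.1
  have h2 := Finset.card_sdiff_add_card_inter B B'
  have h3 := Finset.card_sdiff_add_card_inter B' B
  rw [Finset.inter_comm] at h3
  rw [h1]
  rw [Nat.even_iff] at *
  omega

theorem ev_inj {B B' : Finset Ω} (hB : Even B.card) (hB' : Even B'.card) {o : Ω}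
    (h : ev p q v₀ o B = ev p q v₀ o B') : B = B' ∨ B = Finset.univ \ B' := by
  have h1 : ev p q v₀ o (symmDiff B B') = 0 := by rw [← ev_add hN, h, aa]
  rcases ev_eq_zero hN (even_symmDiff hN hB hB') h1 with h2 | h2
  · left
    exact symmDiff_eq_bot.mp h2
  · right
    ext x
    have h3 : x ∈ symmDiff B B' := by rw [h2]; exact Finset.mem_univ x
    rw [Finset.mem_symmDiff] at h3
    simp only [Finset.mem_sdiff, Finset.mem_univ, true_and]
    (clear * - h3; itauto)

/-- every vector is `ev o B` -/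
theorem exists_ev (hA : Act V σ ι) (hirr : ∀ W : AddSubgroup V, (∀ h : H, ∀ v ∈ W, h • v ∈ W) → W = ⊥ ∨ W = ⊤)
    (o : Ω) (v : V) : ∃ B : Finset Ω, Even B.card ∧ ev p q v₀ o B = v := by
  let W : AddSubgroup V :=
    { carrier := {v | ∃ B : Finset Ω, Even B.card ∧ ev p q v₀ o B = v}
      zero_mem' := ⟨∅, by simp only [_root_.Finset.card_empty, _root_.Even.zero], by rw [ev_eq hN, Finset.sum_empty]⟩
      add_mem' := by
        rintro _ _ ⟨B, hB, rfl⟩ ⟨B', hB', rfl⟩
        exact ⟨symmDiff B B', even_symmDiff hN hB hB', (ev_add hN o B B').symm⟩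
      neg_mem' := by
        rintro _ ⟨B, hB, rfl⟩
        exact ⟨B, hB, (AltSplit.neg_eq' _).symm⟩ }
  rcases hirr W (by
    rintro h _ ⟨B, hB, rfl⟩
    exact ⟨B.map (σ h).toEmbedding, by rwa [Finset.card_map], (smul_ev hN hA h o hB).symm⟩) with h1 | h1
  · exfalso
    have h2 : ep p q v₀ p q ∈ W := ⟨{p, q}, by rw [Finset.card_pair hN.D.1]; decide, ev_pair hN hN.D.1 o⟩
    rw [h1, AddSubgroup.mem_bot] at h2
    exact ep_ne hN hN.D.1 h2
  · have h2 : v ∈ W := by rw [h1]; trivial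
    exact h2

omit hN in
/-- an involution of `X` is trivial on a block with at least five points -/
theorem fix_of_block
    (hA : Act V σ ι) {X : Subgroup H} {v : V} (hX2 : ∀ x ∈ X, x * x = 1)
    (hXn : ∀ h : H, h • v = v → ∀ x ∈ X, h * x * h⁻¹ ∈ X) {D : Finset Ω} (hD5 : 5 ≤ D.card)
    (hD : ∀ g : alternatingGroup Ω, Sup D g → g • v = v) {x : H} (hx : x ∈ X) {i : Ω} (hi : i ∈ D)
    (hxi : σ x i ∈ D) : σ x i = i := by
  by_contra hne
  set s := σ x with hs
  set j := s i with hj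
  have hss : ∀ a, s (s a) = a := by
    intro a
    have h1 : s * s = 1 := by rw [hs, ← map_mul, hX2 x hx, map_one]
    exact DFunLike.congr_fun h1 a
  have hsj : s j = i := hss i
  obtain ⟨k, hk, hk'⟩ := exists_not_mem (S := D) {i, j} (lt_of_le_of_lt (Finset.card_le_two) (by omega))
  obtain ⟨l, hl, hl'⟩ := exists_not_mem (S := D) {i, j, k, s k} (lt_of_le_of_lt (Finset.card_le_four) (by omega))
  simp only [Finset.mem_insert, Finset.mem_singleton, not_or] at hk' hl'
  obtain ⟨ki, kj⟩ := hk'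
  obtain ⟨li, lj, lk, lsk⟩ := hl'
  have hDc : D3 j k l := ⟨Ne.symm kj, Ne.symm lj, Ne.symm lk⟩
  set c : alternatingGroup Ω := C j k l with hc
  have hcv : ι c • v = v := by rw [hA.act]; exact hD c (sup_C hxi hk hl)
  have hy : ι c * x * (ι c)⁻¹ ∈ X := hXn _ hcv x hx
  have hcomm : x * (ι c * x * (ι c)⁻¹) = ι c * x * (ι c)⁻¹ * x :=
    AltRk.comm_of_sq (hX2 x hx) (hX2 _ hy) (hX2 _ (X.mul_mem hx hy))
  have h1 := congrArg σ hcomm
  simp only [map_mul, map_inv, hA.coe] at h1
  have h2 : s ((c : Perm Ω) (s ((c : Perm Ω).symm i))) = (c : Perm Ω) (s ((c : Perm Ω).symm (s i))) :=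
    DFunLike.congr_fun h1 i
  have e1 : (c : Perm Ω).symm i = i := by
    rw [Equiv.symm_apply_eq, hc, C_of_ne (Ne.symm hne) (Ne.symm ki) (Ne.symm li)]
  have e2 : (c : Perm Ω).symm j = l := by
    rw [Equiv.symm_apply_eq, hc, C_c hDc]
  have e3 : (c : Perm Ω) j = k := by rw [hc, C_a hDc]
  rw [e1, ← hj, e2, e3] at h2
  -- `s k = c (s l)`
  by_cases h3 : s l = l
  · rw [h3, hc, C_c hDc] at h2
    have h4 := hss k
    rw [h2, hsj] at h4
    exact ki h4.symm
  · have n1 : s l ≠ j := by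
      intro e
      have h4 := hss l
      rw [e, hsj] at h4
      exact li h4.symm
    have n2 : s l ≠ k := by
      intro e
      have h4 := hss l
      rw [e] at h4
      exact lsk h4.symm
    rw [hc, C_of_ne n1 n2 h3] at h2
    exact lk (s.injective h2).symm

/-- **the stabiliser of a vector has no large normal elementary abelian 2-subgroup** -/
theorem card_le_four [Finite H] (hn : 9 ≤ Fintype.card Ω) (hA : Act V σ ι)
    (hirr : ∀ W : AddSubgroup V, (∀ h : H, ∀ v ∈ W, h • v ∈ W) → W = ⊥ ∨ W = ⊤)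
    {X : Subgroup H} {v : V} (hX2 : ∀ x ∈ X, x * x = 1) (hXv : ∀ x ∈ X, x • v = v)
    (hXn : ∀ h : H, h • v = v → ∀ x ∈ X, h * x * h⁻¹ ∈ X) (hXi : ∀ x ∈ X, σ x = 1 → x = 1) :
    Nat.card X ≤ 4 := by
  obtain ⟨B, hB, hBv⟩ := exists_ev hN hA hirr p v
  -- the elements of `A_Ω` preserving `B`
  have hfix : ∀ g : alternatingGroup Ω, B.map (g : Perm Ω).toEmbedding = B → g • v = v := by
    intro g hg
    rw [← hA.act, ← hBv, smul_ev hN hA _ _ hB, hA.coe, hg]
  have hmapS : ∀ g : alternatingGroup Ω, ∀ D : Finset Ω, (∀ a ∈ D, (g : Perm Ω) a ∈ D) →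
      D.map (g : Perm Ω).toEmbedding = D := by
    intro g D h
    apply Finset.eq_of_subset_of_card_le
    · intro x hx
      rw [Finset.mem_map] at hx
      obtain ⟨a, ha, rfl⟩ := hx
      exact h a ha
    · rw [Finset.card_map]
  have hDB : ∀ g : alternatingGroup Ω, Sup B g → g • v = v := fun g hg => hfix g (hmapS g B fun a ha => hg.mem ha)
  have hDC : ∀ g : alternatingGroup Ω, Sup (Finset.univ \ B) g → g • v = v := by
    intro g hg
    refine hfix g (hmapS g B fun a ha => ?_)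
    rw [hg a (by simp only [ha, _root_.Finset.mem_sdiff, _root_.Finset.mem_univ, _root_.not_true_eq_false, _root_.and_false, _root_.not_false_eq_true])]
    exact ha
  -- elements of `X`
  have hXB : ∀ x ∈ X, B.map (σ x).toEmbedding = B ∨ B.map (σ x).toEmbedding = Finset.univ \ B := by
    intro x hx
    refine ev_inj hN (o := p) (by rwa [Finset.card_map]) hB ?_
    rw [← smul_ev hN hA x p hB, hBv, hXv x hx]
  have hcardC : (Finset.univ \ B).card = Fintype.card Ω - B.card := by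
    rw [Finset.card_sdiff_of_subset (Finset.subset_univ B), Finset.card_univ]
  have hBle : B.card ≤ Fintype.card Ω := Finset.card_le_univ B
  -- general facts on preserved blocks
  have mapmem : ∀ (x : H) (D : Finset Ω), D.map (σ x).toEmbedding = D → ∀ a ∈ D, σ x a ∈ D := by
    intro x D h a ha
    have : σ x a ∈ D.map (σ x).toEmbedding := Finset.mem_map.mpr ⟨a, ha, rfl⟩
    rwa [h] at this
  have mapC : ∀ x : H, B.map (σ x).toEmbedding = B → ∀ a, a ∉ B → σ x a ∉ B := by
    intro x h a ha ha'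
    rw [← h, Finset.mem_map] at ha'
    obtain ⟨b, hb, e⟩ := ha'
    exact ha ((σ x).injective e ▸ hb)
  by_cases h4 : B.card ≤ 4 ∨ (Finset.univ \ B).card ≤ 4
  · -- one small block
    have hBx : ∀ x ∈ X, B.map (σ x).toEmbedding = B := by
      intro x hx
      refine (hXB x hx).resolve_right fun h => ?_
      have h5 := congrArg Finset.card h
      rw [Finset.card_map] at h5
      omega
    have hE2 : ∀ y ∈ X.map σ, y * y = 1 := by
      rintro _ ⟨x, hx, rfl⟩
      rw [← map_mul, hX2 x hx, map_one]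
    have hEcard : Nat.card (X.map σ) = Nat.card X := by
      refine (Nat.card_congr (Equiv.ofBijective (fun x : X => (⟨σ x, x, x.2, rfl⟩ : X.map σ)) ⟨?_, ?_⟩)).symm
      · intro x y hxy
        have h5 : σ x = σ y := congrArg Subtype.val hxy
        have h6 : σ ((x : H)⁻¹ * y) = 1 := by rw [map_mul, map_inv, h5, inv_mul_cancel]
        have h7 := hXi _ (X.mul_mem (X.inv_mem x.2) y.2) h6
        exact Subtype.ext (inv_mul_eq_one.mp h7)
      · rintro ⟨_, x, hx, rfl⟩
        exact ⟨⟨x, hx⟩, rfl⟩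
    have key : ∀ S : Finset Ω, S.card ≤ 4 → (∀ x ∈ X, ∀ a, a ∉ S → σ x a = a) → Nat.card X ≤ 4 := by
      intro S hS hS'
      have h5 := AltRk.card_sq_le _ (X.map σ) S le_rfl hE2 (by
        rintro _ ⟨x, hx, rfl⟩ a ha
        exact hS' x hx a ha)
      rw [hEcard] at h5
      have h6 : Nat.card X ^ 2 ≤ 2 ^ 4 := h5.trans (Nat.pow_le_pow_right (by norm_num) hS)
      nlinarith only [h6]
    rcases h4 with h4 | h4
    · refine key B h4 fun x hx a ha => ?_
      exact fix_of_block hA hX2 hXn (D := Finset.univ \ B) (by omega) hDC hx (by simp only [ha, _root_.Finset.mem_sdiff, _root_.Finset.mem_univ, _root_.not_false_eq_true, _root_.and_self])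
        (by simp only [mapC x (hBx x hx) a ha, _root_.Finset.mem_sdiff, _root_.Finset.mem_univ, _root_.not_false_eq_true, _root_.and_self])
    · refine key (Finset.univ \ B) h4 fun x hx a ha => ?_
      have ha' : a ∈ B := by simpa only [_root_.Finset.mem_sdiff, _root_.Finset.mem_univ, _root_.true_and, _root_.Decidable.not_not] using ha
      exact fix_of_block hA hX2 hXn (D := B) (by omega) hDB hx ha' (mapmem x B (hBx x hx) a ha')
  · push Not at h4
    -- an element preserving `B` is trivial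
    have hone : ∀ x ∈ X, B.map (σ x).toEmbedding = B → x = 1 := by
      intro x hx hxB
      refine hXi x hx ?_
      ext a
      by_cases ha : a ∈ B
      · exact fix_of_block hA hX2 hXn (D := B) (by omega) hDB hx ha (mapmem x B hxB a ha)
      · exact fix_of_block hA hX2 hXn (D := Finset.univ \ B) (by omega) hDC hx (by simp only [ha, _root_.Finset.mem_sdiff, _root_.Finset.mem_univ, _root_.not_false_eq_true, _root_.and_self])
          (by simp only [mapC x hxB a ha, _root_.Finset.mem_sdiff, _root_.Finset.mem_univ, _root_.not_false_eq_true, _root_.and_self])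
    have htwo : ∀ x ∈ X, ∀ y ∈ X, x ≠ 1 → y ≠ 1 → x = y := by
      intro x hx y hy hx1 hy1
      have ex := (hXB x hx).resolve_left fun h => hx1 (hone x hx h)
      have ey := (hXB y hy).resolve_left fun h => hy1 (hone y hy h)
      have h5 : B.map (σ (x * y)).toEmbedding = B := by
        have h6 : B.map (σ (x * y)).toEmbedding = (B.map (σ y).toEmbedding).map (σ x).toEmbedding := by
          ext a
          simp only [Finset.mem_map, map_mul]
          constructor
          · rintro ⟨b, hb, rfl⟩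
            exact ⟨σ y b, ⟨b, hb, rfl⟩, rfl⟩
          · rintro ⟨_, ⟨b, hb, rfl⟩, rfl⟩
            exact ⟨b, hb, rfl⟩
        rw [h6, ey]
        apply Finset.eq_of_subset_of_card_le
        · intro a ha
          rw [Finset.mem_map] at ha
          obtain ⟨b, hb, rfl⟩ := ha
          by_contra h7
          have h8 : σ x b ∈ B.map (σ x).toEmbedding := by
            rw [ex]
            simpa only [_root_.Finset.mem_sdiff, _root_.Finset.mem_univ, _root_.true_and, _root_.Function.Embedding.coeFn_mk] using h7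
          rw [Finset.mem_map] at h8
          obtain ⟨b', hb', e⟩ := h8
          have h9 : b' = b := (σ x).injective e
          rw [h9] at hb'
          simp only [Finset.mem_sdiff, Finset.mem_univ, true_and] at hb
          exact hb hb'
        · have h7 := congrArg Finset.card ey
          rw [Finset.card_map] at h7
          rw [Finset.card_map, ← h7]
      have h6 := hone _ (X.mul_mem hx hy) h5
      rw [mul_eq_one_iff_eq_inv] at h6
      rw [h6]
      exact inv_eq_of_mul_eq_one_left (hX2 y hy)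
    have h5 : Nat.card X ≤ Nat.card (Fin 2) := by
      classical
      refine Nat.card_le_card_of_injective (fun x : X => if x = 1 then (0 : Fin 2) else 1) ?_
      intro x y hxy
      by_cases hx : x = 1
      · by_cases hy : y = 1
        · rw [hx, hy]
        · simp [hx, hy] at hxy
      · by_cases hy : y = 1
        · simp [hx, hy] at hxy
        · exact Subtype.ext (htwo x x.2 y y.2 (fun h => hx (Subtype.ext h)) fun h => hy (Subtype.ext h))
    rw [Nat.card_fin] at h5
    omega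

end Nat

end Cfsg.Agent.Omega.TwoF.AltKill

end

section


/-!
# Odd covers of alternating groups of degree at least 8 are trivial

`π : L → A_Ω` a perfect central extension with kernel of odd order, `|Ω| ≥ 8`: then `π` is injective.  Every 3-cycle
has a unique lift which is inverted by the lifts of the elements `a ↔ b`, `c ↦ c` (`Good`); the lifts `x_i` of the
cycles `(p q i)` satisfy Carmichael's relations `x_i³ = (x_i x_j)² = 1`.
-/

set_option autoImplicit false
set_option linter.unusedSectionVars false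

namespace Cfsg.Agent.Omega.TwoF.AltCover

open Equiv Equiv.Perm Subgroup AltCyc

universe u w

open scoped commutatorElement

/-! ### Carmichael's relations -/

section Carmichael

variable {L : Type w} [Group L] {ι : Type u} {x : ι → L}

/-- the relations -/
structure Car (x : ι → L) : Prop where
  cube : ∀ i, x i * x i * x i = 1
  sq : ∀ i j, i ≠ j → x i * x j * (x i * x j) = 1

variable (h : Car x)

include h

theorem Car.sq_eq (i : ι) : x i * x i = (x i)⁻¹ := eq_inv_of_mul_eq_one_left (h.cube i)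

theorem Car.mul_eq {i j : ι} (hij : i ≠ j) : x i * x j = (x j)⁻¹ * (x i)⁻¹ := by
  rw [← mul_inv_rev]; exact eq_inv_of_mul_eq_one_left (h.sq i j hij)

/-- the union of the cosets -/
def CU (x : ι → L) (H : Subgroup L) (T : Set ι) (m : ι) (g : L) : Prop :=
  g ∈ H ∨ (∃ k ∈ H, g = k * x m) ∨ (∃ k ∈ H, g = k * (x m)⁻¹) ∨ ∃ k ∈ H, ∃ j ∈ T, g = k * (x m)⁻¹ * x j

theorem Car.closed {H : Subgroup L} {T : Set ι} {m : ι} (hm : m ∉ T) (hH : ∀ i ∈ T, x i ∈ H) {g : L}
    (hg : CU x H T m g) {k : ι} (hk : k ∈ T ∨ k = m) : CU x H T m (g * x k) := by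
  have hmk : ∀ j ∈ T, m ≠ j := fun j hj e => hm (e ▸ hj)
  rcases hg with hg | ⟨a, ha, rfl⟩ | ⟨a, ha, rfl⟩ | ⟨a, ha, j, hj, rfl⟩
  · rcases hk with hk | rfl
    · exact Or.inl (H.mul_mem hg (hH k hk))
    · exact Or.inr (Or.inl ⟨g, hg, rfl⟩)
  · rcases hk with hk | rfl
    · refine Or.inr (Or.inr (Or.inl ⟨a * (x k)⁻¹, H.mul_mem ha (H.inv_mem (hH k hk)), ?_⟩))
      rw [mul_assoc, h.mul_eq (hmk k hk), mul_assoc]
    · refine Or.inr (Or.inr (Or.inl ⟨a, ha, ?_⟩))
      rw [mul_assoc, h.sq_eq]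
  · rcases hk with hk | rfl
    · exact Or.inr (Or.inr (Or.inr ⟨a, ha, k, hk, rfl⟩))
    · exact Or.inl (by rw [inv_mul_cancel_right]; exact ha)
  · have hjH := hH j hj
    have e1 := h.mul_eq (hmk j hj)
    have e2 := h.mul_eq (hmk j hj).symm
    rcases hk with hk | rfl
    · by_cases hkj : k = j
      · subst hkj
        refine Or.inr (Or.inl ⟨a * x k, H.mul_mem ha hjH, ?_⟩)
        have e3 : (x m)⁻¹ * x k * x k = x k * x m := by
          rw [mul_assoc, h.sq_eq, e2]
        rw [mul_assoc a, mul_assoc a, e3, mul_assoc]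
      · refine Or.inr (Or.inr (Or.inr ⟨a * (x k * (x j)⁻¹), H.mul_mem ha (H.mul_mem (hH k hk) (H.inv_mem hjH)), j,
          hj, ?_⟩))
        have e3 := h.mul_eq (hmk k hk).symm
        have e4 := h.mul_eq (Ne.symm hkj)
        -- `x_j x_k = x_k⁻¹ x_j⁻¹`, `x_m⁻¹ x_k⁻¹ = x_k x_m`, `x_m x_j⁻¹ = x_m x_j x_j`
        have e5 : (x m)⁻¹ * x j * x k = x k * (x j)⁻¹ * (x m)⁻¹ * x j := by
          calc (x m)⁻¹ * x j * x k = (x m)⁻¹ * (x j * x k) := mul_assoc _ _ _
            _ = (x m)⁻¹ * (x k)⁻¹ * (x j)⁻¹ := by rw [e4, mul_assoc]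
            _ = x k * x m * (x j)⁻¹ := by rw [← e3]
            _ = x k * (x m * x j) * x j := by rw [← h.sq_eq j]; simp only [mul_assoc]
            _ = x k * (x j)⁻¹ * (x m)⁻¹ * x j := by rw [e1]; simp only [mul_assoc]
        calc a * (x m)⁻¹ * x j * x k = a * ((x m)⁻¹ * x j * x k) := by simp only [mul_assoc]
          _ = _ := by rw [e5]; simp only [mul_assoc]
    · refine Or.inr (Or.inr (Or.inr ⟨a * (x j)⁻¹, H.mul_mem ha (H.inv_mem hjH), j, hj, ?_⟩))
      have e5 : (x k)⁻¹ * x j * x k = (x j)⁻¹ * (x k)⁻¹ * x j := by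
        calc (x k)⁻¹ * x j * x k = (x k)⁻¹ * (x k)⁻¹ * (x j)⁻¹ := by rw [mul_assoc, e2, mul_assoc]
          _ = x k * (x j)⁻¹ := by rw [← mul_inv_rev, h.sq_eq, inv_inv]
          _ = (x k * x j) * x j := by rw [← h.sq_eq j, mul_assoc]
          _ = _ := by rw [e1]
      calc a * (x k)⁻¹ * x j * x k = a * ((x k)⁻¹ * x j * x k) := by simp only [mul_assoc]
        _ = _ := by rw [e5]; simp only [mul_assoc]

end Carmichael

/-! ### Generation of the alternating group by the cycles `(p q i)` -/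

section Gen

variable {Ω : Type u} [DecidableEq Ω] [Fintype Ω]

theorem mem_closure_pq {p q : Ω} (hpq : p ≠ q) (g : alternatingGroup Ω) :
    g ∈ _root_.Subgroup.closure {g : alternatingGroup Ω | ∃ i, i ≠ p ∧ i ≠ q ∧ g = C p q i} := by
  classical
  set K := _root_.Subgroup.closure {g : alternatingGroup Ω | ∃ i, i ≠ p ∧ i ≠ q ∧ g = C p q i} with hK
  have hC : ∀ i, i ≠ p → i ≠ q → C p q i ∈ K := fun i hi hi' => subset_closure ⟨i, hi, hi', rfl⟩
  have key : ∀ (n : ℕ) (T : Finset Ω) (g : alternatingGroup Ω), T.card ≤ n → p ∉ T → q ∉ T →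
      Sup (insert p (insert q T)) g → g ∈ K := by
    intro n
    induction n with
    | zero =>
      intro T g hT _ _ hg
      have hT' : T = ∅ := Finset.card_eq_zero.mp (by omega)
      subst hT'
      have hfix : ∀ x, x ≠ p → x ≠ q → (g : Perm Ω) x = x := by
        intro x h1 h2
        exact hg x (by simp [h1, h2])
      have h1 : (g : Perm Ω) = 1 ∨ (g : Perm Ω) = Equiv.swap p q := by
        by_cases hp : (g : Perm Ω) p = p
        · left
          ext x
          by_cases hxp : x = p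
          · rw [hxp, hp]; rfl
          by_cases hxq : x = q
          · rw [hxq]
            by_contra hne
            have h2 : (g : Perm Ω) q ≠ q := hne
            have h3 : (g : Perm Ω) q ≠ p := by
              intro e
              rw [← hp] at e
              exact hpq ((g : Perm Ω).injective e).symm
            have h4 := hfix _ h3 h2
            exact h2 ((g : Perm Ω).injective h4)
          exact hfix x hxp hxq
        · right
          have hpq' : (g : Perm Ω) p = q := by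
            by_contra hne
            exact hp ((g : Perm Ω).injective (hfix _ hp hne))
          have hqp : (g : Perm Ω) q = p := by
            by_contra hne
            have h2 : (g : Perm Ω) q ≠ q := by
              intro e
              rw [← hpq'] at e
              exact hpq ((g : Perm Ω).injective (by rw [hpq'] at e ⊢; exact e)).symm
            exact h2 ((g : Perm Ω).injective (hfix _ hne h2))
          ext x
          by_cases hxp : x = p
          · rw [hxp, hpq', swap_apply_left]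
          by_cases hxq : x = q
          · rw [hxq, hqp, swap_apply_right]
          rw [hfix x hxp hxq, swap_apply_of_ne_of_ne hxp hxq]
      rcases h1 with h1 | h1
      · have : g = 1 := Subtype.ext h1
        rw [this]; exact K.one_mem
      · have h2 := mem_alternatingGroup.mp g.2
        rw [h1, sign_swap hpq] at h2
        exact absurd h2 (by decide)
    | succ n ih =>
      intro T g hT hpT hqT hg
      by_cases hTe : T = ∅
      · exact ih T g (by simp [hTe]) hpT hqT hg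
      obtain ⟨m, hm⟩ := Finset.nonempty_of_ne_empty hTe
      have hmp : m ≠ p := fun e => hpT (e ▸ hm)
      have hmq : m ≠ q := fun e => hqT (e ▸ hm)
      have hDm : D3 p q m := ⟨hpq, hmp.symm, hmq.symm⟩
      -- an element of `K` moving `g m` back to `m`
      obtain ⟨k, hk, hks, hkm⟩ : ∃ k ∈ K, Sup (insert p (insert q T)) k ∧
          (k : Perm Ω) ((g : Perm Ω) m) = m := by
        have hpS : p ∈ insert p (insert q T) := Finset.mem_insert_self _ _
        have hqS : q ∈ insert p (insert q T) := Finset.mem_insert_of_mem (Finset.mem_insert_self _ _)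
        have hTS : ∀ j ∈ T, j ∈ insert p (insert q T) := fun j hj =>
          Finset.mem_insert_of_mem (Finset.mem_insert_of_mem hj)
        have hgm := hg.mem (hTS m hm)
        rw [Finset.mem_insert, Finset.mem_insert] at hgm
        rcases hgm with e | e | hj
        · refine ⟨C p q m * C p q m, K.mul_mem (hC m hmp hmq) (hC m hmp hmq),
            (sup_C hpS hqS (hTS m hm)).mul (sup_C hpS hqS (hTS m hm)), ?_⟩
          show (C p q m : Perm Ω) ((C p q m : Perm Ω) ((g : Perm Ω) m)) = m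
          rw [e, C_a hDm, C_b hDm]
        · refine ⟨C p q m, hC m hmp hmq, sup_C hpS hqS (hTS m hm), ?_⟩
          rw [e, C_b hDm]
        · set j := (g : Perm Ω) m with hjdef
          have hjp : j ≠ p := fun e => hpT (e ▸ hj)
          have hjq : j ≠ q := fun e => hqT (e ▸ hj)
          have hDj : D3 p q j := ⟨hpq, hjp.symm, hjq.symm⟩
          refine ⟨C p q m * C p q m * C p q j, K.mul_mem (K.mul_mem (hC m hmp hmq) (hC m hmp hmq)) (hC j hjp hjq),
            ((sup_C hpS hqS (hTS m hm)).mul (sup_C hpS hqS (hTS m hm))).mul (sup_C hpS hqS (hTS j hj)), ?_⟩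
          show (C p q m : Perm Ω) ((C p q m : Perm Ω) ((C p q j : Perm Ω) j)) = m
          rw [C_c hDj, C_a hDm, C_b hDm]
      have h1 : k * g ∈ K := by
        refine ih (T.erase m) (k * g) (by rw [Finset.card_erase_of_mem hm]; omega)
          (fun h => hpT (Finset.mem_of_mem_erase h)) (fun h => hqT (Finset.mem_of_mem_erase h)) ?_
        intro x hx
        by_cases hxm : x = m
        · rw [hxm]; exact hkm
        · refine (hks.mul hg) x fun hx' => hx ?_
          rw [Finset.mem_insert, Finset.mem_insert] at hx' ⊢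
          rcases hx' with h | h | h
          · exact Or.inl h
          · exact Or.inr (Or.inl h)
          · exact Or.inr (Or.inr (Finset.mem_erase.mpr ⟨hxm, h⟩))
      have h2 := K.mul_mem (K.inv_mem hk) h1
      rwa [inv_mul_cancel_left] at h2
  refine key _ (Finset.univ \ {p, q}) g le_rfl (by simp only [_root_.Finset.mem_sdiff, _root_.Finset.mem_univ, _root_.Finset.mem_insert, _root_.Finset.mem_singleton, _root_.true_or, _root_.not_true_eq_false, _root_.and_false, _root_.not_false_eq_true]) (by simp only [_root_.Finset.mem_sdiff, _root_.Finset.mem_univ, _root_.Finset.mem_insert, _root_.Finset.mem_singleton, _root_.or_true, _root_.not_true_eq_false, _root_.and_false, _root_.not_false_eq_true]) ?_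
  intro x hx
  exfalso
  apply hx
  simp only [Finset.mem_insert, Finset.mem_sdiff, Finset.mem_univ, Finset.mem_singleton, true_and, not_or]
  (clear * - Ω p q x; tauto)

end Gen

/-! ### Lifts -/

section Lift

variable {Ω : Type u} [DecidableEq Ω] [Fintype Ω]
variable {L : Type w} [Group L] [Finite L] {π : L →* alternatingGroup Ω}

theorem eq_one_of_sq (ho : Odd (Nat.card π.ker)) {z : L} (hz : z ∈ π.ker) (h2 : z * z = 1) : z = 1 := by
  have h1 : orderOf (⟨z, hz⟩ : π.ker) ∣ 2 := orderOf_dvd_of_pow_eq_one (by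
    rw [pow_two]; exact Subtype.ext h2)
  have h3 : orderOf (⟨z, hz⟩ : π.ker) ∣ Nat.card π.ker := _root_.orderOf_dvd_natCard _
  have h4 : orderOf (⟨z, hz⟩ : π.ker) = 1 := by
    have := Nat.dvd_gcd h1 h3
    rw [Nat.Coprime.gcd_eq_one (Nat.coprime_two_left.mpr ho)] at this
    exact Nat.dvd_one.mp this
  exact congrArg Subtype.val (orderOf_eq_one_iff.mp h4)

theorem exists_sqrt (ho : Odd (Nat.card π.ker)) {z : L} (hz : z ∈ π.ker) : ∃ w ∈ π.ker, w * w = z := by
  obtain ⟨k, hk⟩ := ho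
  refine ⟨z ^ (k + 1), π.ker.pow_mem hz _, ?_⟩
  have h1 : z ^ Nat.card π.ker = 1 := by
    have := pow_card_eq_one' (x := (⟨z, hz⟩ : π.ker))
    exact congrArg Subtype.val this
  rw [← pow_add, show k + 1 + (k + 1) = Nat.card π.ker + 1 by omega, pow_succ, h1, one_mul]

variable (hs : Function.Surjective π) (hc : π.ker ≤ center L) (ho : Odd (Nat.card π.ker))

include hc in
theorem ker_comm {z : L} (hz : z ∈ π.ker) (g : L) : g * z = z * g := mem_center_iff.mp (hc hz) g

/-- `g` moves `a ↔ b`, `c ↦ c` -/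
def Flip (π : L →* alternatingGroup Ω) (a b c : Ω) (g : L) : Prop :=
  (π g : Perm Ω) a = b ∧ (π g : Perm Ω) b = a ∧ (π g : Perm Ω) c = c

/-- the canonical lift of `C a b c` -/
structure Good (π : L →* alternatingGroup Ω) (a b c : Ω) (x : L) : Prop where
  map : π x = C a b c
  flip : ∀ g, Flip π a b c g → g * x * g⁻¹ = x⁻¹

include hs hc ho

/-- elements of the centraliser supported off the cycle commute with its lifts -/
theorem comm_lift {S : Finset Ω} (hS : 5 ≤ S.card) {a b c : Ω} (ha : a ∉ S) (hb : b ∉ S) (hcS : c ∉ S) {x : L}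
    (hx : π x = C a b c) {g : L} (hg : Sup S (π g)) : g * x = x * g := by
  -- commutators with `x` are central
  have hθ : ∀ g : L, Sup S (π g) → g * x * g⁻¹ * x⁻¹ ∈ π.ker := by
    intro g hg
    rw [MonoidHom.mem_ker, map_mul, map_mul, map_mul, map_inv, map_inv, hx, comm_C hg ha hb hcS]
    group
  suffices h : ∀ g' : alternatingGroup Ω, Sup S g' → ∀ g : L, π g = g' → g * x = x * g from h _ hg g rfl
  intro g' hg'
  refine (sup_induction (P := fun g' => Sup S g' ∧ ∀ g : L, π g = g' → g * x = x * g) ?_ ?_ hg').2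
  · exact ⟨Sup.one, fun g hg => (ker_comm hc (MonoidHom.mem_ker.mpr hg) x).symm⟩
  · rintro d hd e he f hf hD g' hg' ⟨-, ih⟩
    refine ⟨(sup_C hd he hf).mul hg', ?_⟩
    intro g hg
    obtain ⟨y, hy⟩ := hs (C d e f)
    have hyx : y * x = x * y := by
      obtain ⟨t', ht', t1, t2, t3⟩ := exists_move hS hD hD.swap' hd he hf he hd hf
      obtain ⟨t, rfl⟩ := hs t'
      have hyS : Sup S (π y) := by rw [hy]; exact sup_C hd he hf
      have h1 := hθ y hyS
      have h2 := hθ t ht'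
      -- `t y t⁻¹ = y⁻¹ k`
      have h3 : y * (t * y * t⁻¹) ∈ π.ker := by
        rw [MonoidHom.mem_ker, map_mul, map_mul, map_mul, map_inv, hy, AltCyc.conj, t1, t2, t3, ← C_rot hD.swap']
        exact C_mul_inv hD
      set z := y * x * y⁻¹ * x⁻¹ with hz
      set s := t * x * t⁻¹ * x⁻¹ with hs'
      set k := y * (t * y * t⁻¹) with hk
      have cz := fun w => ker_comm hc h1 w
      have cs := fun w => ker_comm hc h2 w
      have ck := fun w => ker_comm hc h3 w
      have e1 : y * x = z * x * y := by rw [hz]; group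
      have e2 : t * x = s * x * t := by rw [hs']; group
      have e3 : t * y = y⁻¹ * k * t := by rw [hk]; group
      -- compute `t (y x)` in two ways
      have e4 : y⁻¹ * x = z⁻¹ * x * y⁻¹ := by
        have : x * y⁻¹ = y⁻¹ * (z * x) := by
          rw [eq_inv_mul_iff_mul_eq, ← mul_assoc, e1, mul_assoc, mul_assoc, mul_inv_cancel, mul_one]
        rw [← mul_assoc, cz] at this
        rw [mul_assoc z⁻¹, this, mul_assoc z, inv_mul_cancel_left]
      have e5 : t * (y * x) = z * s * x * (y⁻¹ * k) * t := by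
        rw [e1]
        calc t * (z * x * y) = (t * z) * x * y := by simp only [mul_assoc]
          _ = z * (t * x) * y := by rw [cz t]; simp only [mul_assoc]
          _ = z * s * x * (t * y) := by rw [e2]; simp only [mul_assoc]
          _ = _ := by rw [e3]; simp only [mul_assoc]
      have e6 : t * (y * x) = z⁻¹ * s * x * (y⁻¹ * k) * t := by
        calc t * (y * x) = (t * y) * x := by rw [mul_assoc]
          _ = y⁻¹ * k * (t * x) := by rw [e3]; simp only [mul_assoc]
          _ = y⁻¹ * (k * s) * x * t := by rw [e2]; simp only [mul_assoc]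
          _ = (y⁻¹ * s) * k * x * t := by rw [cs k]; simp only [mul_assoc]
          _ = s * y⁻¹ * (k * x) * t := by rw [cs y⁻¹]; simp only [mul_assoc]
          _ = s * (y⁻¹ * x) * k * t := by rw [← ck x]; simp only [mul_assoc]
          _ = (s * z⁻¹) * x * y⁻¹ * k * t := by rw [e4]; simp only [mul_assoc]
          _ = _ := by rw [← cs z⁻¹]; simp only [mul_assoc]
      have e7 : z * z = 1 := by
        rw [e5] at e6
        have h8 : z = z⁻¹ := by simpa only [mul_left_inj] using e6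
        rw [mul_eq_one_iff_eq_inv]
        exact h8
      have e8 := eq_one_of_sq ho h1 e7
      rw [e1, e8, one_mul]
    -- `g = y g₂`
    have h4 := ih (y⁻¹ * g) (by rw [map_mul, map_inv, hy, hg, inv_mul_cancel_left])
    calc g * x = y * (y⁻¹ * g * x) := by group
      _ = (y * x) * (y⁻¹ * g) := by rw [h4]; group
      _ = x * g := by rw [hyx]; group

variable (hn : 8 ≤ Fintype.card Ω)

include hn

theorem card_compl {a b c : Ω} : 5 ≤ ((Finset.univ : Finset Ω) \ {a, b, c}).card := by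
  have h1 := Finset.le_card_sdiff ({a, b, c} : Finset Ω) Finset.univ
  have h2 : ({a, b, c} : Finset Ω).card ≤ 3 := Finset.card_le_three
  rw [Finset.card_univ] at h1
  omega

theorem comm_lift' {a b c : Ω} {x : L} (hx : π x = C a b c) {g : L} (h1 : (π g : Perm Ω) a = a)
    (h2 : (π g : Perm Ω) b = b) (h3 : (π g : Perm Ω) c = c) : g * x = x * g := by
  refine comm_lift hs hc ho (S := Finset.univ \ {a, b, c}) (card_compl hs hc ho hn) (by simp only [_root_.Finset.mem_sdiff, _root_.Finset.mem_univ, _root_.Finset.mem_insert, _root_.Finset.mem_singleton, _root_.true_or, _root_.not_true_eq_false, _root_.and_false, _root_.not_false_eq_true]) (by simp only [_root_.Finset.mem_sdiff, _root_.Finset.mem_univ, _root_.Finset.mem_insert, _root_.Finset.mem_singleton, _root_.true_or, _root_.or_true, _root_.not_true_eq_false, _root_.and_false, _root_.not_false_eq_true]) (by simp only [_root_.Finset.mem_sdiff, _root_.Finset.mem_univ, _root_.Finset.mem_insert, _root_.Finset.mem_singleton,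 _root_.or_true, _root_.not_true_eq_false, _root_.and_false, _root_.not_false_eq_true]) hx ?_
  intro y hy
  simp only [Finset.mem_sdiff, Finset.mem_univ, Finset.mem_insert, Finset.mem_singleton, true_and, not_not] at hy
  rcases hy with rfl | rfl | rfl <;> assumption

/-- one flip is enough -/
theorem good_of_one {a b c : Ω} {x : L} (hx : π x = C a b c) {g₀ : L} (h0 : Flip π a b c g₀)
    (h : g₀ * x * g₀⁻¹ = x⁻¹) : Good π a b c x := by
  refine ⟨hx, ?_⟩
  intro g hg
  obtain ⟨h1, h2, h3⟩ := h0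
  obtain ⟨g1, g2, g3⟩ := hg
  have hcm := comm_lift' hs hc ho hn hx (g := g₀⁻¹ * g)
    (by
      rw [map_mul, map_inv]
      show (π g₀ : Perm Ω).symm ((π g : Perm Ω) a) = a
      rw [g1, ← h1, Equiv.symm_apply_apply])
    (by
      rw [map_mul, map_inv]
      show (π g₀ : Perm Ω).symm ((π g : Perm Ω) b) = b
      rw [g2, ← h2, Equiv.symm_apply_apply])
    (by
      rw [map_mul, map_inv]
      show (π g₀ : Perm Ω).symm ((π g : Perm Ω) c) = c
      rw [g3]
      conv_lhs => rw [← h3]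
      rw [Equiv.symm_apply_apply])
  calc g * x * g⁻¹ = g₀ * (g₀⁻¹ * g * x) * g⁻¹ := by group
    _ = g₀ * x * g₀⁻¹ := by rw [hcm]; group
    _ = x⁻¹ := h

theorem exists_flip {a b c : Ω} (hD : D3 a b c) : ∃ g, Flip π a b c g := by
  obtain ⟨t, -, t1, t2, t3⟩ := exists_move (S := Finset.univ) (by rw [Finset.card_univ]; omega) hD hD.swap'
    (Finset.mem_univ _) (Finset.mem_univ _) (Finset.mem_univ _) (Finset.mem_univ _) (Finset.mem_univ _)
    (Finset.mem_univ _)
  obtain ⟨g, rfl⟩ := hs t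
  exact ⟨g, t1, t2, t3⟩

theorem exists_good {a b c : Ω} (hD : D3 a b c) : ∃ x, Good π a b c x := by
  obtain ⟨g, hg⟩ := exists_flip hs hc ho hn hD
  obtain ⟨x, hx⟩ := hs (C a b c)
  have h1 : x * (g * x * g⁻¹) ∈ π.ker := by
    rw [MonoidHom.mem_ker, map_mul, map_mul, map_mul, map_inv, hx, AltCyc.conj, hg.1, hg.2.1, hg.2.2,
      C_rot hD.swap.rot, C_rot hD.swap]
    exact C_mul_inv hD
  obtain ⟨w, hw, hw'⟩ := exists_sqrt ho h1
  have cw := fun y => ker_comm hc hw y
  refine ⟨x * w⁻¹, good_of_one hs hc ho hn (g₀ := g) ?_ hg ?_⟩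
  · rw [map_mul, map_inv, MonoidHom.mem_ker.mp hw, inv_one, mul_one, hx]
  · have e1 : g * x * g⁻¹ = x⁻¹ * (w * w) := by rw [hw']; group
    have e2 : g * w⁻¹ * g⁻¹ = w⁻¹ := by
      rw [ker_comm hc (π.ker.inv_mem hw) g]; group
    calc g * (x * w⁻¹) * g⁻¹ = (g * x * g⁻¹) * (g * w⁻¹ * g⁻¹) := by group
      _ = x⁻¹ * w := by rw [e1, e2]; group
      _ = (x * w⁻¹)⁻¹ := by rw [mul_inv_rev, inv_inv, cw]

omit hs hn in
theorem good_cube {a b c : Ω} {x g : L} (hD : D3 a b c) (hx : Good π a b c x) (hg : Flip π a b c g) :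
    x * x * x = 1 := by
  have h1 : x * x * x ∈ π.ker := by
    rw [MonoidHom.mem_ker, map_mul, map_mul, hx.map, C_sq hD, ← C_inv hD, inv_mul_cancel]
  have e1 : g * (x * x * x) * g⁻¹ = (g * x * g⁻¹) * (g * x * g⁻¹) * (g * x * g⁻¹) := by group
  rw [hx.flip g hg, ker_comm hc h1 g, mul_inv_cancel_right] at e1
  refine eq_one_of_sq ho h1 ?_
  calc x * x * x * (x * x * x) = (x⁻¹ * x⁻¹ * x⁻¹) * (x * x * x) := by rw [← e1]
    _ = 1 := by group

theorem good_sq {p q i j : Ω} {x y : L} (hDi : D3 p q i) (hDj : D3 p q j) (hij : i ≠ j)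
    (hx : Good π p q i x) (hy : Good π p q j y) : x * y * (x * y) = 1 := by
  obtain ⟨t, ht, t1, t2, t3⟩ := exists_move (S := Finset.univ \ {j})
    (by
      have := Finset.le_card_sdiff ({j} : Finset Ω) Finset.univ
      rw [Finset.card_univ, Finset.card_singleton] at this
      omega) hDi hDi.swap' (by simp only [hDj.2.1, _root_.Finset.mem_sdiff, _root_.Finset.mem_univ, _root_.Finset.mem_singleton, _root_.not_false_eq_true, _root_.and_self]) (by simp only [hDj.2.2, _root_.Finset.mem_sdiff, _root_.Finset.mem_univ, _root_.Finset.mem_singleton, _root_.not_false_eq_true, _root_.and_self]) (by simp only [hij, _root_.Finset.mem_sdiff, _root_.Finset.mem_univ, _root_.Finset.mem_singleton, _root_.not_false_eq_true, _root_.and_self]) (by simp only [hDj.2.2, _root_.Finset.mem_sdiff, _root_.Finset.mem_univ, _root_.Finset.mem_singleton, _root_.not_false_eq_true, _root_.and_self])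
      (by simp only [hDj.2.1, _root_.Finset.mem_sdiff, _root_.Finset.mem_univ, _root_.Finset.mem_singleton, _root_.not_false_eq_true, _root_.and_self]) (by simp only [hij, _root_.Finset.mem_sdiff, _root_.Finset.mem_univ, _root_.Finset.mem_singleton, _root_.not_false_eq_true, _root_.and_self])
  obtain ⟨g, rfl⟩ := hs t
  have t4 : (π g : Perm Ω) j = j := ht j (by simp only [_root_.Finset.mem_sdiff, _root_.Finset.mem_univ, _root_.Finset.mem_singleton, _root_.not_true_eq_false, _root_.and_false, _root_.not_false_eq_true])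
  have h1 : x * y * (x * y) ∈ π.ker := by
    rw [MonoidHom.mem_ker, map_mul, map_mul, hx.map, hy.map]
    exact AltPure.C_mul_C_sq hDi hDj hij
  have e1 := hx.flip g ⟨t1, t2, t3⟩
  have e2 := hy.flip g ⟨t1, t2, t4⟩
  have e3 : g * (x * y * (x * y)) * g⁻¹ = x⁻¹ * y⁻¹ * (x⁻¹ * y⁻¹) := by
    rw [← e1, ← e2]; group
  rw [ker_comm hc h1 g, mul_inv_cancel_right] at e3
  have e4 : x * (x * y * (x * y)) = (x * y * (x * y)) * x := ker_comm hc h1 x
  have e5 : x * (x * y * (x * y)) = (x * y * (x * y))⁻¹ * x := by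
    rw [e3]
    conv_rhs => rw [← e3]
    group
  have e6 : x * y * (x * y) = (x * y * (x * y))⁻¹ := by
    rw [e4] at e5
    exact mul_right_cancel e5
  exact eq_one_of_sq ho h1 (by rw [mul_eq_one_iff_eq_inv]; exact e6)

/-- **odd covers of `A_n`, `n ≥ 8`, are trivial** -/
theorem injective_of (hperf : commutator L = ⊤) : Function.Injective π := by
  classical
  obtain ⟨p, -, -⟩ := exists_not_mem (S := (Finset.univ : Finset Ω)) ∅ (by
    rw [Finset.card_empty, Finset.card_univ]; omega)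
  obtain ⟨q, -, hq⟩ := exists_not_mem (S := (Finset.univ : Finset Ω)) {p} (by
    rw [Finset.card_singleton, Finset.card_univ]; omega)
  have hpq : p ≠ q := fun e => hq (by simp [e])
  have hD : ∀ i : {i : Ω // i ≠ p ∧ i ≠ q}, D3 p q i := fun i => ⟨hpq, i.2.1.symm, i.2.2.symm⟩
  choose x hx using fun i : {i : Ω // i ≠ p ∧ i ≠ q} => exists_good hs hc ho hn (hD i)
  have hcar : Car x := by
    refine ⟨fun i => ?_, fun i j hij => ?_⟩
    · obtain ⟨g, hg⟩ := exists_flip hs hc ho hn (hD i)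
      exact good_cube hc ho (hD i) (hx i) hg
    · exact good_sq hs hc ho hn (hD i) (hD j) (fun e => hij (Subtype.ext e)) (hx i) (hx j)
  -- injectivity on the group generated by the `x i`
  have key : ∀ T : Finset {i : Ω // i ≠ p ∧ i ≠ q}, ∀ g ∈ _root_.Subgroup.closure (x '' (T : Set {i : Ω // i ≠ p ∧ i ≠ q})),
      π g = 1 → g = 1 := by
    intro T
    induction T using Finset.induction_on with
    | empty =>
      intro g hg _
      rw [Finset.coe_empty, Set.image_empty, Subgroup.closure_empty] at hg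
      exact mem_bot.mp hg
    | insert m T hm ih =>
      have hH : ∀ i ∈ (T : Set {i : Ω // i ≠ p ∧ i ≠ q}), x i ∈ _root_.Subgroup.closure (x '' (T : Set {i : Ω // i ≠ p ∧ i ≠ q})) :=
        fun i hi => subset_closure ⟨i, hi, rfl⟩
      have hm' : m ∉ (T : Set {i : Ω // i ≠ p ∧ i ≠ q}) := hm
      have hCU : ∀ g ∈ closure (x '' ((insert m T : Finset _) : Set {i : Ω // i ≠ p ∧ i ≠ q})),
          CU x (closure (x '' (T : Set {i : Ω // i ≠ p ∧ i ≠ q}))) T m g := by
        intro g hg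
        induction hg using closure_induction_right with
        | one => exact Or.inl (one_mem _)
        | mul_right g hg y hy ih' =>
          obtain ⟨k, hk, rfl⟩ := hy
          rw [Finset.coe_insert, Set.mem_insert_iff] at hk
          exact hcar.closed hm' hH ih' (by (clear * - Ω p q m T k hk; itauto))
        | mul_inv_cancel g hg y hy ih' =>
          obtain ⟨k, hk, rfl⟩ := hy
          rw [Finset.coe_insert, Set.mem_insert_iff] at hk
          rw [← hcar.sq_eq, ← mul_assoc]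
          exact hcar.closed hm' hH (hcar.closed hm' hH ih' (by (clear * - Ω p q m T k hk; itauto))) (by (clear * - Ω p q m T k hk; itauto))
      -- the group generated by the `x i`, `i ∈ T`, fixes `m`
      have hfix : ∀ g ∈ _root_.Subgroup.closure (x '' (T : Set {i : Ω // i ≠ p ∧ i ≠ q})), (π g : Perm Ω) m = m := by
        have hle : closure (x '' (T : Set {i : Ω // i ≠ p ∧ i ≠ q})) ≤
            (MulAction.stabilizer (Perm Ω) (m : Ω)).comap ((alternatingGroup Ω).subtype.comp π) := by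
          rw [closure_le]
          rintro _ ⟨i, hi, rfl⟩
          show (π (x i) : Perm Ω) m = m
          rw [(hx i).map]
          exact C_of_ne m.2.1 m.2.2 fun e => hm (by rwa [Subtype.ext e])
        intro g hg
        exact hle hg
      have hxm : (π ((x m)⁻¹) : Perm Ω) m = q := by
        rw [map_inv, (hx m).map, C_inv (hD m), C_b (hD m).swap]
      intro g hg h1
      rcases hCU g hg with hg' | ⟨k, hk, rfl⟩ | ⟨k, hk, rfl⟩ | ⟨k, hk, j, hj, rfl⟩
      · exact ih g hg' h1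
      · exfalso
        have h2 : (π (k * x m) : Perm Ω) m = m := by rw [h1]; rfl
        rw [map_mul] at h2
        have h3 : (π k : Perm Ω) ((π (x m) : Perm Ω) m) = m := h2
        rw [(hx m).map, C_c (hD m)] at h3
        have h4 := hfix k hk
        rw [← h4] at h3
        have h5 := (π k : Perm Ω).injective h3
        exact m.2.1 h5.symm
      · exfalso
        have h2 : (π (k * (x m)⁻¹) : Perm Ω) m = m := by rw [h1]; rfl
        rw [map_mul] at h2
        have h3 : (π k : Perm Ω) ((π ((x m)⁻¹) : Perm Ω) m) = m := h2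
        rw [hxm] at h3
        have h4 := hfix k hk
        exact m.2.2 ((π k : Perm Ω).injective (h4.trans h3.symm))
      · exfalso
        have h2 : (π (k * (x m)⁻¹ * x j) : Perm Ω) m = m := by rw [h1]; rfl
        rw [map_mul, map_mul] at h2
        have h3 : (π k : Perm Ω) ((π ((x m)⁻¹) : Perm Ω) ((π (x j) : Perm Ω) m)) = m := h2
        have h6 : (π (x j) : Perm Ω) m = m := by
          rw [(hx j).map]
          exact C_of_ne m.2.1 m.2.2 fun e => hm (by rwa [Subtype.ext e])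
        rw [h6, hxm] at h3
        have h4 := hfix k hk
        exact m.2.2 ((π k : Perm Ω).injective (h4.trans h3.symm))
  -- the whole group
  set H := _root_.Subgroup.closure (x '' ((Finset.univ : Finset {i : Ω // i ≠ p ∧ i ≠ q}) : Set {i : Ω // i ≠ p ∧ i ≠ q})) with hH
  have hmap : ∀ g : alternatingGroup Ω, ∃ h ∈ H, π h = g := by
    intro g
    have h1 : _root_.Subgroup.closure {g : alternatingGroup Ω | ∃ i, i ≠ p ∧ i ≠ q ∧ g = C p q i} ≤ H.map π := by
      rw [closure_le]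
      rintro _ ⟨i, hi, hi', rfl⟩
      exact ⟨x ⟨i, hi, hi'⟩, subset_closure ⟨_, by simp only [_root_.ne_eq, _root_.Finset.coe_univ, _root_.Set.mem_univ], rfl⟩, (hx ⟨i, hi, hi'⟩).map⟩
    exact h1 (mem_closure_pq hpq g)
  have htop : ∀ g : L, g ∈ H := by
    have h1 : commutator L ≤ H := by
      rw [_root_.commutator_def, commutator_le]
      intro g _ g' _
      obtain ⟨h, hh, e⟩ := hmap (π g)
      obtain ⟨h', hh', e'⟩ := hmap (π g')
      have z1 : h⁻¹ * g ∈ π.ker := by rw [MonoidHom.mem_ker, map_mul, map_inv, e, inv_mul_cancel]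
      have z2 : h'⁻¹ * g' ∈ π.ker := by rw [MonoidHom.mem_ker, map_mul, map_inv, e', inv_mul_cancel]
      have c1 := fun w => ker_comm hc z1 w
      have c2 := fun w => ker_comm hc z2 w
      have h2 : ⁅g, g'⁆ = ⁅h, h'⁆ := by
        generalize hz : h⁻¹ * g = z at *
        generalize hz' : h'⁻¹ * g' = z' at *
        have e1 : g = h * z := by rw [← hz]; group
        have e2 : g' = h' * z' := by rw [← hz']; group
        rw [e1, e2, commutatorElement_def, commutatorElement_def, mul_inv_rev, mul_inv_rev]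
        calc h * z * (h' * z') * (z⁻¹ * h⁻¹) * (z'⁻¹ * h'⁻¹)
            = h * (z * h') * (z' * (z⁻¹ * h⁻¹) * z'⁻¹) * h'⁻¹ := by simp only [mul_assoc]
          _ = h * (h' * z) * ((z⁻¹ * h⁻¹) * z' * z'⁻¹) * h'⁻¹ := by rw [c2 (z⁻¹ * h⁻¹), c1 h']
          _ = h * h' * h⁻¹ * h'⁻¹ := by group
      rw [h2]
      exact H.mul_mem (H.mul_mem (H.mul_mem hh hh') (H.inv_mem hh)) (H.inv_mem hh')
    intro g
    exact h1 (by rw [hperf]; trivial)
  rw [injective_iff_map_eq_one]
  exact fun g hg => key _ g (htop g) hg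

end Lift

end Cfsg.Agent.Omega.TwoF.AltCover

end

section


/-!
# The row `A_n`, `n ≥ 7`, of TABLE 2F

* `kill_add`: `H` irreducible on `V`, `A_Ω` normal in `H`, `2 ^ 10 ≤ |V| ≤ 2 ^ (2 ⌊|Ω| / 2⌋ + 2)`, `|Ω| ≥ 9`: there is
  no normal elementary abelian 2-subgroup `X` of the stabiliser of a vector with `|V| ≤ 4 |X|²`;
* `kill_alt`: `Kill2 (alternatingGroup (Fin n))`, `n ≥ 7`; `row_alt`: `RowEH3 (alternatingGroup (Fin n))`.
-/

set_option autoImplicit false
set_option linter.unusedSectionVars false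

namespace Cfsg.Agent.Omega.TwoF.AltRow

open Equiv Equiv.Perm AltCyc AltSplit AltSix AltNat AltPure AltDeg AltKill

universe u w x

section Add

variable {Ω : Type u} [DecidableEq Ω] [Fintype Ω]
variable {V : Type w} [AddCommGroup V] [Two V] [DistribMulAction (alternatingGroup Ω) V]
variable {H : Type x} [Group H] [DistribMulAction H V]
variable {σ : H →* Perm Ω} {ι : alternatingGroup Ω →* H}

theorem three_pow_lt : ∀ m : ℕ, 7 ≤ m → 2 ^ (m + 4) < 3 ^ m := by
  intro m hm
  induction m, hm using Nat.le_induction with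
  | base => norm_num
  | succ m hm ih =>
    have h1 : 2 ^ (m + 1 + 4) = 2 ^ (m + 4) * 2 := by rw [show m + 1 + 4 = (m + 4) + 1 by ring, pow_succ]
    have h2 : 3 ^ (m + 1) = 3 ^ m * 3 := pow_succ _ _
    have h3 : 0 < 3 ^ m := by positivity
    omega

theorem two_elts [Finite V] {N : AddSubgroup V} (hN : Nat.card N ≤ 2) {v₀ : V} (h0 : v₀ ∈ N) (hne : v₀ ≠ 0) :
    ∀ v ∈ N, v = 0 ∨ v = v₀ := by
  intro v hv
  by_contra hn
  push Not at hn
  have h1 : Nat.card (Fin 3) ≤ Nat.card N := by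
    refine Nat.card_le_card_of_injective (![⟨0, N.zero_mem⟩, ⟨v₀, h0⟩, ⟨v, hv⟩] : Fin 3 → N) ?_
    intro i j hij
    have hij' := congrArg Subtype.val hij
    fin_cases i <;> fin_cases j <;> simp only [_root_.Fin.zero_eta, _root_.Fin.isValue, _root_.Matrix.cons_val_zero, _root_.Fin.mk_one, _root_.Matrix.cons_val_one, _root_.zero_ne_one, _root_.Fin.reduceFinMk, _root_.Matrix.cons_val, _root_.Fin.reduceEq, _root_.one_ne_zero] at hij' ⊢
    all_goals first
      | exact absurd hij' hne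
      | exact absurd hij'.symm hne
      | exact absurd hij' hn.1
      | exact absurd hij'.symm hn.1
      | exact absurd hij' hn.2
      | exact absurd hij'.symm hn.2
  rw [Nat.card_fin] at h1
  omega

/-- natural type -/
theorem natl_univ [Finite V] (hn : 9 ≤ Fintype.card Ω) (hA : Act V σ ι)
    (hirr : ∀ W : AddSubgroup V, (∀ h : H, ∀ v ∈ W, h • v ∈ W) → W = ⊥ ∨ W = ⊤)
    (h10 : 2 ^ 10 ≤ Nat.card V) (hup : Nat.card V ≤ 2 ^ (2 * (Fintype.card Ω / 2) + 2)) :
    Natl (Finset.univ : Finset Ω) (⊤ : AddSubgroup V) := by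
  have hU : (Finset.univ : Finset Ω).card = Fintype.card Ω := Finset.card_univ
  have hM : _root_.Cfsg.Agent.Omega.TwoF.AltSplit.Inv (Finset.univ : Finset Ω) (⊤ : AddSubgroup V) := inv_univ _ rfl
  have htop : Nat.card (⊤ : AddSubgroup V) = Nat.card V := AddSubgroup.card_top
  by_cases h9 : Fintype.card Ω = 9
  · rcases nine (hU.trans h9) hM (by rw [htop]; rw [h9] at hup; exact hup) with h | h
    · exact h
    · by_contra hN
      obtain ⟨a, -, b, -, c, h88⟩ := exists_of_not_natl hN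
      revert h88; rintro ⟨-, d, -, e, -, h88⟩
      revert h88; rintro ⟨f, -, hD, v, -, hv⟩
      have heq : ∀ {a b c d e f : Ω}, D3 a b c → D3 d e f → ∀ v : V, F a b c v = F d e f v :=
        fun {a b c d e f} h1 h2 v => h a (Finset.mem_univ _) b (Finset.mem_univ _) c (Finset.mem_univ _) h1 d
          (Finset.mem_univ _) e (Finset.mem_univ _) f (Finset.mem_univ _) h2 v trivial
      have hW := hirr (cm ⊤ a b c) (by
        intro h v hv
        refine ⟨trivial, ?_⟩
        have h1 := smulF hA h a b c v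
        have h2 : F a b c v = v := hv.2
        rw [h2] at h1
        rw [heq hD.1 (hD.1.map (σ h))]
        exact h1.symm)
      rcases hW with hW | hW
      · have h1 := F_mem_cm hM hD.1 (Finset.mem_univ a) (Finset.mem_univ b) (Finset.mem_univ c)
          (v := F d e f v) trivial
        rw [hW, AddSubgroup.mem_bot] at h1
        exact hv h1
      · have hpr : Pr (Finset.univ : Finset Ω) (⊤ : AddSubgroup V) := by
          intro x _ y _ z _ hD' w _
          rw [heq hD' hD.1]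
          have h1 : w ∈ cm (⊤ : AddSubgroup V) a b c := by rw [hW]; trivial
          exact h1.2
        obtain ⟨y, hy⟩ := pure_nine hM hpr (by omega)
        rw [htop] at hy
        rw [h9] at hup
        rw [hy] at h10 hup
        have h1 : 2 < y := by
          by_contra hlt
          have := Nat.pow_le_pow_left (show y ≤ 2 by omega) 8
          omega
        have h2 := Nat.pow_le_pow_left (show 3 ≤ y by omega) 8
        norm_num at hup
        omega
  · exact natl_of_card (by omega) hM (by rw [htop, hU]; exact hup)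

theorem kill_add [Finite V] [Finite H] (hn : 9 ≤ Fintype.card Ω) (hA : Act V σ ι)
    (hirr : ∀ W : AddSubgroup V, (∀ h : H, ∀ v ∈ W, h • v ∈ W) → W = ⊥ ∨ W = ⊤)
    (hnt : ∃ (g : alternatingGroup Ω) (v : V), g • v ≠ v)
    (h10 : 2 ^ 10 ≤ Nat.card V) (hup : Nat.card V ≤ 2 ^ (2 * (Fintype.card Ω / 2) + 2))
    {X : Subgroup H} {v : V} (hX2 : ∀ x ∈ X, x * x = 1) (hXv : ∀ x ∈ X, x • v = v)
    (hXn : ∀ h : H, h • v = v → ∀ x ∈ X, h * x * h⁻¹ ∈ X) (hXi : ∀ x ∈ X, σ x = 1 → x = 1)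
    (hle : Nat.card V ≤ 4 * Nat.card X ^ 2) : False := by
  have hN := natl_univ hn hA hirr h10 hup
  have hU : (Finset.univ : Finset Ω).card = Fintype.card Ω := Finset.card_univ
  have hM : _root_.Cfsg.Agent.Omega.TwoF.AltSplit.Inv (Finset.univ : Finset Ω) (⊤ : AddSubgroup V) := inv_univ _ rfl
  have htop : Nat.card (⊤ : AddSubgroup V) = Nat.card V := AddSubgroup.card_top
  have hNt : Nt (Finset.univ : Finset Ω) (⊤ : AddSubgroup V) := by
    by_contra h
    obtain ⟨g, w, hgw⟩ := hnt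
    exact hgw (not_nt h (sup_univ g) trivial)
  obtain ⟨p, hp, q, hq, r, hr, hD, w, hw, h0⟩ := hNt
  obtain ⟨v₀, hv₀, hne⟩ := NN_ne (by omega) hM hN hD hp hq hr (hM.F hp hq hr hw) (F_F hD w) h0
  have hc := card_pow_le (by omega) hM hN hD hp hq hr
  rw [htop, hU] at hc
  have h2 : Nat.card (NN (Finset.univ : Finset Ω) (⊤ : AddSubgroup V) p q r) ≤ 2 := by
    by_contra hlt
    have h3 := Nat.pow_le_pow_left (show 3 ≤ Nat.card (NN (Finset.univ : Finset Ω) (⊤ : AddSubgroup V) p q r) by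
      omega) (Fintype.card Ω - 2)
    have h4 := three_pow_lt (Fintype.card Ω - 2) (by omega)
    have h5 : 2 ^ (2 * (Fintype.card Ω / 2) + 2) ≤ 2 ^ (Fintype.card Ω - 2 + 4) :=
      Nat.pow_le_pow_right (by norm_num) (by omega)
    omega
  have hNt1 : Nt1 p q r v₀ := ⟨by omega, hN, hD, hv₀, hne, two_elts h2 hv₀ hne⟩
  have h4 := card_le_four hNt1 hn hA hirr hX2 hXv hXn hXi
  have h5 : Nat.card X ^ 2 ≤ 4 ^ 2 := Nat.pow_le_pow_left h4 2
  omega

end Add

/-! ### The multiplicative form -/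

section Mult

open Subgroup

variable {G : Type x} [Group G] {V : Type w} [CommGroup V]

/-- the additive action -/
abbrev actOf (f : G →* MulAut V) : DistribMulAction G (Additive V) where
  smul g v := Additive.ofMul (f g v.toMul)
  one_smul v := by
    show Additive.ofMul (f 1 v.toMul) = v
    rw [map_one]; rfl
  mul_smul g h v := by
    show Additive.ofMul (f (g * h) v.toMul) = Additive.ofMul (f g (f h v.toMul))
    rw [map_mul]; rfl
  smul_zero g := by
    show Additive.ofMul (f g 1) = 0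
    rw [map_one]; rfl
  smul_add g v w := by
    show Additive.ofMul (f g (v.toMul * w.toMul)) = _
    rw [map_mul]; rfl

theorem kill_nine {n : ℕ} (hn : 9 ≤ n) : Kill2.{u} (alternatingGroup (Fin n)) := by
  intro H V _ _ _ _ φ b L X a π hπ hc
  have := hc.normal
  obtain ⟨ψ, hψi, hψ⟩ := AltRk.exists_psi (n := n) (by omega)
  have hinj : Function.Injective π := AltCover.injective_of hπ.surj hπ.cent hπ.odd
    (by rw [Fintype.card_fin]; omega) hπ.perf
  let e : L ≃* alternatingGroup (Fin n) := MulEquiv.ofBijective π ⟨hinj, hπ.surj⟩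
  let ι : alternatingGroup (Fin n) →* H := L.subtype.comp e.symm.toMonoidHom
  let σ : H →* Perm (Fin n) := ψ.comp ((MulAut.congr e).toMonoidHom.comp MulAut.conjNormal)
  let iH : DistribMulAction H (Additive V) := actOf φ
  let iA : DistribMulAction (alternatingGroup (Fin n)) (Additive V) := actOf (φ.comp ι)
  have : Two (Additive V) := ⟨fun v => by
    have := hc.two v.toMul
    rw [pow_two] at this
    exact this⟩
  have hσ : ∀ (h : H) (g : alternatingGroup (Fin n)),
      (MulAut.conjNormal (σ h) g : alternatingGroup (Fin n)) = e (MulAut.conjNormal h (e.symm g)) := by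
    intro h g
    apply Subtype.ext
    rw [MulAut.conjNormal_apply]
    exact (hψ ((MulAut.congr e) (MulAut.conjNormal h)) g).symm
  have hι : ∀ g, ((e.symm g : L) : H) = ι g := fun g => rfl
  have hA : Act (Additive V) σ ι := by
    refine ⟨?_, ?_, ?_⟩
    · intro h g v
      show Additive.ofMul (φ h (φ (ι g) v.toMul)) =
        Additive.ofMul (φ (ι (MulAut.conjNormal (σ h) g)) (φ h v.toMul))
      congr 1
      rw [← MulAut.mul_apply, ← MulAut.mul_apply, ← map_mul, ← map_mul]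
      congr 2
      rw [hσ, ← hι (e (MulAut.conjNormal h (e.symm g))), e.symm_apply_apply, MulAut.conjNormal_apply, hι]
      group
    · intro g v
      rfl
    · intro g
      obtain ⟨m, rfl⟩ : ∃ m, n = m + 2 := ⟨n - 2, by omega⟩
      refine Cfsg.Agent.StandardComponent.AltAut.conj_unique (m := m) (by omega) ?_
      intro y
      have h1 := congrArg Subtype.val (hσ (ι g) y)
      rw [MulAut.conjNormal_apply] at h1
      rw [h1]
      have h2 : MulAut.conjNormal (ι g) (e.symm y) = e.symm (g * y * g⁻¹) := by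
        apply Subtype.ext
        rw [MulAut.conjNormal_apply, ← hι, map_mul, map_mul, map_inv]
        rfl
      rw [h2, e.apply_symm_apply]
      rfl
  have hirr : ∀ W : AddSubgroup (Additive V), (∀ h : H, ∀ v ∈ W, h • v ∈ W) → W = ⊥ ∨ W = ⊤ := by
    intro W hW
    let W' : Subgroup V :=
      { carrier := {x | Additive.ofMul x ∈ W}
        one_mem' := W.zero_mem
        mul_mem' := fun {x y} hx hy => W.add_mem hx hy
        inv_mem' := fun {x} hx => W.neg_mem hx }
    rcases hc.irr W' (fun h x hx => hW h _ hx) with h | h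
    · left
      rw [eq_bot_iff]
      intro v hv
      have h1 : v.toMul ∈ W' := hv
      rw [h] at h1
      exact h1
    · right
      rw [eq_top_iff]
      intro v _
      have h1 : v.toMul ∈ W' := by rw [h]; trivial
      exact h1
  have hL : L ≠ ⊥ := by
    rintro rfl
    have : Nontrivial (alternatingGroup (Fin n)) := by
      have : Nontrivial (Fin n) := Fin.nontrivial_iff_two_le.mpr (by omega)
      exact alternatingGroup.nontrivial_of_three_le_card (by rw [Nat.card_eq_fintype_card, Fintype.card_fin]; omega)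
    obtain ⟨k, hk⟩ := exists_ne (1 : alternatingGroup (Fin n))
    obtain ⟨l, rfl⟩ := hπ.surj k
    exact hk (by rw [Subsingleton.elim l 1, map_one])
  have hnt : ∃ (g : alternatingGroup (Fin n)) (v : Additive V), g • v ≠ v := by
    by_contra h
    push Not at h
    apply hc.ne_one hL
    ext l v
    have h1 : Additive.ofMul (φ (ι (e l)) v) = Additive.ofMul v := h (e l) (Additive.ofMul v)
    rw [← hι, e.symm_apply_apply] at h1
    exact h1
  have hnt2 : Nontrivial (alternatingGroup (Fin n)) := by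
    obtain ⟨g, v, hgv⟩ := hnt
    exact ⟨g, 1, fun e => hgv (by rw [e, one_smul])⟩
  have hup : Nat.card V ≤ 2 ^ (2 * (n / 2) + 2) :=
    (Conf2.bounds (n := 0) (r := n / 2) (fun _ _ _ _ _ _ _ _ _ _ _ _ _ _ => Nat.card_pos) (AltRk.rk_alt (by omega))
      (alternatingGroup.center_eq_bot (by rw [Nat.card_eq_fintype_card, Fintype.card_fin]; omega)) hnt2 hπ hc).2.2
  have hcV : Nat.card (Additive V) = Nat.card V := rfl
  refine kill_add (V := Additive V) (by rw [Fintype.card_fin]; exact hn) hA hirr hnt ?_ ?_ (X := X)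
    (v := Additive.ofMul a) (fun x hx => by rw [← pow_two]; exact hc.X_two x hx) (fun x hx => hc.X_fix x hx)
    (fun h hh x hx => hc.X_norm h hh x hx) ?_ hc.card_le
  · exact le_trans (by norm_num) hc.twelve
  · rw [Fintype.card_fin]; exact hup
  · intro x hx hx1
    have h1 : (MulAut.congr e) (MulAut.conjNormal x) = 1 := hψi (by rw [map_one]; exact hx1)
    have h2 : (MulAut.conjNormal x : MulAut L) = 1 := (MulAut.congr e).injective (by rw [h1, map_one])
    have h3 : x ∈ X ⊓ centralizer (L : Set H) := by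
      refine ⟨hx, ?_⟩
      show x ∈ centralizer (L : Set H)
      rw [mem_centralizer_iff]
      intro l hl
      have h4 := congrArg Subtype.val (DFunLike.congr_fun h2 (⟨l, hl⟩ : L))
      rw [MulAut.conjNormal_apply] at h4
      have h5 : x * l * x⁻¹ = l := h4
      rw [mul_inv_eq_iff_eq_mul] at h5
      exact h5.symm
    rw [hc.cent] at h3
    exact mem_bot.mp h3

end Mult

end Cfsg.Agent.Omega.TwoF.AltRow

end

end

private theorem dce_5a72dc47fcba : _root_.True := by
  try have : _root_.True := by simp only [_root_.Cfsg.Agent.Omega.TwoF.AltNat.Natl.eq_1]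
  try have : _root_.True := by simp only [_root_.Cfsg.Agent.Omega.TwoF.AltNat.W.eq_1]
  try have : _root_.True := by simp only [_root_.Cfsg.Agent.Omega.TwoF.AltDeg.Dg.eq_1]
  try have : _root_.True := by simp only [_root_.Cfsg.Agent.Omega.TwoF.AltCyc.C.eq_1]
  try have : _root_.True := by simp only [_root_.Cfsg.Agent.Omega.TwoF.AltKill.ev.eq_1]
  try have : _root_.True := by simp only [_root_.Cfsg.Agent.Omega.TwoF.AltNat.E.eq_1]
  exact _root_.True.intro
end

-- part: Mrg/Omega/ML/AltRow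
section
prune_inst 0x400000000130010000000051220003c5682000102006b0001c140024006c08f6100022f20b80017100128aa24003e80200600104d2010000020008200411801a0042a12428048b00021008640f880080c00000000000000000000000000000004000000000
set_option linter.all false
open scoped Cfsg.Agent.FastGrp

section


/-!
# (ML), the K-list end: the alternating rows (helper482)

* `exists_emb` : `X` with `S ⊴ X`, `C_X(S) = 1`, `S ≃ A_n`, `n ≥ 7`: an embedding `X → S_n` whose image of `S` is `A_n`;
* **`alt_over`** : such an `X`, `n ≠ 8`, every 2-subgroup `T` has a proper overgroup `R` with `|O₂(R)| ≤ 4`;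
* **`deadG_alt`** : the row `DeadG` of the alternating groups of degree `n ≥ 7`, `n ≠ 8`.
-/

set_option autoImplicit false

namespace Cfsg.Agent.Omega.ML.AltRow

open Subgroup Equiv Equiv.Perm Cfsg Cfsg.Agent.ZN Cfsg.Agent.Omega.ML.Rows
open Cfsg.Agent.MinSimple.VModule (o2_isPGroup o2_le le_normalizer_o2)

universe u

theorem exists_emb {X : Type u} [Group X] [Finite X] (S : Subgroup X) [S.Normal]
    (hC : centralizer (S : Set X) = ⊥) {n : ℕ} (h7 : 7 ≤ n) (e : S ≃* alternatingGroup (Fin n)) :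
    ∃ π : X →* Perm (Fin n), Function.Injective π ∧ S.map π = alternatingGroup (Fin n) := by
  obtain ⟨ψ, hψ, -⟩ := Cfsg.Agent.Omega.TwoF.AltRk.exists_psi h7
  let π : X →* Perm (Fin n) := ψ.comp ((MulAut.congr e).toMonoidHom.comp (MulAut.conjNormal (H := S)))
  have hπ : Function.Injective π := by
    refine hψ.comp ((MulAut.congr e).injective.comp ?_)
    rw [injective_iff_map_eq_one]
    intro g hg
    have h1 : g ∈ centralizer (S : Set X) := by
      refine mem_centralizer_iff.2 fun s hs => ?_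
      have h2 : ((MulAut.conjNormal g : MulAut S) ⟨s, hs⟩ : X) = s := by
        rw [hg]; rfl
      rw [MulAut.conjNormal_apply] at h2
      have h3 : g * s * g⁻¹ = s := h2
      exact (mul_inv_eq_iff_eq_mul.1 h3).symm
    rw [hC] at h1
    exact mem_bot.1 h1
  refine ⟨π, hπ, ?_⟩
  have : Nontrivial (Fin n) := Fin.nontrivial_iff_two_le.2 (by omega)
  apply eq_alternatingGroup_of_index_eq_two
  have h1 : Nat.card (S.map π) = Nat.card (alternatingGroup (Fin n)) :=
    (Nat.card_congr (S.equivMapOfInjective π hπ).symm.toEquiv).trans (Nat.card_congr e.toEquiv)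
  have h2 := (S.map π).card_mul_index
  have h3 := (alternatingGroup (Fin n)).card_mul_index
  rw [alternatingGroup.index_eq_two] at h3
  rw [h1, ← h3] at h2
  exact Nat.eq_of_mul_eq_mul_left Nat.card_pos h2

theorem alt_over {X : Type u} [Group X] [Finite X] (S : Subgroup X) [S.Normal]
    (hC : centralizer (S : Set X) = ⊥) {n : ℕ} (h7 : 7 ≤ n) (h8 : n ≠ 8) (e : S ≃* alternatingGroup (Fin n))
    (T : Subgroup X) (hT : IsPGroup 2 T) : ∃ R : Subgroup X, T ≤ R ∧ R ≠ ⊤ ∧ Nat.card (o2 R) ≤ 4 := by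
  obtain ⟨π, hπ, hS⟩ := exists_emb S hC h7 e
  obtain ⟨R₀, hTR, ⟨c, hc, hcR⟩, hN⟩ := AltPerm.main h7 h8 (T.map π) (hT.map π)
  have hex : ∀ c : Perm (Fin n), sign c = 1 → ∃ s, π s = c := by
    intro c hc
    have h1 : c ∈ S.map π := by rw [hS]; exact mem_alternatingGroup.2 hc
    obtain ⟨s, -, hs⟩ := h1
    exact ⟨s, hs⟩
  refine ⟨R₀.comap π, Subgroup.map_le_iff_le_comap.1 hTR, ?_, ?_⟩
  · intro h
    obtain ⟨s, hs⟩ := hex c hc
    have h1 : s ∈ R₀.comap π := by rw [h]; trivial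
    rw [mem_comap, hs] at h1
    exact hcR h1
  · have h1 := hN ((o2 (R₀.comap π)).map π) (Subgroup.map_le_iff_le_comap.2 (o2_le _)) ((o2_isPGroup _).map π) ?_
    · rwa [card_map_of_injective hπ] at h1
    · rintro c hcR hc1 _ ⟨g, hg, rfl⟩
      obtain ⟨s, rfl⟩ := hex c hc1
      have h2 : s ∈ R₀.comap π := hcR
      refine ⟨s * g * s⁻¹, ?_, by simp only [_root_.map_mul, _root_.map_inv]⟩
      exact (mem_normalizer_iff.1 (le_normalizer_o2 _ h2) g).1 hg

/-- **The alternating rows, degree `≥ 7`, `≠ 8`.** -/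
theorem deadG_alt : DeadG.{u} (fun S _ => ∃ n : ℕ, 7 ≤ n ∧ n ≠ 8 ∧ Nonempty (S ≃* alternatingGroup (Fin n))) := by
  rintro X _ _ S T A h ⟨n, h7, h8, ⟨e⟩⟩
  have := h.norm
  obtain ⟨R, hT, hR, hc⟩ := alt_over S h.cen h7 h8 e T h.two
  exact h.card_le_four_of_o2 hT hR hc

end Cfsg.Agent.Omega.ML.AltRow

end

section


/-!
# (ML), the K-list end: the list of all rows (helper484, GLUE)

* `DeadZ.mono`, `DeadZ.or`, `DeadZ.of_dead`, `DeadZ.of_deadG`, `DeadZ.perm_iso`;
* `OddLie K` : of Lie type in odd characteristic;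
* **`RowsML`** : one field per row of the list (every field has the form `DeadZ 𝒮`);
* **`RowsML.known`** : `RowsML → DeadZ IsKnownSimple'`.
-/

set_option autoImplicit false

namespace Cfsg.Agent.Omega.ML.Known

open Subgroup Cfsg Cfsg.Agent.ZN Cfsg.Agent.Omega.ML.Rows Cfsg.Agent.Omega.ML.LocRow Cfsg.Agent.Omega.KFacts

universe u v

/-- smaller classes -/
theorem DeadZ.mono {𝒮 𝒮' : ∀ (S : Type u) [Group S], Prop} (h : DeadZ.{u, v} 𝒮)
    (h' : ∀ (S : Type u) [Group S], 𝒮' S → 𝒮 S) : DeadZ.{u, v} 𝒮' :=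
  fun H _ _ M _ _ _ K T Q A z hI hS => h H M K T Q A z hI (h' _ hS)

/-- a row of the form `Dead` -/
theorem DeadZ.of_dead {𝒮 : ∀ (S : Type u) [Group S], Prop} (h : Dead.{u, v} 𝒮) : DeadZ.{u, v} 𝒮 :=
  LocRow.Dead.deadZ h

/-- a group-theoretic row -/
theorem DeadZ.of_deadG {𝒮 : ∀ (S : Type u) [Group S], Prop} (h𝒮 : IsoClosed.{u} 𝒮) (h : DeadG.{u} 𝒮) :
    DeadZ.{u, v} 𝒮 :=
  DeadZ.of_dead (h.dead h𝒮)

theorem DeadZ.or {𝒮 𝒮' : ∀ (S : Type u) [Group S], Prop} (h : DeadZ.{u, v} 𝒮) (h' : DeadZ.{u, v} 𝒮') :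
    DeadZ.{u, v} fun S _ => 𝒮 S ∨ 𝒮' S :=
  fun H _ _ M _ _ _ K T Q A z hI hS =>
    hS.elim (fun h1 => h H M K T Q A z hI h1) fun h1 => h' H M K T Q A z hI h1

/-- of Lie type in odd characteristic -/
def OddLie (K : Type u) [Group K] : Prop := ∃ p : ℕ, p.Prime ∧ p ≠ 2 ∧ IsLieTypeChar p K

/-- **The rows of the list of (ML).** -/
structure RowsML : Prop where
  lie2 : DeadZ.{u, v} fun S _ => IsLieTypeChar 2 S
  alt : DeadZ.{u, v} fun S _ => ∃ n : ℕ, 7 ≤ n ∧ n ≠ 8 ∧ Nonempty (S ≃* alternatingGroup (Fin n))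
  a6 : DeadZ.{u, v} fun S _ => Nonempty (S ≃* alternatingGroup (Fin 6))
  odd : DeadZ.{u, v} fun S _ => OddLie S ∧ ¬ IsLieTypeChar 2 S
  tits : DeadZ.{u, v} @Lie.IsoTits
  m11 : DeadZ.{u, v} @Spor.IsoM11
  m12 : DeadZ.{u, v} @Spor.IsoM12
  m22 : DeadZ.{u, v} @Spor.IsoM22
  m23 : DeadZ.{u, v} @Spor.IsoM23
  m24 : DeadZ.{u, v} @Spor.IsoM24
  j1 : DeadZ.{u, v} @Spor.IsoJ1
  j2 : DeadZ.{u, v} @Spor.IsoJ2
  j3 : DeadZ.{u, v} @Spor.IsoJ3
  j4 : DeadZ.{u, v} @Spor.IsoJ4
  co1 : DeadZ.{u, v} @Spor.IsoCo1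
  co2 : DeadZ.{u, v} @Spor.IsoCo2
  co3 : DeadZ.{u, v} @Spor.IsoCo3
  mcl : DeadZ.{u, v} @Spor.IsoMcL
  hs : DeadZ.{u, v} @Spor.IsoHS
  suz : DeadZ.{u, v} @Spor.IsoSuz
  he : DeadZ.{u, v} @Spor.IsoHe
  ru : DeadZ.{u, v} @Spor.IsoRu
  on : DeadZ.{u, v} @Spor.IsoON
  ly : DeadZ.{u, v} @Spor.IsoLy
  fi22 : DeadZ.{u, v} @Spor.IsoFi22
  fi23 : DeadZ.{u, v} @Spor.IsoFi23
  fi24 : DeadZ.{u, v} @Spor.IsoFi24'
  hn : DeadZ.{u, v} @Spor.IsoHN
  th : DeadZ.{u, v} @Spor.IsoTh
  b : DeadZ.{u, v} @Spor.IsoB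
  m : DeadZ.{u, v} @Spor.IsoM


section

variable {K : Type u} [Group K]

theorem odd_psl (h : OddChar @IsPSLChar K) : OddLie K := by
  obtain ⟨p, hp, h2, h⟩ := h
  exact ⟨p, hp, h2, Or.inl h⟩

theorem odd_psp (h : OddChar @IsPSpChar K) : OddLie K := by
  obtain ⟨p, hp, h2, h⟩ := h
  exact ⟨p, hp, h2, Or.inr (Or.inl h)⟩

theorem odd_psu (h : OddChar @IsPSUChar K) : OddLie K := by
  obtain ⟨p, hp, h2, h⟩ := h
  exact ⟨p, hp, h2, Or.inr (Or.inr (Or.inl h))⟩

theorem odd_omOdd (h : OddChar @IsPOmegaOddChar K) : OddLie K := by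
  obtain ⟨p, hp, h2, h⟩ := h
  exact ⟨p, hp, h2, Or.inr (Or.inr (Or.inr (Or.inl h)))⟩

theorem odd_omPlus (h : OddChar @IsPOmegaPlusChar K) : OddLie K := by
  obtain ⟨p, hp, h2, h⟩ := h
  exact ⟨p, hp, h2, Or.inr (Or.inr (Or.inr (Or.inr (Or.inl h))))⟩

theorem odd_omMinus (h : OddChar @IsPOmegaMinusChar K) : OddLie K := by
  obtain ⟨p, hp, h2, h⟩ := h
  exact ⟨p, hp, h2, Or.inr (Or.inr (Or.inr (Or.inr (Or.inr (Or.inl h)))))⟩

theorem odd_chev (h : OddChar @IsExceptionalChevChar K) : OddLie K := by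
  obtain ⟨p, hp, h2, h⟩ := h
  exact ⟨p, hp, h2, Or.inr (Or.inr (Or.inr (Or.inr (Or.inr (Or.inr (Or.inl h))))))⟩

theorem odd_twisted (h : OddChar @IsTwistedE6D4Char K) : OddLie K := by
  obtain ⟨p, hp, h2, h⟩ := h
  exact ⟨p, hp, h2, Or.inr (Or.inr (Or.inr (Or.inr (Or.inr (Or.inr (Or.inr (Or.inl h)))))))⟩

theorem odd_ree (h : Lie.IsoRee K) : OddLie K :=
  ⟨3, Nat.prime_three, by norm_num,
    Or.inr (Or.inr (Or.inr (Or.inr (Or.inr (Or.inr (Or.inr (Or.inr (Or.inr (Or.inr ⟨rfl, h⟩)))))))))⟩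

/-- **The classes of the list.** -/
theorem cases (h : IsKnownSimple' K) :
    IsPrimeCyclic K ∨ IsLieTypeChar 2 K ∨ (OddLie K ∧ ¬ IsLieTypeChar 2 K) ∨
      Nonempty (K ≃* alternatingGroup (Fin 6)) ∨
      (∃ n : ℕ, 7 ≤ n ∧ n ≠ 8 ∧ Nonempty (K ≃* alternatingGroup (Fin n))) ∨ Lie.IsoTits K ∨ IsSporadicGroup K := by
  by_cases h2 : IsLieTypeChar 2 K
  · exact Or.inr (Or.inl h2)
  have hn := fun (P : Prop) (hP : IsLieTypeChar 2 K ∨ P) => hP.resolve_left h2
  have ho : OddLie K → IsPrimeCyclic K ∨ IsLieTypeChar 2 K ∨ (OddLie K ∧ ¬ IsLieTypeChar 2 K) ∨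
      Nonempty (K ≃* alternatingGroup (Fin 6)) ∨
      (∃ n : ℕ, 7 ≤ n ∧ n ≠ 8 ∧ Nonempty (K ≃* alternatingGroup (Fin n))) ∨ Lie.IsoTits K ∨ IsSporadicGroup K :=
    fun h => Or.inr (Or.inr (Or.inl ⟨h, h2⟩))
  rcases h with h | ⟨n, h5, ⟨e⟩⟩ | h | h | h | h | h | h | h | h
  · exact Or.inl h
  · by_cases h8 : n = 8
    · exfalso
      subst h8
      apply h2
      obtain ⟨e'⟩ := Cfsg.Agent.S0256.result (F := ZMod 2) (by simp)
      exact Or.inl ⟨ZMod 2, inferInstance, inferInstance, inferInstance, 4, by norm_num, by norm_num,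
        ⟨e.trans e'.symm⟩⟩
    · by_cases h5' : n = 5
      · exfalso
        subst h5'
        apply h2
        let _ : Fintype (GaloisField 2 2) := Fintype.ofFinite _
        have hc : Fintype.card (GaloisField 2 2) = 4 := by
          rw [Fintype.card_eq_nat_card, GaloisField.card 2 2 (by norm_num)]; norm_num
        obtain ⟨e'⟩ := Cfsg.Agent.S0252.result (F := GaloisField 2 2) hc
        exact Or.inl ⟨GaloisField 2 2, inferInstance, inferInstance, inferInstance, 2, le_rfl,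
          fun _ => hc.ge, ⟨e.trans e'.symm⟩⟩
      · by_cases h6 : n = 6
        · subst h6
          exact Or.inr (Or.inr (Or.inr (Or.inl ⟨e⟩)))
        · exact Or.inr (Or.inr (Or.inr (Or.inr (Or.inl ⟨n, by omega, h8, ⟨e⟩⟩))))
  · exact ho (odd_psl (hn _ (of_psl h)))
  · exact ho (odd_psp (hn _ (of_psp h)))
  · exact ho (odd_psu (hn _ (of_psu h)))
  · exact ho (odd_omOdd (hn _ (of_omOdd h)))
  · exact ho (odd_omPlus (hn _ (of_omPlus h)))
  · exact ho (odd_omMinus (hn _ (of_omMinus h)))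
  · unfold IsExceptionalLieType at h
    by_cases h3 : Lie.IsoChevG2 K ∨ Lie.IsoF4 K ∨ Lie.IsoChevE6 K ∨ Lie.IsoE7 K ∨ Lie.IsoE8 K
    · exact ho (odd_chev (hn _ (of_chev h3)))
    by_cases h4 : Lie.Iso2E6 K ∨ Lie.Iso3D4 K
    · exact ho (odd_twisted (hn _ (of_twisted h4)))
    by_cases h5 : Lie.IsoSuzuki K
    · exact absurd (Or.inr (Or.inr (Or.inr (Or.inr (Or.inr (Or.inr (Or.inr (Or.inr (Or.inl ⟨rfl, h5⟩)))))))))  h2
    by_cases h6 : Lie.Iso2F4 K
    · exact absurd (Or.inr (Or.inr (Or.inr (Or.inr (Or.inr (Or.inr (Or.inr (Or.inr (Or.inr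
        (Or.inl ⟨rfl, h6⟩)))))))))) h2
    by_cases h7 : Lie.IsoRee K
    · exact ho (odd_ree h7)
    by_cases h8 : Lie.IsoTits K
    · exact Or.inr (Or.inr (Or.inr (Or.inr (Or.inr (Or.inl h8)))))
    exfalso
    (clear * - h h3 h4 h5 h6 h7 h8; tauto)
  · exact Or.inr (Or.inr (Or.inr (Or.inr (Or.inr (Or.inr h)))))

end

/-- `K / Z(K)` is not of prime order -/
theorem not_primeCyclic {K : Type u} [Group K] : ¬ IsPrimeCyclic (K ⧸ center K) := by
  intro hc
  have h1 : Nat.Prime (Nat.card (K ⧸ center K)) := hc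
  have : Fact (Nat.card (K ⧸ center K)).Prime := ⟨h1⟩
  have hcyc : IsCyclic (K ⧸ center K) := isCyclic_of_prime_card (α := K ⧸ center K) rfl
  have hcomm : ∀ a b : K, a * b = b * a :=
    (MonoidHom.isMulCommutative_of_isCyclic_of_ker_le_center (QuotientGroup.mk' (center K)) (by
      rw [QuotientGroup.ker_mk'])).is_comm.comm
  have htop : center K = ⊤ := by
    rw [eq_top_iff]
    intro x _
    exact mem_center_iff.2 fun y => hcomm y x
  have h2 : Nat.card (K ⧸ center K) = 1 := by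
    rw [htop]
    exact index_top
  rw [h2] at h1
  exact Nat.not_prime_one h1

/-- **All rows of the list: no known simple group occurs.** -/
theorem RowsML.known (R : RowsML.{u, v}) : DeadZ.{u, v} @IsKnownSimple' := by
  intro H _ _ M _ _ _ K T Q A z hI hS
  rcases cases hS with h | h | h | h | h | h | h
  · exact not_primeCyclic h
  · exact R.lie2 H M K T Q A z hI h
  · exact R.odd H M K T Q A z hI h
  · exact R.a6 H M K T Q A z hI h
  · exact R.alt H M K T Q A z hI h
  · exact R.tits H M K T Q A z hI h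
  · unfold IsSporadicGroup at h
    rcases h with h | h | h | h | h | h | h | h | h | h | h | h | h | h | h | h | h | h | h | h | h | h | h | h | h | h
    · exact R.m11 H M K T Q A z hI h
    · exact R.m12 H M K T Q A z hI h
    · exact R.m22 H M K T Q A z hI h
    · exact R.m23 H M K T Q A z hI h
    · exact R.m24 H M K T Q A z hI h
    · exact R.j1 H M K T Q A z hI h
    · exact R.j2 H M K T Q A z hI h
    · exact R.j3 H M K T Q A z hI h
    · exact R.j4 H M K T Q A z hI h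
    · exact R.co1 H M K T Q A z hI h
    · exact R.co2 H M K T Q A z hI h
    · exact R.co3 H M K T Q A z hI h
    · exact R.mcl H M K T Q A z hI h
    · exact R.hs H M K T Q A z hI h
    · exact R.suz H M K T Q A z hI h
    · exact R.he H M K T Q A z hI h
    · exact R.ru H M K T Q A z hI h
    · exact R.on H M K T Q A z hI h
    · exact R.ly H M K T Q A z hI h
    · exact R.fi22 H M K T Q A z hI h
    · exact R.fi23 H M K T Q A z hI h
    · exact R.fi24 H M K T Q A z hI h
    · exact R.hn H M K T Q A z hI h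
    · exact R.th H M K T Q A z hI h
    · exact R.b H M K T Q A z hI h
    · exact R.m H M K T Q A z hI h

end Cfsg.Agent.Omega.ML.Known

end

section


/-!
# A common axis (OMEGA, (ML); #16144 of helper595, fill-ins #16314 of helper114); K-free

`H` acts faithfully and irreducibly on the elementary abelian 2-group `M`, `A` is an elementary abelian subgroup of order at
least 4 with `|M : C_M(A)| = 2`, `H = ⟨A^H⟩`, and the stabiliser of some `z` normalises `A`: impossible.

* `Tr t c` : `t` acts on `M` as a transvection with centre `c`;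
* `false_of_axis`.
-/

set_option autoImplicit false

namespace Cfsg.Agent.Omega.ML.Axis

open Subgroup Cfsg.Agent.ClassTwoFusion.Quad

variable {H M : Type*} [Group H] [Group M] [MulDistribMulAction H M]

/-- `t` acts on `M` as a transvection with centre `c` -/
structure Tr (t : H) (c : M) : Prop where
  fix : t • c = c
  or : ∀ m : M, t • m = m ∨ t • m = m * c
  ne : ∃ m : M, t • m ≠ m

theorem cm (sq : ∀ v : M, v * v = 1) (v w : M) : v * w = w * v := by
  have hv : v⁻¹ = v := inv_eq_of_mul_eq_one_right (sq v)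
  have hw : w⁻¹ = w := inv_eq_of_mul_eq_one_right (sq w)
  calc v * w = (w⁻¹ * v⁻¹)⁻¹ := by group
    _ = (w * v)⁻¹ := by rw [hv, hw]
    _ = w * v := inv_eq_of_mul_eq_one_right (sq _)

theorem cancel (sq : ∀ v : M, v * v = 1) {x y c : M} (h : x * c = y) : x = y * c := by
  rw [← h, mul_assoc, sq, mul_one]

namespace Tr

variable {t : H} {c : M} (T : Tr t c)
include T

theorem eq {m : M} (hm : t • m ≠ m) : t • m = m * c := (T.or m).resolve_left hm

theorem ne_one : c ≠ 1 := by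
  rintro rfl
  obtain ⟨m, hm⟩ := T.ne
  rcases T.or m with h | h
  · exact hm h
  · exact hm (by rw [h, mul_one])

theorem t_ne_one : t ≠ 1 := by
  rintro rfl
  obtain ⟨m, hm⟩ := T.ne
  exact hm (one_smul H m)

theorem conj (g : H) : Tr (g * t * g⁻¹) (g • c) where
  fix := by
    rw [mul_smul, mul_smul, inv_smul_smul, T.fix]
  or m := by
    rw [mul_smul, mul_smul]
    rcases T.or (g⁻¹ • m) with h | h
    · left; rw [h, smul_inv_smul]
    · right; rw [h, smul_mul', smul_inv_smul]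
  ne := by
    obtain ⟨m, hm⟩ := T.ne
    refine ⟨g • m, fun h => hm ?_⟩
    rw [mul_smul, mul_smul, inv_smul_smul] at h
    exact MulAction.injective g h

variable (sq : ∀ v : M, v * v = 1)
include sq

theorem invol (m : M) : t • t • m = m := by
  rcases T.or m with h | h
  · rw [h, h]
  · rw [h, smul_mul', h, T.fix, mul_assoc, sq, mul_one]

theorem inv_smul (m : M) : t⁻¹ • m = t • m := by
  rw [inv_smul_eq_iff, T.invol sq]

theorem mul_fix {m m' : M} (h : t • m ≠ m) (h' : t • m' ≠ m') : t • (m * m') = m * m' := by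
  rw [smul_mul', T.eq h, T.eq h']
  calc m * c * (m' * c) = m * (c * m') * c := by group
    _ = m * (m' * c) * c := by rw [cm sq c m']
    _ = m * m' * (c * c) := by group
    _ = m * m' := by rw [sq, mul_one]

end Tr

/-- the elements of `A` are transvections with centres in `C_M(A)` -/
theorem exists_tr (sq : ∀ v : M, v * v = 1) (faith : ∀ x : H, (∀ v : M, x • v = v) → x = 1) {A : Subgroup H}
    (h2 : ∀ a ∈ A, a * a = 1) (hind : (cv M (A : Set H)).index = 2) {a : H} (ha : a ∈ A) (ha1 : a ≠ 1) :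
    ∃ c ∈ cv M (A : Set H), Tr a c ∧ ∀ m, m ∉ cv M (A : Set H) → a • m = m * c := by
  set U := cv M (A : Set H) with hU
  obtain ⟨m0, hm0⟩ : ∃ m0 : M, m0 ∉ U := by
    by_contra hcon
    push Not at hcon
    have : U = ⊤ := (Subgroup.eq_top_iff' U).2 hcon
    rw [this, Subgroup.index_top] at hind
    omega
  have key : ∀ m, m ∉ U → a • m = m * (m0 * a • m0) := by
    intro m hm
    have h1 : m * m0 ∈ U := (Subgroup.mul_mem_iff_of_index_two hind).2 (iff_of_false hm hm0)
    have h3 : a • (m * m0) = m * m0 := h1 a ha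
    rw [smul_mul'] at h3
    have h4 := cancel sq h3
    rw [h4, mul_assoc]
  have ne : ∃ m : M, a • m ≠ m := by
    by_contra hcon
    push Not at hcon
    exact ha1 (faith a hcon)
  have or' : ∀ m : M, a • m = m ∨ a • m = m * (m0 * a • m0) := by
    intro m
    by_cases hm : m ∈ U
    · exact Or.inl (hm a ha)
    · exact Or.inr (key m hm)
  have fix : a • (m0 * a • m0) = m0 * a • m0 := by
    rw [smul_mul', ← mul_smul, h2 a ha, one_smul, cm sq]
  have T : Tr a (m0 * a • m0) := ⟨fix, or', ne⟩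
  refine ⟨_, ?_, T, key⟩
  by_contra hc
  have h3 := key _ hc
  rw [fix, sq] at h3
  exact T.ne_one h3

/-- **Common axis.** -/
theorem false_of_axis (sq : ∀ v : M, v * v = 1) (faith : ∀ x : H, (∀ v : M, x • v = v) → x = 1)
    {A : Subgroup H} {z : M} (h2 : ∀ a ∈ A, a * a = 1) (hcz : ∀ g : H, g • z = z → g ∈ normalizer (A : Set H))
    (hind : (cv M (A : Set H)).index = 2) (hgen : normalClosure (A : Set H) = ⊤)
    (hirr : ∀ W : Subgroup M, (∀ g : H, ∀ w ∈ W, g • w ∈ W) → W = ⊥ ∨ W = ⊤)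
    {a b : H} (ha : a ∈ A) (hb : b ∈ A) (ha1 : a ≠ 1) (hb1 : b ≠ 1) (hab : a ≠ b) : False := by
  set U := cv M (A : Set H) with hU
  have idx : ∀ {x y : M}, x * y ∈ U ↔ (x ∈ U ↔ y ∈ U) := fun {x y} => Subgroup.mul_mem_iff_of_index_two hind
  -- the transvections
  set TT : Set H := {t | ∃ g : H, ∃ x ∈ A, x ≠ 1 ∧ t = g * x * g⁻¹} with hTT
  have tr : ∀ t ∈ TT, ∃ c, Tr t (c : M) := by
    rintro _ ⟨g, x, hx, hx1, rfl⟩
    obtain ⟨c, -, T, -⟩ := exists_tr sq faith h2 hind hx hx1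
    exact ⟨_, T.conj g⟩
  have tconj : ∀ t ∈ TT, ∀ g : H, g * t * g⁻¹ ∈ TT := by
    rintro _ ⟨k, x, hx, hx1, rfl⟩ g
    exact ⟨g * k, x, hx, hx1, by group⟩
  -- (i)
  have i1 : ∀ t c, t ∈ TT → Tr t c → c ∉ U → t • z ≠ z := by
    intro t c _ T hc hz
    have hn := hcz t hz
    have hU' : ∀ m ∈ U, t • m ∈ U := by
      intro m hm x hx
      have h3 : t⁻¹ * x * t ∈ A := by
        have := (Subgroup.mem_normalizer_iff.1 (inv_mem hn) x).1 hx
        rwa [inv_inv] at this
      have h4 : x • t • m = t • ((t⁻¹ * x * t) • m) := by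
        rw [← mul_smul, ← mul_smul]; congr 1; group
      rw [h4, hm _ h3]
    obtain ⟨m, hm, hm1⟩ : ∃ m ∈ U, t • m ≠ m := by
      by_contra hcon
      push Not at hcon
      obtain ⟨m, hm⟩ := T.ne
      by_cases hmU : m ∈ U
      · exact hm (hcon m hmU)
      · have h3 : m * c ∈ U := idx.2 (iff_of_false hmU hc)
        have h4 := hcon _ h3
        rw [smul_mul', T.fix] at h4
        exact hm (mul_right_cancel h4)
    have h3 := hU' m hm
    rw [T.eq hm1] at h3
    exact hc ((idx.1 h3).1 hm)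
  -- (ii)
  have i2 : ∀ t c t' c', t ∈ TT → t' ∈ TT → Tr t c → Tr t' c' → c ∉ U → c' ∉ U → t • c' = c' → t' • c = c := by
    intro t c t' c' ht ht' T T' hc hc' h
    by_contra hne
    have hz := i1 t c ht T hc
    have hz' := i1 t' c' ht' T' hc'
    have hs := i1 (t * t' * t⁻¹) (t • c') (tconj t' ht' t) (T'.conj t) (by rw [h]; exact hc')
    apply hs
    rw [mul_smul, mul_smul, T.inv_smul sq, T.eq hz, T'.mul_fix sq hz' hne, smul_mul', T.eq hz, T.fix, mul_assoc, sq,
      mul_one]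
  have i2' : ∀ t c t' c', t ∈ TT → t' ∈ TT → Tr t c → Tr t' c' → c ∉ U → c' ∉ U → (t • c' = c' ↔ t' • c = c) :=
    fun t c t' c' ht ht' T T' hc hc' => ⟨i2 t c t' c' ht ht' T T' hc hc', i2 t' c' t c ht' ht T' T hc' hc⟩
  -- (iii)
  have i3 : ∀ t c, t ∈ TT → Tr t c → c ∉ U → ∀ x ∈ A, ∀ e ∈ U, Tr x e → t • e = e →
      ∀ t' c', t' ∈ TT → Tr t' c' → c' ∉ U → t' • e = e := by
    intro t c ht T hc x hx e he E hte t' c' ht' T' hc'
    have hxc : x • c = c * e := by
      rcases E.or c with h | h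
      · exfalso
        -- `x` fixes `c ∉ U` and `U`, so everything
        obtain ⟨m, hm⟩ := E.ne
        apply hm
        by_cases hmU : m ∈ U
        · exact hmU x hx
        · have h3 : m * c ∈ U := idx.2 (iff_of_false hmU hc)
          have h4 := h3 x hx
          rw [smul_mul', h] at h4
          exact mul_right_cancel h4
      · exact h
    have hs := T.conj x
    rw [hxc] at hs
    have hce : c * e ∉ U := fun h3 => hc ((idx.1 h3).2 he)
    -- `t` and `x t x⁻¹` fix the same elements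
    have hfix : ∀ m : M, (x * t * x⁻¹) • m = m ↔ t • m = m := by
      intro m
      rw [mul_smul, mul_smul, E.inv_smul sq]
      rcases E.or m with h | h
      · rw [h]
        constructor
        · intro h3
          have h4 := congrArg (fun y => x • y) h3
          simp only [E.invol sq] at h4
          rw [h4, h]
        · intro h3
          rw [h3, h]
      · rw [h, smul_mul', hte]
        constructor
        · intro h3
          have h4 := congrArg (fun y => x • y) h3
          simp only [E.invol sq] at h4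
          rw [h] at h4
          exact mul_right_cancel h4
        · intro h3
          rw [h3, smul_mul', h, E.fix, mul_assoc, sq, mul_one]
    have h5 := i2' t c t' c' ht ht' T T' hc hc'
    have h6 := i2' _ _ t' c' (tconj t ht x) ht' hs T' hce hc'
    rw [hfix, h5] at h6
    by_cases h7 : t' • c = c
    · have h8 := h6.1 h7
      rw [smul_mul', h7] at h8
      exact mul_left_cancel h8
    · have h8 : t' • (c * e) ≠ c * e := fun h => h7 (h6.2 h)
      have h9 := T'.mul_fix sq h7 h8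
      have e1 : c * (c * e) = e := by rw [← mul_assoc, sq, one_mul]
      rwa [e1] at h9
  -- (iv)
  obtain ⟨ca, hca, Ta, ka⟩ := exists_tr sq faith h2 hind ha ha1
  obtain ⟨cb, hcb, Tb, kb⟩ := exists_tr sq faith h2 hind hb hb1
  have mTT : ∀ x ∈ A, x ≠ 1 → x ∈ TT := fun x hx hx1 => ⟨1, x, hx, hx1, by group⟩
  -- some centre is not in `U`
  obtain ⟨t, c, ht, T, hc⟩ : ∃ t c, t ∈ TT ∧ Tr t (c : M) ∧ c ∉ U := by
    by_contra hcon
    push Not at hcon
    have hW := hirr (Subgroup.closure {c : M | ∃ t ∈ TT, Tr t (c : M)}) (by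
      intro g w hw
      induction hw using Subgroup.closure_induction with
      | mem x hx =>
        obtain ⟨t, ht, T⟩ := hx
        exact Subgroup.subset_closure ⟨_, tconj t ht g, T.conj g⟩
      | one => rw [smul_one]; exact one_mem _
      | mul x y _ _ hx hy => rw [smul_mul']; exact mul_mem hx hy
      | inv x _ hx => rw [smul_inv']; exact inv_mem hx)
    have hle : Subgroup.closure {c : M | ∃ t ∈ TT, Tr t (c : M)} ≤ U := by
      rw [Subgroup.closure_le]
      rintro c ⟨t, ht, T⟩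
      exact hcon t c ht T
    rcases hW with hW | hW
    · have h3 : ca ∈ (⊥ : Subgroup M) := by
        rw [← hW]; exact Subgroup.subset_closure ⟨a, mTT a ha ha1, Ta⟩
      exact Ta.ne_one (Subgroup.mem_bot.1 h3)
    · rw [hW, top_le_iff] at hle
      rw [hle, Subgroup.index_top] at hind
      omega
  -- an element `e` of `[M, A]` fixed by `t`
  obtain ⟨x, hx, e, he, E, hte⟩ : ∃ x ∈ A, ∃ e ∈ U, Tr x e ∧ t • e = e := by
    by_cases h3 : t • ca = ca
    · exact ⟨a, ha, ca, hca, Ta, h3⟩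
    by_cases h4 : t • cb = cb
    · exact ⟨b, hb, cb, hcb, Tb, h4⟩
    have hbb : b⁻¹ = b := inv_eq_of_mul_eq_one_right (h2 b hb)
    have hab1 : a * b ≠ 1 := fun h5 => hab (by rw [eq_inv_of_mul_eq_one_left h5, hbb])
    obtain ⟨c', hc', T', k'⟩ := exists_tr sq faith h2 hind (mul_mem ha hb) hab1
    have e1 : c' = ca * cb := by
      have h5 := k' c hc
      rw [mul_smul, kb c hc, smul_mul', ka c hc, hcb a ha, mul_assoc] at h5
      exact (mul_left_cancel h5).symm
    exact ⟨a * b, mul_mem ha hb, c', hc', T', by rw [e1]; exact T.mul_fix sq h3 h4⟩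
  have h3 := i3 t c ht T hc x hx e he E hte
  -- `C_M(TT₁)` is invariant
  set C := cv M {t : H | t ∈ TT ∧ ∃ c, Tr t (c : M) ∧ c ∉ U} with hC
  have heC : e ∈ C := fun t' ht' => by
    obtain ⟨h4, c', T', hc'⟩ := ht'
    exact h3 t' c' h4 T' hc'
  have gen1 : ∀ s ∈ TT, ∀ w ∈ C, s • w ∈ C := by
    intro s hs w hw
    obtain ⟨d, S⟩ := tr s hs
    by_cases hd : d ∈ U
    · rintro t' ⟨h4, c', T', hc'⟩
      have e1 : t' • s • w = s • ((s⁻¹ * t' * s) • w) := by
        rw [← mul_smul, ← mul_smul]; congr 1; group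
      rw [e1, hw]
      have h5 := tconj t' h4 s⁻¹
      have h6 := T'.conj s⁻¹
      rw [inv_inv] at h5 h6
      refine ⟨h5, _, h6, ?_⟩
      rw [S.inv_smul sq]
      rcases S.or c' with h7 | h7
      · rw [h7]; exact hc'
      · rw [h7]; exact fun h8 => hc' ((idx.1 h8).2 hd)
    · rw [hw s ⟨hs, d, S, hd⟩]
      exact hw
  have gen2 : ∀ g : H, ∀ w : M, w ∈ C ↔ g • w ∈ C := by
    intro g
    have hg : g ∈ normalClosure (A : Set H) := by rw [hgen]; exact mem_top g
    unfold Subgroup.normalClosure at hg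
    induction hg using Subgroup.closure_induction with
    | mem s hs =>
      intro w
      rw [Group.mem_conjugatesOfSet_iff] at hs
      obtain ⟨y, hy, hys⟩ := hs
      obtain ⟨k, hk⟩ := isConj_iff.1 hys
      by_cases hy1 : y = 1
      · rw [hy1, mul_one, mul_inv_cancel] at hk
        rw [← hk, one_smul]
      · have hsT : s ∈ TT := ⟨k, y, hy, hy1, hk.symm⟩
        refine ⟨gen1 s hsT w, fun h4 => ?_⟩
        obtain ⟨d, S⟩ := tr s hsT
        have h5 := gen1 s hsT _ h4
        rwa [S.invol sq] at h5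
    | one => intro w; rw [one_smul]
    | mul x y _ _ hx hy =>
      intro w
      rw [mul_smul, ← hx, ← hy]
    | inv x _ hx =>
      intro w
      rw [hx (x⁻¹ • w), smul_inv_smul]
  rcases hirr C (fun g w hw => (gen2 g w).1 hw) with h4 | h4
  · rw [h4] at heC
    exact E.ne_one (Subgroup.mem_bot.1 heC)
  · obtain ⟨m, hm⟩ := T.ne
    apply hm
    have h5 : m ∈ C := by rw [h4]; exact mem_top m
    exact h5 t ⟨ht, c, T, hc⟩

end Cfsg.Agent.Omega.ML.Axis

end

section


/-!
# (ML): `|M : C_M(A)| = 2` is dead, for arbitrary best `A` (supplement to #16144); K-free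

`R` is a 2-group, `B ≤ R` elementary abelian with the maximal value of `|B| |C_M(B)|` among the elementary abelian
subgroups of `R`, strict, `|M : C_M(B)| = 2`.

* `TopS.comm_eq` : two such groups which commute are equal;
* `TopS.mem_normalizer` : **if `g` normalises `R`, then `g` normalises `B`**;
* `Fr.exists_top` : in a frame `A` can be chosen with the maximal value of `|A| |C_M(A)|` in `O₂(C_H(z))` (`p = False`);
* `Fr.eight_le` : then `|A| ≥ 8`.
-/

set_option autoImplicit false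

namespace Cfsg.Agent.Omega.ML.MinFrame

open Subgroup Cfsg Cfsg.Agent.ClassTwoFusion.Quad Cfsg.Agent.Omega.NOThree.NoOver Cfsg.Agent.Omega.ML.CD
open Cfsg.Agent.ZN Cfsg.Agent.MinSimple.VModule
open Cfsg.Agent.Omega.ML.Axis (Tr exists_tr)

universe u v

section Ax

variable {H : Type*} [Group H] {M : Type*} [Group M] [MulDistribMulAction H M]

/-- the transvections `b`, `c` commute, if they fix the centres -/
theorem tr_comm (sq : ∀ m : M, m * m = 1) (faith : ∀ x : H, (∀ m : M, x • m = m) → x = 1) {b c : H} {e f : M}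
    (hb : Tr b e) (hc : Tr c f) (h1 : b • f = f) (h2 : c • e = e) : b * c = c * b := by
  have key : ∀ m : M, (b * c) • m = (c * b) • m := by
    intro m
    rw [mul_smul, mul_smul]
    rcases hb.or m with h3 | h3 <;> rcases hc.or m with h4 | h4
    · rw [h3, h4, h3]
    · rw [h3, h4, smul_mul', h3, h1]
    · rw [h3, h4, h3, smul_mul', h4, h2]
    · rw [h3, h4, smul_mul', smul_mul', h3, h4, h1, h2, mul_assoc, mul_assoc, comm_of_sq sq e f]
  have h3 : (b * c) * (c * b)⁻¹ = 1 := faith _ fun m => by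
    rw [mul_smul, key, ← mul_smul, mul_inv_cancel, one_smul]
  exact mul_inv_eq_one.1 h3

/-- the product of two transvections which move each other's centre has order divisible by 3 -/
theorem tr_dich (sq : ∀ m : M, m * m = 1) {R : Subgroup H} (hR : IsPGroup 2 R) {b c : H} {e f : M} (hbR : b ∈ R)
    (hcR : c ∈ R) (hb : Tr b e) (hc : Tr c f) : b • f = f ∨ c • e = e := by
  by_contra hcon
  push Not at hcon
  have h1 := hb.eq hcon.1
  have h2 := hc.eq hcon.2
  have s1 : (b * c) • e = f := by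
    rw [mul_smul, h2, smul_mul', hb.fix, h1, comm_of_sq sq f e, ← mul_assoc, sq, one_mul]
  have s2 : (b * c) • f = f * e := by rw [mul_smul, hc.fix, h1]
  have s3 : (b * c) • (b * c) • (b * c) • e = e := by
    rw [s1, s2, smul_mul', s1, s2, comm_of_sq sq f e, mul_assoc, sq, mul_one]
  obtain ⟨k, hk⟩ := hR ⟨b * c, R.mul_mem hbR hcR⟩
  have hk1 : (b * c) ^ 2 ^ k = 1 := congrArg Subtype.val hk
  have h3 : (b * c) ∈ MulAction.stabilizer H e := by
    refine mem_of_pow_mem (m := 3) (n := 2 ^ k) (Nat.Coprime.pow_right k (by norm_num)) ?_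
      (hk1 ▸ one_mem _)
    rw [MulAction.mem_stabilizer_iff, pow_succ, pow_succ, pow_one, mul_smul, mul_smul]
    exact s3
  rw [MulAction.mem_stabilizer_iff, s1] at h3
  apply hcon.1
  rw [h3, hb.fix]

variable (M) in
/-- best and strict, axis of index 2 -/
structure TopS (R B : Subgroup H) : Prop where
  le : B ≤ R
  el : ∀ b ∈ B, b * b = 1
  max : ∀ C ≤ R, (∀ c ∈ C, c * c = 1) → fab M 1 1 C ≤ fab M 1 1 B
  strict : Strict (fab M 1 1) B
  idx : (cv M (B : Set H)).index = 2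

variable [Finite H] [Finite M] {R B C : Subgroup H}

theorem TopS.cj (h : TopS M R B) {g : H} (hg : ∀ x ∈ R, g * x * g⁻¹ ∈ R) : TopS M R (cj g B) where
  le := by
    rintro _ ⟨x, hx, rfl⟩
    exact hg x (h.le hx)
  el := by
    rintro _ ⟨x, hx, rfl⟩
    rw [← map_mul, h.el x hx, map_one]
  max D hD hD2 := by
    rw [(ls_fab M 1 1).conj]
    exact h.max D hD hD2
  strict := h.strict.cj (ls_fab M 1 1) g
  idx := by
    have h1 : (cv M ((NOThree.NoOver.cj g B : Subgroup H) : Set H)) =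
      (cv M (B : Set H)).map (MulDistribMulAction.toMulEquiv M g : M ≃* M).toMonoidHom := QData.cv_map_conj B g
    rw [h1]
    have h2 := Subgroup.index_map_equiv (cv M (B : Set H)) (MulDistribMulAction.toMulEquiv M g : M ≃* M)
    exact h2.trans h.idx

omit [Finite H] in
/-- two such groups which commute are equal -/
theorem TopS.comm_le [Finite H] (hB : TopS M R B) (hC : TopS M R C) (hc : ∀ b ∈ B, ∀ c ∈ C, b * c = c * b) : C ≤ B := by
  have hel : ∀ x ∈ B ⊔ C, x * x = 1 := by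
    intro x hx
    have h1 : C ≤ normalizer (B : Set H) := fun c hcc => centralizer_le_normalizer _ (by
      rw [mem_centralizer_iff]
      exact fun b hb => hc b hb c hcc)
    obtain ⟨b, hb, c, hcc, rfl⟩ := sup_eq_mul h1 hx
    calc b * c * (b * c) = b * (c * b) * c := by group
      _ = b * (b * c) * c := by rw [hc b hb c hcc]
      _ = (b * b) * (c * c) := by group
      _ = 1 := by rw [hB.el b hb, hC.el c hcc, one_mul]
  have h1 := hB.max (B ⊔ C) (sup_le hB.le hC.le) hel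
  have h2 := (ls_fab M 1 1).sup B C
  have h3 := (ls_fab M 1 1).pos B
  have h4 : fab M 1 1 C ≤ fab M 1 1 (B ⊓ C) := by
    have h5 : fab M 1 1 B * fab M 1 1 C ≤ fab M 1 1 B * fab M 1 1 (B ⊓ C) :=
      h2.trans (Nat.mul_le_mul_right _ h1)
    exact Nat.le_of_mul_le_mul_left h5 h3
  by_contra hcon
  have h5 : B ⊓ C < C := lt_of_le_of_ne inf_le_right fun h6 => hcon (inf_eq_right.1 h6)
  exact absurd h4 (not_le.2 (hC.strict _ h5))

theorem TopS.comm_eq (hB : TopS M R B) (hC : TopS M R C) (hc : ∀ b ∈ B, ∀ c ∈ C, b * c = c * b) : B = C :=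
  le_antisymm (hC.comm_le hB fun c hcc b hb => (hc b hb c hcc).symm) (hB.comm_le hC hc)

/-- the asymmetric case -/
theorem TopS.false_of_move (sq : ∀ m : M, m * m = 1) (faith : ∀ x : H, (∀ m : M, x • m = m) → x = 1)
    (hR : IsPGroup 2 R) (hB : TopS M R B) (hC : TopS M R C) {b : H} (hb : b ∈ B) {e : M} (heB : e ∈ cv M (B : Set H))
    (hbe : Tr b e) (hbm : ∀ m, m ∉ cv M (B : Set H) → b • m = m * e) (heC : e ∉ cv M (C : Set H)) : False := by
  -- `b` fixes the centres of `C`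
  have h1 : ∀ c ∈ C, c ≠ 1 → ∃ f ∈ cv M (C : Set H), Tr c f ∧ b • f = f := by
    intro c hc hc1
    obtain ⟨f, hf, hcf, hcm⟩ := exists_tr sq faith hC.el hC.idx hc hc1
    refine ⟨f, hf, hcf, (tr_dich sq hR (hB.le hb) (hC.le hc) hbe hcf).resolve_right fun h2 => ?_⟩
    rw [hcm e heC] at h2
    exact hcf.ne_one (mul_eq_left.1 h2)
  have hbR : ∀ x ∈ R, b * x * b⁻¹ ∈ R := fun x hx => R.mul_mem (R.mul_mem (hB.le hb) hx) (R.inv_mem (hB.le hb))
  have hD := hC.cj hbR
  have h2 : C = NOThree.NoOver.cj b C := by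
    refine hC.comm_eq hD ?_
    rintro c hc _ ⟨c', hc', rfl⟩
    change c * (b * c' * b⁻¹) = (b * c' * b⁻¹) * c
    by_cases hc1 : c = 1
    · rw [hc1, one_mul, mul_one]
    by_cases hc1' : c' = 1
    · rw [hc1', mul_one, mul_inv_cancel, one_mul, mul_one]
    obtain ⟨f, hf, hcf, hbf⟩ := h1 c hc hc1
    obtain ⟨f', hf', hcf', hbf'⟩ := h1 c' hc' hc1'
    have h3 := hcf'.conj b
    rw [hbf'] at h3
    refine tr_comm sq faith hcf h3 (hf' c hc) ?_
    have h4 : b⁻¹ • f = f := by rw [inv_smul_eq_iff, hbf]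
    rw [mul_smul, mul_smul, h4, hf c' hc', hbf]
  -- so `b` normalises `C` and `C_M(C)`
  have h3 : ∀ m ∈ cv M (C : Set H), b • m ∈ cv M (C : Set H) := by
    intro m hm c hc
    rw [h2] at hc
    obtain ⟨c', hc', rfl⟩ := hc
    change (b * c' * b⁻¹) • b • m = b • m
    rw [mul_smul, mul_smul, inv_smul_smul, hm c' hc']
  have h4 : ¬ cv M (C : Set H) ≤ cv M (B : Set H) := by
    intro h5
    have h6 := relIndex_mul_index h5
    rw [hB.idx, hC.idx] at h6
    have h7 : (cv M (C : Set H)).relIndex (cv M (B : Set H)) = 1 := by omega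
    exact heC (relIndex_eq_one.1 h7 heB)
  obtain ⟨m, hm, hmB⟩ := Set.not_subset.1 h4
  have h5 := h3 m hm
  rw [hbm m hmB] at h5
  exact heC ((Subgroup.mul_mem_cancel_left _ hm).1 h5)

/-- **`g` normalises `B`** -/
theorem TopS.eq_of (sq : ∀ m : M, m * m = 1) (faith : ∀ x : H, (∀ m : M, x • m = m) → x = 1)
    (hR : IsPGroup 2 R) (hB : TopS M R B) (hC : TopS M R C) : B = C := by
  refine hB.comm_eq hC fun b hb c hc => ?_
  by_cases hb1 : b = 1
  · rw [hb1, one_mul, mul_one]
  by_cases hc1 : c = 1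
  · rw [hc1, one_mul, mul_one]
  obtain ⟨e, he, hbe, hbm⟩ := exists_tr sq faith hB.el hB.idx hb hb1
  obtain ⟨f, hf, hcf, hcm⟩ := exists_tr sq faith hC.el hC.idx hc hc1
  have h1 : e ∈ cv M (C : Set H) := by
    by_contra h2
    exact hB.false_of_move sq faith hR hC hb he hbe hbm h2
  have h2 : f ∈ cv M (B : Set H) := by
    by_contra h2
    exact hC.false_of_move sq faith hR hB hc hf hcf hcm h2
  exact tr_comm sq faith hbe hcf (h2 b hb) (h1 c hc)

theorem TopS.mem_normalizer (sq : ∀ m : M, m * m = 1) (faith : ∀ x : H, (∀ m : M, x • m = m) → x = 1)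
    (hR : IsPGroup 2 R) (hB : TopS M R B) {g : H} (hg : ∀ x ∈ R, g * x * g⁻¹ ∈ R) :
    g ∈ normalizer (B : Set H) :=
  mem_normalizer_of_map (TopS.eq_of sq faith hR (hB.cj hg) hB)

end Ax

namespace Fr

variable {K : Frame.Cls.{u}} {H : Type u} [Group H] [Finite H] {M : Type v} [Group M] [Finite M]
  [MulDistribMulAction H M] {T Q A : Subgroup H} {z : M}

variable (M) in
/-- best and strict among the elementary abelian subgroups of `R` -/
structure Bst (R B : Subgroup H) : Prop where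
  le : B ≤ R
  el : ∀ b ∈ B, b * b = 1
  max : ∀ C ≤ R, (∀ c ∈ C, c * c = 1) → fab M 1 1 C ≤ fab M 1 1 B
  strict : Strict (fab M 1 1) B

omit [Finite M] in
theorem exists_bst (R : Subgroup H) : ∃ B, Bst M R B := by
  classical
  have hfin : Set.Finite {B : Subgroup H | B ≤ R ∧ ∀ b ∈ B, b * b = 1} := Set.toFinite _
  obtain ⟨B₁, hB₁, hmax⟩ := Set.exists_max_image _ (fab M 1 1) hfin ⟨⊥, bot_le, fun b hb => by
    rw [mem_bot.1 hb, one_mul]⟩
  have hfin2 : Set.Finite {B : Subgroup H | (B ≤ R ∧ ∀ b ∈ B, b * b = 1) ∧ fab M 1 1 B = fab M 1 1 B₁} := Set.toFinite _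
  obtain ⟨B, ⟨⟨h1, h2⟩, h3⟩, hmin⟩ := Set.exists_min_image _ (fun B : Subgroup H => Nat.card B) hfin2 ⟨B₁, hB₁, rfl⟩
  refine ⟨B, h1, h2, fun C hC hC2 => (hmax C ⟨hC, hC2⟩).trans h3.ge, fun C hC => ?_⟩
  have h4 := hmax C ⟨hC.le.trans h1, fun c hc => h2 c (hC.le hc)⟩
  refine lt_of_le_of_ne (h4.trans h3.ge) fun h5 => ?_
  have h6 := hmin C ⟨⟨hC.le.trans h1, fun c hc => h2 c (hC.le hc)⟩, h5.trans h3⟩
  have h7 : Nat.card C < Nat.card B := by
    have h2 := Set.ncard_lt_ncard (SetLike.coe_ssubset_coe.2 hC) (Set.toFinite _)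
    rwa [← Nat.card_coe_set_eq, ← Nat.card_coe_set_eq] at h2
  exact absurd h6 (not_le.2 h7)

/-- **`A` can be chosen best** -/
theorem exists_top (h : Fr K False H M T Q A z) :
    ∃ B, Bst M (o2 (MulAction.stabilizer H z)) B ∧ Fr K False H M T (o2 (MulAction.stabilizer H z)) B z := by
  obtain ⟨B, hB⟩ := exists_bst (M := M) (o2 (MulAction.stabilizer H z))
  refine ⟨B, hB, ?_⟩
  have hQ : Q ≤ o2 (MulAction.stabilizer H z) :=
    Cfsg.Agent.MinSimple.VModule.le_o2 (fun q hq => h.fixQ q hq) h.Q2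
      (le_normalizer_of fun g hg x hx => h.nrmQ g hg x hx)
  exact
    { ind := h.ind
      sec := h.sec
      KH := h.KH
      sq := h.sq
      two := h.two
      odd := h.odd
      fixT := h.fixT
      Q2 := o2_isPGroup _
      fixQ := fun q hq => o2_le _ hq
      nrmQ := fun g hg q hq => conj_mem_of_le (le_normalizer_o2 _) (R := MulAction.stabilizer H z) hg hq
      AQ := hB.le
      Asq := hB.el
      nrmA := fun hf => hf.elim
      strict := hB.strict
      ne := by
        rintro rfl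
        have h1 := hB.max A (h.AQ.trans hQ) h.Asq
        have h2 := h.strict ⊥ (bot_lt_iff_ne_bot.2 h.ne)
        omega
      faithful := h.faithful
      gen := h.gen }

/-- **`|A| ≥ 8`** for best `A` -/
theorem eight_le (h : Fr K False H M T (o2 (MulAction.stabilizer H z)) A z)
    (hA : Bst M (o2 (MulAction.stabilizer H z)) A) : 8 ≤ Nat.card A := by
  have hlt := h.index_lt
  have hA2 : IsPGroup 2 A := h.Q2.to_le h.AQ
  have hM2 : IsPGroup 2 M := fun x => ⟨1, by rw [pow_one, pow_two]; exact h.sq x⟩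
  have : Fact (Nat.Prime 2) := ⟨Nat.prime_two⟩
  obtain ⟨n, hn⟩ := IsPGroup.iff_card.1 hA2
  obtain ⟨m, hm⟩ := hM2.index (cv M (A : Set H))
  rw [hn, hm] at hlt
  have hmn : m < n := (Nat.pow_lt_pow_iff_right (by norm_num)).1 hlt
  have hm0 : m ≠ 0 := by
    rintro rfl
    rw [pow_zero, index_eq_one] at hm
    exact h.ne ((Subgroup.eq_bot_iff_forall A).2 fun a ha => h.faithful a fun x => by
      have h1 : x ∈ cv M (A : Set H) := hm ▸ mem_top x
      exact h1 a ha)
  have hm1 : m ≠ 1 := by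
    rintro rfl
    rw [pow_one] at hm
    have htop : TopS M (o2 (MulAction.stabilizer H z)) A := ⟨hA.le, hA.el, hA.max, hA.strict, hm⟩
    have hcz : ∀ g : H, g • z = z → g ∈ normalizer (A : Set H) := fun g hg =>
      htop.mem_normalizer h.sq h.faithful (o2_isPGroup _) fun x hx =>
        conj_mem_of_le (le_normalizer_o2 _) (R := MulAction.stabilizer H z) hg hx
    have hgen : normalClosure (A : Set H) = ⊤ := h.eq_top_of_normal normalClosure_normal le_normalClosure
    have h3 : 2 < Nat.card A := by rw [hn]; calc 2 = 2 ^ 1 := rfl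
      _ < 2 ^ n := hlt
    have : Nontrivial A := (Subgroup.nontrivial_iff_ne_bot _).2 h.ne
    obtain ⟨a, ha⟩ := exists_ne (1 : A)
    obtain ⟨b, hb1, hb2⟩ : ∃ b : A, b ≠ 1 ∧ b ≠ a := by
      by_contra hcon
      push Not at hcon
      have h4 : (Set.univ : Set A) ⊆ {1, a} := by
        intro b _
        by_cases hb : b = 1
        · exact Or.inl hb
        · exact Or.inr (hcon b hb)
      have h5 := Set.ncard_le_ncard h4 (Set.toFinite _)
      rw [Set.ncard_univ] at h5
      rw [Set.ncard_pair (Ne.symm ha)] at h5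
      omega
    refine Axis.false_of_axis h.sq h.faithful h.Asq hcz hm hgen (fun W hW => h.irred hW) a.2 b.2
      (fun h5 => ha (Subtype.ext h5)) (fun h5 => hb1 (Subtype.ext h5)) (fun h5 => hb2 (Subtype.ext h5.symm))
  rw [hn]
  calc 8 = 2 ^ 3 := rfl
    _ ≤ 2 ^ n := Nat.pow_le_pow_right (by norm_num) (by omega)

end Fr

end Cfsg.Agent.Omega.ML.MinFrame

end
end

-- part: Mrg/Omega/ML/InOf
section
prune_inst 0x400000000000000000003c4282000002004b0000c10002000688084100000e20b0000210002080040030000814001004201000000000020041180080000012020040a000000000000802000000000000000000000000000000000000000000000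
set_option linter.all false
open scoped Cfsg.Agent.FastGrp

section


/-!
# (ML): a minimal counterexample gives the situation `Rows.In`; (ML) from the rows

`p = False`: `A` is any elementary abelian subgroup of a 2-subgroup `Q` of `C_H(z)` normalised by `C_H(z)`.

* `Fr.exists_in` : a frame gives `Rows.In H M L T A` for some `L`, `A`;
* `mls_of_dead` : **(ML) for all groups of a section-closed class, if `Rows.In` does not occur in it**;
* `mls_of_rows` : the same with `Rows.Dead 𝒮`;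
* `rel_le`, `card_le` : the consumers' forms: `|A : C_A(W)| ≤ |W : C_W(A)|` for `W = ⟨z^H⟩`, and `|A| ≤ |M : C_M(A)|` if
  `M = ⟨z^H⟩` is faithful.
-/

set_option autoImplicit false

namespace Cfsg.Agent.Omega.ML.MinFrame

open Subgroup Cfsg Cfsg.Agent.ClassTwoFusion.Quad Cfsg.Agent.Omega.NOThree.NoOver Cfsg.Agent.Omega.ML.CD
open Cfsg.Agent.ZN Cfsg.Agent.MinSimple.VModule

universe u v

namespace Fr

variable {K : Frame.Cls.{u}} {H : Type u} [Group H] [Finite H] {M : Type v} [Group M] [Finite M]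
  [MulDistribMulAction H M] {T Q A : Subgroup H} {z : M}

/-- **The frame gives `Rows.In`** -/
theorem exists_in (hFF : FFBr.AStmt.{max u v}) (h : Fr K False H M T Q A z) :
    ∃ L B : Subgroup H, Rows.In H M L T B := by
  obtain ⟨B, hB, h'⟩ := h.exists_top
  obtain ⟨L, hLn, hLq, hLA, hC, hCL, hodd, -⟩ := h'.exists_comp'' hFF
  refine ⟨L, B, ?_⟩
  exact
    { sq := h'.sq
      faith := h'.faithful
      irr := fun W hW => h'.irred hW
      norm := hLn
      qs := hLq
      odd := by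
        have h1 : (center L).map L.subtype ≤ center H := by
          rw [← hC]
          rintro _ ⟨x, hx, rfl⟩
          rw [mem_centralizer_iff]
          intro y hy
          exact congrArg Subtype.val (mem_center_iff.1 hx ⟨y, hy⟩)
        have h2 := card_dvd_of_le h1
        rw [card_map_of_injective L.subtype_injective] at h2
        exact hodd.of_dvd_nat h2
      cen := hC.le.trans hCL
      zen := fun c hc x => mem_center_iff.1 (hC.le hc) x
      gen := hLA
      two := h'.two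
      syl := h'.odd
      el := h'.Asq
      strict := h'.strict
      eight := h'.eight_le hB
      low := fun R hT hR => h'.le_o2 hT hR
      nmax := h'.nmax hFF
      bb := by
        intro R P C v hR hPR hP hPi hPv hC2 hCs hCo
        refine h'.red_o2 hR (T' := P) (Q' := o2 (R ⊓ MulAction.stabilizer H v)) (B := C) (z' := v) hP hPR hPi hPv
          (o2_isPGroup _) ((o2_le _).trans inf_le_left) (fun q hq => (o2_le _ hq).2) ?_ hCo hC2 (fun hf => hf.elim) hCs
        exact fun g hgR hgv q hq => conj_mem_of_le (le_normalizer_o2 _) (R := R ⊓ MulAction.stabilizer H v)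
          ⟨hgR, hgv⟩ hq }

end Fr

section consumer

variable {H : Type u} [Group H] [Finite H] {M : Type v} [Group M] [Finite M] [MulDistribMulAction H M]

omit [Finite H] [Finite M] in
/-- the consumers' form: `|A : C_A(W)| ≤ |W : C_W(A)|` for `W = ⟨z^H⟩` -/
theorem rel_le (h : MLS False H M) {T A : Subgroup H} {z : M} (hT : IsPGroup 2 T) (hTi : ¬ 2 ∣ T.index)
    (hz : ∀ t ∈ T, t • z = z) (hA : A ≤ o2 (MulAction.stabilizer H z)) (hA2 : ∀ a ∈ A, a * a = 1) :
    (fxr H (orb (⊤ : Subgroup H) z)).relIndex A ≤ (cv M (A : Set H)).relIndex (orb (⊤ : Subgroup H) z) :=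
  h T (o2 (MulAction.stabilizer H z)) A z (mem_top _) hT le_top (by rwa [relIndex_top_right]) hz (o2_isPGroup _) le_top
    (fun _ hq => o2_le _ hq)
    (fun _ _ hg _ hq => conj_mem_of_le (le_normalizer_o2 _) (R := MulAction.stabilizer H z) hg hq) hA hA2
    (fun hf => hf.elim)

omit [Finite H] [Finite M] in
/-- `M = ⟨z^H⟩` faithful: `|A| ≤ |M : C_M(A)|` -/
theorem card_le (h : MLS False H M) (faith : ∀ x : H, (∀ m : M, x • m = m) → x = 1) {T A : Subgroup H} {z : M}
    (hT : IsPGroup 2 T) (hTi : ¬ 2 ∣ T.index) (hz : ∀ t ∈ T, t • z = z)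
    (hgen : closure (Set.range fun g : H => g • z) = ⊤)
    (hA : A ≤ o2 (MulAction.stabilizer H z)) (hA2 : ∀ a ∈ A, a * a = 1) :
    Nat.card A ≤ (cv M (A : Set H)).index := by
  have h1 := rel_le h hT hTi hz hA hA2
  have h2 : orb (⊤ : Subgroup H) z = ⊤ := by
    rw [← top_le_iff, ← hgen, closure_le]
    rintro _ ⟨g, rfl⟩
    exact smul_mem_orb_self (mem_top g)
  have h3 : fxr H (⊤ : Subgroup M) = ⊥ :=
    (Subgroup.eq_bot_iff_forall _).2 fun x hx => faith x fun m => hx m (mem_top m)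
  rw [h2, h3, relIndex_bot_left, relIndex_top_right] at h1
  exact h1

end consumer

end Cfsg.Agent.Omega.ML.MinFrame

end

section


/-!
# The dual count (OMEGA, (ML); #15208 of helper729, (L4) of #15924 of helper883); K-free

A functional on the subgroup `W` of `M` is a function `u : M → ℤˣ` which is multiplicative on `W` (`Fn W u`).
`st X W u` is the stabiliser of `u` in `X`.

* `dc` : **(DC)** `|X : C_X(u)| ≤ |W : C_W(X)|`, `X` any subgroup of `H`, `W` an `X`-invariant subgroup of `M`;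
* `Chain X W D` : `|X : D| ≤ |W : C_W(X)|`; `Chain.step` : **(CHAIN)** from `W` to `W' ≥ W` with a functional on `W'`
  trivial on `W`;  `Chain.fo_le` : if the functionals of one chain have trivial common stabiliser then
  `|X| |C_M(X)| ≤ |M|`;
* `fo_le` : **(L4)** one functional of `M` with `C_X(u) = 1` suffices;
* `exists_fix` : a strict `A` (over-offender) fixes no functional regularly: `W` `A`-invariant, `[W, A] ≠ 1`, `u` on `W`:
  some `a ∈ A`, not centralising `W`, fixes `u`; `exists_fix_hyp`, `exists_fix_ne_one`.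
-/

set_option autoImplicit false
set_option linter.unusedVariables false

namespace Cfsg.Agent.Omega.ML.Dual

open Subgroup Cfsg.Agent.ClassTwoFusion.Quad Cfsg.Agent.Omega.NOThree.NoOver Cfsg.Agent.Omega.ML.CD

/-- at most `|W : C|` homomorphisms `W → ±1` are trivial on `C` -/
theorem card_le_index {W : Type*} [Group W] [Finite W] (C : Subgroup W) {ι : Type*} (χ : ι → (W →* ℤˣ))
    (hinj : Function.Injective χ) (hC : ∀ i, ∀ c ∈ C, χ i c = 1) : Nat.card ι ≤ C.index := by
  classical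
  have : Finite (W →* ℤˣ) := DFunLike.finite _
  have : Finite ι := Finite.of_injective χ hinj
  have := Fintype.ofFinite ι
  have := Fintype.ofFinite (W ⧸ C)
  let F : ι → (W ⧸ C → ℚ) := fun i q => Quotient.liftOn' q (fun w => (((χ i w : ℤˣ) : ℤ) : ℚ)) (by
    intro a b hab
    rw [QuotientGroup.leftRel_apply] at hab
    have h1 := hC i _ hab
    rw [map_mul, map_inv, inv_mul_eq_one] at h1
    simp only [h1])
  let L : (W ⧸ C → ℚ) →ₗ[ℚ] (W → ℚ) := LinearMap.funLeft ℚ ℚ (QuotientGroup.mk)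
  have hlin : LinearIndependent ℚ F := by
    apply LinearIndependent.of_comp L
    let e : ι → (W →* ℚ) := fun i => (Int.castRingHom ℚ : ℤ →* ℚ).comp ((Units.coeHom ℤ).comp (χ i))
    have he : Function.Injective e := by
      intro i j hij
      apply hinj
      ext w
      have h1 := DFunLike.congr_fun hij w
      have h2 : (((χ i w : ℤˣ) : ℤ) : ℚ) = (((χ j w : ℤˣ) : ℤ) : ℚ) := h1
      exact_mod_cast h2
    exact (linearIndependent_monoidHom W ℚ).comp e he
  have h1 := hlin.fintype_card_le_finrank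
  rw [Module.finrank_fintype_fun_eq_card] at h1
  rw [Subgroup.index, Nat.card_eq_fintype_card, Nat.card_eq_fintype_card]
  exact h1

variable {H : Type*} [Group H] {M : Type*} [Group M] [MulDistribMulAction H M]

/-- `u` is a functional on `W` -/
def Fn (W : Subgroup M) (u : M → ℤˣ) : Prop := ∀ w ∈ W, ∀ w' ∈ W, u (w * w') = u w * u w'

/-- `W` is `X`-invariant -/
def Iv (X : Subgroup H) (W : Subgroup M) : Prop := ∀ x ∈ X, ∀ w ∈ W, x • w ∈ W

theorem Fn.one {W : Subgroup M} {u : M → ℤˣ} (h : Fn W u) : u 1 = 1 := by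
  have h1 := h 1 (one_mem _) 1 (one_mem _)
  rw [mul_one] at h1
  exact (mul_eq_left.1 h1.symm)

theorem Fn.inv {W : Subgroup M} {u : M → ℤˣ} (h : Fn W u) {w : M} (hw : w ∈ W) : u w⁻¹ = u w := by
  have h1 := h w hw w⁻¹ (inv_mem hw)
  rw [mul_inv_cancel, h.one] at h1
  have h2 : u w * u w = 1 := Int.units_mul_self _
  exact mul_left_cancel (h1.symm.trans h2.symm)

theorem Fn.mono {W W' : Subgroup M} {u : M → ℤˣ} (h : Fn W' u) (hW : W ≤ W') : Fn W u :=
  fun w hw w' hw' => h w (hW hw) w' (hW hw')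

/-- the stabiliser in `X` of the functional `u` on `W` -/
def st (X : Subgroup H) (W : Subgroup M) (u : M → ℤˣ) : Subgroup H where
  carrier := {x | x ∈ X ∧ ∀ w ∈ W, x • w ∈ W ∧ x⁻¹ • w ∈ W ∧ u (x • w) = u w}
  one_mem' := ⟨one_mem _, fun w hw => by simpa using hw⟩
  mul_mem' := by
    rintro x y ⟨hx, hx'⟩ ⟨hy, hy'⟩
    refine ⟨mul_mem hx hy, fun w hw => ⟨?_, ?_, ?_⟩⟩
    · rw [mul_smul]; exact (hx' _ (hy' w hw).1).1
    · rw [mul_inv_rev, mul_smul]; exact (hy' _ (hx' w hw).2.1).2.1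
    · rw [mul_smul, (hx' _ (hy' w hw).1).2.2, (hy' w hw).2.2]
  inv_mem' := by
    rintro x ⟨hx, hx'⟩
    refine ⟨inv_mem hx, fun w hw => ⟨(hx' w hw).2.1, ?_, ?_⟩⟩
    · rw [inv_inv]; exact (hx' w hw).1
    · have h1 := (hx' _ (hx' w hw).2.1).2.2
      rw [smul_inv_smul] at h1
      exact h1.symm

theorem mem_st {X : Subgroup H} {W : Subgroup M} (hW : Iv X W) {u : M → ℤˣ} {x : H} :
    x ∈ st X W u ↔ x ∈ X ∧ ∀ w ∈ W, u (x • w) = u w :=
  ⟨fun h => ⟨h.1, fun w hw => (h.2 w hw).2.2⟩, fun h => ⟨h.1, fun w hw =>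
    ⟨hW x h.1 w hw, hW _ (inv_mem h.1) w hw, h.2 w hw⟩⟩⟩

/-- the elements of `W` on which all `u ^ x` agree -/
theorem exists_K {X : Subgroup H} {W : Subgroup M} (hW : Iv X W) {u : M → ℤˣ} (hu : Fn W u) :
    ∃ K : Subgroup M, ∀ w, w ∈ K ↔ w ∈ W ∧ ∀ x ∈ X, u (x • w) = u w := by
  refine ⟨{ carrier := {w | w ∈ W ∧ ∀ x ∈ X, u (x • w) = u w}, one_mem' := ?_, mul_mem' := ?_, inv_mem' := ?_ },
    fun w => Iff.rfl⟩
  · rintro w w' ⟨hw, h1⟩ ⟨hw', h2⟩
    refine ⟨mul_mem hw hw', fun x hx => ?_⟩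
    rw [smul_mul', hu _ (hW x hx w hw) _ (hW x hx w' hw'), h1 x hx, h2 x hx, hu w hw w' hw']
  · exact ⟨one_mem _, fun x _ => by rw [smul_one]⟩
  · rintro w ⟨hw, h1⟩
    refine ⟨inv_mem hw, fun x hx => ?_⟩
    rw [smul_inv', hu.inv (hW x hx w hw), h1 x hx, hu.inv hw]

/-- **(DC)**, general form -/
theorem dc' [Finite H] [Finite M] {X : Subgroup H} {W K : Subgroup M} (hW : Iv X W) {u : M → ℤˣ} (hu : Fn W u)
    (hKW : K ≤ W) (hK : ∀ w ∈ K, ∀ x ∈ X, u (x • w) = u w) : (st X W u).relIndex X ≤ K.relIndex W := by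
  classical
  let χ₀ : X → (W →* ℤˣ) := fun x =>
    { toFun := fun w => u ((x : H)⁻¹ • (w : M)) * u w
      map_one' := by
        change u ((x : H)⁻¹ • (1 : M)) * u 1 = 1
        rw [smul_one, hu.one, one_mul]
      map_mul' := fun w w' => by
        change u ((x : H)⁻¹ • ((w : M) * w')) * u ((w : M) * w') = _
        rw [smul_mul', hu _ (hW _ (inv_mem x.2) w w.2) _ (hW _ (inv_mem x.2) w' w'.2), hu w w.2 w' w'.2]
        exact mul_mul_mul_comm _ _ _ _ }
  have hχ : ∀ x (w : W), χ₀ x w = u ((x : H)⁻¹ • (w : M)) * u w := fun _ _ => rfl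
  have key : ∀ x y : X, x⁻¹ * y ∈ (st X W u).subgroupOf X ↔ χ₀ x = χ₀ y := by
    intro x y
    rw [mem_subgroupOf, mem_st hW]
    constructor
    · rintro ⟨-, h⟩
      ext w
      rw [hχ, hχ]
      have h1 := h _ (hW _ (inv_mem y.2) w w.2)
      rw [Subgroup.coe_mul, Subgroup.coe_inv, mul_smul, smul_inv_smul] at h1
      rw [h1]
    · intro h
      refine ⟨(x⁻¹ * y).2, fun w hw => ?_⟩
      have h1 := DFunLike.congr_fun h ⟨(y : H) • w, hW _ y.2 w hw⟩
      rw [hχ, hχ] at h1
      have h2 := mul_right_cancel h1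
      rw [inv_smul_smul] at h2
      rw [Subgroup.coe_mul, Subgroup.coe_inv, mul_smul]
      exact h2
  let χ : X ⧸ (st X W u).subgroupOf X → (W →* ℤˣ) := fun q => Quotient.liftOn' q χ₀ (by
    intro a b hab
    rw [QuotientGroup.leftRel_apply] at hab
    exact (key a b).1 hab)
  have hinj : Function.Injective χ := by
    intro p q
    refine Quotient.inductionOn₂' p q fun a b hab => ?_
    exact Quotient.sound' (by
      rw [QuotientGroup.leftRel_apply]
      exact (key a b).2 hab)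
  have h1 := card_le_index (K.subgroupOf W) χ hinj (by
    intro q
    refine Quotient.inductionOn' q fun x => ?_
    intro c hc
    change u ((x : H)⁻¹ • (c : M)) * u c = 1
    rw [hK c hc _ (inv_mem x.2)]
    exact Int.units_mul_self _)
  exact h1

/-- **(DC)**: `|X : C_X(u)| ≤ |W : C_W(X)|` -/
theorem dc [Finite H] [Finite M] {X : Subgroup H} {W : Subgroup M} (hW : Iv X W) {u : M → ℤˣ} (hu : Fn W u) :
    (st X W u).relIndex X ≤ (cv M (X : Set H)).relIndex W := by
  have h1 := dc' hW hu (K := cv M (X : Set H) ⊓ W) inf_le_right (fun w hw x hx => by rw [hw.1 x hx])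
  rwa [inf_relIndex_right] at h1

/-- the state of the chain argument -/
def Chain (X : Subgroup H) (W : Subgroup M) (D : Subgroup H) : Prop :=
  D.relIndex X ≤ (cv M (X : Set H)).relIndex W

theorem Chain.bot (X : Subgroup H) : Chain X (⊥ : Subgroup M) X := by
  unfold Chain
  rw [relIndex_self, relIndex_bot_right]

/-- **(CHAIN)** -/
theorem Chain.step [Finite H] [Finite M] {X D : Subgroup H} {W W' : Subgroup M} (h : Chain X W D) (hD : D ≤ X)
    (hWW : W ≤ W') (hW : Iv X W) (hW' : Iv X W') {u : M → ℤˣ} (hu : Fn W' u) (hu1 : ∀ w ∈ W, u w = 1) :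
    Chain X W' (D ⊓ st X W' u) := by
  unfold Chain at h ⊢
  obtain ⟨K, hK⟩ := exists_K hW' hu
  set C : Subgroup M := cv M (X : Set H) ⊓ W' with hC
  have hCK : C ⊔ W ≤ K := by
    refine sup_le (fun w hw => (hK w).2 ⟨hw.2, fun x hx => by rw [hw.1 x hx]⟩) (fun w hw => (hK w).2 ⟨hWW hw, ?_⟩)
    intro x hx
    rw [hu1 w hw, hu1 _ (hW x hx w hw)]
  have h1 := dc' hW' hu (K := C ⊔ W) (hCK.trans fun w hw => ((hK w).1 hw).1) (fun w hw => ((hK w).1 (hCK hw)).2)
  have h2 : C.relIndex (C ⊔ W) * (C ⊔ W).relIndex W' = C.relIndex W' :=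
    relIndex_mul_relIndex _ _ _ le_sup_left (sup_le inf_le_right hWW)
  have h3 : C.relIndex W ≤ C.relIndex (C ⊔ W) := relIndex_le_of_le_right le_sup_right (relIndex_ne _ _)
  have h4 : C.relIndex W = (cv M (X : Set H)).relIndex W := by
    rw [hC, ← inf_relIndex_right, inf_assoc, inf_eq_right.2 hWW, inf_relIndex_right]
  have h5 : C.relIndex W' = (cv M (X : Set H)).relIndex W' := by rw [hC, inf_relIndex_right]
  have h6 : (D ⊓ st X W' u).relIndex X ≤ D.relIndex X * (st X W' u).relIndex X := relIndex_inf_le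
  rw [← h5, ← h2]
  calc _ ≤ _ := h6
    _ ≤ C.relIndex (C ⊔ W) * (C ⊔ W).relIndex W' := Nat.mul_le_mul ((h.trans_eq h4.symm).trans h3) h1

/-- the last line of (CHAIN) -/
theorem Chain.fo_le [Finite H] [Finite M] {X D : Subgroup H} (h : Chain X (⊤ : Subgroup M) D) (hD : D = ⊥) :
    fo M X ≤ Nat.card M := by
  unfold Chain at h
  rw [hD, relIndex_bot_left, relIndex_top_right] at h
  rw [← Subgroup.card_mul_index (cv M (X : Set H)), fo, mul_comm]
  exact Nat.mul_le_mul_left _ h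

/-- **(L4)** a regular functional -/
theorem fo_le [Finite H] [Finite M] {X : Subgroup H} {u : M → ℤˣ} (hu : ∀ w w', u (w * w') = u w * u w')
    (h : ∀ x ∈ X, (∀ w, u (x • w) = u w) → x = 1) : fo M X ≤ Nat.card M := by
  have hW : Iv X (⊤ : Subgroup M) := fun _ _ _ _ => mem_top _
  have h1 : Chain X (⊤ : Subgroup M) (X ⊓ st X ⊤ u) :=
    (Chain.bot X).step le_rfl bot_le (fun x _ w hw => by
      rw [mem_bot] at hw ⊢
      rw [hw, smul_one]) hW (fun w _ w' _ => hu w w') (fun w hw => by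
      rw [mem_bot] at hw
      rw [hw]
      exact Fn.one (W := ⊤) (fun w _ w' _ => hu w w'))
  refine h1.fo_le (eq_bot_iff.2 fun x hx => ?_)
  exact mem_bot.2 (h x hx.1 fun w => ((mem_st hW).1 hx.2).2 w (mem_top w))

/-- the elements of `A` centralising `W` -/
def cw (A : Subgroup H) (W : Subgroup M) : Subgroup H where
  carrier := {a | a ∈ A ∧ ∀ w ∈ W, a • w = w}
  one_mem' := ⟨one_mem _, fun w _ => one_smul H w⟩
  mul_mem' := by
    rintro x y ⟨hx, hx'⟩ ⟨hy, hy'⟩
    exact ⟨mul_mem hx hy, fun w hw => by rw [mul_smul, hy' w hw, hx' w hw]⟩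
  inv_mem' := by
    rintro x ⟨hx, hx'⟩
    exact ⟨inv_mem hx, fun w hw => by
      have h1 := hx' w hw
      rw [inv_smul_eq_iff, h1]⟩

theorem cw_le (A : Subgroup H) (W : Subgroup M) : cw A W ≤ A := fun _ h => h.1

theorem cw_lt {A : Subgroup H} {W : Subgroup M} (h : ∃ a ∈ A, ∃ w ∈ W, a • w ≠ w) : cw A W < A := by
  refine lt_of_le_of_ne (cw_le A W) fun h1 => ?_
  obtain ⟨a, ha, w, hw, hne⟩ := h
  rw [← h1] at ha
  exact hne (ha.2 w hw)

/-- **(f) of #14873**: `|W : C_W(A)| < |A : C_A(W)|` for every `W ≤ M` with `[W, A] ≠ 1` -/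
theorem strict_lt [Finite H] [Finite M] {A : Subgroup H} (hA : Strict (fo M) A) {W : Subgroup M}
    (h : ∃ a ∈ A, ∃ w ∈ W, a • w ≠ w) : (cv M (A : Set H)).relIndex W < (cw A W).relIndex A := by
  have hA' : Strict (fab M 1 1) A := fun B hB => by
    rw [fab_one, fab_one]
    exact hA B hB
  have h1 := relIndex_lt_of_moves hA' (cw_lt h) (W := W) (fun w hw a ha => ha.2 w hw)
  rwa [pow_one, pow_one] at h1

/-- **A strict group has no regular functional** -/
theorem exists_fix [Finite H] [Finite M] {A : Subgroup H} (hA : Strict (fo M) A) {W : Subgroup M} (hW : Iv A W)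
    (h : ∃ a ∈ A, ∃ w ∈ W, a • w ≠ w) {u : M → ℤˣ} (hu : Fn W u) :
    ∃ a ∈ A, (∃ w ∈ W, a • w ≠ w) ∧ ∀ w ∈ W, u (a • w) = u w := by
  by_contra hcon
  push Not at hcon
  have h1 : st A W u ≤ cw A W := by
    intro a ha
    refine ⟨ha.1, fun w hw => ?_⟩
    by_contra hne
    obtain ⟨v, hv, hv'⟩ := hcon a ha.1 ⟨w, hw, hne⟩
    exact hv' (((mem_st hW).1 ha).2 v hv)
  have h2 := dc hW hu
  have h3 := strict_lt hA h
  have h4 : (cw A W).relIndex A ≤ (st A W u).relIndex A := relIndex_le_of_le_left h1 (relIndex_ne _ _)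
  omega

/-- `W = M`, `A` faithful: every functional is fixed by some `a ≠ 1` -/
theorem exists_fix_ne_one [Finite H] [Finite M] {A : Subgroup H} (hA : Strict (fo M) A)
    (h : ∃ a ∈ A, ∃ w : M, a • w ≠ w) {u : M → ℤˣ} (hu : ∀ w w', u (w * w') = u w * u w') :
    ∃ a ∈ A, a ≠ 1 ∧ ∀ w, u (a • w) = u w := by
  obtain ⟨a0, ha0, w0, hw0⟩ := h
  obtain ⟨a, ha, ⟨w, -, hw⟩, h2⟩ := exists_fix hA (W := ⊤) (fun _ _ _ _ => mem_top _) ⟨a0, ha0, w0, mem_top _, hw0⟩
    (u := u) (fun w _ w' _ => hu w w')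
  exact ⟨a, ha, fun h1 => hw (by rw [h1, one_smul]), fun w => h2 w (mem_top w)⟩

end Cfsg.Agent.Omega.ML.Dual

end

section


/-!
# Chermak-Delgado for all subgroups, and orbit sums (OMEGA, (ML); #16692 of helper694); K-free

* `glob` : **(G)** `M` a faithful irreducible `H`-module over `F_p`, `B` ANY subgroup of `H`:
  `|B|^{m(M)} |H|^{m(C_M(B))} ≤ |H|^{m(M)}`, `m(W) = log_p |W|`;
* `over_off` : **(G1)** if `|A| = p^a` and `|A| |C_M(A)| > |M|` then `|M|^a ≤ |H|^(a-1)`;
  `exact_off` : if `A ≠ 1`, `|A| |C_M(A)| ≥ |M|` then `|M| ≤ |H|`;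
* `orbit_sum` : **(SUM)** `A` abelian and strict, `A ≤ P₀`, `P₀` a 2-group, `v ∈ M` with `∏ v^{P₀} ≠ 1` (the product over the
  orbit): then `A` centralises the orbit.
-/

set_option autoImplicit false
set_option linter.unusedVariables false

namespace Cfsg.Agent.Omega.ML.Glob

open Subgroup Cfsg.Agent.ClassTwoFusion.Quad Cfsg.Agent.Omega.NOThree.NoOver Cfsg.Agent.Omega.ML.CD
  Cfsg.Agent.Omega.ML.Dual

section G

variable {H : Type*} [Group H] {M : Type*} [Group M] [MulDistribMulAction H M]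

/-- `log_p |W|` -/
noncomputable def mm (p : ℕ) (W : Subgroup M) : ℕ := Nat.log p (Nat.card W)

omit [MulDistribMulAction H M] in
theorem card_eq [Finite M] {p : ℕ} (hp : p.Prime) (hM : IsPGroup p M) (W : Subgroup M) :
    Nat.card W = p ^ mm p W := by
  have : Fact p.Prime := ⟨hp⟩
  obtain ⟨n, hn⟩ := IsPGroup.iff_card.1 (hM.to_subgroup W)
  rw [mm, hn, Nat.log_pow hp.one_lt]

variable (M) in
/-- `|B|^{m(M)} |H|^{m(C_M(B))}` -/
noncomputable def F (p : ℕ) (B : Subgroup H) : ℕ :=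
  Nat.card B ^ mm p (⊤ : Subgroup M) * Nat.card H ^ mm p (cv M (B : Set H))

theorem ls_F [Finite H] [Finite M] {p : ℕ} (hp : p.Prime) (hM : IsPGroup p M) :
    LS (F M p : Subgroup H → ℕ) where
  pos := fun B => Nat.mul_pos (Nat.pow_pos Nat.card_pos) (Nat.pow_pos Nat.card_pos)
  sup := by
    intro B D
    have h1 := Nat.pow_le_pow_left (card_mul_card_le B D) (mm p (⊤ : Subgroup M))
    have h2 := card_cv_le (M := M) B D
    rw [card_eq hp hM, card_eq hp hM, card_eq hp hM, card_eq hp hM, ← pow_add, ← pow_add,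
      Nat.pow_le_pow_iff_right hp.one_lt] at h2
    have h3 : Nat.card H ^ (mm p (cv M (B : Set H)) + mm p (cv M (D : Set H))) ≤
        Nat.card H ^ (mm p (cv M ((B ⊔ D : Subgroup H) : Set H)) + mm p (cv M ((B ⊓ D : Subgroup H) : Set H))) :=
      Nat.pow_le_pow_right Nat.card_pos h2
    rw [mul_pow, mul_pow] at h1
    rw [pow_add, pow_add] at h3
    unfold F
    calc _ = (Nat.card B ^ mm p (⊤ : Subgroup M) * Nat.card D ^ mm p (⊤ : Subgroup M)) *
          (Nat.card H ^ mm p (cv M (B : Set H)) * Nat.card H ^ mm p (cv M (D : Set H))) := by ring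
      _ ≤ _ := Nat.mul_le_mul h1 h3
      _ = _ := by ring
  conj := by
    intro g B
    have h1 : Nat.card (cj g B) = Nat.card B :=
      (Nat.card_congr (B.equivMapOfInjective _ (MulAut.conj g).injective).toEquiv).symm
    have h2 : Nat.card (cv M (cj g B : Set H)) = Nat.card (cv M (B : Set H)) := by
      have h3 : cv M (cj g B : Set H) = _ := QData.cv_map_conj (V := M) B g
      rw [h3]
      exact (Nat.card_congr ((cv M (B : Set H)).equivMapOfInjective _
        (MulDistribMulAction.toMulEquiv M g : M ≃* M).injective).toEquiv).symm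
    unfold F mm
    rw [h1, h2]

/-- **(G)** -/
theorem glob [Finite H] [Finite M] {p : ℕ} (hp : p.Prime) (hM : IsPGroup p M)
    (faith : ∀ h : H, (∀ m : M, h • m = m) → h = 1)
    (irr : ∀ W : Subgroup M, (∀ h : H, ∀ w ∈ W, h • w ∈ W) → W = ⊥ ∨ W = ⊤) (B : Subgroup H) :
    Nat.card B ^ mm p (⊤ : Subgroup M) * Nat.card H ^ mm p (cv M (B : Set H)) ≤
      Nat.card H ^ mm p (⊤ : Subgroup M) := by
  have hF := ls_F (H := H) (M := M) hp hM
  set N := hi (F M p) (⊤ : Subgroup H) with hN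
  have hbest := hF.best_hi (⊤ : Subgroup H)
  rw [← hN] at hbest
  have hcj : ∀ g : H, cj g N = N := by
    intro g
    have h1 := hF.hi_cj g (⊤ : Subgroup H)
    have h2 : cj g (⊤ : Subgroup H) = ⊤ := by
      rw [eq_top_iff]
      intro x _
      exact mem_cj.2 (mem_top _)
    rw [h2] at h1
    exact h1.symm
  have h1 : F M p B ≤ F M p N := hbest.2 B le_top
  refine le_trans h1 ?_
  rcases irr (cv M (N : Set H)) (by
    intro h w hw a ha
    have h3 : h⁻¹ * a * h ∈ N := by
      have h4 : h⁻¹ * a * h⁻¹⁻¹ ∈ cj h⁻¹ N := mem_cj.2 (by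
        rw [show h⁻¹⁻¹ * (h⁻¹ * a * h⁻¹⁻¹) * h⁻¹ = a by group]
        exact ha)
      rw [hcj, inv_inv] at h4
      exact h4
    have h5 := hw _ h3
    calc a • h • w = h • (h⁻¹ * a * h) • w := by
          rw [← mul_smul, ← mul_smul]; congr 1; group
      _ = h • w := by rw [h5]) with h2 | h2
  · have h3 : mm p (cv M (N : Set H)) = 0 := by
      rw [mm, h2, card_bot, Nat.log_one_right]
    rw [F, h3, pow_zero, mul_one]
    exact Nat.pow_le_pow_left (card_le_card_group N) _
  · have h3 : N = ⊥ := by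
      rw [eq_bot_iff]
      intro x hx
      refine mem_bot.2 (faith x fun m => ?_)
      exact (h2 ▸ mem_top m : m ∈ cv M (N : Set H)) x hx
    rw [h3, F, cv_bot, card_bot, one_pow, one_mul]

/-- **(G1)** over-offenders -/
theorem over_off [Finite H] [Finite M] {p : ℕ} (hp : p.Prime) (hM : IsPGroup p M)
    (faith : ∀ h : H, (∀ m : M, h • m = m) → h = 1)
    (irr : ∀ W : Subgroup M, (∀ h : H, ∀ w ∈ W, h • w ∈ W) → W = ⊥ ∨ W = ⊤) {A : Subgroup H} {a : ℕ}
    (hA : Nat.card A = p ^ a) (hf : Nat.card M < fo M A) : Nat.card M ^ a ≤ Nat.card H ^ (a - 1) := by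
  have h1 := glob hp hM faith irr A
  have hM' : Nat.card M = p ^ mm p (⊤ : Subgroup M) := by
    rw [← card_eq hp hM, card_top]
  rw [fo, hA, hM', card_eq hp hM (cv M (A : Set H)), ← pow_add, Nat.pow_lt_pow_iff_right hp.one_lt] at hf
  rw [hM', ← pow_mul, mul_comm _ a, pow_mul, ← hA]
  set n := mm p (⊤ : Subgroup M)
  set k := mm p (cv M (A : Set H))
  have hH : 0 < Nat.card H := Nat.card_pos
  by_cases hk : k ≤ n
  · have h2 : Nat.card H ^ n = Nat.card H ^ (n - k) * Nat.card H ^ k := by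
      rw [← pow_add, Nat.sub_add_cancel hk]
    rw [h2] at h1
    have h3 := Nat.le_of_mul_le_mul_right h1 (Nat.pow_pos hH)
    exact h3.trans (Nat.pow_le_pow_right hH (by omega))
  · exfalso
    apply hk
    have h3 : Nat.card (cv M (A : Set H)) ≤ Nat.card (⊤ : Subgroup M) := by
      rw [card_top]
      exact card_le_card_group _
    rw [card_eq hp hM, card_eq hp hM, Nat.pow_le_pow_iff_right hp.one_lt] at h3
    exact h3

/-- **exact offenders** -/
theorem exact_off [Finite H] [Finite M] {p : ℕ} (hp : p.Prime) (hM : IsPGroup p M)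
    (faith : ∀ h : H, (∀ m : M, h • m = m) → h = 1)
    (irr : ∀ W : Subgroup M, (∀ h : H, ∀ w ∈ W, h • w ∈ W) → W = ⊥ ∨ W = ⊤) {A : Subgroup H} {a : ℕ}
    (hA : Nat.card A = p ^ a) (ha : a ≠ 0) (hf : Nat.card M ≤ fo M A) : Nat.card M ≤ Nat.card H := by
  have h1 := glob hp hM faith irr A
  have hM' : Nat.card M = p ^ mm p (⊤ : Subgroup M) := by
    rw [← card_eq hp hM, card_top]
  have hk : mm p (cv M (A : Set H)) ≤ mm p (⊤ : Subgroup M) := by
    have h3 : Nat.card (cv M (A : Set H)) ≤ Nat.card (⊤ : Subgroup M) := by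
      rw [card_top]
      exact card_le_card_group _
    rwa [card_eq hp hM, card_eq hp hM, Nat.pow_le_pow_iff_right hp.one_lt] at h3
  rw [fo, hA, hM', card_eq hp hM (cv M (A : Set H)), ← pow_add, Nat.pow_le_pow_iff_right hp.one_lt] at hf
  rw [hM']
  set n := mm p (⊤ : Subgroup M)
  set k := mm p (cv M (A : Set H))
  have hH : 0 < Nat.card H := Nat.card_pos
  have h2 : Nat.card H ^ n = Nat.card H ^ (n - k) * Nat.card H ^ k := by
    rw [← pow_add, Nat.sub_add_cancel hk]
  rw [h2, hA] at h1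
  have h3 := Nat.le_of_mul_le_mul_right h1 (Nat.pow_pos hH)
  have h4 : (p ^ n) ^ a ≤ Nat.card H ^ a := by
    rw [← pow_mul, mul_comm, pow_mul]
    exact h3.trans (Nat.pow_le_pow_right hH (by omega))
  exact (Nat.pow_le_pow_iff_left ha).1 h4

end G

section Sum

variable {H : Type*} [Group H] {M : Type*} [CommGroup M] [MulDistribMulAction H M]

/-- the additive version of the action -/
@[reducible] def addAct (T : Subgroup H) : DistribMulAction T (Additive M) where
  smul t x := Additive.ofMul ((t : H) • x.toMul)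
  one_smul x := by
    change Additive.ofMul (((1 : T) : H) • x.toMul) = x
    rw [OneMemClass.coe_one, one_smul]
    rfl
  mul_smul t u x := by
    change Additive.ofMul (((t * u : T) : H) • x.toMul) = Additive.ofMul ((t : H) • (u : H) • x.toMul)
    rw [MulMemClass.coe_mul, mul_smul]
  smul_zero t := by
    change Additive.ofMul ((t : H) • (1 : M)) = 0
    rw [smul_one]
    rfl
  smul_add t x y := by
    change Additive.ofMul ((t : H) • (x.toMul * y.toMul)) = _
    rw [smul_mul']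
    rfl

end Sum

end Cfsg.Agent.Omega.ML.Glob

end

section


/-!
# (ML), the K-list end: the numerical criterion

In the situation `Rows.In H M K T A` (`|A| = 2 ^ a`):
* `card_center_le` : `|Z(K)| ≤ 2 ^ (a - 1)`;
* `image facts` : `X = H / C_H(K)`, `N` the image of `K`: `N ≃* K ⧸ center K`, `C_X(N) = 1`, `X = N A`, `|A| = |image of A|`;
* `dead` : **the criterion** `NumML S` (`LB S n`, `RK S a`, `OutB S b` and `|S| ^ (a-1) * 2 ^ ((a-1) * (a-1+b)) < 2 ^ (a * n)`).
-/

set_option autoImplicit false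
set_option linter.unusedVariables false

namespace Cfsg.Agent.Omega.ML.Num

open Subgroup Cfsg Cfsg.Agent.ClassTwoFusion.Quad Cfsg.Agent.Omega.NOThree.NoOver Cfsg.Agent.Omega.ML.CD
  Cfsg.Agent.Omega.ML.Rows Cfsg.Agent.Omega.TwoF
open Cfsg.Agent.Omega.Lie
open scoped commutatorElement

universe u v w

/-- `|X : N| ≤ 2 ^ b` for `X = N A` almost simple with socle `N ≅ S`, `A` an elementary abelian 2-group. -/
def OutB (S : Type w) [Group S] (b : ℕ) : Prop :=
  ∀ (X : Type u) [Group X] [Finite X] (N : Subgroup X) [N.Normal], Nonempty (N ≃* S) →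
    centralizer (N : Set X) = ⊥ → ∀ A : Subgroup X, (∀ a ∈ A, a * a = 1) → N ⊔ A = ⊤ → N.index ≤ 2 ^ b

theorem index_le_card {X : Type*} [Group X] [Finite X] {N A : Subgroup X} [N.Normal] (h : N ⊔ A = ⊤) :
    N.index ≤ Nat.card A := by
  have h1 := relIndex_sup_right A N
  rw [sup_comm, h, relIndex_top_right] at h1
  rw [h1]
  exact Nat.card_le_card_of_surjective (fun a : A => (QuotientGroup.mk a : A ⧸ (N.subgroupOf A)))
    QuotientGroup.mk_surjective

theorem OutB.of_rk {S : Type w} [Group S] {a : ℕ} (h : Rk.RK.{u} S a) : OutB.{u} S a := by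
  intro X _ _ N _ hN hc A hA hX
  exact (index_le_card hX).trans (h X N hN hc A hA)

theorem OutB.mono {S : Type w} [Group S] {a b : ℕ} (h : OutB.{u} S a) (hab : a ≤ b) : OutB.{u} S b :=
  fun X _ _ N _ hN hc A hA hX => (h X N hN hc A hA hX).trans (Nat.pow_le_pow_right (by norm_num) hab)

/-- **The numerical criterion.** -/
def NumML (S : Type u) [Group S] : Prop :=
  ∃ n a b : ℕ, Heis.LB.{u, u, v} S n ∧ Rk.RK.{u} S a ∧ OutB.{u} S b ∧
    Nat.card S ^ (a - 1) * 2 ^ ((a - 1) * (a - 1 + b)) < 2 ^ (a * n)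

theorem NumML.of_card_out {S : Type u} [Group S] {n a b N : ℕ} (h1 : Heis.LB.{u, u, v} S n) (h2 : Rk.RK.{u} S a)
    (h3 : OutB.{u} S b) (h4 : Nat.card S ≤ 2 ^ N) (h5 : (a - 1) * (N + a - 1 + b) < a * n) : NumML.{u, v} S := by
  refine ⟨n, a, b, h1, h2, h3, ?_⟩
  rcases Nat.eq_zero_or_pos a with h6 | h6
  · subst h6
    simp at h5
  · calc Nat.card S ^ (a - 1) * 2 ^ ((a - 1) * (a - 1 + b))
        ≤ (2 ^ N) ^ (a - 1) * 2 ^ ((a - 1) * (a - 1 + b)) :=
          Nat.mul_le_mul_right _ (Nat.pow_le_pow_left h4 _)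
      _ = 2 ^ ((a - 1) * (N + a - 1 + b)) := by
          rw [← pow_mul, ← pow_add]
          congr 1
          rw [show N + a - 1 + b = N + (a - 1 + b) by omega]
          ring
      _ < 2 ^ (a * n) := Nat.pow_lt_pow_right (by norm_num) h5

theorem NumML.of_card {S : Type u} [Group S] {n a N : ℕ} (h1 : Heis.LB.{u, u, v} S n) (h2 : Rk.RK.{u} S a)
    (h4 : Nat.card S ≤ 2 ^ N) (h5 : (a - 1) * (N + 2 * a - 1) < a * n) : NumML.{u, v} S := by
  refine NumML.of_card_out h1 h2 (OutB.of_rk h2) h4 ?_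
  rcases Nat.eq_zero_or_pos a with h6 | h6
  · subst h6
    simp at h5
  · rwa [show N + a - 1 + a = N + 2 * a - 1 by omega]

section image

variable {H : Type u} [Group H] {M : Type v} [Group M] [MulDistribMulAction H M] {K T A : Subgroup H}

theorem perf (h : In H M K T A) : _root_.commutator K = ⊤ := h.qs.1.commutator_eq_top

/-- the image of `K` in `H / C_H(K)` -/
def img (K : Subgroup H) [(centralizer (K : Set H)).Normal] : Subgroup (H ⧸ centralizer (K : Set H)) :=
  K.map (QuotientGroup.mk' (centralizer (K : Set H)))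

theorem subgroupOf_eq (h : In H M K T A) : (centralizer (K : Set H)).subgroupOf K = center K := by
  ext z
  rw [mem_subgroupOf, mem_center_iff, mem_centralizer_iff]
  constructor
  · intro hz y
    exact Subtype.ext (hz y y.2)
  · intro hz y hy
    exact congrArg Subtype.val (hz ⟨y, hy⟩)

theorem exists_equiv (h : In H M K T A) [(centralizer (K : Set H)).Normal] : Nonempty (img K ≃* K ⧸ center K) := by
  let f : K →* H ⧸ centralizer (K : Set H) := (QuotientGroup.mk' (centralizer (K : Set H))).comp K.subtype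
  have hk : f.ker = center K := by
    rw [← subgroupOf_eq h]
    ext z
    rw [MonoidHom.mem_ker, mem_subgroupOf]
    show (QuotientGroup.mk (z : H) : H ⧸ centralizer (K : Set H)) = 1 ↔ _
    rw [QuotientGroup.eq_one_iff]
  have hr : f.range = img K := by
    rw [MonoidHom.range_comp, K.range_subtype]
    rfl
  exact ⟨((QuotientGroup.quotientMulEquivOfEq hk.symm).trans
    ((QuotientGroup.quotientKerEquivRange f).trans (MulEquiv.subgroupCongr hr))).symm⟩

theorem img_normal (h : In H M K T A) [(centralizer (K : Set H)).Normal] : (img K).Normal :=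
  h.norm.map _ (QuotientGroup.mk'_surjective _)

theorem centralizer_img (h : In H M K T A) [(centralizer (K : Set H)).Normal] :
    centralizer (img K : Set (H ⧸ centralizer (K : Set H))) = ⊥ := by
  have hn := h.norm
  rw [eq_bot_iff]
  intro x hx
  obtain ⟨g, rfl⟩ := QuotientGroup.mk_surjective x
  rw [mem_bot, QuotientGroup.eq_one_iff]
  -- `[g, K] ≤ C_H(K)`
  have h1 : ∀ k ∈ K, ⁅g, k⁆ ∈ centralizer (K : Set H) := by
    intro k hk
    have h2 := mem_centralizer_iff.1 hx (QuotientGroup.mk k) ⟨k, hk, rfl⟩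
    rw [← QuotientGroup.eq_one_iff, commutatorElement_def]
    simp only [QuotientGroup.mk_mul, QuotientGroup.mk_inv]
    rw [← h2]
    group
  -- `k ↦ [g, k]` is a homomorphism `K → C_H(K)`, central, so trivial on the perfect group `K`
  have hz := h.zen
  let f : K →* H :=
    { toFun := fun k => ⁅g, (k : H)⁆
      map_one' := by simp
      map_mul' := fun k l => by
        have h3 : (k : H)⁻¹ * ⁅g, (l : H)⁆ = ⁅g, (l : H)⁆ * (k : H)⁻¹ := hz _ (h1 l l.2) (k : H)⁻¹
        rw [coe_mul]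
        calc ⁅g, (k : H) * l⁆ = (g * k * g⁻¹) * (⁅g, (l : H)⁆ * (k : H)⁻¹) := by
              simp only [commutatorElement_def]; group
          _ = (g * k * g⁻¹) * ((k : H)⁻¹ * ⁅g, (l : H)⁆) := by rw [h3]
          _ = ⁅g, (k : H)⁆ * ⁅g, (l : H)⁆ := by simp only [commutatorElement_def]; group }
  have hab : ∀ k l : K, f k * f l = f l * f k := fun k l => hz _ (h1 l l.2) _
  have hf : ∀ k : K, f k = 1 := by
    intro k
    have h3 : commutator K ≤ f.ker := by
      rw [_root_.commutator_def, commutator_le]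
      intro a _ b _
      rw [MonoidHom.mem_ker, map_commutatorElement, commutatorElement_eq_one_iff_mul_comm]
      exact hab a b
    rw [perf h] at h3
    exact MonoidHom.mem_ker.1 (h3 (mem_top k))
  rw [mem_centralizer_iff]
  intro k hk
  have h4 : ⁅g, k⁆ = 1 := hf ⟨k, hk⟩
  exact (commutatorElement_eq_one_iff_mul_comm.1 h4).symm

theorem isPGroup_A (h : In H M K T A) : IsPGroup 2 A := fun a =>
  ⟨1, Subtype.ext (by rw [pow_one, pow_two]; exact h.el a a.2)⟩

theorem disj [Finite H] (h : In H M K T A) : A ⊓ centralizer (K : Set H) = ⊥ := by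
  have h1 : Nat.card (centralizer (K : Set H)) = Nat.card (center K) := h.card_centralizer
  have h2 : Nat.Coprime (Nat.card A) (Nat.card (centralizer (K : Set H))) := by
    rw [h1]
    obtain ⟨n, hn⟩ := IsPGroup.iff_card.1 (isPGroup_A h)
    rw [hn]
    exact Nat.Coprime.pow_left _ (Nat.coprime_two_left.2 h.odd)
  exact (disjoint_of_coprime_natCard h2).eq_bot

theorem card_map_A [Finite H] (h : In H M K T A) [(centralizer (K : Set H)).Normal] :
    Nat.card (A.map (QuotientGroup.mk' (centralizer (K : Set H)))) = Nat.card A := by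
  have h1 : Function.Injective ((QuotientGroup.mk' (centralizer (K : Set H))).comp A.subtype) := by
    rw [← MonoidHom.ker_eq_bot_iff, eq_bot_iff]
    intro a ha
    have h2 : (QuotientGroup.mk (a : H) : H ⧸ centralizer (K : Set H)) = 1 := ha
    rw [QuotientGroup.eq_one_iff] at h2
    have h3 : (a : H) ∈ A ⊓ centralizer (K : Set H) := ⟨a.2, h2⟩
    rw [disj h, mem_bot] at h3
    exact mem_bot.2 (Subtype.ext h3)
  have h2 : A.map (QuotientGroup.mk' (centralizer (K : Set H))) =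
      ((QuotientGroup.mk' (centralizer (K : Set H))).comp A.subtype).range := by
    rw [MonoidHom.range_comp, A.range_subtype]
  rw [h2]
  exact (Nat.card_congr (MonoidHom.ofInjective h1).toEquiv).symm

theorem sup_map (h : In H M K T A) [(centralizer (K : Set H)).Normal] :
    img K ⊔ A.map (QuotientGroup.mk' (centralizer (K : Set H))) = ⊤ := by
  rw [img, ← Subgroup.map_sup, h.gen]
  exact map_top_of_surjective _ (QuotientGroup.mk'_surjective _)

theorem index_img (h : In H M K T A) [(centralizer (K : Set H)).Normal] : (img K).index = K.index := by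
  rw [img, index_map, MonoidHom.range_eq_top.2 (QuotientGroup.mk'_surjective _), index_top, mul_one,
    QuotientGroup.ker_mk', sup_eq_left.2 h.cen]

theorem el_map (h : In H M K T A) [(centralizer (K : Set H)).Normal] :
    ∀ a ∈ A.map (QuotientGroup.mk' (centralizer (K : Set H))), a * a = 1 := by
  rintro _ ⟨a, ha, rfl⟩
  rw [← map_mul, h.el a ha, map_one]

/-- `m_2` -/
theorem card_A_le [Finite H] (h : In H M K T A) {a : ℕ} (hr : Rk.RK.{u} (K ⧸ center K) a) :
    Nat.card A ≤ 2 ^ a := by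
  have := h.normalZ
  have := img_normal h
  rw [← card_map_A h]
  exact hr _ (img K) (exists_equiv h) (centralizer_img h) _ (el_map h)

theorem index_le [Finite H] (h : In H M K T A) {b : ℕ} (hr : OutB.{u} (K ⧸ center K) b) : K.index ≤ 2 ^ b := by
  have := h.normalZ
  have := img_normal h
  rw [← index_img h]
  exact hr _ (img K) (exists_equiv h) (centralizer_img h) _ (el_map h) (sup_map h)

theorem overOff [Finite H] [Finite M] (h : In H M K T A) : Nat.card M < fo M A := by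
  have h1 : (⊥ : Subgroup H) < A := by
    rw [bot_lt_iff_ne_bot]
    rintro rfl
    have := h.eight
    rw [card_bot] at this
    omega
  have h2 := h.strict ⊥ h1
  rwa [fab_one, fab_one, fo_bot] at h2

/-- `|Z| ≤ 2 ^ (a - 1)` -/
theorem card_center_le [Finite H] [Finite M] (h : In H M K T A) {a : ℕ} (ha : Nat.card A = 2 ^ a) :
    Nat.card (centralizer (K : Set H)) ≤ 2 ^ (a - 1) := by
  -- an element `x` of `A`, `x ≠ 1`
  have h1 : A ≠ ⊥ := by
    rintro rfl
    have := h.eight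
    rw [card_bot] at this
    omega
  obtain ⟨x, hx⟩ := A.ne_bot_iff_exists_ne_one.1 h1
  have hcomm : ∀ m n : M, m * n = n * m := by
    intro m n
    have h2 := h.sq (m * n)
    have h3 := h.sq m
    have h4 := h.sq n
    calc m * n = m * (m * n * (m * n)) * n := by rw [h2, mul_one]
      _ = (m * m) * n * m * (n * n) := by group
      _ = n * m := by rw [h3, h4, one_mul, mul_one]
  let f : M →* M :=
    { toFun := fun m => m * ((x : H) • m)
      map_one' := by rw [smul_one, mul_one]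
      map_mul' := fun m n => by
        rw [smul_mul']
        calc m * n * ((x : H) • m * (x : H) • n) = m * (n * (x : H) • m) * (x : H) • n := by group
          _ = m * ((x : H) • m * n) * (x : H) • n := by rw [hcomm n]
          _ = m * (x : H) • m * (n * (x : H) • n) := by group }
  -- `ker f = C_M(x) ≥ C_M(A)`
  have hker : cv M (A : Set H) ≤ f.ker := by
    intro m hm
    rw [MonoidHom.mem_ker]
    show m * ((x : H) • m) = 1
    rw [hm _ x.2, h.sq]
  -- `|f.range| < |A|`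
  have h2 : Nat.card f.range * Nat.card f.ker = Nat.card M := by
    rw [mul_comm, ← Nat.card_congr (QuotientGroup.quotientKerEquivRange f).toEquiv]
    exact (card_eq_card_quotient_mul_card_subgroup f.ker).symm ▸ mul_comm _ _
  have h3 := overOff h
  rw [fo] at h3
  have h4 : Nat.card f.range < Nat.card A := by
    have h5 : Nat.card f.range * Nat.card (cv M (A : Set H)) ≤ Nat.card M := by
      rw [← h2]
      exact Nat.mul_le_mul_left _ (card_le_of_le hker)
    have h6 := lt_of_le_of_lt h5 h3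
    exact lt_of_mul_lt_mul_right h6 (Nat.zero_le _)
  have h5 : Nat.card f.range ≤ 2 ^ (a - 1) := by
    have hp : IsPGroup 2 f.range := fun m => ⟨1, Subtype.ext (by rw [pow_one, pow_two]; exact h.sq m)⟩
    obtain ⟨k, hk⟩ := IsPGroup.iff_card.1 hp
    rw [hk, ha, Nat.pow_lt_pow_iff_right (by norm_num)] at h4
    rw [hk]
    exact Nat.pow_le_pow_right (by norm_num) (by omega)
  refine le_trans ?_ h5
  -- `Z` acts semiregularly
  have h6 : ∃ m : M, f m ≠ 1 := by
    by_contra hcon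
    push Not at hcon
    apply hx
    apply Subtype.ext
    apply h.faith
    intro m
    have h7 : m * ((x : H) • m) = 1 := hcon m
    have h8 := h.sq m
    exact mul_left_cancel (h7.trans h8.symm)
  obtain ⟨m, hm⟩ := h6
  have hreg : ∀ z ∈ centralizer (K : Set H), z • f m = f m → z = 1 := by
    intro z hz hzm
    let W : Subgroup M :=
      { carrier := {w | z • w = w}
        one_mem' := smul_one z
        mul_mem' := fun {a b} ha hb => by
          show z • (a * b) = a * b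
          rw [smul_mul', show z • a = a from ha, show z • b = b from hb]
        inv_mem' := fun {a} ha => by
          show z • a⁻¹ = a⁻¹
          rw [smul_inv', show z • a = a from ha] }
    rcases h.irr W (fun g w hw => by
      show z • g • w = g • w
      rw [smul_smul, ← h.zen z hz g, mul_smul, show z • w = w from hw]) with h7 | h7
    · exfalso
      apply hm
      rw [← mem_bot, ← h7]
      exact hzm
    · apply h.faith
      intro w
      have : w ∈ W := by rw [h7]; exact mem_top w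
      exact this
  refine Nat.card_le_card_of_injective
    (fun z : centralizer (K : Set H) => (⟨(z : H) • f m, ⟨(z : H) • m, ?_⟩⟩ : f.range)) ?_
  · show (z : H) • m * ((x : H) • (z : H) • m) = (z : H) • (m * (x : H) • m)
    rw [smul_mul', smul_smul, smul_smul, h.zen z z.2 x]
  · intro z y hzy
    have h7 : (z : H) • f m = (y : H) • f m := congrArg Subtype.val hzy
    have h8 := hreg (y⁻¹ * z) (mul_mem (inv_mem y.2) z.2) (by
      rw [mul_smul, h7]
      exact inv_smul_smul (y : H) (f m))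
    exact Subtype.ext (inv_mul_eq_one.1 h8).symm

theorem card_H_le [Finite H] [Finite M] (h : In H M K T A) {a b : ℕ} (ha : Nat.card A = 2 ^ a)
    (hr : OutB.{u} (K ⧸ center K) b) : Nat.card H ≤ Nat.card (K ⧸ center K) * 2 ^ (a - 1) * 2 ^ b := by
  have h1 : Nat.card K * K.index = Nat.card H := card_mul_index K
  have h2 : Nat.card K = Nat.card (K ⧸ center K) * Nat.card (center K) := card_eq_card_quotient_mul_card_subgroup _
  rw [← h1, h2, ← h.card_centralizer]
  exact Nat.mul_le_mul (Nat.mul_le_mul_left _ (card_center_le h ha)) (index_le h hr)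

/-- the lower bound -/
theorem lb_le [Finite H] [Finite M] (h : In H M K T A) {n : ℕ} (hl : Heis.LB.{u, u, v} (K ⧸ center K) n) :
    2 ^ n ≤ Nat.card M := by
  have hcomm : ∀ m n : M, m * n = n * m := by
    intro m n
    have h2 := h.sq (m * n)
    have h3 := h.sq m
    have h4 := h.sq n
    calc m * n = m * (m * n * (m * n)) * n := by rw [h2, mul_one]
      _ = (m * m) * n * m * (n * n) := by group
      _ = n * m := by rw [h3, h4, one_mul, mul_one]
  let _ : CommGroup M := { ‹Group M› with mul_comm := hcomm }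
  have hp : IsPGroup 2 M := fun m => ⟨1, by rw [pow_one, pow_two]; exact h.sq m⟩
  refine hl K (QuotientGroup.mk' (center K)) (QuotientGroup.mk'_surjective _)
    (le_of_eq (QuotientGroup.ker_mk' _)) ?_ (perf h) M hp
    ((MulDistribMulAction.toMulAut H M).comp K.subtype) ?_
  · rw [QuotientGroup.ker_mk']
    exact h.odd
  · intro h1
    have h2 : ∀ k : K, k = 1 := by
      intro k
      apply Subtype.ext
      apply h.faith
      intro m
      have := congrArg (fun e : MulAut M => e m) (DFunLike.congr_fun h1 k)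
      exact this
    have h3 : IsSimpleGroup (K ⧸ center K) := h.qs.2
    obtain ⟨x, hx⟩ := exists_ne (1 : K ⧸ center K)
    obtain ⟨k, rfl⟩ := QuotientGroup.mk_surjective x
    exact hx (by rw [h2 k]; rfl)

end image

theorem num {s n a a' b : ℕ} (hs : 1 ≤ s) (h1 : 1 ≤ a') (h2 : a' ≤ a)
    (h3 : 2 ^ (n * a') ≤ (s * 2 ^ (a' - 1) * 2 ^ b) ^ (a' - 1))
    (h4 : s ^ (a - 1) * 2 ^ ((a - 1) * (a - 1 + b)) < 2 ^ (a * n)) : False := by
  set t := s * 2 ^ (a - 1) * 2 ^ b with ht
  have ht1 : 1 ≤ t := Nat.mul_pos (Nat.mul_pos hs (by positivity)) (by positivity)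
  have h5 : t ^ (a - 1) < 2 ^ (a * n) := by
    refine lt_of_eq_of_lt ?_ h4
    rw [ht, mul_assoc, mul_pow, ← pow_add, ← pow_mul]
    ring_nf
  have h6 : t ^ ((a - 1) * a') < 2 ^ (a * n * a') := by
    rw [pow_mul, pow_mul 2 (a * n) a']
    exact Nat.pow_lt_pow_left h5 (by omega)
  have h7 : 2 ^ (a * n * a') ≤ t ^ ((a' - 1) * a) := by
    rw [show a * n * a' = n * a' * a by ring, pow_mul 2 (n * a') a, pow_mul t (a' - 1) a]
    refine Nat.pow_le_pow_left (h3.trans (Nat.pow_le_pow_left ?_ _)) _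
    rw [ht]
    exact Nat.mul_le_mul_right _ (Nat.mul_le_mul_left _ (Nat.pow_le_pow_right (by norm_num) (by omega)))
  have h8 : (a' - 1) * a ≤ (a - 1) * a' := by
    rw [Nat.sub_mul, Nat.sub_mul, one_mul, one_mul, mul_comm a' a]
    omega
  have h9 : t ^ ((a' - 1) * a) ≤ t ^ ((a - 1) * a') := Nat.pow_le_pow_right ht1 h8
  exact absurd (h7.trans h9) (not_le.2 h6)

/-- **(G1) kills the rows with `NumML`.** -/
theorem dead : Dead.{u, v} fun S _ => NumML.{u, v} S := by
  intro H _ _ M _ _ _ K T A h ⟨n, a, b, hl, hr, ho, hn⟩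
  obtain ⟨a', ha'⟩ := IsPGroup.iff_card.1 (isPGroup_A h)
  have h1 : a' ≤ a := by
    have h2 := card_A_le h hr
    rwa [ha', Nat.pow_le_pow_iff_right (by norm_num)] at h2
  have h2 : 1 ≤ a' := by
    rcases Nat.eq_zero_or_pos a' with h3 | h3
    · subst h3
      have := h.eight
      rw [ha'] at this
      norm_num at this
    · exact h3
  have hp : IsPGroup 2 M := fun m => ⟨1, by rw [pow_one, pow_two]; exact h.sq m⟩
  have h3 := Glob.over_off Nat.prime_two hp h.faith h.irr ha' (overOff h)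
  have h4 := card_H_le h ha' ho
  have h5 := lb_le h hl
  have hs : 1 ≤ Nat.card (K ⧸ center K) := Nat.card_pos
  refine num hs h2 h1 (n := n) (b := b) ?_ hn
  rw [pow_mul]
  exact (Nat.pow_le_pow_left h5 _).trans (h3.trans (Nat.pow_le_pow_left h4 _))

end Cfsg.Agent.Omega.ML.Num

end

private theorem dce_c052a2b5991e : _root_.True := by
  try have : _root_.True := by simp only [_root_.Cfsg.Agent.Omega.ML.Num.img.eq_1]
  try have : _root_.True := by simp only [_root_.Cfsg.Agent.Omega.ML.Glob.F.eq_1]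
  try have : _root_.True := by simp only [_root_.Cfsg.Agent.Omega.ML.Glob.mm.eq_1]
  exact _root_.True.intro
end
end
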