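import Cfsg.Agent.ClassTwoFusion.Quad
import Cfsg.Agent.Mrg.Omega.NO3b.Closed.Base_m3
import Cfsg.Agent.OddHalf.D8.JTwo.Sheet
import Mathlib
import Cfsg.Agent.Nodes.Coroot
import Cfsg.Agent.Nodes.TypeC
import Cfsg.Agent.Mrg.Omega.NOThree.NoOver
import Cfsg.Agent.SmallSimple.SylowMaxInter
import Cfsg.Agent.Mrg.Omega.ML.MinIrr
import Cfsg.Agent.Omega.KFacts_m3
import Cfsg.Agent.S0253
import Cfsg.Agent.FastGrp
import Cfsg.Agent.Prune
set_option linter.all false

section
prune_inst 0x7ffcfefbadb8afdeffff7e7fffdddffc39d0dfffe6dff94b7fe1ebff3bff23652fe5fbaf8de4d0fe9ed6e2b410387813fbffee7fea6bdc7ffffd5ff41ffbee1fe5ffb70c51d5b8341ffe6fff9bf37fce7f3fffffffffffffffffffffffffffffffffffffffff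

-- part: Mrg/Omega/ML/Ex/TIE
section
prune_inst 0x4041100000000000002200020005000019000200801c1400c400000a10000400100008014021000ae08000400000018005040000000000004000000012000881200a0480000000006000003180c00000000000000000000000000000000000000000
set_option linter.all false
open scoped Cfsg.Agent.FastGrp

section


/-!
# LEMMA E: exact fours groups give a TI-subgroup which swallows all centralizers (OMEGA, K-list exact; helper269); K-free

`X` acts faithfully on `M` (exponent 2), no element of `X` is a transvection on `M`, `B ≤ X` has order at least 4 and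
`|M : C_M(B)| = 4`.  `F := C_M(B)`, `EE F := {x | [F,x] = 1, [M,x] ≤ F}`.

* `EE F` : a subgroup, of exponent 2, normalised by the stabiliser of `F`;
* **`exists_tie`** : `B ≤ E := EE F`, `C_M(e) = F` for all `e ∈ E#`, `N_X(E) = N_X(F)`, **`C_X(e) ≤ N_X(E)` for all `e ∈ E#`**,
  `E ∩ E^g ≠ 1 → g ∈ N_X(E)`;
* `Tie.normalizer_eq` : if `C_X(e)` is maximal in `X` (`e ∈ E#`) and `E` is not normal, then `N_X(E) = C_X(e)`;
* `Tie.eq_of_conj` : in that case `e` is the only conjugate of `e` in `E`.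
-/

set_option autoImplicit false

namespace Cfsg.Agent.Omega.ML.Ex.TIE

open Subgroup Cfsg.Agent.ClassTwoFusion.Quad

variable {X : Type*} [Group X] {M : Type*} [Group M] [MulDistribMulAction X M]

/-- the group of all `x` which centralise `F` and `M / F` -/
def EE (F : Subgroup M) : Subgroup X where
  carrier := {x | (∀ m ∈ F, x • m = m) ∧ ∀ m : M, (x • m) * m⁻¹ ∈ F}
  one_mem' := ⟨fun m _ => one_smul X m, fun m => by rw [one_smul, mul_inv_cancel]; exact F.one_mem⟩
  mul_mem' := by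
    rintro x y ⟨hx, hx'⟩ ⟨hy, hy'⟩
    refine ⟨fun m hm => by rw [mul_smul, hy m hm, hx m hm], fun m => ?_⟩
    have h1 : (x * y) • m * m⁻¹ = (x • (y • m) * (y • m)⁻¹) * (y • m * m⁻¹) := by
      rw [mul_smul]; group
    rw [h1]
    exact F.mul_mem (hx' _) (hy' _)
  inv_mem' := by
    rintro x ⟨hx, hx'⟩
    refine ⟨fun m hm => by rw [inv_smul_eq_iff, hx m hm], fun m => ?_⟩
    have h1 : x⁻¹ • m * m⁻¹ = ((x • (x⁻¹ • m)) * (x⁻¹ • m)⁻¹)⁻¹ := by
      rw [smul_inv_smul]; group
    rw [h1]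
    exact F.inv_mem (hx' _)

theorem mem_EE {F : Subgroup M} {x : X} :
    x ∈ (EE F : Subgroup X) ↔ (∀ m ∈ F, x • m = m) ∧ ∀ m : M, (x • m) * m⁻¹ ∈ F := Iff.rfl

/-- exponent 2 -/
theorem EE_sq (sq : ∀ m : M, m * m = 1) (faith : ∀ x : X, (∀ m : M, x • m = m) → x = 1) {F : Subgroup M} {x : X}
    (hx : x ∈ (EE F : Subgroup X)) : x * x = 1 := by
  refine faith _ fun m => ?_
  have h1 : x • m = (x • m * m⁻¹) * m := by group
  rw [mul_smul]
  calc x • (x • m) = x • ((x • m * m⁻¹) * m) := by rw [← h1]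
    _ = (x • (x • m * m⁻¹)) * (x • m) := smul_mul' _ _ _
    _ = (x • m * m⁻¹) * ((x • m * m⁻¹) * m) := by rw [hx.1 _ (hx.2 m), ← h1]
    _ = ((x • m * m⁻¹) * (x • m * m⁻¹)) * m := (mul_assoc _ _ _).symm
    _ = m := by rw [sq, one_mul]

/-- the stabiliser of `F` normalises `EE F` -/
theorem smul_mem_EE {F : Subgroup M} {g x : X} (hg : ∀ m, m ∈ F ↔ g • m ∈ F) (hx : x ∈ (EE F : Subgroup X)) :
    g * x * g⁻¹ ∈ (EE F : Subgroup X) := by
  have hg' : ∀ m ∈ F, g⁻¹ • m ∈ F := fun m hm => by rw [hg, smul_inv_smul]; exact hm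
  refine ⟨fun m hm => ?_, fun m => ?_⟩
  · rw [mul_smul, mul_smul, hx.1 _ (hg' m hm), smul_inv_smul]
  · have h1 := (hg _).1 (hx.2 (g⁻¹ • m))
    rw [smul_mul', smul_inv', smul_inv_smul, ← mul_smul, ← mul_smul] at h1
    exact h1

/-- The output: `E` is elementary abelian of order at least 4, `C_M(e) = F` for all `e ∈ E#`, `C_X(e) ≤ N_X(E)`. -/
structure Tie (E : Subgroup X) (F : Subgroup M) : Prop where
  el : ∀ e ∈ E, e * e = 1
  four : 4 ≤ Nat.card E
  fix : ∀ e ∈ E, e ≠ 1 → cv M {e} = F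
  com : ∀ e ∈ E, ∀ m : M, (e • m) * m⁻¹ ∈ F
  norm : ∀ g : X, g ∈ normalizer (E : Set X) ↔ ∀ m, m ∈ F ↔ g • m ∈ F
  cent : ∀ e ∈ E, e ≠ 1 → centralizer {e} ≤ normalizer (E : Set X)
  ti : ∀ g e : X, e ∈ E → e ≠ 1 → g * e * g⁻¹ ∈ E → g ∈ normalizer (E : Set X)

section max

variable {E : Subgroup X} {F : Subgroup M}

/-- a maximal centraliser -/
theorem Tie.normalizer_eq (h : Tie E F) {e : X} (he : e ∈ E) (he1 : e ≠ 1)
    (hmax : ∀ R : Subgroup X, centralizer {e} ≤ R → R ≠ ⊤ → R = centralizer {e})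
    (hE : normalizer (E : Set X) ≠ ⊤) : normalizer (E : Set X) = centralizer {e} :=
  hmax _ (h.cent e he he1) hE

/-- `e` is the only conjugate of `e` in `E` -/
theorem Tie.eq_of_conj (h : Tie E F) {e : X} (he : e ∈ E) (he1 : e ≠ 1)
    (hN : normalizer (E : Set X) = centralizer {e}) {g : X} (hg : g * e * g⁻¹ ∈ E) : g * e * g⁻¹ = e := by
  have h1 := h.ti g e he he1 hg
  rw [hN] at h1
  rw [← (mem_centralizer_iff.1 h1 e rfl), mul_inv_cancel_right]

/-- all the other centralisers are contained in the maximal one -/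
theorem Tie.centralizer_le (h : Tie E F) {e : X} (hN : normalizer (E : Set X) = centralizer {e}) {f : X} (hf : f ∈ E)
    (hf1 : f ≠ 1) : centralizer {f} ≤ centralizer {e} := by
  rw [← hN]
  exact h.cent f hf hf1

/-- `E` is normal in `C_X(e)` if `C_X(e)` is maximal -/
theorem Tie.conj_mem (h : Tie E F) {e : X} (he : e ∈ E) (he1 : e ≠ 1) {g x : X} (hg : g ∈ centralizer {e})
    (hx : x ∈ E) : g * x * g⁻¹ ∈ E :=
  (mem_normalizer_iff.1 (h.cent e he he1 hg) x).1 hx

/-- the order of `E` -/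
theorem Tie.exists_ne (h : Tie E F) [Finite X] (e : X) : ∃ f ∈ E, f ≠ 1 ∧ f ≠ e := by
  by_contra hcon
  push Not at hcon
  have h1 : (E : Set X) ⊆ {1, e} := fun x hx => by
    rcases eq_or_ne x 1 with h2 | h2
    · exact Or.inl h2
    · exact Or.inr (hcon x hx h2)
  have h2 : Nat.card E ≤ 2 := by
    have h3 := Set.ncard_le_ncard h1 (Set.toFinite _)
    have h4 : ({1, e} : Set X).ncard ≤ 2 := Set.ncard_insert_le _ _ |>.trans (by rw [Set.ncard_singleton])
    exact le_trans (le_of_eq (Nat.card_coe_set_eq (E : Set X))) (h3.trans h4)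
  have := h.four
  omega

end max

end Cfsg.Agent.Omega.ML.Ex.TIE

end

section


/-!
# LEMMA E at one element: the alternative EQ(x) of the exact K-list (OMEGA; helper269); K-free

`X` acts faithfully on `M` (exponent 2), `A ≤ X` elementary abelian and quadratic on `M`, `x ∈ A` with
`C_M(x) = C_M(A) =: F`.  Then `E := EE F = {h | [F,h] = 1, [M,h] ≤ F}` is elementary abelian, `A ≤ E`, `C_M(E) = F`,
`N_X(E) = N_X(F) ≥ C_X(x)` and `x^g ∈ E → g ∈ N_X(E)`.

* `TieX A E F x`, **`exists_tieX`**;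
* `TieX.normalizer_eq` : if `C_X(x)` is maximal and `N_X(E) ≠ X`, then `N_X(E) = C_X(x)`; `TieX.eq_of_conj`;
* **`quad_of_atom`** : `A` abelian, `A ≠ 1`, `|A| |C_M(A)| ≥ |M|` and `|D| |C_M(D)| < |A| |C_M(A)|` for `1 < D < A` imply that
  `A` is quadratic (Timmesfeld);
* `normal_eq_bot` : a normal abelian subgroup of exponent 2 of `X` is trivial if `X` has a normal simple subgroup `K`
  with `C_X(K) = 1`.
-/

set_option autoImplicit false

namespace Cfsg.Agent.Omega.ML.Ex.TieX

open Subgroup Cfsg.Agent.ClassTwoFusion.Quad Cfsg.Agent.Omega.ML.Ex.TIE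

variable {X : Type*} [Group X] {M : Type*} [Group M] [MulDistribMulAction X M]

/-- The output at one element. -/
structure TieX (A E : Subgroup X) (F : Subgroup M) (x : X) : Prop where
  le : A ≤ E
  el : ∀ e ∈ E, e * e = 1
  mem : x ∈ E
  fixx : cv M ({x} : Set X) = F
  fixE : cv M (E : Set X) = F
  com : ∀ e ∈ E, ∀ m : M, (e • m) * m⁻¹ ∈ F
  big : ∀ e : X, (∀ m ∈ F, e • m = m) → (∀ m : M, (e • m) * m⁻¹ ∈ F) → e ∈ E
  norm : ∀ g : X, g ∈ normalizer (E : Set X) ↔ ∀ m, m ∈ F ↔ g • m ∈ F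
  cent : centralizer {x} ≤ normalizer (E : Set X)
  ti : ∀ g : X, g * x * g⁻¹ ∈ E → g ∈ normalizer (E : Set X)

/-- **LEMMA E at one element** -/
theorem exists_tieX [Finite M] (sq : ∀ m : M, m * m = 1)
    (faith : ∀ x : X, (∀ m : M, x • m = m) → x = 1) {A : Subgroup X} {x : X} (hx : x ∈ A)
    (eq : cv M ({x} : Set X) = cv M (A : Set X))
    (quad : ∀ a ∈ A, ∀ b ∈ A, ∀ m : M, b • ((a • m) * m⁻¹) = (a • m) * m⁻¹) :
    TieX A (EE (cv M (A : Set X)) : Subgroup X) (cv M (A : Set X)) x := by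
  set F := cv M (A : Set X) with hF
  have hA : A ≤ (EE F : Subgroup X) := fun a ha => ⟨fun m hm => hm a ha, fun m b hb => quad a ha b hb m⟩
  have hxE : x ∈ (EE F : Subgroup X) := hA hx
  have hst : ∀ g : X, g * x * g⁻¹ ∈ (EE F : Subgroup X) → ∀ m, m ∈ F ↔ g • m ∈ F := by
    intro g hg m
    -- `g F ≤ F` by orders
    have h1 : F ≤ F.map (MulDistribMulAction.toMulEquiv M g : M ≃* M).toMonoidHom := by
      intro f hf
      refine ⟨g⁻¹ • f, ?_, smul_inv_smul g f⟩
      change g⁻¹ • f ∈ F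
      rw [← eq, mem_cv_singleton]
      have h2 := hg.1 f hf
      rw [mul_smul, mul_smul] at h2
      calc x • g⁻¹ • f = g⁻¹ • (g • x • g⁻¹ • f) := (inv_smul_smul _ _).symm
        _ = g⁻¹ • f := by rw [h2]
    have h3 : Nat.card (F.map (MulDistribMulAction.toMulEquiv M g : M ≃* M).toMonoidHom) = Nat.card F :=
      card_map_of_injective (MulDistribMulAction.toMulEquiv M g : M ≃* M).injective
    have h4 := Subgroup.eq_of_le_of_card_ge h1 h3.le
    constructor
    · intro hm
      rw [h4]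
      exact ⟨m, hm, rfl⟩
    · intro hm
      rw [h4] at hm
      obtain ⟨n, hn, hn'⟩ := hm
      have h5 : g • n = g • m := hn'
      rw [← (smul_left_cancel_iff g).1 h5]
      exact hn
  have hnor : ∀ g : X, (∀ m, m ∈ F ↔ g • m ∈ F) → g ∈ normalizer ((EE F : Subgroup X) : Set X) := by
    intro g hg
    have hg' : ∀ m, m ∈ F ↔ g⁻¹ • m ∈ F := fun m => by rw [hg (g⁻¹ • m), smul_inv_smul]
    rw [mem_normalizer_iff]
    refine fun x => ⟨fun hx => smul_mem_EE hg hx, fun hx => ?_⟩
    have h1 := smul_mem_EE hg' hx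
    have h2 : g⁻¹ * (g * x * g⁻¹) * g⁻¹⁻¹ = x := by group
    rwa [h2] at h1
  exact {
    le := hA
    el := fun e he => EE_sq sq faith he
    mem := hxE
    fixx := eq
    fixE := le_antisymm (fun m hm => by rw [← eq, mem_cv_singleton]; exact hm x hxE)
      (fun m hm e he => he.1 m hm)
    com := fun e he => he.2
    big := fun e h1 h2 => ⟨h1, h2⟩
    norm := fun g => ⟨fun hg => hst g ((mem_normalizer_iff.1 hg x).1 hxE), hnor g⟩
    cent := fun g hg => hnor g (hst g (by
      have h1 : g * x = x * g := (mem_centralizer_iff.1 hg x rfl).symm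
      rw [h1, mul_inv_cancel_right]
      exact hxE))
    ti := fun g hg => hnor g (hst g hg) }

section max

variable {A E : Subgroup X} {F : Subgroup M} {x : X}

/-- a maximal centraliser -/
theorem TieX.normalizer_eq (h : TieX A E F x)
    (hmax : ∀ R : Subgroup X, centralizer {x} ≤ R → R ≠ ⊤ → R = centralizer {x})
    (hE : normalizer (E : Set X) ≠ ⊤) : normalizer (E : Set X) = centralizer {x} :=
  hmax _ h.cent hE

/-- `x` is the only conjugate of `x` in `E` -/
theorem TieX.eq_of_conj (h : TieX A E F x) (hN : normalizer (E : Set X) = centralizer {x}) {g : X}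
    (hg : g * x * g⁻¹ ∈ E) : g * x * g⁻¹ = x := by
  have h1 := h.ti g hg
  rw [hN] at h1
  rw [← (mem_centralizer_iff.1 h1 x rfl), mul_inv_cancel_right]

/-- `E` is normalised by `C_X(x)` -/
theorem TieX.conj_mem (h : TieX A E F x) {g y : X} (hg : g ∈ centralizer {x}) (hy : y ∈ E) : g * y * g⁻¹ ∈ E :=
  (mem_normalizer_iff.1 (h.cent hg) y).1 hy

/-- `E` is abelian -/
theorem TieX.comm (h : TieX A E F x) {a b : X} (ha : a ∈ E) (hb : b ∈ E) : a * b = b * a := by
  have h1 : ∀ z ∈ E, z⁻¹ = z := fun z hz => inv_eq_of_mul_eq_one_right (h.el z hz)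
  calc a * b = (a * b)⁻¹ := (h1 _ (E.mul_mem ha hb)).symm
    _ = b⁻¹ * a⁻¹ := mul_inv_rev _ _
    _ = b * a := by rw [h1 _ ha, h1 _ hb]

/-- `E ≤ C_X(x)` -/
theorem TieX.le_centralizer (h : TieX A E F x) : E ≤ centralizer {x} := fun e he =>
  mem_centralizer_iff.2 fun y hy => by
    rw [Set.mem_singleton_iff] at hy
    subst hy
    exact h.comm h.mem he

theorem TieX.card_le [Finite X] (h : TieX A E F x) : Nat.card A ≤ Nat.card E := card_le_of_le h.le

end max

/-! ### Quadratic action -/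

/-- `C_A([u, A])` -/
def st (A : Subgroup X) (u : M) : Subgroup X where
  carrier := {c | c ∈ A ∧ ∀ a ∈ A, c • ((a • u) * u⁻¹) = (a • u) * u⁻¹}
  one_mem' := ⟨A.one_mem, fun a _ => one_smul _ _⟩
  mul_mem' := fun {c e} hc he => ⟨A.mul_mem hc.1 he.1, fun a ha => by rw [mul_smul, he.2 a ha, hc.2 a ha]⟩
  inv_mem' := fun {c} hc => ⟨A.inv_mem hc.1, fun a ha => by rw [inv_smul_eq_iff, hc.2 a ha]⟩

omit [MulDistribMulAction X M] in
theorem card_fib' [Finite X] [Finite M] {A S : Subgroup X} {C W : Subgroup M} (hCW : C ≤ W) (f : X → M)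
    (hf : ∀ a ∈ A, f a ∈ W) (hfib : ∀ a ∈ A, ∀ b ∈ A, (f b)⁻¹ * f a ∈ C → b⁻¹ * a ∈ S) :
    Nat.card A * Nat.card C ≤ Nat.card S * Nat.card W := by
  classical
  let F : A × C → W := fun p => ⟨f p.1 * p.2, W.mul_mem (hf _ p.1.2) (hCW p.2.2)⟩
  let r : W → A × C := fun w => if h : ∃ p, F p = w then h.choose else 1
  have hr : ∀ p, F (r (F p)) = F p := by
    intro p
    have h : ∃ q, F q = F p := ⟨p, rfl⟩
    have e : r (F p) = h.choose := dif_pos h
    rw [e]; exact h.choose_spec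
  have hS : ∀ p q : A × C, F q = F p → (q.1 : X)⁻¹ * p.1 ∈ S := by
    intro p q h
    refine hfib _ p.1.2 _ q.1.2 ?_
    have h1 : f q.1 * q.2 = f p.1 * p.2 := congrArg Subtype.val h
    have h2 : (f q.1)⁻¹ * f p.1 = q.2 * (p.2 : M)⁻¹ := by
      rw [inv_mul_eq_iff_eq_mul, ← mul_assoc, h1, mul_inv_cancel_right]
    rw [h2]
    exact C.mul_mem q.2.2 (C.inv_mem p.2.2)
  rw [← Nat.card_prod, ← Nat.card_prod]
  refine Nat.card_le_card_of_injective
    (fun p : A × C => ((⟨((r (F p)).1 : X)⁻¹ * p.1, hS p (r (F p)) (hr p)⟩ : S), F p)) ?_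
  intro p q h
  simp only [Prod.mk.injEq, Subtype.mk.injEq] at h
  obtain ⟨h1, h2⟩ := h
  rw [h2] at h1
  have h3 : (p.1 : X) = q.1 := mul_left_cancel h1
  have h4 : f p.1 * p.2 = f q.1 * q.2 := congrArg Subtype.val h2
  rw [h3] at h4
  exact Prod.ext (Subtype.ext h3) (Subtype.ext (mul_left_cancel h4))

/-- Atoms are quadratic (Timmesfeld's replacement). -/
theorem quad_of_atom [Finite X] [Finite M] (sq : ∀ m : M, m * m = 1) {A : Subgroup X}
    (ab : ∀ a ∈ A, ∀ b ∈ A, a * b = b * a) (hne : A ≠ ⊥)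
    (hbot : Nat.card M ≤ Nat.card A * Nat.card (cv M (A : Set X)))
    (hmin : ∀ D < A, D ≠ ⊥ → Nat.card D * Nat.card (cv M (D : Set X)) < Nat.card A * Nat.card (cv M (A : Set X))) :
    ∀ a ∈ A, ∀ b ∈ A, ∀ m : M, b • ((a • m) * m⁻¹) = (a • m) * m⁻¹ := by
  have hc : ∀ a b : M, a * b = b * a := fun a b => by
    have h1 : ∀ z : M, z⁻¹ = z := fun z => inv_eq_of_mul_eq_one_right (sq z)
    calc a * b = (a * b)⁻¹ := (h1 _).symm
      _ = b⁻¹ * a⁻¹ := mul_inv_rev _ _
      _ = b * a := by rw [h1, h1]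
  intro a₁ ha₁ b₁ hb₁ u
  have hle : st A u ≤ A := fun c hc => hc.1
  -- the fibres
  have hfib : ∀ a ∈ A, ∀ b ∈ A, (b • u * u⁻¹)⁻¹ * (a • u * u⁻¹) ∈ cv M (A : Set X) → b⁻¹ * a ∈ st A u := by
    intro a ha b hb h
    refine ⟨A.mul_mem (A.inv_mem hb) ha, fun e he => ?_⟩
    set c := b⁻¹ * a with hcdef
    have hcA : c ∈ A := A.mul_mem (A.inv_mem hb) ha
    have h0 : a = b * c := by rw [hcdef, mul_inv_cancel_left]
    have h2 : c • u * u⁻¹ ∈ cv M (A : Set X) := by
      have h3 : (b • u * u⁻¹)⁻¹ * (a • u * u⁻¹) = b • (c • u * u⁻¹) := by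
        rw [smul_mul', smul_inv', ← mul_smul, ← h0, mul_inv_rev, inv_inv, mul_assoc, hc (b • u)⁻¹ (a • u * u⁻¹),
          hc (a • u) u⁻¹, mul_assoc, ← mul_assoc u, mul_inv_cancel, one_mul]
      rw [h3] at h
      intro x hx
      have h4 := h b⁻¹ (A.inv_mem hb)
      rw [inv_smul_smul] at h4
      rw [h4]
      exact h x hx
    have h3 : c • (e • u) = e • (c • u) := by rw [← mul_smul, ← mul_smul, ab c hcA e he]
    have h4 := h2 e he
    rw [smul_mul', smul_inv'] at h4
    -- `h4 : e • c • u * (e • u)⁻¹ = c • u * u⁻¹`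
    rw [smul_mul', smul_inv', h3]
    calc e • (c • u) * (c • u)⁻¹ = (e • (c • u) * (e • u)⁻¹) * (e • u * (c • u)⁻¹) := by group
      _ = (c • u * u⁻¹) * (e • u * (c • u)⁻¹) := by rw [h4]
      _ = (e • u * (c • u)⁻¹) * (c • u * u⁻¹) := hc _ _
      _ = e • u * u⁻¹ := by group
  have h1 : Nat.card A * Nat.card (cv M (A : Set X)) ≤ Nat.card (st A u) * Nat.card (cv M (st A u : Set X)) :=
    card_fib' (cv_anti (SetLike.coe_subset_coe.2 hle)) (fun a => a • u * u⁻¹) (fun a ha c hc => hc.2 a ha) hfib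
  by_cases hst : st A u = ⊥
  · exfalso
    have hA1 : Nat.card A * Nat.card (cv M (A : Set X)) = Nat.card M := by
      refine le_antisymm ?_ hbot
      rw [hst, card_bot, one_mul] at h1
      exact h1.trans (Nat.card_le_card_of_injective _ Subtype.val_injective)
    have hinj : ∀ a ∈ A, ∀ b ∈ A, (b • u * u⁻¹)⁻¹ * (a • u * u⁻¹) ∈ cv M (A : Set X) → a = b := by
      intro a ha b hb h
      have := hfib a ha b hb h
      rw [hst, mem_bot, inv_mul_eq_one] at this
      exact this.symm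
    have hbij : Function.Bijective (fun x : A × cv M (A : Set X) => (((x.1 : X) • u * u⁻¹) * (x.2 : M) : M)) := by
      rw [Nat.bijective_iff_injective_and_card]
      refine ⟨?_, ?_⟩
      · rintro ⟨a, c⟩ ⟨a', c'⟩ h
        have h' : ((a : X) • u * u⁻¹) * (c : M) = ((a' : X) • u * u⁻¹) * (c' : M) := h
        have e : (a : X) = a' := by
          apply hinj a a.2 a' a'.2
          have : ((a' : X) • u * u⁻¹)⁻¹ * ((a : X) • u * u⁻¹) = (c' : M) * (c : M)⁻¹ := by
            rw [inv_mul_eq_iff_eq_mul, ← mul_assoc, ← h', mul_inv_cancel_right]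
          rw [this]
          exact mul_mem c'.2 (inv_mem c.2)
        rw [e] at h'
        exact Prod.ext (Subtype.ext e) (Subtype.ext (mul_left_cancel h'))
      · rw [Nat.card_prod]; exact hA1
    obtain ⟨⟨a, c⟩, hac⟩ := hbij.2 u
    have hac' : ((a : X) • u * u⁻¹) * (c : M) = u := hac
    have h3 : (a : X) • u = (c : M)⁻¹ := by
      have h5 : (a : X) • u = u * (c : M)⁻¹ * u := by
        calc (a : X) • u = ((a : X) • u * u⁻¹ * (c : M)) * (c : M)⁻¹ * u := by group
          _ = u * (c : M)⁻¹ * u := by rw [hac']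
      rw [h5, hc u (c : M)⁻¹, mul_assoc, sq, mul_one]
    have h4 : (a : X) • u ∈ cv M (A : Set X) := by rw [h3]; exact inv_mem c.2
    have h5 : u ∈ cv M (A : Set X) := by
      have := h4 (a : X)⁻¹ (A.inv_mem a.2)
      rw [inv_smul_smul] at this
      rw [this]; exact h4
    apply hne
    rw [Subgroup.eq_bot_iff_forall]
    intro x hx
    apply hinj x hx 1 A.one_mem
    rw [h5 x hx, one_smul, mul_inv_cancel, inv_one, one_mul]
    exact one_mem _
  · have : st A u = A := by
      by_contra h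
      exact absurd (hmin _ (lt_of_le_of_ne hle h) hst) (not_lt.2 h1)
    have hb' : b₁ ∈ st A u := by rw [this]; exact hb₁
    exact hb'.2 a₁ ha₁

/-! ### No normal elementary abelian subgroups -/

/-- a normal subgroup of exponent 2 of `X` is trivial if `X` has a normal simple subgroup `K` with `C_X(K) = 1` -/
theorem normal_eq_bot {K E : Subgroup X} (hK : K.Normal) (hs : IsSimpleGroup K) (hcen : centralizer (K : Set X) = ⊥)
    (hE : E.Normal) (el : ∀ e ∈ E, e * e = 1) : E = ⊥ := by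
  have hcomm : ∀ a ∈ E, ∀ b ∈ E, a * b = b * a := by
    intro a ha b hb
    have h1 : ∀ z ∈ E, z⁻¹ = z := fun z hz => inv_eq_of_mul_eq_one_right (el z hz)
    calc a * b = (a * b)⁻¹ := (h1 _ (E.mul_mem ha hb)).symm
      _ = b⁻¹ * a⁻¹ := mul_inv_rev _ _
      _ = b * a := by rw [h1 _ ha, h1 _ hb]
  have h1 : (E.subgroupOf K).Normal := Subgroup.Normal.subgroupOf hE K
  have h2 : E ⊓ K = ⊥ := by
    rcases hs.eq_bot_or_eq_top_of_normal _ h1 with h | h
    · exact (subgroupOf_eq_bot.1 h).eq_bot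
    · exfalso
      have hKE : K ≤ E := subgroupOf_eq_top.1 h
      have h3 : K ≤ centralizer (K : Set X) := fun a ha =>
        mem_centralizer_iff.2 fun b hb => hcomm b (hKE hb) a (hKE ha)
      rw [hcen, le_bot_iff] at h3
      obtain ⟨k, hk⟩ := exists_ne (1 : K)
      exact hk (Subtype.ext (mem_bot.1 (h3 ▸ k.2)))
  have h3 : E ≤ centralizer (K : Set X) := by
    intro e he
    refine mem_centralizer_iff.2 fun k hk => ?_
    have h4 : e * k * e⁻¹ * k⁻¹ ∈ E ⊓ K :=
      ⟨by
        have h5 := hE.conj_mem _ (E.inv_mem he) k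
        have h6 : e * k * e⁻¹ * k⁻¹ = e * (k * e⁻¹ * k⁻¹) := by group
        rw [h6]
        exact E.mul_mem he h5,
       K.mul_mem (hK.conj_mem _ hk e) (K.inv_mem hk)⟩
    rw [h2, mem_bot] at h4
    have h5 : e * k * e⁻¹ = k := by
      have h6 := mul_inv_eq_one.1 h4
      exact h6
    calc k * e = (e * k * e⁻¹) * e := by rw [h5]
      _ = e * k := by group
  rw [hcen, le_bot_iff] at h3
  exact h3

end Cfsg.Agent.Omega.ML.Ex.TieX

end

section


/-!
# The K-list for exact subgroups: the dichotomy at `x ∈ A#` and extraspecial centralisers (helper181)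

`InX H M K T A` (`Def.lean`, `A` exact and sub-exact, NOT necessarily an atom), `F := C_M(A)`,
`EE F = {h | [F,h] = 1, [M,h] ≤ F}` (`TIE.lean`), any `|A| ≥ 4`.

* **`lt_or_eq`** (DICHOTOMY) : `x ∈ A` : `|M : C_M(x)| < |A|` or `EQ(x)`: `C_M(x) = F`;
* `quad` : `EQ(x)` for ONE `x ∈ A` ⟹ `A` is quadratic on `M`;   `le_EE` : then `A ≤ EE F`;
* **`conj_mem_EE`** : `EQ(x)` ⟹ `C_H(x) ≤ N_H(EE F)`;   `exists_normal` : an elementary abelian `E ≥ A`, `C_H(x) ≤ N_H(E)`;
* `false_of_card` : `EQ(x)` is impossible if every elementary abelian `E ∋ x` normalised by `C_H(x)` has `|E| < |A|`;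
* **`false_of_irr`** : `EQ(x)` is impossible if `A ≤ R`, `R` nonabelian, `P ≤ C_H(x)` and the `P`-invariant subgroups
  `B ≠ R` of `R` have `|B| < |A|` (extraspecial case: `|B| ≤ 2`);
* `tv`, **`tv_eq`** : transvections; two commuting ones with different axes, whose product is a transvection, have the
  same centre;
* **`false_of_rank_two`** : `InX` is impossible if some conjugate of `A` is in `R`, `z ∈ Z(R)` an involution, `R`
  nonabelian of 2-rank 2, `R/⟨z⟩` irreducible for `P ≤ C_H(z)`, all involutions of `R` conjugate to `z` (`J2`, `J3`).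
-/

set_option autoImplicit false

namespace Cfsg.Agent.Omega.ML.Ex.Extra

open Subgroup Cfsg.Agent.Omega.ML.Ex Cfsg.Agent.Omega.ML.Ex.TIE Cfsg.Agent.ClassTwoFusion.Quad
open Cfsg.Agent.Omega.NOThree.NoOver Cfsg.Agent.Omega.ML.CD

universe u v

variable {H : Type u} [Group H] {M : Type v} [Group M] [MulDistribMulAction H M] {K T A : Subgroup H}

/-- **`EQ(x)`: `A` is quadratic** (`M/F ≅ [M,x] ≤ F`). -/
theorem quad (h : InX H M K T A) {x : H} (hx : x ∈ A) (hE : cv M ({x} : Set H) = cv M (A : Set H)) {a b : H}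
    (ha : a ∈ A) (hb : b ∈ A) (m : M) : b • (a • m * m) = a • m * m := by
  have sq := h.sq
  have hM := h.comm
  have hinv : ∀ y : M, y⁻¹ = y := fun y => inv_eq_of_mul_eq_one_right (sq y)
  -- `[m, x] ∈ C_M(x) = C_M(A)`
  have h1 : x • m * m ∈ cv M ({x} : Set H) := by
    rw [mem_cv_singleton, smul_mul', ← mul_smul, h.el x hx, one_smul, hM]
  rw [hE] at h1
  have h2 : a • (x • m * m) = x • m * m := h1 a ha
  have h3 : a • m * m ∈ cv M ({x} : Set H) := by
    rw [mem_cv_singleton, smul_mul', ← mul_smul, h.A_comm x hx a ha, mul_smul]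
    rw [smul_mul'] at h2
    -- `a x m * a m = x m * m`
    have h4 : a • x • m = x • m * m * a • m := by
      calc a • x • m = a • x • m * (a • m * a • m) := by rw [sq, mul_one]
        _ = a • x • m * a • m * a • m := by rw [mul_assoc]
        _ = x • m * m * a • m := by rw [h2]
    rw [h4]
    calc x • m * m * a • m * x • m = (x • m * x • m) * (m * a • m) := by
          rw [hM (x • m * m * a • m) (x • m), mul_assoc (x • m) m, ← mul_assoc]
      _ = a • m * m := by rw [sq, one_mul, hM]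
  rw [hE] at h3
  exact h3 b hb

/-- `EQ(x)`: `A ≤ EE (C_M(A))` -/
theorem le_EE (h : InX H M K T A) {x : H} (hx : x ∈ A) (hE : cv M ({x} : Set H) = cv M (A : Set H)) :
    A ≤ (EE (cv M (A : Set H)) : Subgroup H) := by
  intro a ha
  refine ⟨fun m hm => hm a ha, fun m b hb => ?_⟩
  have h1 : m⁻¹ = m := inv_eq_of_mul_eq_one_right (h.sq m)
  rw [h1]
  exact quad h hx hE ha hb m

/-- exponent two groups are commutative -/
theorem comm_of_sq' {N : Type v} [Group N] (sq : ∀ m : N, m * m = 1) (x y : N) : x * y = y * x := by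
  have h1 : ∀ m : N, m⁻¹ = m := fun m => inv_eq_of_mul_eq_one_right (sq m)
  calc x * y = (x * y)⁻¹ := (h1 _).symm
    _ = y⁻¹ * x⁻¹ := mul_inv_rev x y
    _ = y * x := by rw [h1, h1]

/-- **DICHOTOMY** -/
theorem lt_or_eq [Finite M] (h : InX H M K T A) {x : H} (hx : x ∈ A) :
    (cv M ({x} : Set H)).index < Nat.card A ∨ cv M ({x} : Set H) = cv M (A : Set H) := by
  have hle : cv M (A : Set H) ≤ cv M ({x} : Set H) := cv_anti (Set.singleton_subset_iff.2 hx)
  have h1 : (cv M (A : Set H)).relIndex (cv M ({x} : Set H)) * (cv M ({x} : Set H)).index = Nat.card A := by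
    rw [← h.exact]
    exact relIndex_mul_index hle
  by_cases h2 : (cv M (A : Set H)).relIndex (cv M ({x} : Set H)) = 1
  · exact Or.inr (le_antisymm (relIndex_eq_one.1 h2) hle)
  · left
    have h3 : (cv M (A : Set H)).relIndex (cv M ({x} : Set H)) ≠ 0 := by
      intro h4
      rw [h4, zero_mul] at h1
      have := h.four
      omega
    have h4 : 0 < (cv M ({x} : Set H)).index := Nat.pos_of_ne_zero index_ne_zero_of_finite
    rw [← h1]
    have h5 : 2 ≤ (cv M (A : Set H)).relIndex (cv M ({x} : Set H)) := by omega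
    nlinarith

/-- `|M : C_M(x)| ≤ |A|` -/
theorem index_le [Finite M] (h : InX H M K T A) {x : H} (hx : x ∈ A) :
    (cv M ({x} : Set H)).index ≤ Nat.card A := by
  rcases lt_or_eq h hx with h1 | h1
  · exact h1.le
  · rw [h1, h.exact]

/-- an element commuting with `x` stabilises `C_M(x)` -/
theorem stab_of_comm {x c : H} (hc : c * x = x * c) (m : M) : m ∈ cv M ({x} : Set H) ↔ c • m ∈ cv M ({x} : Set H) := by
  rw [mem_cv_singleton, mem_cv_singleton, ← mul_smul, ← hc, mul_smul, smul_left_cancel_iff]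

/-- **`EQ(x)`: `C_H(x)` normalises `EE (C_M(A))`.** -/
theorem conj_mem_EE {x : H} (hE : cv M ({x} : Set H) = cv M (A : Set H)) {c e : H} (hc : c * x = x * c)
    (he : e ∈ (EE (cv M (A : Set H)) : Subgroup H)) : c * e * c⁻¹ ∈ (EE (cv M (A : Set H)) : Subgroup H) :=
  smul_mem_EE (fun m => by rw [← hE]; exact stab_of_comm hc m) he

/-- **`EQ(x)`: an elementary abelian `E ≥ A` normalised by `C_H(x)`.** -/
theorem exists_normal (h : InX H M K T A) {x : H} (hx : x ∈ A)
    (hE : cv M ({x} : Set H) = cv M (A : Set H)) :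
    ∃ E : Subgroup H, A ≤ E ∧ (∀ e ∈ E, e * e = 1) ∧ centralizer ({x} : Set H) ≤ normalizer (E : Set H) := by
  refine ⟨EE (cv M (A : Set H)), le_EE h hx hE, fun e he => EE_sq h.sq h.faith he, fun c hc => ?_⟩
  have hc' : c * x = x * c := mem_centralizer_singleton_iff.1 hc
  rw [mem_normalizer_iff]
  refine fun y => ⟨fun hy => conj_mem_EE hE hc' hy, fun hy => ?_⟩
  have h1 : c⁻¹ * x = x * c⁻¹ := by rw [inv_mul_eq_iff_eq_mul, ← mul_assoc, hc', mul_inv_cancel_right]
  have h2 := conj_mem_EE hE h1 hy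
  have h3 : c⁻¹ * (c * y * c⁻¹) * c⁻¹⁻¹ = y := by group
  rwa [h3] at h2

/-- `EE (C_M(A))` does not contain a nonabelian group. -/
theorem not_le_EE (h : InX H M K T A) {R : Subgroup H} (nab : ∃ a ∈ R, ∃ b ∈ R, a * b ≠ b * a) :
    ¬ R ≤ (EE (cv M (A : Set H)) : Subgroup H) := by
  intro h2
  obtain ⟨a, ha, b, hb, hab⟩ := nab
  have h3 : ∀ y ∈ R, y⁻¹ = y := fun y hy => inv_eq_of_mul_eq_one_right (EE_sq h.sq h.faith (h2 hy))
  apply hab
  calc a * b = (a * b)⁻¹ := (h3 _ (R.mul_mem ha hb)).symm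
    _ = b⁻¹ * a⁻¹ := mul_inv_rev _ _
    _ = b * a := by rw [h3 a ha, h3 b hb]

/-- **`EQ(x)` and an irreducible group `P ≤ C_H(x)` on a nonabelian `R ≥ A`.** -/
theorem false_of_irr [Finite H] (h : InX H M K T A) {x : H} (hx : x ∈ A)
    (hE : cv M ({x} : Set H) = cv M (A : Set H)) {P R : Subgroup H} (hP : ∀ p ∈ P, p * x = x * p) (hAR : A ≤ R)
    (hR : ∀ p ∈ P, ∀ r ∈ R, p * r * p⁻¹ ∈ R)
    (irr : ∀ B ≤ R, (∀ p ∈ P, ∀ b ∈ B, p * b * p⁻¹ ∈ B) → Nat.card B < Nat.card A ∨ B = R)
    (nab : ∃ a ∈ R, ∃ b ∈ R, a * b ≠ b * a) : False := by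
  rcases irr ((EE (cv M (A : Set H)) : Subgroup H) ⊓ R) inf_le_right
    (fun p hp b hb => ⟨conj_mem_EE hE (hP p hp) hb.1, hR p hp b hb.2⟩) with h1 | h1
  · have h2 : A ≤ (EE (cv M (A : Set H)) : Subgroup H) ⊓ R := le_inf (le_EE h hx hE) hAR
    exact absurd (card_le_of_le h2) (not_le.2 h1)
  · exact not_le_EE h nab (inf_eq_right.1 h1)

/-- an element with `|M : C_M(a)| = 2` is a transvection -/
theorem tv (sq : ∀ m : M, m * m = 1) {a : H} (ha : (cv M ({a} : Set H)).index = 2) :
    ∃ v : M, v ≠ 1 ∧ ∀ m : M, (a • m = m ∧ a • m * m = 1) ∨ (a • m ≠ m ∧ a • m * m = v) := by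
  have hinv : ∀ y : M, y⁻¹ = y := fun y => inv_eq_of_mul_eq_one_right (sq y)
  have hM := comm_of_sq' sq
  obtain ⟨m₀, hm₀⟩ : ∃ m : M, m ∉ cv M ({a} : Set H) := by
    by_contra hc
    push Not at hc
    rw [(eq_top_iff' _).2 hc, index_top] at ha
    omega
  rw [mem_cv_singleton] at hm₀
  refine ⟨a • m₀ * m₀, fun h1 => hm₀ ?_, fun m => ?_⟩
  · rw [mul_eq_one_iff_eq_inv, hinv] at h1
    exact h1
  · by_cases hm : a • m = m
    · exact Or.inl ⟨hm, by rw [hm, sq]⟩
    · right
      refine ⟨hm, ?_⟩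
      have h1 : m * m₀ ∈ cv M ({a} : Set H) := by
        rw [mul_mem_iff_of_index_two ha]
        exact ⟨fun h2 => absurd (mem_cv_singleton.1 h2) hm, fun h2 => absurd (mem_cv_singleton.1 h2) hm₀⟩
      rw [mem_cv_singleton, smul_mul'] at h1
      -- `a m * a m₀ = m * m₀`
      calc a • m * m = (a • m * a • m₀) * (a • m₀ * m) := by
            rw [mul_assoc, ← mul_assoc (a • m₀), sq, one_mul]
        _ = (m * m₀) * (a • m₀ * m) := by rw [h1]
        _ = (m₀ * m) * (m * a • m₀) := by rw [hM m m₀, hM (a • m₀) m]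
        _ = m₀ * (m * m) * a • m₀ := by simp only [mul_assoc]
        _ = a • m₀ * m₀ := by rw [sq, mul_one, hM]

/-- **Two commuting transvections with different axes whose product is a transvection have the same centre.** -/
theorem tv_eq (sq : ∀ m : M, m * m = 1) {a b : H} (hab : a * b = b * a)
    (ha : (cv M ({a} : Set H)).index = 2) (hb : (cv M ({b} : Set H)).index = 2)
    (hc : (cv M ({a * b} : Set H)).index = 2) (hne : cv M ({a} : Set H) ≠ cv M ({b} : Set H)) [Finite M] {v : M}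
    (hv : ∀ m : M, (a • m = m ∧ a • m * m = 1) ∨ (a • m ≠ m ∧ a • m * m = v)) :
    ∀ m : M, (b • m = m ∧ b • m * m = 1) ∨ (b • m ≠ m ∧ b • m * m = v) := by
  have hinv : ∀ y : M, y⁻¹ = y := fun y => inv_eq_of_mul_eq_one_right (sq y)
  have hM := comm_of_sq' sq
  obtain ⟨w, hw1, hw⟩ := tv sq hb
  obtain ⟨c, hc1, hcc⟩ := tv sq hc
  -- `m ∈ H_a - H_b`, `n ∈ H_b - H_a`
  have key : ∀ {N L : Subgroup M}, N.index = 2 → L.index = 2 → N ≠ L → ∃ m ∈ N, m ∉ L := by
    intro N L hN hL hNL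
    by_contra hcon
    push Not at hcon
    have h1 : N ≤ L := hcon
    have h2 := relIndex_mul_index h1
    rw [hN, hL] at h2
    have h3 : N.relIndex L = 1 := by omega
    exact hNL (le_antisymm h1 (relIndex_eq_one.1 h3))
  obtain ⟨m, hma, hmb⟩ := key ha hb hne
  obtain ⟨n, hnb, hna⟩ := key hb ha hne.symm
  rw [mem_cv_singleton] at hma hmb hnb hna
  have hmb' : b • m * m = w := ((hw m).resolve_left fun h1 => hmb h1.1).2
  have hna' : a • n * n = v := ((hv n).resolve_left fun h1 => hna h1.1).2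
  -- `ab m = a (b m) = b (a m) = b m`
  have h1 : (a * b) • m = b • m := by rw [hab, mul_smul, hma]
  have h2 : (a * b) • n = a • n := by rw [mul_smul, hnb]
  have h3 : (a * b) • m * m = c := ((hcc m).resolve_left fun h4 => hmb (by rw [← h1]; exact h4.1)).2
  have h4 : (a * b) • n * n = c := ((hcc n).resolve_left fun h4 => hna (by rw [← h2]; exact h4.1)).2
  have h5 : w = v := by rw [← hmb', ← hna', ← h1, h3, ← h4, h2]
  rw [← h5]
  exact hw

/-- **`R` nonabelian of 2-rank at most 2, irreducible modulo `⟨z⟩`, contains `A`**: impossible. -/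
theorem false_of_rank_two_aux [Finite H] [Finite M] (h : InX H M K T A) {z : H} (zz : z * z = 1) (z1 : z ≠ 1)
    {P R : Subgroup H} (zR : z ∈ R) (cR : ∀ r ∈ R, r * z = z * r) (hP : ∀ p ∈ P, p * z = z * p)
    (hR : ∀ p ∈ P, ∀ r ∈ R, p * r * p⁻¹ ∈ R)
    (irr : ∀ B ≤ R, (∀ p ∈ P, ∀ b ∈ B, p * b * p⁻¹ ∈ B) → (∀ b ∈ B, b = 1 ∨ b = z) ∨ B = R)
    (nab : ∃ a ∈ R, ∃ b ∈ R, a * b ≠ b * a) (rk : ∀ B ≤ R, (∀ b ∈ B, b * b = 1) → Nat.card B ≤ 4)
    (fus : ∀ r ∈ R, r * r = 1 → r ≠ 1 → ∃ k : H, k * z * k⁻¹ = r) (hAR : A ≤ R) : False := by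
  have sq := h.sq
  have hM := comm_of_sq' sq
  have hinv : ∀ y : M, y⁻¹ = y := fun y => inv_eq_of_mul_eq_one_right (sq y)
  have h4 : Nat.card A = 4 := le_antisymm (rk A hAR h.el) h.four
  -- `z ∈ A`
  have hz : z ∈ A := by
    have hzc : ∀ x ∈ A, x * z = z * x := fun x hx => cR x (hAR hx)
    have hz2 : ∀ b : H, b * z * z = b := fun b => by rw [mul_assoc, zz, mul_one]
    -- `N = A ⟨z⟩`
    let N : Subgroup H :=
      { carrier := {b | b ∈ A ∨ b * z ∈ A}
        one_mem' := Or.inl A.one_mem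
        mul_mem' := by
          rintro a b (ha | ha) (hb | hb)
          · exact Or.inl (A.mul_mem ha hb)
          · exact Or.inr (by rw [mul_assoc]; exact A.mul_mem ha hb)
          · refine Or.inr ?_
            have h5 : a * b * z = (a * z) * b := by rw [mul_assoc, hzc b hb, ← mul_assoc]
            rw [h5]
            exact A.mul_mem ha hb
          · refine Or.inl ?_
            have h5 : a * b = (a * z) * (b * z) := by
              have h6 := hzc _ hb
              rw [hz2] at h6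
              rw [mul_assoc, ← h6]
            rw [h5]
            exact A.mul_mem ha hb
        inv_mem' := by
          rintro a (ha | ha)
          · exact Or.inl (A.inv_mem ha)
          · refine Or.inr ?_
            have h5 : a⁻¹ * z = (a * z)⁻¹ := by
              have h6 := hzc _ (A.inv_mem ha)
              have h7 : z⁻¹ = z := inv_eq_of_mul_eq_one_right zz
              have h8 : (a * z)⁻¹ * z = a⁻¹ := by
                rw [h6, mul_inv_rev, h7, ← mul_assoc, zz, one_mul]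
              rw [← h8, hz2]
            rw [h5]
            exact A.inv_mem ha }
    have hN : N ≤ R := by
      rintro b (hb | hb)
      · exact hAR hb
      · have h5 := R.mul_mem (hAR hb) zR
        rwa [hz2] at h5
    have h8 : Nat.card N ≤ 4 := by
      refine rk N hN fun b hb => ?_
      have hbz : b * z = z * b := cR b (hN hb)
      rcases hb with hb | hb
      · exact h.el b hb
      · have h5 := h.el _ hb
        calc b * b = b * b * (z * z) := by rw [zz, mul_one]
          _ = b * (b * z) * z := by simp only [mul_assoc]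
          _ = b * (z * b) * z := by rw [hbz]
          _ = b * z * (b * z) := by simp only [mul_assoc]
          _ = 1 := h5
    have h9 : A = N := Subgroup.eq_of_le_of_card_ge (fun x hx => Or.inl hx) (by rw [h4]; exact h8)
    rw [h9]
    exact Or.inr (by rw [zz]; exact A.one_mem)
  rcases lt_or_eq h hz with h5 | hE
  swap
  · -- `EQ(z)`
    refine false_of_irr h hz hE hP hAR hR (fun B hB hBP => ?_) nab
    rcases irr B hB hBP with h6 | h6
    · left
      have h7 : (B : Set H) ⊆ {1, z} := fun b hb => h6 b hb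
      have h8 := Set.ncard_le_ncard h7 (Set.toFinite _)
      have h9 : ({1, z} : Set H).ncard ≤ 2 := (Set.ncard_insert_le _ _).trans (by rw [Set.ncard_singleton])
      have h10 : Nat.card B = (B : Set H).ncard := rfl
      omega
    · exact Or.inr h6
  · -- `z` is a transvection; all involutions of `R` are
    have htv : ∀ a ∈ A, a ≠ 1 → (cv M ({a} : Set H)).index = 2 := by
      intro a ha ha1
      obtain ⟨k, hk⟩ := fus a (hAR ha) (h.el a ha) ha1
      have h6 : (cv M ({a} : Set H)).index = (cv M ({z} : Set H)).index := by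
        rw [← hk]
        have h7 : cv M ({k * z * k⁻¹} : Set H) = (cv M ({z} : Set H)).map (MulDistribMulAction.toMulEquiv M k).toMonoidHom := by
          ext m
          rw [mem_cv_singleton]
          constructor
          · intro h8
            refine ⟨k⁻¹ • m, ?_, ?_⟩
            · rw [SetLike.mem_coe, mem_cv_singleton, ← mul_smul]
              have h9 : z * k⁻¹ = k⁻¹ * (k * z * k⁻¹) := by group
              rw [h9, mul_smul, h8]
            · exact smul_inv_smul k m
          · rintro ⟨n, hn, rfl⟩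
            rw [SetLike.mem_coe, mem_cv_singleton] at hn
            change (k * z * k⁻¹) • k • n = k • n
            rw [← mul_smul, inv_mul_cancel_right, mul_smul, hn]
        rw [h7]
        exact index_map_equiv _ (MulDistribMulAction.toMulEquiv M k)
      have h7 : (cv M ({z} : Set H)).index ≠ 1 := by
        intro h8
        rw [index_eq_one] at h8
        apply z1
        refine h.faith z fun m => ?_
        have h9 : m ∈ cv M ({z} : Set H) := h8 ▸ mem_top m
        exact mem_cv_singleton.1 h9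
      have h8 : (cv M ({z} : Set H)).index ∣ 4 := by
        rw [← h4, ← h.exact]
        exact index_dvd_of_le (cv_anti (Set.singleton_subset_iff.2 hz))
      rw [h4] at h5
      have h9 : (cv M ({z} : Set H)).index ≠ 0 := index_ne_zero_of_finite
      have h10 : (cv M ({z} : Set H)).index ≠ 3 := by
        intro h11
        rw [h11] at h8
        omega
      omega
    obtain ⟨v, hv1, hv⟩ := tv sq (htv z hz z1)
    -- `u ∈ A`, `u ≠ 1, z`
    obtain ⟨u, hu, hu1, huz⟩ : ∃ u ∈ A, u ≠ 1 ∧ u ≠ z := by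
      by_contra hcon
      push Not at hcon
      have h7 : (A : Set H) ⊆ {1, z} := fun b hb => by
        by_cases hb1 : b = 1
        · exact Or.inl hb1
        · exact Or.inr (hcon b hb hb1)
      have h8 := Set.ncard_le_ncard h7 (Set.toFinite _)
      have h9 : ({1, z} : Set H).ncard ≤ 2 := (Set.ncard_insert_le _ _).trans (by rw [Set.ncard_singleton])
      have h10 : Nat.card A = (A : Set H).ncard := rfl
      omega
    have hzu1 : z * u ≠ 1 := fun h6 => huz (by
      rw [mul_eq_one_iff_eq_inv] at h6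
      rw [h6]
      exact (inv_eq_of_mul_eq_one_right (h.el u hu)).symm)
    have hAgen : cv M (A : Set H) = cv M ({z} : Set H) ⊓ cv M ({u} : Set H) := by
      refine le_antisymm (le_inf (cv_anti (Set.singleton_subset_iff.2 hz)) (cv_anti (Set.singleton_subset_iff.2 hu))) ?_
      intro m hm
      have hm1 : z • m = m := mem_cv_singleton.1 (mem_inf.1 hm).1
      have hm2 : u • m = m := mem_cv_singleton.1 (mem_inf.1 hm).2
      -- the stabiliser of `m` in `A` has more than 2 elements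
      let St : Subgroup H := MulAction.stabilizer H m ⊓ A
      have hSt : St ≤ A := inf_le_right
      have h6 : Nat.card St ∣ 4 := by rw [← h4]; exact card_dvd_of_le hSt
      have h7 : ({1, z, u} : Set H) ⊆ (St : Set H) := by
        rintro x (rfl | rfl | rfl)
        · exact St.one_mem
        · exact ⟨hm1, hz⟩
        · exact ⟨hm2, hu⟩
      have h8 := Set.ncard_le_ncard h7 (Set.toFinite _)
      have h9 : ({1, z, u} : Set H).ncard = 3 := by
        rw [Set.ncard_eq_three]
        exact ⟨1, z, u, z1.symm, hu1.symm, huz.symm, rfl⟩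
      have h10 : Nat.card St = (St : Set H).ncard := rfl
      have h11 : Nat.card St = 4 := by
        have h12 : Nat.card St ≤ 4 := Nat.le_of_dvd (by norm_num) h6
        have h13 : Nat.card St ≠ 3 := fun h14 => by rw [h14] at h6; omega
        omega
      have h12 : St = A := Subgroup.eq_of_le_of_card_ge hSt (by rw [h11, h4])
      intro a ha
      have h13 : a ∈ St := h12 ▸ ha
      exact h13.1
    have hne : cv M ({z} : Set H) ≠ cv M ({u} : Set H) := by
      intro h6
      rw [← h6, inf_idem] at hAgen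
      have h7 := h.exact
      rw [hAgen, htv z hz z1, h4] at h7
      omega
    have hvu := tv_eq sq (cR u (hAR hu)).symm (htv z hz z1) (htv u hu hu1) (htv _ (A.mul_mem hz hu) hzu1) hne hv
    -- elements commuting with `z` fix `v`
    have hfix : ∀ c : H, c * z = z * c → c • v = v := by
      intro c hc
      obtain ⟨m, hm⟩ : ∃ m : M, z • m * m = v ∧ z • m ≠ m := by
        by_contra hcon
        push Not at hcon
        apply z1
        refine h.faith z fun m => ?_
        rcases hv m with h6 | h6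
        · exact h6.1
        · exact hcon m h6.2
      have h6 : z • (c • m) * (c • m) = c • v := by
        rw [← mul_smul, ← hc, mul_smul, ← smul_mul', hm.1]
      rcases hv (c • m) with h7 | h7
      · exfalso
        apply hv1
        rw [h7.2] at h6
        have h8 : v = c⁻¹ • (1 : M) := by rw [h6, inv_smul_smul]
        rw [h8, smul_one]
      · rw [← h6, h7.2]
    -- `D = {r ∈ R : [M, r] ≤ ⟨v⟩}`
    have hvv : ∀ {x y : M}, (x = 1 ∨ x = v) → (y = 1 ∨ y = v) → (x * y = 1 ∨ x * y = v) := by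
      rintro x y (rfl | rfl) (rfl | rfl)
      · exact Or.inl (mul_one _)
      · exact Or.inr (one_mul _)
      · exact Or.inr (mul_one _)
      · exact Or.inl (sq _)
    let D : Subgroup H :=
      { carrier := {r | r ∈ R ∧ ∀ m : M, r • m * m = 1 ∨ r • m * m = v}
        one_mem' := ⟨R.one_mem, fun m => Or.inl (by rw [one_smul, sq])⟩
        mul_mem' := by
          rintro a b ⟨ha, ha'⟩ ⟨hb, hb'⟩
          refine ⟨R.mul_mem ha hb, fun m => ?_⟩
          have h6 : (a * b) • m * m = a • (b • m * m) * (a • m * m) := by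
            rw [mul_smul, smul_mul', mul_assoc, ← mul_assoc (a • m), sq, one_mul]
          rw [h6]
          refine hvv ?_ (ha' m)
          rcases hb' m with h7 | h7
          · exact Or.inl (by rw [h7, smul_one])
          · exact Or.inr (by rw [h7, hfix a (cR a ha)])
        inv_mem' := by
          rintro a ⟨ha, ha'⟩
          refine ⟨R.inv_mem ha, fun m => ?_⟩
          have h6 := ha' (a⁻¹ • m)
          rw [smul_inv_smul, hM] at h6
          exact h6 }
    have hDm : ∀ r : H, r ∈ D ↔ r ∈ R ∧ ∀ m : M, r • m * m = 1 ∨ r • m * m = v := fun r => Iff.rfl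
    have huD : u ∈ D := ⟨hAR hu, fun m => (hvu m).imp (fun h6 => h6.2) (fun h6 => h6.2)⟩
    rcases irr D (fun r hr => hr.1) (by
      rintro p hp r ⟨hr, hr'⟩
      refine ⟨hR p hp r hr, fun m => ?_⟩
      have h6 : (p * r * p⁻¹) • m * m = p • (r • (p⁻¹ • m) * (p⁻¹ • m)) := by
        rw [smul_mul', smul_inv_smul, ← mul_smul, ← mul_smul, mul_assoc]
      rw [h6]
      rcases hr' (p⁻¹ • m) with h7 | h7
      · exact Or.inl (by rw [h7, smul_one])
      · exact Or.inr (by rw [h7, hfix p (hP p hp)])) with h6 | h6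
    · rcases h6 u huD with h7 | h7
      · exact hu1 h7
      · exact huz h7
    · -- `R` is abelian
      obtain ⟨a, ha, b, hb, hab⟩ := nab
      apply hab
      have ha' := ((hDm a).1 (h6.ge ha)).2
      have hb' := ((hDm b).1 (h6.ge hb)).2
      have key : ∀ c ∈ R, (∀ m : M, c • m * m = 1 ∨ c • m * m = v) → ∀ d ∈ R,
          (∀ m : M, d • m * m = 1 ∨ d • m * m = v) → ∀ m : M, (c * d) • m = (c • m * m) * (d • m * m) * m := by
        intro c hc hc' d hd hd' m
        have h7 : c • (d • m * m) = d • m * m := by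
          rcases hd' m with h8 | h8
          · rw [h8, smul_one]
          · rw [h8, hfix c (cR c hc)]
        calc (c * d) • m = c • ((d • m * m) * m) := by rw [mul_smul, mul_assoc, sq, mul_one]
          _ = (d • m * m) * c • m := by rw [smul_mul', h7]
          _ = (d • m * m) * (c • m * (m * m)) := by rw [sq, mul_one]
          _ = (d • m * m) * (c • m * m) * m := by simp only [mul_assoc]
          _ = (c • m * m) * (d • m * m) * m := by rw [hM (d • m * m) (c • m * m)]
      have h7 : (b * a)⁻¹ * (a * b) = 1 := by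
        refine h.faith _ fun m => ?_
        rw [mul_smul, inv_smul_eq_iff, key a ha ha' b hb hb', key b hb hb' a ha ha', hM (a • m * m) (b • m * m)]
      exact (inv_mul_eq_one.1 h7).symm

/-- **`R` nonabelian of 2-rank at most 2, irreducible modulo `⟨z⟩`, contains a conjugate of `A`**: impossible. -/
theorem false_of_rank_two [Finite H] [Finite M] (h : InX H M K T A) {z : H} (zz : z * z = 1) (z1 : z ≠ 1)
    {P R : Subgroup H} (zR : z ∈ R) (cR : ∀ r ∈ R, r * z = z * r) (hP : ∀ p ∈ P, p * z = z * p)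
    (hR : ∀ p ∈ P, ∀ r ∈ R, p * r * p⁻¹ ∈ R)
    (irr : ∀ B ≤ R, (∀ p ∈ P, ∀ b ∈ B, p * b * p⁻¹ ∈ B) → (∀ b ∈ B, b = 1 ∨ b = z) ∨ B = R)
    (nab : ∃ a ∈ R, ∃ b ∈ R, a * b ≠ b * a) (rk : ∀ B ≤ R, (∀ b ∈ B, b * b = 1) → Nat.card B ≤ 4)
    (fus : ∀ r ∈ R, r * r = 1 → r ≠ 1 → ∃ k : H, k * z * k⁻¹ = r)
    {g : H} (hg : ∀ a ∈ A, g⁻¹ * a * g ∈ R) : False := by
  have hcj : ∀ x : H, (MulAut.conj g).toMonoidHom x = g * x * g⁻¹ := fun x => rfl
  refine false_of_rank_two_aux h (z := g * z * g⁻¹) (P := P.map (MulAut.conj g).toMonoidHom)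
    (R := R.map (MulAut.conj g).toMonoidHom) ?_ ?_ ?_ ?_ ?_ ?_ ?_ ?_ ?_ ?_ ?_
  · calc g * z * g⁻¹ * (g * z * g⁻¹) = g * (z * z) * g⁻¹ := by group
      _ = 1 := by rw [zz]; group
  · intro h1
    apply z1
    have h2 : z = g⁻¹ * (g * z * g⁻¹) * g := by group
    rw [h2, h1]; group
  · exact ⟨z, zR, rfl⟩
  · rintro _ ⟨r, hr, rfl⟩
    rw [hcj]
    calc g * r * g⁻¹ * (g * z * g⁻¹) = g * (r * z) * g⁻¹ := by group
      _ = g * (z * r) * g⁻¹ := by rw [cR r hr]
      _ = _ := by group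
  · rintro _ ⟨r, hr, rfl⟩
    rw [hcj]
    calc g * r * g⁻¹ * (g * z * g⁻¹) = g * (r * z) * g⁻¹ := by group
      _ = g * (z * r) * g⁻¹ := by rw [hP r hr]
      _ = _ := by group
  · rintro _ ⟨p, hp, rfl⟩ _ ⟨r, hr, rfl⟩
    exact ⟨p * r * p⁻¹, hR p hp r hr, by rw [map_mul, map_mul, map_inv]⟩
  · intro B hB hBP
    have h5 := irr (B.comap (MulAut.conj g).toMonoidHom) (fun b hb => by
        obtain ⟨r, hr, hrb⟩ := hB hb
        rwa [← (MulAut.conj g).injective hrb]) (fun p hp b hb => by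
        have h6 := hBP _ ⟨p, hp, rfl⟩ _ hb
        rw [mem_comap, map_mul, map_mul, map_inv]
        exact h6)
    rcases h5 with h5 | h5
    · left
      intro b hb
      obtain ⟨r, hr, rfl⟩ := hB hb
      rcases h5 r hb with rfl | rfl
      · left; exact map_one _
      · right; rfl
    · right
      rw [← h5]
      exact (map_comap_eq_self_of_surjective (MulAut.conj g).surjective B).symm
  · obtain ⟨a, ha, b, hb, hab⟩ := nab
    refine ⟨_, ⟨a, ha, rfl⟩, _, ⟨b, hb, rfl⟩, fun h5 => hab ?_⟩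
    rw [← map_mul, ← map_mul] at h5
    exact (MulAut.conj g).injective h5
  · intro B hB hel
    have h1 := rk (B.comap (MulAut.conj g).toMonoidHom) (fun b hb => by
        obtain ⟨r, hr, hrb⟩ := hB hb
        rwa [← (MulAut.conj g).injective hrb]) (fun b hb => (MulAut.conj g).injective (by
          rw [map_mul, map_one]; exact hel _ hb))
    have h2 : (B.comap (MulAut.conj g).toMonoidHom).map (MulAut.conj g).toMonoidHom = B :=
      map_comap_eq_self_of_surjective (MulAut.conj g).surjective B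
    rw [← h2, card_map_of_injective (MulAut.conj g).injective]
    exact h1
  · rintro _ ⟨r, hr, rfl⟩ hrr hr1
    obtain ⟨k, hk⟩ := fus r hr ((MulAut.conj g).injective (by rw [map_mul, map_one]; exact hrr))
      (fun h1 => hr1 (by rw [h1, map_one]))
    refine ⟨g * k * g⁻¹, ?_⟩
    rw [hcj, ← hk]; group
  · intro a ha
    refine ⟨g⁻¹ * a * g, hg a ha, ?_⟩
    rw [hcj]; group

end Cfsg.Agent.Omega.ML.Ex.Extra

end

section


/-!
# A 2-central involution `z` with an extraspecial-like centraliser is not a transvection (helper181); K-free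

`H` acts faithfully on `M` (exponent 2), `z ∈ R` an involution, `R` nonabelian, `P ≤ C_H(z)` normalises `R` and every
`P`-invariant `B < R` is contained in `⟨z⟩`.

* **`false_of_tv`** : `z`, `u`, `z u` are not all transvections, `u ∈ R - ⟨z⟩`;
* `comm_z` : `u ∈ R - ⟨z⟩` has a conjugate `z u` under `R`;
* **`index_ne_two`** : if some conjugate of `z` is in `R - ⟨z⟩` then `|M : C_M(z)| ≠ 2`.
-/

set_option autoImplicit false

namespace Cfsg.Agent.Omega.ML.Ex.NoTv

open Subgroup Cfsg.Agent.Omega.ML.Ex Cfsg.Agent.Omega.ML.Ex.Extra Cfsg.Agent.ClassTwoFusion.Quad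

open scoped commutatorElement

universe u v

variable {H : Type u} [Group H] {M : Type v} [Group M] [MulDistribMulAction H M]

/-- the local situation -/
structure Loc (z : H) (P R : Subgroup H) : Prop where
  zz : z * z = 1
  z1 : z ≠ 1
  zR : z ∈ R
  cR : ∀ r ∈ R, r * z = z * r
  cP : ∀ p ∈ P, p * z = z * p
  nR : ∀ p ∈ P, ∀ r ∈ R, p * r * p⁻¹ ∈ R
  irr : ∀ B ≤ R, (∀ p ∈ P, ∀ b ∈ B, p * b * p⁻¹ ∈ B) → (∀ b ∈ B, b = 1 ∨ b = z) ∨ B = R
  nab : ∃ a ∈ R, ∃ b ∈ R, a * b ≠ b * a

/-- `R` acts as an abelian group on `M`: impossible. -/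
theorem Loc.false_of_comm {z : H} {P R : Subgroup H} (L : Loc z P R) (faith : ∀ h : H, (∀ m : M, h • m = m) → h = 1)
    (hc : ∀ a ∈ R, ∀ b ∈ R, ∀ m : M, (a * b) • m = (b * a) • m) : False := by
  obtain ⟨a, ha, b, hb, hab⟩ := L.nab
  apply hab
  have h7 : (b * a)⁻¹ * (a * b) = 1 := by
    refine faith _ fun m => ?_
    rw [mul_smul, inv_smul_eq_iff]
    exact hc a ha b hb m
  exact (inv_mul_eq_one.1 h7).symm

/-- **`z`, `u`, `z u` are not all transvections.** -/
theorem Loc.false_of_tv [Finite M] {z : H} {P R : Subgroup H} (L : Loc z P R) (sq : ∀ m : M, m * m = 1)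
    (faith : ∀ h : H, (∀ m : M, h • m = m) → h = 1) {u : H} (hu : u ∈ R) (hu1 : u ≠ 1) (huz : u ≠ z)
    (iz : (cv M ({z} : Set H)).index = 2) (iu : (cv M ({u} : Set H)).index = 2)
    (izu : (cv M ({z * u} : Set H)).index = 2) : False := by
  have hM := comm_of_sq' sq
  have hinv : ∀ y : M, y⁻¹ = y := fun y => inv_eq_of_mul_eq_one_right (sq y)
  by_cases hne : cv M ({z} : Set H) = cv M ({u} : Set H)
  · -- the same axis
    have hax : ∀ c : H, c * z = z * c → ∀ m : M, z • m = m → z • c • m = c • m := by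
      intro c hc m hm
      rw [← mul_smul, ← hc, mul_smul, hm]
    let D : Subgroup H :=
      { carrier := {r | r ∈ R ∧ ∀ m : M, z • m = m → r • m = m}
        one_mem' := ⟨R.one_mem, fun m _ => one_smul H m⟩
        mul_mem' := by
          rintro a b ⟨ha, ha'⟩ ⟨hb, hb'⟩
          exact ⟨R.mul_mem ha hb, fun m hm => by rw [mul_smul, hb' m hm, ha' m hm]⟩
        inv_mem' := by
          rintro a ⟨ha, ha'⟩
          exact ⟨R.inv_mem ha, fun m hm => by rw [inv_smul_eq_iff, ha' m hm]⟩ }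
    have hDm : ∀ r : H, r ∈ D ↔ r ∈ R ∧ ∀ m : M, z • m = m → r • m = m := fun r => Iff.rfl
    have huD : u ∈ D := ⟨hu, fun m hm => by
      have h1 : m ∈ cv M ({z} : Set H) := mem_cv_singleton.2 hm
      rw [hne] at h1
      exact mem_cv_singleton.1 h1⟩
    rcases L.irr D (fun r hr => hr.1) (by
      rintro p hp r ⟨hr, hr'⟩
      refine ⟨L.nR p hp r hr, fun m hm => ?_⟩
      have h1 : p⁻¹ * z = z * p⁻¹ := by
        rw [inv_mul_eq_iff_eq_mul, ← mul_assoc, L.cP p hp, mul_inv_cancel_right]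
      rw [mul_smul, mul_smul, hr' _ (hax _ h1 m hm), smul_inv_smul]) with h6 | h6
    · rcases h6 u huD with h7 | h7
      · exact hu1 h7
      · exact huz h7
    · refine L.false_of_comm faith fun a ha b hb m => ?_
      have ha' := ((hDm a).1 (h6.ge ha)).2
      have hb' := ((hDm b).1 (h6.ge hb)).2
      -- `[m, c] ∈ C_M(z)` for all `c ∈ R`
      have key : ∀ c ∈ R, z • (c • m * m) = c • m * m := by
        intro c hc
        by_cases hm : z • m = m
        · rw [smul_mul', hax c (L.cR c hc) m hm, hm]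
        · have h1 : z • c • m ≠ c • m := by
            intro h2
            apply hm
            rw [← mul_smul, ← L.cR c hc, mul_smul] at h2
            exact smul_left_cancel _ h2
          have h3 : c • m * m ∈ cv M ({z} : Set H) := by
            rw [mul_mem_iff_of_index_two iz]
            exact ⟨fun h2 => absurd (mem_cv_singleton.1 h2) h1, fun h2 => absurd (mem_cv_singleton.1 h2) hm⟩
          exact mem_cv_singleton.1 h3
      have e1 : ∀ c ∈ R, (∀ m : M, z • m = m → c • m = m) → ∀ d ∈ R, (c * d) • m = (d • m * m) * (c • m * m) * m := by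
        intro c _ hc' d hd
        calc (c * d) • m = c • ((d • m * m) * m) := by rw [mul_smul, mul_assoc, sq, mul_one]
          _ = (d • m * m) * c • m := by rw [smul_mul', hc' _ (key d hd)]
          _ = (d • m * m) * (c • m * (m * m)) := by rw [sq, mul_one]
          _ = (d • m * m) * (c • m * m) * m := by simp only [mul_assoc]
      rw [e1 a ha ha' b hb, e1 b hb hb' a ha, hM (b • m * m) (a • m * m)]
  · obtain ⟨v, hv1, hv⟩ := tv sq iz
    have hvu := tv_eq sq (L.cR u hu).symm iz iu izu hne hv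
    -- elements commuting with `z` fix `v`
    have hfix : ∀ c : H, c * z = z * c → c • v = v := by
      intro c hc
      obtain ⟨m, hm⟩ : ∃ m : M, z • m * m = v ∧ z • m ≠ m := by
        by_contra hcon
        push Not at hcon
        apply L.z1
        refine faith z fun m => ?_
        rcases hv m with h6 | h6
        · exact h6.1
        · exact hcon m h6.2
      have h6 : z • (c • m) * (c • m) = c • v := by
        rw [← mul_smul, ← hc, mul_smul, ← smul_mul', hm.1]
      rcases hv (c • m) with h7 | h7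
      · exfalso
        apply hv1
        rw [h7.2] at h6
        have h8 : v = c⁻¹ • (1 : M) := by rw [h6, inv_smul_smul]
        rw [h8, smul_one]
      · rw [← h6, h7.2]
    have hvv : ∀ {x y : M}, (x = 1 ∨ x = v) → (y = 1 ∨ y = v) → (x * y = 1 ∨ x * y = v) := by
      rintro x y (rfl | rfl) (rfl | rfl)
      · exact Or.inl (mul_one _)
      · exact Or.inr (one_mul _)
      · exact Or.inr (mul_one _)
      · exact Or.inl (sq _)
    let D : Subgroup H :=
      { carrier := {r | r ∈ R ∧ ∀ m : M, r • m * m = 1 ∨ r • m * m = v}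
        one_mem' := ⟨R.one_mem, fun m => Or.inl (by rw [one_smul, sq])⟩
        mul_mem' := by
          rintro a b ⟨ha, ha'⟩ ⟨hb, hb'⟩
          refine ⟨R.mul_mem ha hb, fun m => ?_⟩
          have h6 : (a * b) • m * m = a • (b • m * m) * (a • m * m) := by
            rw [mul_smul, smul_mul', mul_assoc, ← mul_assoc (a • m), sq, one_mul]
          rw [h6]
          refine hvv ?_ (ha' m)
          rcases hb' m with h7 | h7
          · exact Or.inl (by rw [h7, smul_one])
          · exact Or.inr (by rw [h7, hfix a (L.cR a ha)])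
        inv_mem' := by
          rintro a ⟨ha, ha'⟩
          refine ⟨R.inv_mem ha, fun m => ?_⟩
          have h6 := ha' (a⁻¹ • m)
          rw [smul_inv_smul, hM] at h6
          exact h6 }
    have hDm : ∀ r : H, r ∈ D ↔ r ∈ R ∧ ∀ m : M, r • m * m = 1 ∨ r • m * m = v := fun r => Iff.rfl
    have huD : u ∈ D := ⟨hu, fun m => (hvu m).imp (fun h6 => h6.2) (fun h6 => h6.2)⟩
    rcases L.irr D (fun r hr => hr.1) (by
      rintro p hp r ⟨hr, hr'⟩
      refine ⟨L.nR p hp r hr, fun m => ?_⟩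
      have h6 : (p * r * p⁻¹) • m * m = p • (r • (p⁻¹ • m) * (p⁻¹ • m)) := by
        rw [smul_mul', smul_inv_smul, ← mul_smul, ← mul_smul, mul_assoc]
      rw [h6]
      rcases hr' (p⁻¹ • m) with h7 | h7
      · exact Or.inl (by rw [h7, smul_one])
      · exact Or.inr (by rw [h7, hfix p (L.cP p hp)])) with h6 | h6
    · rcases h6 u huD with h7 | h7
      · exact hu1 h7
      · exact huz h7
    · refine L.false_of_comm faith fun a ha b hb m => ?_
      have ha' := ((hDm a).1 (h6.ge ha)).2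
      have hb' := ((hDm b).1 (h6.ge hb)).2
      have key : ∀ c ∈ R, (∀ m : M, c • m * m = 1 ∨ c • m * m = v) → ∀ d ∈ R,
          (∀ m : M, d • m * m = 1 ∨ d • m * m = v) → ∀ m : M, (c * d) • m = (c • m * m) * (d • m * m) * m := by
        intro c hc hc' d hd hd' m
        have h7 : c • (d • m * m) = d • m * m := by
          rcases hd' m with h8 | h8
          · rw [h8, smul_one]
          · rw [h8, hfix c (L.cR c hc)]
        calc (c * d) • m = c • ((d • m * m) * m) := by rw [mul_smul, mul_assoc, sq, mul_one]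
          _ = (d • m * m) * c • m := by rw [smul_mul', h7]
          _ = (d • m * m) * (c • m * (m * m)) := by rw [sq, mul_one]
          _ = (d • m * m) * (c • m * m) * m := by simp only [mul_assoc]
          _ = (c • m * m) * (d • m * m) * m := by rw [hM (d • m * m) (c • m * m)]
      rw [key a ha ha' b hb hb', key b hb hb' a ha ha', hM (a • m * m) (b • m * m)]

/-- `u ∈ R - ⟨z⟩` is moved by `R`. -/
theorem Loc.exists_ne_comm {z : H} {P R : Subgroup H} (L : Loc z P R) {u : H} (hu : u ∈ R) (hu1 : u ≠ 1) (huz : u ≠ z) :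
    ∃ r ∈ R, r * u ≠ u * r := by
  by_contra hcon
  push Not at hcon
  let D : Subgroup H := R ⊓ centralizer (R : Set H)
  rcases L.irr D inf_le_left (by
    intro p hp r hr
    refine mem_inf.2 ⟨L.nR p hp r (mem_inf.1 hr).1, mem_centralizer_iff.2 fun c hc => ?_⟩
    have h1 := L.nR p⁻¹ (P.inv_mem hp) c hc
    rw [inv_inv] at h1
    have h2 := mem_centralizer_iff.1 (mem_inf.1 hr).2 _ h1
    calc c * (p * r * p⁻¹) = p * (p⁻¹ * c * p * r) * p⁻¹ := by group
      _ = p * (r * (p⁻¹ * c * p)) * p⁻¹ := by rw [h2]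
      _ = p * r * p⁻¹ * c := by group) with h6 | h6
  · rcases h6 u (mem_inf.2 ⟨hu, mem_centralizer_iff.2 hcon⟩) with h7 | h7
    · exact hu1 h7
    · exact huz h7
  · obtain ⟨a, ha, b, hb, hab⟩ := L.nab
    exact hab (mem_centralizer_iff.1 (mem_inf.1 (h6.ge hb)).2 a ha)

/-- commutators of `R` are in `{1, z}` -/
theorem Loc.comm [Finite H] {z : H} {P R : Subgroup H} (L : Loc z P R) (h2 : IsPGroup 2 R) {a b : H} (ha : a ∈ R)
    (hb : b ∈ R) : a * b * a⁻¹ * b⁻¹ = 1 ∨ a * b * a⁻¹ * b⁻¹ = z := by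
  have hp : Fact (Nat.Prime 2) := ⟨Nat.prime_two⟩
  have hnil := h2.isNilpotent
  have hne : Nontrivial R := by
    obtain ⟨a, ha, b, hb, hab⟩ := L.nab
    refine ⟨⟨a, ha⟩, 1, fun h => hab ?_⟩
    have h1 : a = 1 := congrArg Subtype.val h
    rw [h1, one_mul, mul_one]
  have hlt := IsSolvable.commutator_lt_top_of_nontrivial R
  have hD : ⁅R, R⁆ ≤ R := commutator_le_self R
  have hmem : ⁅a, b⁆ ∈ ⁅R, R⁆ := commutator_mem_commutator ha hb
  rcases L.irr ⁅R, R⁆ hD (by
    intro p hp r hr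
    have h3 : (⁅R, R⁆).map (MulAut.conj p).toMonoidHom ≤ ⁅R, R⁆ := by
      rw [map_commutator]
      have h4 : R.map (MulAut.conj p).toMonoidHom ≤ R := by
        rintro _ ⟨r, hr, rfl⟩
        exact L.nR p hp r hr
      exact commutator_mono h4 h4
    exact h3 ⟨r, hr, rfl⟩) with h6 | h6
  · exact h6 _ hmem
  · exfalso
    apply hlt.ne
    have h7 : (_root_.commutator R).map R.subtype = ⁅R, R⁆ := by
      rw [_root_.commutator_def, map_commutator, ← MonoidHom.range_eq_map, range_subtype]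
    apply map_injective R.subtype_injective
    rw [h7, h6, ← MonoidHom.range_eq_map, range_subtype]

/-- `z u` is conjugate to `u` under `R`, `u ∈ R - ⟨z⟩`. -/
theorem Loc.exists_conj [Finite H] {z : H} {P R : Subgroup H} (L : Loc z P R) (h2 : IsPGroup 2 R) {u : H} (hu : u ∈ R)
    (hu1 : u ≠ 1) (huz : u ≠ z) : ∃ r ∈ R, r * u * r⁻¹ = z * u := by
  obtain ⟨r, hr, hru⟩ := L.exists_ne_comm hu hu1 huz
  refine ⟨r, hr, ?_⟩
  rcases L.comm h2 hr hu with h1 | h1
  · exfalso
    apply hru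
    rw [mul_inv_eq_one, mul_inv_eq_iff_eq_mul] at h1
    exact h1
  · rw [mul_inv_eq_iff_eq_mul] at h1
    exact h1

/-- conjugation does not change the index -/
theorem index_conj (k a : H) : (cv M ({k * a * k⁻¹} : Set H)).index = (cv M ({a} : Set H)).index := by
  have h7 : cv M ({k * a * k⁻¹} : Set H) = (cv M ({a} : Set H)).map (MulDistribMulAction.toMulEquiv M k).toMonoidHom := by
    ext m
    rw [mem_cv_singleton]
    constructor
    · intro h8
      refine ⟨k⁻¹ • m, ?_, ?_⟩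
      · rw [SetLike.mem_coe, mem_cv_singleton, ← mul_smul]
        have h9 : a * k⁻¹ = k⁻¹ * (k * a * k⁻¹) := by group
        rw [h9, mul_smul, h8]
      · exact smul_inv_smul k m
    · rintro ⟨n, hn, rfl⟩
      rw [SetLike.mem_coe, mem_cv_singleton] at hn
      change (k * a * k⁻¹) • k • n = k • n
      rw [← mul_smul, inv_mul_cancel_right, mul_smul, hn]
  rw [h7]
  exact index_map_equiv _ (MulDistribMulAction.toMulEquiv M k)

/-- **`z` is not a transvection if it has a conjugate in `R - ⟨z⟩`.** -/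
theorem Loc.index_ne_two [Finite H] [Finite M] {z : H} {P R : Subgroup H} (L : Loc z P R) (h2 : IsPGroup 2 R)
    (sq : ∀ m : M, m * m = 1) (faith : ∀ h : H, (∀ m : M, h • m = m) → h = 1) {k : H} (hk : k * z * k⁻¹ ∈ R)
    (hkz : k * z * k⁻¹ ≠ z) : (cv M ({z} : Set H)).index ≠ 2 := by
  intro iz
  have hu1 : k * z * k⁻¹ ≠ 1 := by
    intro h1
    apply L.z1
    have h3 : z = k⁻¹ * (k * z * k⁻¹) * k := by group
    rw [h3, h1]; group
  obtain ⟨r, hr, hru⟩ := L.exists_conj h2 hk hu1 hkz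
  have iu : (cv M ({k * z * k⁻¹} : Set H)).index = 2 := by rw [index_conj, iz]
  exact L.false_of_tv sq faith hk hu1 hkz iz iu (by rw [← hru, index_conj, iu])

end Cfsg.Agent.Omega.ML.Ex.NoTv

end

section


/-!
# `z` is not a transvection, from a sheet `SheetX z P R` (helper181)

`K ≤ H`, `SheetX z P R` in `K`, some `K`-conjugate of `z` is in `R - ⟨z⟩`: `|M : C_M(z)| ≠ 2` on every faithful
`H`-module `M` of exponent 2.
-/

set_option autoImplicit false

namespace Cfsg.Agent.Omega.ML.Ex.NoTv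

open Subgroup Cfsg.Agent.OddHalf.D8.Sheet Cfsg.Agent.OddHalf.D8.JTwo.Sheet Cfsg.Agent.ClassTwoFusion.Quad

universe u v

variable {H : Type u} [Group H] {M : Type v} [Group M] [MulDistribMulAction H M]

end Cfsg.Agent.Omega.ML.Ex.NoTv

end
end

-- part: Mrg/Omega/Tools/OddFix
section
prune_inst 0x2040021000001800000000180280000002004800000000040000080c000000000100200410101000000000000000000000000000000000000000000000000000000000a000000000000003180c00000000000000000000000000000000000000000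
set_option linter.all false
open scoped Cfsg.Agent.FastGrp

section


/-!
# Fixed points of a Sylow 2-subgroup: THEOREM ODD (bb OMEGA #20098, helper967)

`odd_fix`: a 2-group `T` normalises `K`, `T ∩ K` is a Sylow 2-subgroup of `K` (odd index), `K` centralises `C_W(T)`.
Then `C_W(T ∩ K) = C_W(K)`. Module form and form for an elementary abelian subgroup of a group.
-/

set_option autoImplicit false
set_option linter.style.haveILetI false

namespace Cfsg.Agent.Omega.Tools.OddFix

open Subgroup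

variable {G : Type*} [Group G] {W : Type*} [AddCommGroup W] [DistribMulAction G W]

/-- the sum of a `K`-orbit -/
theorem smul_orbit_sum [Finite W] (K : Subgroup G) (w : W) [Fintype (MulAction.orbit K w)] (k : G) (hk : k ∈ K) :
    k • (∑ x : MulAction.orbit K w, (x : W)) = ∑ x : MulAction.orbit K w, (x : W) := by
  rw [Finset.smul_sum]
  exact Fintype.sum_equiv (MulAction.toPerm (⟨k, hk⟩ : K)) _ _ (fun x => rfl)

/-- **THEOREM ODD**, one vector: `T ∩ K` fixes `w`, and `[w, T] ≤ C_W(K)`. Then `K` fixes `w`, if `K` centralises `C_W(T)`. -/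
theorem odd_step [Finite W] (h2 : ∀ w : W, w + w = 0) {T K : Subgroup G} (hn : ∀ t ∈ T, ∀ k ∈ K, t * k * t⁻¹ ∈ K)
    (hodd : ¬ 2 ∣ (T ⊓ K).relIndex K) (hfix : ∀ w : W, (∀ t ∈ T, t • w = w) → ∀ k ∈ K, k • w = w) {w : W}
    (hw : ∀ t ∈ T ⊓ K, t • w = w) (hc : ∀ t ∈ T, ∀ k ∈ K, k • (t • w + w) = t • w + w) : ∀ k ∈ K, k • w = w := by
  classical
  haveI : Fintype (MulAction.orbit K w) := Fintype.ofFinite _
  -- the orbit has odd length
  have hcard : ¬ 2 ∣ Fintype.card (MulAction.orbit K w) := by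
    intro h
    apply hodd
    have e : Fintype.card (MulAction.orbit K w) = (MulAction.stabilizer K w).index := by
      rw [← Nat.card_eq_fintype_card]
      exact Nat.card_congr (MulAction.orbitEquivQuotientStabilizer K w)
    have hle : (T ⊓ K).subgroupOf K ≤ MulAction.stabilizer K w := by
      intro x hx
      rw [MulAction.mem_stabilizer_iff]
      exact hw _ (mem_subgroupOf.mp hx)
    rw [e] at h
    exact h.trans (index_dvd_of_le hle)
  obtain ⟨s, hs⟩ : ∃ s : W, s = ∑ x : MulAction.orbit K w, (x : W) := ⟨_, rfl⟩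
  have hKs : ∀ k ∈ K, k • s = s := fun k hk => by rw [hs]; exact smul_orbit_sum K w k hk
  -- `odd • c = c`
  have hoddc : ∀ c : W, Fintype.card (MulAction.orbit K w) • c = c := by
    intro c
    obtain ⟨m, hm⟩ := Nat.not_even_iff_odd.mp (fun h => hcard (even_iff_two_dvd.mp h))
    rw [hm, add_smul, mul_comm, mul_smul, two_smul, h2, smul_zero, zero_add, one_smul]
  have key : ∀ t ∈ T, t • s = s + (t • w + w) := by
    intro t ht
    obtain ⟨c, hcd⟩ : ∃ c, c = t • w + w := ⟨_, rfl⟩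
    have htw : t • w = w + c := by
      rw [hcd, add_comm (t • w) w, ← add_assoc, h2, zero_add]
    have hKc : ∀ k ∈ K, k • c = c := fun k hk => by rw [hcd]; exact hc t ht k hk
    rw [← hcd, hs, Finset.smul_sum]
    -- the permutation `x ↦ t • x - c` of the orbit
    have hmem : ∀ g : G, (∀ k ∈ K, g * k * g⁻¹ ∈ K) → ∀ d : W, g • w = w + d → (∀ k ∈ K, k • d = d) →
        ∀ x ∈ MulAction.orbit K w, g • x + d ∈ MulAction.orbit K w := by
      rintro g hg d hd hKd _ ⟨k, rfl⟩
      refine ⟨⟨g * k * g⁻¹, hg k k.2⟩, ?_⟩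
      change (g * k * g⁻¹) • w = g • ((k : G) • w) + d
      have e1 : g⁻¹ • d = g⁻¹ • w + w := by
        have : g⁻¹ • (g • w) = g⁻¹ • w + g⁻¹ • d := by rw [hd, smul_add]
        rw [inv_smul_smul] at this
        calc g⁻¹ • d = (g⁻¹ • w + g⁻¹ • w) + g⁻¹ • d := by rw [h2, zero_add]
          _ = g⁻¹ • w + w := by rw [add_assoc, ← this]
      have e2 : g⁻¹ • w = w + g⁻¹ • d := by
        rw [e1, add_comm (g⁻¹ • w) w, ← add_assoc, h2, zero_add]
      have e3 : (k : G) • (g⁻¹ • d) = g⁻¹ • d := by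
        have h5 := hKd (g * k * g⁻¹) (hg k k.2)
        have h6 := congrArg (fun z => g⁻¹ • z) h5
        simp only [mul_smul, inv_smul_smul] at h6
        exact h6
      rw [mul_smul, mul_smul, e2, smul_add, smul_add, e3, smul_inv_smul]
    have e : ∑ x : MulAction.orbit K w, (t • (x : W) + c) = ∑ x : MulAction.orbit K w, (x : W) := by
      have hinj : Function.Injective (fun x : MulAction.orbit K w =>
          (⟨t • (x : W) + c, hmem t (hn t ht) c htw hKc x x.2⟩ : MulAction.orbit K w)) := by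
        intro x x' h
        have h1 : t • (x : W) + c = t • (x' : W) + c := congrArg Subtype.val h
        exact Subtype.ext (MulAction.injective t (add_right_cancel h1))
      have hbij := Finite.injective_iff_bijective.mp hinj
      exact Fintype.sum_bijective _ hbij _ _ (fun x => rfl)
    rw [Finset.sum_add_distrib, Finset.sum_const, Finset.card_univ, hoddc] at e
    calc ∑ x : MulAction.orbit K w, t • (x : W) = (∑ x : MulAction.orbit K w, t • (x : W)) + (c + c) := by
          rw [h2, add_zero]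
      _ = (∑ x : MulAction.orbit K w, (x : W)) + c := by rw [← add_assoc, e]
  -- `w + s` is fixed by `T`
  have hws : ∀ t ∈ T, t • (w + s) = w + s := by
    intro t ht
    rw [smul_add, key t ht]
    calc t • w + (s + (t • w + w)) = (t • w + t • w) + (w + s) := by abel
      _ = w + s := by rw [h2, zero_add]
  intro k hk
  have h1 := hfix _ hws k hk
  rw [smul_add, hKs k hk] at h1
  exact add_right_cancel h1

/-- **THEOREM ODD.** `C_W(T ∩ K) = C_W(K)`. -/
theorem odd_fix [Finite W] (h2 : ∀ w : W, w + w = 0) {T K : Subgroup G} (hT : IsPGroup 2 T)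
    (hn : ∀ t ∈ T, ∀ k ∈ K, t * k * t⁻¹ ∈ K) (hodd : ¬ 2 ∣ (T ⊓ K).relIndex K)
    (hfix : ∀ w : W, (∀ t ∈ T, t • w = w) → ∀ k ∈ K, k • w = w) :
    ∀ w : W, (∀ t ∈ T ⊓ K, t • w = w) → ∀ k ∈ K, k • w = w := by
  classical
  -- the two submodules
  let C : AddSubgroup W :=
    { carrier := {w | ∀ k ∈ K, k • w = w}
      zero_mem' := fun k _ => smul_zero k
      add_mem' := fun {a b} ha hb k hk => by rw [smul_add, ha k hk, hb k hk]
      neg_mem' := fun {a} ha k hk => by rw [smul_neg, ha k hk] }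
  let D : AddSubgroup W :=
    { carrier := {w | ∀ t ∈ T ⊓ K, t • w = w}
      zero_mem' := fun k _ => smul_zero k
      add_mem' := fun {a b} ha hb k hk => by rw [smul_add, ha k hk, hb k hk]
      neg_mem' := fun {a} ha k hk => by rw [smul_neg, ha k hk] }
  have hinv : ∀ t ∈ T, ∀ k ∈ K, t⁻¹ * k * t ∈ K := by
    intro t ht k hk
    have := hn t⁻¹ (T.inv_mem ht) k hk
    rwa [inv_inv] at this
  have hCT : ∀ t ∈ T, ∀ w ∈ C, t • w ∈ C := by
    intro t ht w hw k hk
    have h1 := hw _ (hinv t ht k hk)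
    have h2' := congrArg (fun z => t • z) h1
    simp only [mul_smul, smul_inv_smul] at h2'
    exact h2'
  have hDT : ∀ t ∈ T, ∀ w ∈ D, t • w ∈ D := by
    intro t ht w hw k hk
    have hm : t⁻¹ * k * t ∈ T ⊓ K := ⟨T.mul_mem (T.mul_mem (T.inv_mem ht) hk.1) ht, hinv t ht k hk.2⟩
    have h1 := hw _ hm
    have h2' := congrArg (fun z => t • z) h1
    simp only [mul_smul, smul_inv_smul] at h2'
    exact h2'
  by_contra hcon
  push Not at hcon
  obtain ⟨w0, hw0, k0, hk0, hne⟩ := hcon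
  -- `T` acts on `(D + C) / C`, a nontrivial 2-group
  have hCD : C ≤ D := fun w hw t ht => hw t ht.2
  -- the submodule `D` as a type, `C` inside
  let CD : AddSubgroup D := C.addSubgroupOf D
  letI : MulAction T (D ⧸ CD) :=
    { smul := fun t q => QuotientAddGroup.map CD CD
        { toFun := fun w => ⟨(t : G) • (w : W), hDT t t.2 w w.2⟩
          map_zero' := Subtype.ext (smul_zero _)
          map_add' := fun a b => Subtype.ext (smul_add _ _ _) }
        (fun w hw => hCT t t.2 w hw) q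
      one_smul := by
        intro q
        obtain ⟨w, rfl⟩ := QuotientAddGroup.mk_surjective q
        change ((⟨(1 : G) • (w : W), _⟩ : D) : D ⧸ CD) = w
        congr 1
        exact Subtype.ext (one_smul _ _)
      mul_smul := by
        intro t t' q
        obtain ⟨w, rfl⟩ := QuotientAddGroup.mk_surjective q
        change ((⟨((t : G) * t') • (w : W), _⟩ : D) : D ⧸ CD) = ((⟨(t : G) • ((t' : G) • (w : W)), _⟩ : D) : D ⧸ CD)
        congr 1
        exact Subtype.ext (mul_smul _ _ _) }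
  have hsmul : ∀ (t : T) (w : D), t • (w : D ⧸ CD) = ((⟨(t : G) • (w : W), hDT t t.2 w w.2⟩ : D) : D ⧸ CD) :=
    fun t w => rfl
  have hq0 : ((⟨w0, hw0⟩ : D) : D ⧸ CD) ≠ 0 := by
    intro h
    have h1 : (⟨w0, hw0⟩ : D) ∈ CD := (QuotientAddGroup.eq_zero_iff _).mp h
    exact hne (h1 k0 hk0)
  have hcardq : 2 ∣ Nat.card (D ⧸ CD) := by
    -- every element has order dividing 2
    have ho : addOrderOf (((⟨w0, hw0⟩ : D) : D ⧸ CD)) = 2 := by
      have h3 : Fact (Nat.Prime 2) := ⟨Nat.prime_two⟩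
      apply addOrderOf_eq_prime _ hq0
      rw [two_smul, ← QuotientAddGroup.mk_add]
      rw [QuotientAddGroup.eq_zero_iff]
      have : (⟨w0, hw0⟩ : D) + ⟨w0, hw0⟩ = 0 := Subtype.ext (h2 w0)
      rw [this]
      exact CD.zero_mem
    rw [← ho]
    exact addOrderOf_dvd_natCard _
  haveI : Fact (Nat.Prime 2) := ⟨Nat.prime_two⟩
  have hz : (0 : D ⧸ CD) ∈ MulAction.fixedPoints T (D ⧸ CD) := by
    intro t
    have h1 := hsmul t 0
    rw [QuotientAddGroup.mk_zero] at h1
    rw [h1]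
    have : (⟨(t : G) • ((0 : D) : W), hDT t t.2 _ (0 : D).2⟩ : D) = 0 := Subtype.ext (smul_zero _)
    rw [this, QuotientAddGroup.mk_zero]
  obtain ⟨q, hq, hq1⟩ := hT.exists_fixed_point_of_prime_dvd_card_of_fixed_point (D ⧸ CD) hcardq hz
  obtain ⟨w, rfl⟩ := QuotientAddGroup.mk_surjective q
  have hwD := w.2
  have hmem : ∀ t ∈ T, t • (w : W) + w ∈ C := by
    intro t ht
    have h1 := hq ⟨t, ht⟩
    rw [hsmul] at h1
    have h3 := (QuotientAddGroup.eq.mp h1 : -(⟨t • (w : W), hDT t ht w w.2⟩ : D) + w ∈ CD)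
    have h4 : -(t • (w : W)) + (w : W) ∈ C := h3
    have h5 : -(t • (w : W)) = t • (w : W) := neg_eq_of_add_eq_zero_left (h2 _)
    rwa [h5] at h4
  have h6 := odd_step h2 hn hodd hfix (w := (w : W)) hwD (fun t ht => hmem t ht)
  apply hq1
  have h7 : w ∈ CD := h6
  exact ((QuotientAddGroup.eq_zero_iff w).mpr h7).symm

end Cfsg.Agent.Omega.Tools.OddFix

end

section


/-!
# The W-part of the exact rows (T10 of the K-list "exact + low"; helper844)

`X = K T` acts on `M` (the irreducible module of `Ex X M K T A`) and on a 2-group `W` of exponent 2 with `W / C_W(K) = M` and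
`C_W(T) ≤ C_W(K)` (#21287 (6), #21163 (4)).

* `WPart K T p` : this situation, `p : W → M`;
* `WPart.gl` : `C_W(T ∩ L) = C_W(L)` for `T`-invariant `L ≤ K` with `T ∩ L` Sylow in `L`;
* `WPart.moved` : `T ∩ K` moves every lift of a nontrivial `m ∈ C_M(T ∩ K)`;
* `WPart.chi w` : the homomorphism `C_K(p w) → ker p`, `k ↦ (k w) w⁻¹`; `chi_eq`: it depends on `p w` only;
  `chi_ne`: it is nontrivial on `T ∩ K` if `T ∩ K` fixes `p w ≠ 1`; `chi_fix` : if `χ(T ∩ L) = 1` then `L` fixes `w`;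
* `WPart.exists_index` : the stabiliser in `K` of `m` has a subgroup of index 2 which does not contain `T ∩ K`.
-/

set_option autoImplicit false
set_option linter.style.haveILetI false

namespace Cfsg.Agent.Omega.ML.Ex

open Subgroup

section act

variable {X : Type*} [Group X] {W : Type*} [CommGroup W] [MulDistribMulAction X W]

/-- the action on `W` written additively -/
@[reducible] def addAct : DistribMulAction X (Additive W) where
  smul x w := Additive.ofMul (x • w.toMul)
  one_smul w := by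
    change Additive.ofMul ((1 : X) • w.toMul) = w
    rw [one_smul]; rfl
  mul_smul x y w := by
    change Additive.ofMul ((x * y) • w.toMul) = Additive.ofMul (x • (y • w.toMul))
    rw [mul_smul]
  smul_zero x := by
    change Additive.ofMul (x • (1 : W)) = 0
    rw [smul_one]; rfl
  smul_add x v w := by
    change Additive.ofMul (x • (v.toMul * w.toMul)) = Additive.ofMul (x • v.toMul) + Additive.ofMul (x • w.toMul)
    rw [smul_mul']; rfl

/-- `Tools.OddFix.odd_fix`, multiplicative form -/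
theorem odd_fix_mul [Finite W] (sq : ∀ w : W, w * w = 1) {T L : Subgroup X} (hT : IsPGroup 2 T)
    (hn : ∀ t ∈ T, ∀ k ∈ L, t * k * t⁻¹ ∈ L) (hodd : ¬ 2 ∣ (T ⊓ L).relIndex L)
    (hfix : ∀ w : W, (∀ t ∈ T, t • w = w) → ∀ k ∈ L, k • w = w) {w : W} (hw : ∀ t ∈ T ⊓ L, t • w = w) :
    ∀ k ∈ L, k • w = w := by
  letI : DistribMulAction X (Additive W) := addAct
  haveI : Finite (Additive W) := ‹Finite W›
  exact Tools.OddFix.odd_fix (W := Additive W) (fun w => sq w.toMul) hT hn hodd (fun w h => hfix w.toMul h)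
    (Additive.ofMul w) hw

end act

variable {X : Type*} [Group X] {M : Type*} [Group M] [MulDistribMulAction X M] {W : Type*} [CommGroup W]
  [MulDistribMulAction X W]

/-- The W-part: `W / C_W(K) = M`, `C_W(T) ≤ C_W(K)`. -/
structure WPart (K T : Subgroup X) (p : W →* M) : Prop where
  sq : ∀ w : W, w * w = 1
  eqv : ∀ (x : X) (w : W), p (x • w) = x • p w
  surj : Function.Surjective p
  ker : ∀ w : W, p w = 1 ↔ ∀ k ∈ K, k • w = w
  fixT : ∀ w : W, (∀ t ∈ T, t • w = w) → ∀ k ∈ K, k • w = w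

namespace WPart

variable {K T : Subgroup X} {p : W →* M}

/-- **GL\*.** -/
theorem gl [Finite W] (h : WPart K T p) (hT : IsPGroup 2 T) {L : Subgroup X} (hLK : L ≤ K)
    (hn : ∀ t ∈ T, ∀ k ∈ L, t * k * t⁻¹ ∈ L) (hodd : ¬ 2 ∣ (T ⊓ L).relIndex L) {w : W}
    (hw : ∀ t ∈ T ⊓ L, t • w = w) : ∀ k ∈ L, k • w = w :=
  odd_fix_mul h.sq hT hn hodd (fun w h1 k hk => h.fixT w h1 k (hLK hk)) hw

/-- A vector fixed by `T ∩ K` lies in the kernel. -/
theorem eq_one_of_fixed [Finite W] (h : WPart K T p) (hT : IsPGroup 2 T) (hK : K.Normal)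
    (hodd : ¬ 2 ∣ (T ⊓ K).relIndex K) {w : W} (hw : ∀ t ∈ T ⊓ K, t • w = w) : p w = 1 :=
  (h.ker w).2 (h.gl hT le_rfl (fun t _ k hk => hK.conj_mem k hk t) hodd hw)

/-- **`T ∩ K` moves all lifts.** -/
theorem moved [Finite W] (h : WPart K T p) (hT : IsPGroup 2 T) (hK : K.Normal)
    (hodd : ¬ 2 ∣ (T ⊓ K).relIndex K) {w : W} (hw : p w ≠ 1) : ∃ s ∈ T ⊓ K, s • w ≠ w := by
  by_contra hcon
  push Not at hcon
  exact hw (h.eq_one_of_fixed hT hK hodd hcon)

theorem mem_ker_of (h : WPart K T p) {w : W} {x : X} (hx : x • p w = p w) : (x • w) * w⁻¹ ∈ p.ker := by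
  rw [MonoidHom.mem_ker, map_mul, h.eqv, hx, map_inv, mul_inv_cancel]

/-- `K` is trivial on the kernel. -/
theorem smul_ker (h : WPart K T p) {k : X} (hk : k ∈ K) {z : W} (hz : z ∈ p.ker) : k • z = z :=
  (h.ker z).1 hz k hk

/-- the stabiliser of `p w` in `K` -/
def st (K : Subgroup X) (m : M) : Subgroup X := K ⊓ MulAction.stabilizer X m

/-- **the homomorphism `χ`** -/
def chi (h : WPart K T p) (w : W) : (st K (p w) : Subgroup X) →* p.ker where
  toFun x := ⟨((x : X) • w) * w⁻¹, h.mem_ker_of x.2.2⟩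
  map_one' := Subtype.ext (by
    show (((1 : (st K (p w) : Subgroup X)) : X) • w) * w⁻¹ = 1
    rw [OneMemClass.coe_one, one_smul, mul_inv_cancel])
  map_mul' x y := Subtype.ext (by
    show (((x * y : (st K (p w) : Subgroup X)) : X) • w) * w⁻¹ = (((x : X) • w) * w⁻¹) * (((y : X) • w) * w⁻¹)
    have h1 : (x : X) • (((y : X) • w) * w⁻¹) = ((y : X) • w) * w⁻¹ := h.smul_ker x.2.1 (h.mem_ker_of y.2.2)
    have h2 : (x : X) • ((y : X) • w) = (((y : X) • w) * w⁻¹) * ((x : X) • w) := by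
      conv_lhs => rw [show (y : X) • w = (((y : X) • w) * w⁻¹) * w from by group]
      rw [smul_mul', h1]
    rw [Subgroup.coe_mul, mul_smul, h2]
    rw [mul_assoc, mul_comm])

theorem chi_apply (h : WPart K T p) (w : W) (x : (st K (p w) : Subgroup X)) :
    ((h.chi w x : p.ker) : W) = ((x : X) • w) * w⁻¹ := rfl

/-- `(x w) w⁻¹` depends on `p w` only. -/
theorem chi_eq (h : WPart K T p) {w w' : W} (hw : p w = p w') {x : X} (hx : x ∈ K) :
    (x • w) * w⁻¹ = (x • w') * w'⁻¹ := by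
  have h1 : w * w'⁻¹ ∈ p.ker := by rw [MonoidHom.mem_ker, map_mul, map_inv, hw, mul_inv_cancel]
  have h2 := h.smul_ker hx h1
  rw [smul_mul', smul_inv'] at h2
  calc (x • w) * w⁻¹ = ((x • w) * (x • w')⁻¹) * ((x • w') * w⁻¹) := by group
    _ = (w * w'⁻¹) * ((x • w') * w⁻¹) := by rw [h2]
    _ = (x • w') * w'⁻¹ := by
      rw [mul_comm (w * w'⁻¹), mul_assoc, ← mul_assoc w⁻¹ w, inv_mul_cancel, one_mul]

/-- If `L ≤ K` fixes `p w`, then `[L, L]` fixes `w`. -/
theorem commutator_fix (h : WPart K T p) {L : Subgroup X} (hLK : L ≤ K) {w : W} (hL : ∀ k ∈ L, k • p w = p w) :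
    ∀ k ∈ ⁅L, L⁆, k • w = w := by
  intro k hk
  have h1 : ⁅L, L⁆ ≤ MulAction.stabilizer X w := by
    rw [commutator_le]
    intro a ha b hb
    have ha' : a ∈ st K (p w) := ⟨hLK ha, hL a ha⟩
    have hb' : b ∈ st K (p w) := ⟨hLK hb, hL b hb⟩
    let a' : (st K (p w) : Subgroup X) := ⟨a, ha'⟩
    let b' : (st K (p w) : Subgroup X) := ⟨b, hb'⟩
    have h2 : h.chi w (a' * b' * a'⁻¹ * b'⁻¹) = 1 := by
      rw [map_mul, map_mul, map_mul, map_inv, map_inv]
      refine Subtype.ext ?_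
      show ((h.chi w a' : p.ker) : W) * (h.chi w b' : p.ker) * ((h.chi w a' : p.ker) : W)⁻¹ *
        ((h.chi w b' : p.ker) : W)⁻¹ = 1
      rw [mul_comm ((h.chi w a' : p.ker) : W), mul_assoc ((h.chi w b' : p.ker) : W), mul_inv_cancel, mul_one,
        mul_inv_cancel]
    have h3 := congrArg (Subtype.val) h2
    rw [chi_apply] at h3
    exact mul_inv_eq_one.1 h3
  exact h1 hk

end WPart

end Cfsg.Agent.Omega.ML.Ex

end

section


/-!
# Lifting facts for the W-part (OMEGA, (6''), #21921; helper115)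

`p : W → M` as in `WPart K T p` (`K` trivial on `ker p`).  `FL p l` is the image in `M` of `C_W(l)`.

* `mem_FL` : for `l ∈ K` : `p w ∈ FL p l ↔ l • w = w`;
* **`inv_mem`** (INV) : `t² = 1` : `[M, t] ≤ FL p t`;
* **`opp_mem`** (OPP) : `l m = m`, `l a = a l` : `[m, a] ∈ FL p l`; (KAP) is the same: `[C_M(l), C_X(l)] ≤ FL p l`;
* **`norm_fix`** (NORM) : the norm over `T₀` of a vector is fixed by `T₀`;
* `FLs p L` : the `m` with a lift fixed by `L`; for `L ≤ K` : `p w ∈ FLs p L ↔ ∀ l ∈ L, l • w = w`; `FLs_sup`;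
* `FLs.comm` : if `L ≤ K` fixes `m` then `m ∈ FLs p ⁅L, L⁆`.
-/

set_option autoImplicit false
set_option linter.unusedSectionVars false

namespace Cfsg.Agent.Omega.FOne.Lift

open Subgroup Cfsg.Agent.Omega.ML.Ex

variable {X : Type*} [Group X] {M : Type*} [Group M] [MulDistribMulAction X M] {W : Type*} [CommGroup W]
  [MulDistribMulAction X W] {K T : Subgroup X} {p : W →* M}

/-- the fixed points of `L` on `W` -/
def cW (W : Type*) [CommGroup W] [MulDistribMulAction X W] (L : Subgroup X) : Subgroup W where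
  carrier := {w | ∀ l ∈ L, l • w = w}
  one_mem' := fun l _ => smul_one l
  mul_mem' := fun {a b} ha hb l hl => by rw [smul_mul', ha l hl, hb l hl]
  inv_mem' := fun {a} ha l hl => by rw [smul_inv', ha l hl]

/-- the `m ∈ M` with a lift fixed by `L` -/
def FLs (p : W →* M) (L : Subgroup X) : Subgroup M := (cW W L).map p

/-- the `m ∈ M` with a lift fixed by `l` -/
def FL (p : W →* M) (l : X) : Subgroup M := FLs p (zpowers l)

theorem mem_cW_zpowers {l : X} {w : W} : w ∈ cW W (zpowers l) ↔ l • w = w := by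
  constructor
  · intro h
    exact h l (mem_zpowers l)
  · intro h x hx
    have h1 : zpowers l ≤ MulAction.stabilizer X w := by
      rw [zpowers_le]; exact h
    exact h1 hx

theorem mem_FLs_of {L : Subgroup X} {w : W} (hw : ∀ l ∈ L, l • w = w) : p w ∈ FLs p L := ⟨w, hw, rfl⟩

theorem mem_FL_of {l : X} {w : W} (hw : l • w = w) : p w ∈ FL p l := ⟨w, mem_cW_zpowers.2 hw, rfl⟩

theorem FLs_anti {L L' : Subgroup X} (h : L ≤ L') : FLs p L' ≤ FLs p L :=
  Subgroup.map_mono fun _ hw l hl => hw l (h hl)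

section

variable (h : WPart K T p)
include h

/-- **(INV)** an involution `t ∈ K` fixes the lifts of the vectors of `[M, t]` -/
theorem inv_mem {t : X} (h2 : t * t = 1) (m : M) : (t • m) * m⁻¹ ∈ FL p t := by
  obtain ⟨v, rfl⟩ := h.surj m
  rw [← h.eqv, ← map_inv, ← map_mul]
  refine mem_FL_of ?_
  have e : ∀ w : W, w⁻¹ = w := fun w => inv_eq_of_mul_eq_one_left (h.sq w)
  rw [smul_mul', ← mul_smul, h2, one_smul, smul_inv', e, e, mul_comm]

/-- perfect subgroups: if `L ≤ K` fixes `m` then `⁅L, L⁆` fixes its lifts -/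
theorem comm_mem {L : Subgroup X} (hL : L ≤ K) {m : M} (hm : ∀ l ∈ L, l • m = m) : m ∈ FLs p ⁅L, L⁆ := by
  obtain ⟨w, rfl⟩ := h.surj m
  exact mem_FLs_of (h.commutator_fix hL hm)

/-- **the contradiction** -/
theorem false_of_mem [Finite W] (hT : IsPGroup 2 T) (hK : K.Normal) (hodd : ¬ 2 ∣ (T ⊓ K).relIndex K) {m : M}
    (hm : m ∈ FLs p (T ⊓ K)) (h1 : m ≠ 1) : False := by
  obtain ⟨w, hw, rfl⟩ := hm
  exact h1 (h.eq_one_of_fixed hT hK hodd hw)

end

end Cfsg.Agent.Omega.FOne.Lift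

end

section


/-!
# The panel fact for the W-part (OMEGA, (6''), #23144; helper115)

`p : W → M` as in `WPart K T p`, `w : W`, elements of `K` fixing `p w`:

* `comm_fix` : `⁅a, b⁆` fixes `w`;
* `conj_fix` : `a w = w` implies `(g a g⁻¹) w = w`;
* **`panel_fix`** : `x` commutes with `g`, `g'` and `p w * g (p w) * g' (p w) = 1` : `x w = w`.
-/

set_option autoImplicit false
set_option linter.unusedSectionVars false

namespace Cfsg.Agent.Omega.FOne.Lift

open Subgroup Cfsg.Agent.Omega.ML.Ex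

variable {X : Type*} [Group X] {M : Type*} [Group M] [MulDistribMulAction X M] {W : Type*} [CommGroup W]
  [MulDistribMulAction X W] {K T : Subgroup X} {p : W →* M}

section

variable (h : WPart K T p)
include h

/-- the defect of an element fixing `p w` -/
theorem exists_def {x : X} {w : W} (hw : x • p w = p w) : ∃ c : W, p c = 1 ∧ x • w = c * w :=
  ⟨(x • w) * w⁻¹, by rw [map_mul, map_inv, h.eqv, hw, mul_inv_cancel], by group⟩

theorem smul_c {x : X} (hx : x ∈ K) {c : W} (hc : p c = 1) : x • c = c := (h.ker c).1 hc x hx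

theorem smul_cm {x : X} (hx : x ∈ K) {c : W} (hc : p c = 1) (v : W) : x • (c * v) = c * (x • v) := by
  rw [smul_mul', smul_c h hx hc]

theorem inv_fix' {x : X} {m : M} (hm : x • m = m) : x⁻¹ • m = m := by
  rw [inv_smul_eq_iff, hm]

/-- conjugates -/
theorem conj_fix {g a : X} (hg : g ∈ K) (ha : a ∈ K) {w : W} (hgw : g • p w = p w) (haw : a • w = w) :
    (g * a * g⁻¹) • w = w := by
  obtain ⟨c, hc, e⟩ := exists_def h (inv_fix' h hgw)
  rw [mul_smul, mul_smul, e, smul_mul', smul_c h ha hc, haw, smul_mul', smul_c h hg hc]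
  have h1 : g • w = c * w := by
    have h2 : w = g • (c * w) := by rw [← e, smul_inv_smul]
    rw [smul_mul', smul_c h hg hc] at h2
    have h3 : g • w = c⁻¹ * w := by
      rw [eq_inv_mul_iff_mul_eq, ← h2]
    rw [h3, inv_eq_of_mul_eq_one_left (h.sq c)]
  rw [h1, ← mul_assoc, h.sq, one_mul]

/-- commutators -/
theorem comm_fix {a b : X} (ha : a ∈ K) (hb : b ∈ K) {w : W} (haw : a • p w = p w) (hbw : b • p w = p w) :
    (a * b * a⁻¹ * b⁻¹) • w = w := by
  obtain ⟨c, hc, e⟩ := exists_def h (inv_fix' h haw)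
  obtain ⟨d, hd, f⟩ := exists_def h (inv_fix' h hbw)
  have ea : a • w = c * w := by
    have h2 : w = a • (c * w) := by rw [← e, smul_inv_smul]
    rw [smul_mul', smul_c h ha hc] at h2
    have h3 : a • w = c⁻¹ * w := by
      rw [eq_inv_mul_iff_mul_eq, ← h2]
    rw [h3, inv_eq_of_mul_eq_one_left (h.sq c)]
  have fb : b • w = d * w := by
    have h2 : w = b • (d * w) := by rw [← f, smul_inv_smul]
    rw [smul_mul', smul_c h hb hd] at h2
    have h3 : b • w = d⁻¹ * w := by
      rw [eq_inv_mul_iff_mul_eq, ← h2]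
    rw [h3, inv_eq_of_mul_eq_one_left (h.sq d)]
  rw [mul_smul, mul_smul, mul_smul, f, smul_cm h (K.inv_mem ha) hd, e, smul_cm h hb hd, smul_cm h hb hc, fb,
    smul_cm h ha hd, smul_cm h ha hc, smul_cm h ha hd, ea]
  calc d * (c * (d * (c * w))) = (d * d) * ((c * c) * w) := by
        rw [mul_assoc d d, mul_assoc c c, ← mul_assoc c d, mul_comm c d, mul_assoc d c]
    _ = w := by rw [h.sq, h.sq, one_mul, one_mul]

/-- **The panel fact.** -/
theorem panel_fix {x g g' : X} (hx : x ∈ K) (hg : g ∈ K) (hg' : g' ∈ K) (hxg : x * g = g * x)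
    (hxg' : x * g' = g' * x) {w : W} (hxw : x • p w = p w) (hs : p w * (g • p w) * (g' • p w) = 1) :
    x • w = w := by
  obtain ⟨c, hc, e⟩ := exists_def h hxw
  have h1 : p (w * (g • w) * (g' • w)) = 1 := by rw [map_mul, map_mul, h.eqv, h.eqv, hs]
  have h2 := smul_c h hx h1
  have h3 : ∀ y : X, y ∈ K → x * y = y * x → x • (y • w) = c * (y • w) := by
    intro y hy hxy
    rw [← mul_smul, hxy, mul_smul, e, smul_mul', smul_c h hy hc]
  rw [smul_mul', smul_mul', e, h3 g hg hxg, h3 g' hg' hxg'] at h2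
  have h4 : c * w * (c * g • w) * (c * g' • w) = (c * c) * (c * (w * g • w * g' • w)) := by
    calc c * w * (c * g • w) * (c * g' • w) = (c * w) * (c * (g • w)) * (c * (g' • w)) := rfl
      _ = (c * c) * (c * (w * g • w * g' • w)) := by
        rw [mul_mul_mul_comm c w c (g • w), mul_mul_mul_comm (c * c) (w * g • w) c (g' • w), mul_assoc (c * c) c]
  rw [h4, h.sq, one_mul] at h2
  have h5 : c = 1 := mul_eq_right.1 h2
  rw [e, h5, one_mul]

end

end Cfsg.Agent.Omega.FOne.Lift

end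

section


/-!
# The W-part of the exact rows: passage to one component (T10; helper844)

`X` acts on `W` (exponent 2) and on `M = W / ker p`, `ker p` central, `C_W(T) ≤ ker p`; `K = E F` normal in `X`,
`[E, F] = 1 = E ∩ F`, `F` perfect, `F` trivial on `N ≤ M`, `N = [N, E]`; `E ≤ Y` normalises `E` and `N`; `a : Y → X₁` and
`q : N → M₁` are onto and compatible, `ker q = C_N(E)`, `X₁` is faithful on `M₁` (#21232 (8), #21287 (6), #21163 (4)).

* `Dat` : these data;  `F_fix` : `F` is trivial on `W₁ = p⁻¹(N)`;  `fix_of` : an element of `W₁` fixed by `T ∩ E` is fixed by `E`;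
* `ker_fix` : the kernel of `a` is trivial on `W₁`;  `phi : X₁ → Aut(W₁)`;
* **`Dat.wpart`** : `WPart K₁ T₁ (q ∘ p)` for `K₁ = a(E)`, `T₁ = a(T ∩ Y)`.
-/

set_option autoImplicit false
set_option linter.style.haveILetI false

namespace Cfsg.Agent.Omega.ML.Ex.WSec

open Subgroup Cfsg.Agent.Omega.ML.Ex

variable {X : Type*} [Group X] {M : Type*} [CommGroup M] [MulDistribMulAction X M] {W : Type*} [CommGroup W]
  [MulDistribMulAction X W] {X₁ : Type*} [Group X₁] {M₁ : Type*} [Group M₁] [MulDistribMulAction X₁ M₁]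

/-- The data. -/
structure Dat (p : W →* M) (T K E F Y : Subgroup X) (N : Subgroup M) (a : Y →* X₁) (q : N →* M₁) : Prop where
  sq : ∀ w : W, w * w = 1
  eqv : ∀ (x : X) (w : W), p (x • w) = x • p w
  surj : Function.Surjective p
  ker : ∀ w : W, p w = 1 → ∀ x : X, x • w = w
  fixT : ∀ w : W, (∀ t ∈ T, t • w = w) → p w = 1
  two : IsPGroup 2 T
  Kn : K.Normal
  sylK : ¬ 2 ∣ (T ⊓ K).relIndex K
  sylE : ¬ 2 ∣ (T ⊓ E).relIndex E
  EK : E ≤ K
  KEF : ∀ k ∈ K, ∃ e ∈ E, ∃ f ∈ F, k = e * f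
  cEF : ∀ e ∈ E, ∀ f ∈ F, e * f = f * e
  iEF : ∀ e ∈ E, e ∈ F → e = 1
  pE : ⁅E, E⁆ = E
  pF : ⁅F, F⁆ = F
  FN : ∀ f ∈ F, ∀ n ∈ N, f • n = n
  NE : N ≤ closure {m | ∃ e ∈ E, ∃ n ∈ N, m = (e • n) * n⁻¹}
  EY : E ≤ Y
  YE : ∀ y ∈ Y, ∀ e ∈ E, y * e * y⁻¹ ∈ E
  YN : ∀ y ∈ Y, ∀ n ∈ N, y • n ∈ N
  asurj : Function.Surjective a
  qsurj : Function.Surjective q
  aq : ∀ (y : Y) (n : N), q ⟨(y : X) • (n : M), YN y y.2 n n.2⟩ = a y • q n
  qker : ∀ n : N, q n = 1 ↔ ∀ e ∈ E, e • (n : M) = n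
  inj : ∀ (e : X) (he : e ∈ E), a ⟨e, EY he⟩ = 1 → e = 1
  faith : ∀ x : X₁, (∀ m : M₁, x • m = m) → x = 1

/-- A perfect group trivial on `p w` fixes `w`. -/
theorem fix_of_perfect {p : W →* M} (eqv : ∀ (x : X) (w : W), p (x • w) = x • p w)
    (ker : ∀ w : W, p w = 1 → ∀ x : X, x • w = w) {L : Subgroup X} (hL : ⁅L, L⁆ = L) {w : W}
    (h : ∀ x ∈ L, x • p w = p w) : ∀ x ∈ L, x • w = w := by
  have hk : ∀ x ∈ L, ∀ z : X, z • ((x • w) * w⁻¹) = (x • w) * w⁻¹ := by
    intro x hx z
    apply ker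
    rw [map_mul, eqv, h x hx, map_inv, mul_inv_cancel]
  have h1 : ⁅L, L⁆ ≤ MulAction.stabilizer X w := by
    rw [commutator_le]
    intro x hx y hy
    -- `x w = w c`, `y w = w d`
    obtain ⟨c, hc⟩ : ∃ c, c = (x • w) * w⁻¹ := ⟨_, rfl⟩
    obtain ⟨d, hd⟩ : ∃ d, d = (y • w) * w⁻¹ := ⟨_, rfl⟩
    have hcz : ∀ z : X, z • c = c := fun z => by rw [hc]; exact hk x hx z
    have hdz : ∀ z : X, z • d = d := fun z => by rw [hd]; exact hk y hy z
    have e1 : x • w = c * w := by rw [hc]; group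
    have e2 : y • w = d * w := by rw [hd]; group
    have hci : ∀ z : X, z • c⁻¹ = c⁻¹ := fun z => by rw [smul_inv', hcz]
    have hdi : ∀ z : X, z • d⁻¹ = d⁻¹ := fun z => by rw [smul_inv', hdz]
    have e3 : x⁻¹ • w = c⁻¹ * w := by
      rw [inv_smul_eq_iff, smul_mul', hci, e1]
      group
    have e4 : y⁻¹ • w = d⁻¹ * w := by
      rw [inv_smul_eq_iff, smul_mul', hdi, e2]
      group
    rw [MulAction.mem_stabilizer_iff, commutatorElement_def, mul_smul, mul_smul, mul_smul]
    simp only [e4, e3, e2, e1, smul_mul', hci, hdi, hdz]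
    rw [mul_left_comm c⁻¹ d, inv_mul_cancel_left, inv_mul_cancel_left]
  rw [hL] at h1
  exact fun x hx => h1 hx

namespace Dat

variable {p : W →* M} {T K E F Y : Subgroup X} {N : Subgroup M} {a : Y →* X₁} {q : N →* M₁}

/-- `F` is trivial on `W₁`. -/
theorem F_fix (h : Dat p T K E F Y N a q) {w : W} (hw : p w ∈ N) : ∀ f ∈ F, f • w = w :=
  fix_of_perfect h.eqv h.ker h.pF fun f hf => h.FN f hf _ hw

/-- `E` fixes `w` if it fixes `p w`. -/
theorem E_fix (h : Dat p T K E F Y N a q) {w : W} (hw : ∀ e ∈ E, e • p w = p w) : ∀ e ∈ E, e • w = w :=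
  fix_of_perfect h.eqv h.ker h.pE hw

/-- the projection of `T ∩ K` to `E` -/
def pr (h : Dat p T K E F Y N a q) : Subgroup X where
  carrier := {e | e ∈ E ∧ ∃ f ∈ F, e * f ∈ T}
  one_mem' := ⟨one_mem _, 1, one_mem _, by rw [mul_one]; exact one_mem _⟩
  mul_mem' := by
    rintro e e' ⟨he, f, hf, h1⟩ ⟨he', f', hf', h2⟩
    refine ⟨mul_mem he he', f * f', mul_mem hf hf', ?_⟩
    have h3 : e * e' * (f * f') = (e * f) * (e' * f') := by
      calc e * e' * (f * f') = e * (e' * f) * f' := by group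
        _ = e * (f * e') * f' := by rw [h.cEF e' he' f hf]
        _ = _ := by group
    rw [h3]
    exact mul_mem h1 h2
  inv_mem' := by
    rintro e ⟨he, f, hf, h1⟩
    refine ⟨inv_mem he, f⁻¹, inv_mem hf, ?_⟩
    have h3 : e⁻¹ * f⁻¹ = (e * f)⁻¹ := by
      rw [h.cEF e he f hf, mul_inv_rev]
    rw [h3]
    exact inv_mem h1

/-- it is `T ∩ E` -/
theorem pr_le [Finite X] (h : Dat p T K E F Y N a q) : h.pr ≤ T ⊓ E := by
  have hp : IsPGroup 2 h.pr := by
    rintro ⟨e, he, f, hf, h1⟩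
    obtain ⟨k, hk⟩ := h.two ⟨e * f, h1⟩
    refine ⟨k, Subtype.ext ?_⟩
    have h2 : (e * f) ^ (2 ^ k) = 1 := congrArg Subtype.val hk
    have hc : Commute e f := h.cEF e he f hf
    rw [hc.mul_pow] at h2
    have h3 : e ^ (2 ^ k) ∈ F := by
      rw [eq_inv_of_mul_eq_one_left h2]
      exact inv_mem (pow_mem hf _)
    exact h.iEF _ (pow_mem he _) h3
  have hle : T ⊓ E ≤ h.pr := fun e he => ⟨he.2, 1, one_mem _, by rw [mul_one]; exact he.1⟩
  have h2 : ¬ 2 ∣ (T ⊓ E).relIndex h.pr := fun h3 => h.sylE (h3.trans (by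
    have h4 : h.pr ≤ E := fun e he => he.1
    exact ⟨_, (relIndex_mul_relIndex (T ⊓ E) h.pr E hle h4).symm⟩))
  obtain ⟨n, hn⟩ := hp.exists_card_eq
  have h3 : (T ⊓ E).relIndex h.pr ∣ 2 ^ n := by
    rw [← hn]
    exact relIndex_dvd_card _ _
  obtain ⟨k, -, hk⟩ := (Nat.dvd_prime_pow Nat.prime_two).1 h3
  rw [← relIndex_eq_one]
  rcases Nat.eq_zero_or_pos k with rfl | hk0
  · exact hk
  · exact absurd (hk ▸ dvd_pow_self 2 hk0.ne') h2

/-- **An element of `W₁` fixed by `T ∩ E` is fixed by `K`.** -/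
theorem fix_of [Finite X] [Finite W] (h : Dat p T K E F Y N a q) {w : W} (hw : p w ∈ N)
    (h1 : ∀ t ∈ T ⊓ E, t • w = w) : ∀ k ∈ K, k • w = w := by
  refine odd_fix_mul h.sq h.two (fun t _ k hk => h.Kn.conj_mem k hk t) h.sylK
    (fun v hv k _ => h.ker v (h.fixT v hv) k) ?_
  rintro t ⟨htT, htK⟩
  obtain ⟨e, he, f, hf, rfl⟩ := h.KEF t htK
  have h2 : e ∈ T ⊓ E := h.pr_le ⟨he, f, hf, htT⟩
  rw [mul_smul, h.F_fix hw f hf, h1 e h2]

/-- the kernel of `a` is trivial on `N` -/
theorem ker_N (h : Dat p T K E F Y N a q) {y : Y} (hy : a y = 1) : ∀ n ∈ N, (y : X) • n = n := by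
  -- `y` centralises `E`
  have hc : ∀ e ∈ E, (y : X) * e = e * y := by
    intro e he
    have h1 : (y : X) * e * (y : X)⁻¹ * e⁻¹ ∈ E := mul_mem (h.YE y y.2 e he) (inv_mem he)
    have h2 : a ⟨_, h.EY h1⟩ = 1 := by
      have h3 : (⟨_, h.EY h1⟩ : Y) = y * ⟨e, h.EY he⟩ * y⁻¹ * (⟨e, h.EY he⟩ : Y)⁻¹ := Subtype.ext rfl
      rw [h3, map_mul, map_mul, map_mul, map_inv, map_inv, hy, one_mul, inv_one, mul_one, mul_inv_cancel]
    have h3 := h.inj _ h1 h2
    rw [mul_inv_eq_one, mul_inv_eq_iff_eq_mul] at h3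
    exact h3
  -- `[n, y] ∈ C_N(E)`
  have hC : ∀ n ∈ N, ∀ e ∈ E, e • (((y : X) • n) * n⁻¹) = ((y : X) • n) * n⁻¹ := by
    intro n hn e he
    have h1 := h.aq y ⟨n, hn⟩
    rw [hy, one_smul] at h1
    have h2 : q (⟨(y : X) • n, h.YN y y.2 n hn⟩ * (⟨n, hn⟩ : N)⁻¹) = 1 := by
      rw [map_mul, map_inv, h1, mul_inv_cancel]
    exact (h.qker _).1 h2 e he
  have hle : closure {m | ∃ e ∈ E, ∃ n ∈ N, m = (e • n) * n⁻¹} ≤
      (MulDistribMulAction.toMonoidHom M (y : X)).eqLocus (MonoidHom.id M) := by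
    rw [closure_le]
    rintro _ ⟨e, he, n, hn, rfl⟩
    show (y : X) • ((e • n) * n⁻¹) = (e • n) * n⁻¹
    have h1 := hC n hn e he
    have h2 : (y : X) • (e • n) = e • ((y : X) • n) := by rw [← mul_smul, hc e he, mul_smul]
    rw [smul_mul', smul_inv'] at h1
    rw [smul_mul', smul_inv', h2]
    have h3 : e • ((y : X) • n) = ((y : X) • n) * n⁻¹ * (e • n) := by
      rw [← h1]
      group
    rw [h3]
    have h4 : (y : X) • n * n⁻¹ * e • n * ((y : X) • n)⁻¹ = ((y : X) • n * ((y : X) • n)⁻¹) * (e • n * n⁻¹) := by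
      rw [mul_assoc, mul_assoc, mul_comm n⁻¹, mul_comm (e • n) ((y : X) • n)⁻¹, mul_assoc, mul_assoc]
    rw [h4, mul_inv_cancel, one_mul]
  exact fun n hn => hle (h.NE hn)

/-- **the kernel of `a` is trivial on `W₁`** -/
theorem ker_W (h : Dat p T K E F Y N a q) {y : Y} (hy : a y = 1) {w : W} (hw : p w ∈ N) : (y : X) • w = w := by
  have hc : ∀ e ∈ E, (y : X) * e = e * y := by
    intro e he
    have h1 : (y : X) * e * (y : X)⁻¹ * e⁻¹ ∈ E := mul_mem (h.YE y y.2 e he) (inv_mem he)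
    have h2 : a ⟨_, h.EY h1⟩ = 1 := by
      have h3 : (⟨_, h.EY h1⟩ : Y) = y * ⟨e, h.EY he⟩ * y⁻¹ * (⟨e, h.EY he⟩ : Y)⁻¹ := Subtype.ext rfl
      rw [h3, map_mul, map_mul, map_mul, map_inv, map_inv, hy, one_mul, inv_one, mul_one, mul_inv_cancel]
    have h3 := h.inj _ h1 h2
    rw [mul_inv_eq_one, mul_inv_eq_iff_eq_mul] at h3
    exact h3
  have hN := h.ker_N hy
  -- the subgroup of the elements fixed by `y`
  let V : Subgroup W := (MulDistribMulAction.toMonoidHom W (y : X)).eqLocus (MonoidHom.id W)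
  have hV : ∀ v, v ∈ V ↔ (y : X) • v = v := fun _ => Iff.rfl
  have h1 : closure {m | ∃ e ∈ E, ∃ n ∈ N, m = (e • n) * n⁻¹} ≤ V.map p := by
    rw [closure_le]
    rintro _ ⟨e, he, n, hn, rfl⟩
    obtain ⟨v, rfl⟩ := h.surj n
    refine ⟨(e • v) * v⁻¹, ?_, by rw [map_mul, h.eqv, map_inv]⟩
    show (y : X) • ((e • v) * v⁻¹) = (e • v) * v⁻¹
    have h2 : p (((y : X) • v) * v⁻¹) = 1 := by rw [map_mul, h.eqv, hN _ hn, map_inv, mul_inv_cancel]
    have h3 := h.ker _ h2 e
    have h4 : (y : X) • (e • v) = e • ((y : X) • v) := by rw [← mul_smul, hc e he, mul_smul]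
    rw [smul_mul', smul_inv'] at h3
    rw [smul_mul', smul_inv', h4]
    have h5 : e • ((y : X) • v) = ((y : X) • v) * v⁻¹ * (e • v) := by
      rw [← h3]
      group
    rw [h5]
    have h6 : (y : X) • v * v⁻¹ * e • v * ((y : X) • v)⁻¹ = ((y : X) • v * ((y : X) • v)⁻¹) * (e • v * v⁻¹) := by
      rw [mul_assoc, mul_assoc, mul_comm v⁻¹, mul_comm (e • v) ((y : X) • v)⁻¹, mul_assoc, mul_assoc]
    rw [h6, mul_inv_cancel, one_mul]
  obtain ⟨v, hv, hvw⟩ := h1 (h.NE hw)
  have h2 : p (w * v⁻¹) = 1 := by rw [map_mul, map_inv, hvw, mul_inv_cancel]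
  have h3 := h.ker _ h2 (y : X)
  have h4 : w = (w * v⁻¹) * v := by group
  rw [h4, smul_mul', h3, (hV v).1 hv]

/-- the action of `Y` on `W₁` -/
def act (h : Dat p T K E F Y N a q) : Y →* MulAut (N.comap p) where
  toFun y :=
    { toFun := fun w => ⟨(y : X) • (w : W), by
        rw [mem_comap, h.eqv]
        exact h.YN y y.2 _ w.2⟩
      invFun := fun w => ⟨(y : X)⁻¹ • (w : W), by
        rw [mem_comap, h.eqv]
        exact h.YN _ (inv_mem y.2) _ w.2⟩
      left_inv := fun w => Subtype.ext (inv_smul_smul (y : X) (w : W))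
      right_inv := fun w => Subtype.ext (smul_inv_smul (y : X) (w : W))
      map_mul' := fun v w => Subtype.ext (smul_mul' (y : X) (v : W) w) }
  map_one' := by
    ext w
    exact one_smul X (w : W)
  map_mul' x y := by
    ext w
    exact mul_smul (x : X) (y : X) (w : W)

theorem act_apply (h : Dat p T K E F Y N a q) (y : Y) (w : N.comap p) :
    ((h.act y w : N.comap p) : W) = (y : X) • (w : W) := rfl

theorem ker_le (h : Dat p T K E F Y N a q) : a.ker ≤ h.act.ker := by
  intro y hy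
  rw [MonoidHom.mem_ker]
  ext w
  exact h.ker_W hy w.2

/-- the action of `X₁` on `W₁` -/
noncomputable def phi (h : Dat p T K E F Y N a q) : X₁ →* MulAut (N.comap p) :=
  a.liftOfSurjective h.asurj ⟨h.act, h.ker_le⟩

theorem phi_apply (h : Dat p T K E F Y N a q) (y : Y) : h.phi (a y) = h.act y := by
  have := MonoidHom.liftOfRightInverse_comp_apply a _ (Function.rightInverse_surjInv h.asurj) ⟨h.act, h.ker_le⟩ y
  exact this

/-- the action -/
@[reducible] noncomputable def inst (h : Dat p T K E F Y N a q) : MulDistribMulAction X₁ (N.comap p) :=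
  MulDistribMulAction.compHom _ h.phi

/-- `W₁ → M₁` -/
def pi (p : W →* M) {N : Subgroup M} (q : N →* M₁) : (N.comap p) →* M₁ where
  toFun w := q ⟨p w, w.2⟩
  map_one' := by
    have : (⟨p ((1 : N.comap p) : W), (1 : N.comap p).2⟩ : N) = 1 := Subtype.ext (map_one p)
    rw [this, map_one]
  map_mul' v w := by
    have : (⟨p ((v * w : N.comap p) : W), (v * w).2⟩ : N) = ⟨p v, v.2⟩ * ⟨p w, w.2⟩ := Subtype.ext (map_mul p _ _)
    rw [this, map_mul]

theorem pi_apply (w : N.comap p) : pi p q w = q ⟨p w, w.2⟩ := rfl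

/-- **The W-part of one component.** -/
theorem wpart [Finite X] [Finite W] (h : Dat p T K E F Y N a q) :
    letI := h.inst
    WPart ((E.subgroupOf Y).map a) (((T ⊓ Y).subgroupOf Y).map a) (pi p q) := by
  letI := h.inst
  have hsm : ∀ (y : Y) (w : N.comap p), ((a y • w : N.comap p) : W) = (y : X) • (w : W) := by
    intro y w
    show ((h.phi (a y) w : N.comap p) : W) = _
    rw [h.phi_apply, h.act_apply]
  refine ⟨fun w => Subtype.ext (h.sq w), ?_, ?_, ?_, ?_⟩
  · intro x w
    obtain ⟨y, rfl⟩ := h.asurj x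
    have h1 : (⟨p ((a y • w : N.comap p) : W), (a y • w : N.comap p).2⟩ : N) =
        ⟨(y : X) • p w, h.YN y y.2 _ w.2⟩ := Subtype.ext (by
      show p ((a y • w : N.comap p) : W) = (y : X) • p w
      rw [hsm, h.eqv])
    rw [pi_apply, h1, h.aq y ⟨p w, w.2⟩, pi_apply]
  · intro m
    obtain ⟨⟨n, hn⟩, rfl⟩ := h.qsurj m
    obtain ⟨w, rfl⟩ := h.surj n
    exact ⟨⟨w, hn⟩, rfl⟩
  · intro w
    rw [pi_apply, h.qker]
    constructor
    · rintro h1 _ ⟨y, hy, rfl⟩
      apply Subtype.ext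
      rw [hsm]
      exact h.E_fix h1 _ hy
    · intro h1 e he
      have h2 := congrArg Subtype.val (h1 (a ⟨e, h.EY he⟩) ⟨⟨e, h.EY he⟩, he, rfl⟩)
      rw [hsm] at h2
      rw [← h.eqv]
      exact congrArg p h2
  · intro w hw
    have h1 : ∀ t ∈ T ⊓ E, t • (w : W) = w := by
      intro t ht
      have h2 := congrArg Subtype.val (hw (a ⟨t, h.EY ht.2⟩) ⟨⟨t, h.EY ht.2⟩, ⟨ht.1, h.EY ht.2⟩, rfl⟩)
      rw [hsm] at h2
      exact h2
    rintro _ ⟨y, hy, rfl⟩
    apply Subtype.ext
    rw [hsm]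
    exact h.fix_of w.2 h1 y (h.EK hy)

end Dat

end Cfsg.Agent.Omega.ML.Ex.WSec

end

section


/-!
# A K-free kill with the W-part (helper325)

`X` acts faithfully on `M` (exponent 2), `h : WPart K T p`.  For `z ∈ K` put `GG p z := p (C_W(z))`: the vectors of
`C_M(z)` all of whose lifts are fixed by `z`.

* `smul_lift`      : `z` fixes all the lifts of the elements of `GG p z`;
* `exists_not_mem` : LEMMA Z: if `z ≠ 1` is central in `T` then `GG p z ≠ C_M(z)`;
* `mem_comm`       : if `z = [a, b]`, `a, b ∈ K` then `C_M(a) ∩ C_M(b) ≤ GG p z`;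
* `sub_mem`        : if `g ∈ K` commutes with `z` then `[C_M(z), g] ≤ GG p z`;
* **`false_of`**   : no `z, a ∈ A`, `g, a ∈ K` with `g³ = 1`, `[g,z] = 1`, `[a, a^g] = z`, `|C_M(z)| ≤ 2 |C_M(A)|`;
* `false_of_index` : the same `z, a, g` : not all of `z, a, az` have `|M : C_M(-)| ≤ 2`;
* `quad_of`        : if `C_M(b) = C_M(A)` for an involution `b ∈ A`, `A` abelian, then `A` is quadratic.
-/

set_option autoImplicit false

namespace Cfsg.Agent.Omega.ML.Ex.KillZ

open Subgroup Cfsg.Agent.ClassTwoFusion.Quad Cfsg.Agent.Omega.ML.Ex.TIE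

section comm

variable {M : Type*} [Group M]

theorem inv_self (sq : ∀ m : M, m * m = 1) (m : M) : m⁻¹ = m := inv_eq_of_mul_eq_one_left (sq m)

theorem comm_of (sq : ∀ m : M, m * m = 1) (x y : M) : x * y = y * x := by
  calc x * y = (x * y)⁻¹ := (inv_self sq _).symm
    _ = y⁻¹ * x⁻¹ := mul_inv_rev _ _
    _ = y * x := by rw [inv_self sq, inv_self sq]

/-- a subgroup of index at most 2 -/
theorem mul_mem_of_card [Finite M] {F V : Subgroup M} (hFV : F ≤ V) (hc : Nat.card V ≤ 2 * Nat.card F) {x y : M}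
    (hx : x ∈ V) (hy : y ∈ V) (hx' : x ∉ F) (hy' : y ∉ F) : x * y ∈ F := by
  have h1 : F.relIndex V * Nat.card F = Nat.card V := by
    have := relIndex_mul_relIndex (⊥ : Subgroup M) F V bot_le hFV
    rw [relIndex_bot_left, relIndex_bot_left] at this
    rw [mul_comm]; exact this
  have h2 : F.relIndex V ≤ 2 := by
    rw [← h1] at hc
    exact Nat.le_of_mul_le_mul_right hc Nat.card_pos
  have h3 : F.relIndex V ≠ 0 := by
    intro h0
    rw [h0, zero_mul] at h1
    exact absurd h1.symm Nat.card_pos.ne'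
  have h4 : F.relIndex V ≠ 1 := fun h5 => hx' (relIndex_eq_one.1 h5 hx)
  have h5 : (F.subgroupOf V).index = 2 := by
    change F.relIndex V = 2
    omega
  have h6 := (mul_mem_iff_of_index_two h5 (a := ⟨x, hx⟩) (b := ⟨y, hy⟩)).2
    (by rw [mem_subgroupOf, mem_subgroupOf]; exact iff_of_false hx' hy')
  rw [mem_subgroupOf] at h6
  exact h6

end comm

variable {X : Type*} [Group X] {M : Type*} [Group M] [MulDistribMulAction X M] {W : Type*} [CommGroup W]
  [MulDistribMulAction X W] {K T : Subgroup X} {p : W →* M}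

/-- the image of `C_W(z)` -/
def GG (p : W →* M) (z : X) : Subgroup M := (cv W ({z} : Set X)).map p

theorem smul_lift (h : WPart K T p) {z : X} (hz : z ∈ K) {w : W} (hw : p w ∈ GG p z) : z • w = w := by
  obtain ⟨w', hw', he⟩ := hw
  rw [SetLike.mem_coe, mem_cv_singleton] at hw'
  have h1 := h.chi_eq (w := w) (w' := w') he.symm hz
  rw [hw', mul_inv_cancel] at h1
  exact mul_inv_eq_one.1 h1

omit [MulDistribMulAction X M] in
theorem mem_GG {z : X} {w : W} (hw : z • w = w) : p w ∈ GG p z :=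
  ⟨w, mem_cv_singleton.2 hw, rfl⟩

/-- **LEMMA Z.** -/
theorem exists_not_mem [Finite W] (h : WPart K T p) (hT : IsPGroup 2 T)
    (faith : ∀ x : X, (∀ m : M, x • m = m) → x = 1) {z : X} (hzK : z ∈ K) (hz1 : z ≠ 1)
    (hzT : ∀ t ∈ T, t * z = z * t) : ∃ v : M, z • v = v ∧ v ∉ GG p z := by
  by_contra hcon
  push Not at hcon
  -- the commutator subgroup `[W, z]`
  let I : Subgroup W :=
    { carrier := {u | ∃ w : W, (z • w) * w⁻¹ = u}
      one_mem' := ⟨1, by rw [smul_one, one_mul, inv_one]⟩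
      mul_mem' := by
        rintro _ _ ⟨w, rfl⟩ ⟨w', rfl⟩
        refine ⟨w * w', ?_⟩
        rw [smul_mul', mul_inv]
        exact mul_mul_mul_comm _ _ _ _
      inv_mem' := by
        rintro _ ⟨w, rfl⟩
        refine ⟨w⁻¹, ?_⟩
        rw [smul_inv', mul_inv] }
  have hI : ∀ t ∈ T, ∀ u ∈ I, t • u ∈ I := by
    rintro t ht _ ⟨w, rfl⟩
    refine ⟨t • w, ?_⟩
    rw [smul_mul', smul_inv', ← mul_smul, ← mul_smul, hzT t ht]
  have hne : I ≠ ⊥ := by
    intro h1
    apply hz1
    refine faith z fun m => ?_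
    obtain ⟨w, rfl⟩ := h.surj m
    have h2 : (z • w) * w⁻¹ ∈ I := ⟨w, rfl⟩
    rw [h1, mem_bot, mul_inv_eq_one] at h2
    rw [← h.eqv, h2]
  -- a fixed point
  obtain ⟨u, ⟨w, rfl⟩, hu1, hu⟩ : ∃ u ∈ I, u ≠ 1 ∧ ∀ t ∈ T, t • u = u := by
    have h2f : Fact (Nat.Prime 2) := ⟨Nat.prime_two⟩
    let _ : MulDistribMulAction T I :=
      { smul := fun t w => ⟨(t : X) • (w : W), hI t t.2 w w.2⟩
        one_smul := fun w => Subtype.ext (one_smul X (w : W))
        mul_smul := fun c d w => Subtype.ext (mul_smul (c : X) d (w : W))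
        smul_mul := fun c u w => Subtype.ext (smul_mul' (c : X) (u : W) w)
        smul_one := fun c => Subtype.ext (smul_one (c : X)) }
    have h1 : IsPGroup 2 I := fun w => ⟨1, by rw [pow_one, pow_two]; exact Subtype.ext (h.sq w)⟩
    have h5 : 2 ∣ Nat.card I := by
      obtain ⟨k, hk⟩ := IsPGroup.iff_card.1 h1
      rw [hk]
      refine dvd_pow_self 2 ?_
      rintro rfl
      rw [pow_zero, card_eq_one] at hk
      exact hne hk
    obtain ⟨b, hb, hb1⟩ :=
      hT.exists_fixed_point_of_prime_dvd_card_of_fixed_point I h5 (a := (1 : I)) (fun c => smul_one c)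
    exact ⟨b, b.2, fun h => hb1 (Subtype.ext h.symm), fun t ht => congrArg Subtype.val (hb ⟨t, ht⟩)⟩
  have h1 : p ((z • w) * w⁻¹) = 1 := (h.ker _).2 (h.fixT _ hu)
  rw [map_mul, map_inv, mul_inv_eq_one, h.eqv] at h1
  have h2 := smul_lift h hzK (hcon _ h1)
  exact hu1 (by rw [h2, mul_inv_cancel])

/-- **commutators** -/
theorem mem_comm (h : WPart K T p) {a b z : X} (ha : a ∈ K) (hb : b ∈ K) (hz : a * b * a⁻¹ * b⁻¹ = z) {v : M}
    (hav : a • v = v) (hbv : b • v = v) : v ∈ GG p z := by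
  obtain ⟨w, rfl⟩ := h.surj v
  set L : Subgroup X := closure {a, b} with hL
  have haL : a ∈ L := subset_closure (by simp)
  have hbL : b ∈ L := subset_closure (by simp)
  have hLK : L ≤ K := by
    rw [hL, closure_le]
    rintro x (rfl | hx)
    · exact ha
    · rw [Set.mem_singleton_iff.1 hx]; exact hb
  have hfix : ∀ k ∈ L, k • p w = p w := by
    have h1 : L ≤ MulAction.stabilizer X (p w) := by
      rw [hL, closure_le]
      rintro x (rfl | hx)
      · exact hav
      · rw [Set.mem_singleton_iff.1 hx]; exact hbv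
    exact fun k hk => h1 hk
  refine mem_GG (h.commutator_fix hLK hfix z ?_)
  rw [← hz]
  exact commutator_mem_commutator haL hbL

/-- `[C_M(z), g] ≤ GG` -/
theorem sub_mem (h : WPart K T p) {g z : X} (hg : g ∈ K) (hzK : z ∈ K) (hgz : g * z = z * g) {v : M}
    (hv : z • v = v) : (g • v) * v⁻¹ ∈ GG p z := by
  obtain ⟨w, rfl⟩ := h.surj v
  have h1 : p ((g • w) * w⁻¹) = (g • p w) * (p w)⁻¹ := by rw [map_mul, h.eqv, map_inv]
  rw [← h1]
  refine mem_GG ?_
  have h2 : (z • w) * w⁻¹ ∈ p.ker := h.mem_ker_of hv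
  have h3 : g • ((z • w) * w⁻¹) = (z • w) * w⁻¹ := h.smul_ker hg h2
  rw [smul_mul', smul_inv', ← mul_smul, hgz, mul_smul] at h3
  rw [smul_mul', smul_inv']
  have h4 : z • (g • w) = (z • w) * w⁻¹ * (g • w) := by rw [← h3, inv_mul_cancel_right]
  rw [h4, mul_comm (z • w * w⁻¹) (g • w), mul_assoc (g • w)]
  congr 1
  rw [mul_comm (z • w) w⁻¹, mul_assoc, mul_inv_cancel, mul_one]

/-- **The kill.** -/
theorem false_of [Finite M] [Finite W] (sq : ∀ m : M, m * m = 1) (faith : ∀ x : X, (∀ m : M, x • m = m) → x = 1)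
    (h : WPart K T p) (hT : IsPGroup 2 T) {A : Subgroup X} {z a g : X} (zA : z ∈ A) (zK : z ∈ K) (z1 : z ≠ 1)
    (zT : ∀ t ∈ T, t * z = z * t) (aA : a ∈ A) (aK : a ∈ K)
    (quad : ∀ m : M, (a • m) * m⁻¹ ∈ cv M (A : Set X)) (gK : g ∈ K) (gz : g * z = z * g) (g3 : g * g * g = 1)
    (hcom : a * (g * a * g⁻¹) * a⁻¹ * (g * a * g⁻¹)⁻¹ = z)
    (hc : Nat.card (cv M ({z} : Set X)) ≤ 2 * Nat.card (cv M (A : Set X))) : False := by
  set F := cv M (A : Set X) with hF
  set V := cv M ({z} : Set X) with hV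
  have hFV : F ≤ V := cv_anti (by simpa using zA)
  have hgV : ∀ v ∈ V, g • v ∈ V := by
    intro v hv
    rw [hV, mem_cv_singleton] at hv ⊢
    rw [← mul_smul, ← gz, mul_smul, hv]
  have hg3 : ∀ v : M, g • (g • (g • v)) = v := by
    intro v
    rw [← mul_smul, ← mul_smul, g3, one_smul]
  have hab : ∀ x y : M, x * y = y * x := comm_of sq
  -- `F ∩ g F ≤ G`
  have hP2 : ∀ v ∈ F, g⁻¹ • v ∈ F → v ∈ GG p z := by
    intro v hv hv'
    refine mem_comm h aK (K.mul_mem (K.mul_mem gK aK) (K.inv_mem gK)) hcom (hv a aA) ?_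
    rw [mul_smul, mul_smul, hv' a aA, smul_inv_smul]
  have hP2' : ∀ v ∈ F, g • v ∈ F → g • v ∈ GG p z := by
    intro v hv hv'
    exact hP2 _ hv' (by rw [inv_smul_smul]; exact hv)
  -- `g F ≠ F`
  obtain ⟨m, hm, hgm⟩ : ∃ m ∈ F, g • m ∉ F := by
    by_contra hcon
    push Not at hcon
    have hst : ∀ m, m ∈ F ↔ g • m ∈ F := by
      intro m
      refine ⟨fun hm => hcon m hm, fun hm => ?_⟩
      rw [← hg3 m]
      exact hcon _ (hcon _ hm)
    have h1 : a ∈ (EE F : Subgroup X) := ⟨fun m hm => hm a aA, quad⟩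
    have h2 : g * a * g⁻¹ ∈ (EE F : Subgroup X) := smul_mem_EE hst h1
    have h3 := EE_sq sq faith h1
    have h4 := EE_sq sq faith h2
    have h5 := EE_sq sq faith (mul_mem h1 h2)
    have h6 : a⁻¹ = a := inv_eq_of_mul_eq_one_left h3
    have h7 : (g * a * g⁻¹)⁻¹ = g * a * g⁻¹ := inv_eq_of_mul_eq_one_left h4
    apply z1
    rw [← hcom, h6, h7, mul_assoc (a * (g * a * g⁻¹)) a]
    exact h5
  have hmm : ∀ x y : M, x ∈ V → y ∈ V → x ∉ F → y ∉ F → x * y ∈ F := fun x y hx hy hx' hy' =>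
    mul_mem_of_card hFV hc hx hy hx' hy'
  have hG1 : ∀ v ∈ V, (g • v) * v⁻¹ ∈ GG p z := fun v hv => sub_mem h gK zK gz (mem_cv_singleton.1 hv)
  by_cases hFG : F ≤ GG p z
  · obtain ⟨v, hv, hvG⟩ := exists_not_mem h hT faith zK z1 zT
    have hvV : v ∈ V := mem_cv_singleton.2 hv
    have h1 : v * (g • m) ∈ F := hmm _ _ hvV (hgV m (hFV hm)) (fun h1 => hvG (hFG h1)) hgm
    have h2 : g • m ∈ GG p z := by
      have h3 := mul_mem (hG1 m (hFV hm)) (hFG hm)
      rwa [inv_mul_cancel_right] at h3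
    apply hvG
    have h3 := mul_mem (hFG h1) (inv_mem h2)
    rwa [mul_inv_cancel_right] at h3
  · obtain ⟨f, hf, hfG⟩ := SetLike.not_le_iff_exists.1 hFG
    have hfV := hFV hf
    have h1 : g • f ∉ F := by
      intro h2
      apply hfG
      have h3 := mul_mem (inv_mem (hG1 f hfV)) (hP2' f hf h2)
      rwa [mul_inv_rev, inv_inv, inv_mul_cancel_right] at h3
    have h2 : g • (g • f) ∉ F := by
      intro h3
      apply hfG
      have h4 := hP2' (g • (g • f)) h3 (by rw [hg3]; exact hf)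
      rwa [hg3] at h4
    have hV1 := hgV f hfV
    have hV2 := hgV _ hV1
    have h3 : (g • f) * (g • (g • f)) ∈ F := hmm _ _ hV1 hV2 h1 h2
    have h4 : f * ((g • f) * (g • (g • f))) ∈ F := F.mul_mem hf h3
    have h5 : g • (f * ((g • f) * (g • (g • f)))) = f * ((g • f) * (g • (g • f))) := by
      rw [smul_mul', smul_mul', hg3, ← mul_assoc, hab]
    have h6 : f * ((g • f) * (g • (g • f))) ∈ GG p z := by
      have := hP2' _ h4 (by rw [h5]; exact h4)
      rwa [h5] at this
    have h7 : (g • f) * (g • (g • f)) ∈ GG p z := by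
      have h8 := hG1 _ hV1
      have h9 : (g • f) * (g • (g • f)) = (g • (g • f)) * (g • f)⁻¹ := by
        rw [inv_self sq (g • f), hab]
      rw [h9]
      exact h8
    apply hfG
    have h8 := mul_mem h6 (inv_mem h7)
    rwa [mul_inv_cancel_right] at h8

/-- `z`, `a`, `a z` are not all transvections. -/
theorem false_of_index [Finite M] (sq : ∀ m : M, m * m = 1) (faith : ∀ x : X, (∀ m : M, x • m = m) → x = 1)
    {z a g : X} (z1 : z ≠ 1) (zz : z * z = 1) (aa : a * a = 1) (az : a * z = z * a) (gz : g * z = z * g)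
    (hcom : a * (g * a * g⁻¹) * a⁻¹ * (g * a * g⁻¹)⁻¹ = z)
    (h1 : (cv M ({z} : Set X)).index ≤ 2) (h2 : (cv M ({a} : Set X)).index ≤ 2)
    (h3 : (cv M ({a * z} : Set X)).index ≤ 2) : False := by
  have hab : ∀ x y : M, x * y = y * x := comm_of sq
  have hinv : ∀ x : M, x⁻¹ = x := inv_self sq
  -- commuting is impossible
  have hne : ∀ b : X, b = g * a * g⁻¹ → a * b = b * a → False := by
    intro b hb h4
    apply z1
    rw [← hcom, ← hb, h4, mul_inv_cancel_right, mul_inv_cancel]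
  -- index two
  have hmul : ∀ x : X, (cv M ({x} : Set X)).index ≤ 2 → ∀ m m' : M, x • m ≠ m → x • m' ≠ m' →
      x • (m * m') = m * m' := by
    intro x hx m m' hm hm'
    have h4 : (cv M ({x} : Set X)).index ≠ 0 := index_ne_zero_of_finite
    have h5 : (cv M ({x} : Set X)).index ≠ 1 := by
      intro h6
      rw [index_eq_one] at h6
      exact hm (mem_cv_singleton.1 (h6 ▸ mem_top m))
    have h6 : (cv M ({x} : Set X)).index = 2 := by omega
    have h7 := (mul_mem_iff_of_index_two h6 (a := m) (b := m')).2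
      (by rw [mem_cv_singleton, mem_cv_singleton]; exact iff_of_false hm hm')
    exact mem_cv_singleton.1 h7
  -- the centre of a transvection
  have hcen : ∀ x : X, (cv M ({x} : Set X)).index ≤ 2 → ∀ m m' : M, x • m ≠ m → x • m' ≠ m' →
      (x • m) * m⁻¹ = (x • m') * m'⁻¹ := by
    intro x hx m m' hm hm'
    have h4 := hmul x hx m m' hm hm'
    rw [smul_mul'] at h4
    rw [hinv, hinv]
    calc (x • m) * m = ((x • m) * (x • m')) * (x • m') * m := by
          rw [mul_assoc (x • m), sq, mul_one]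
      _ = (m * m') * (x • m') * m := by rw [h4]
      _ = m * (m' * (x • m')) * m := by rw [mul_assoc m]
      _ = (m' * (x • m')) * m * m := by rw [hab m]
      _ = (x • m') * m' * (m * m) := by rw [hab m', mul_assoc]
      _ = (x • m') * m' := by rw [sq, mul_one]
  by_cases hcase : ∀ m : M, z • m = m → a • m = m
  · -- the same axis
    have hax : ∀ m : M, a • m = m ↔ z • m = m := by
      have h4 : cv M ({z} : Set X) ≤ cv M ({a} : Set X) := fun m hm =>
        mem_cv_singleton.2 (hcase m (mem_cv_singleton.1 hm))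
      have h5 : cv M ({z} : Set X) = cv M ({a} : Set X) := by
        have h6 : (cv M ({a} : Set X)).index ≠ 1 := by
          intro h7
          rw [index_eq_one] at h7
          apply z1
          have h8 : a = 1 := faith a fun m => mem_cv_singleton.1 (h7 ▸ mem_top m)
          rw [← hcom, h8]
          group
        refine Subgroup.eq_of_le_of_card_ge h4 ?_
        have h8 := (cv M ({z} : Set X)).card_mul_index
        have h9 := (cv M ({a} : Set X)).card_mul_index
        have h10 : (cv M ({a} : Set X)).index ≠ 0 := index_ne_zero_of_finite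
        have h11 : (cv M ({a} : Set X)).index = 2 := by omega
        rw [h11] at h9
        have h12 : Nat.card (cv M ({z} : Set X)) * (cv M ({z} : Set X)).index ≤
            Nat.card (cv M ({z} : Set X)) * 2 := Nat.mul_le_mul_left _ h1
        omega
      intro m
      rw [← mem_cv_singleton, ← mem_cv_singleton, h5]
    set V := cv M ({z} : Set X) with hV
    have hst : ∀ m, m ∈ V ↔ g • m ∈ V := by
      intro m
      rw [hV, mem_cv_singleton, mem_cv_singleton, ← mul_smul, ← gz, mul_smul, smul_left_cancel_iff]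
    have h4 : a ∈ (EE V : Subgroup X) := by
      refine ⟨fun m hm => (hax m).2 (mem_cv_singleton.1 hm), fun m => ?_⟩
      rw [hV, mem_cv_singleton, ← hax, smul_mul', smul_inv', ← mul_smul, aa, one_smul, hinv, hinv, hab]
    have h5 := smul_mem_EE hst h4
    have h6 := EE_sq sq faith h4
    have h7 := EE_sq sq faith h5
    have h8 := EE_sq sq faith (mul_mem h4 h5)
    refine hne _ rfl ?_
    have h9 : a⁻¹ = a := inv_eq_of_mul_eq_one_left h6
    have h10 : (g * a * g⁻¹)⁻¹ = g * a * g⁻¹ := inv_eq_of_mul_eq_one_left h7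
    have h11 : (a * (g * a * g⁻¹))⁻¹ = a * (g * a * g⁻¹) := inv_eq_of_mul_eq_one_left h8
    rw [← h11, mul_inv_rev, h9, h10]
  · -- the same centre
    push Not at hcase
    obtain ⟨m₁, hm₁, hm₁'⟩ := hcase
    -- an element moved by `z`
    obtain ⟨m₂, hm₂⟩ : ∃ m : M, z • m ≠ m := by
      by_contra hcon
      push Not at hcon
      exact z1 (faith z hcon)
    -- some `m` with `a z m = m`, `z m ≠ m`
    obtain ⟨m, hm, hm'⟩ : ∃ m : M, (a * z) • m = m ∧ z • m ≠ m := by
      by_cases h4 : (a * z) • m₂ = m₂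
      · exact ⟨m₂, h4, hm₂⟩
      · refine ⟨m₁ * m₂, hmul _ h3 m₁ m₂ ?_ h4, ?_⟩
        · rw [mul_smul, hm₁]
          exact hm₁'
        · intro h5
          rw [smul_mul', hm₁] at h5
          exact hm₂ (mul_left_cancel h5)
    have ham : a • m ≠ m := by
      intro h4
      apply hm'
      rw [az, mul_smul, h4] at hm
      exact hm
    have ham2 : a • m = z • m := by
      have h4 : a • ((a * z) • m) = a • m := by rw [hm]
      rw [← mul_smul, ← mul_assoc, aa, one_mul] at h4
      exact h4.symm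
    set c := (z • m) * m⁻¹ with hc
    have hzc : ∀ y : M, z • y = y ∨ z • y = c * y := by
      intro y
      by_cases h4 : z • y = y
      · exact Or.inl h4
      · right
        rw [hc, hcen z h1 m y hm' h4, inv_mul_cancel_right]
    have hac : ∀ y : M, a • y = y ∨ a • y = c * y := by
      intro y
      by_cases h4 : a • y = y
      · exact Or.inl h4
      · right
        rw [hc, ← ham2, hcen a h2 m y ham h4, inv_mul_cancel_right]
    have hgc : g • c = c := by
      have h4 : g • c = (z • (g • m)) * (g • m)⁻¹ := by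
        rw [hc, smul_mul', smul_inv', ← mul_smul, ← mul_smul, gz]
      have h5 : z • (g • m) ≠ g • m := by
        rw [← mul_smul, ← gz, mul_smul]
        exact fun h6 => hm' (smul_left_cancel _ h6)
      rw [h4, hc]
      exact (hcen z h1 m (g • m) hm' h5).symm
    have hbc : ∀ y : M, (g * a * g⁻¹) • y = y ∨ (g * a * g⁻¹) • y = c * y := by
      intro y
      rcases hac (g⁻¹ • y) with h4 | h4
      · left
        rw [mul_smul, mul_smul, h4, smul_inv_smul]
      · right
        rw [mul_smul, mul_smul, h4, smul_mul', hgc, smul_inv_smul]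
    have hgc' : g⁻¹ • c = c := by rw [inv_smul_eq_iff, hgc]
    have hca : a • c = c := by
      have h4 : a • ((a • m) * m⁻¹) = (a • m) * m⁻¹ := by
        rw [smul_mul', smul_inv', ← mul_smul, aa, one_smul, hinv, hinv, hab]
      rw [ham2, ← hc] at h4
      exact h4
    have hcb : (g * a * g⁻¹) • c = c := by rw [mul_smul, mul_smul, hgc', hca, hgc]
    refine hne _ rfl ?_
    have h4 : ∀ y : M, (a * (g * a * g⁻¹)) • y = ((g * a * g⁻¹) * a) • y := by
      intro y
      rw [mul_smul, mul_smul (g * a * g⁻¹) a]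
      rcases hac y with h5 | h5 <;> rcases hbc y with h6 | h6
      · rw [h5, h6, h5]
      · rw [h5, h6, smul_mul', hca, h5]
      · rw [h5, h6, smul_mul', hcb, h6, h5]
      · rw [h5, h6, smul_mul', hca, h5, smul_mul', hcb, h6]
    have h5 := faith ((g * a * g⁻¹ * a)⁻¹ * (a * (g * a * g⁻¹))) fun y => by
      rw [mul_smul, h4, inv_smul_smul]
    exact (inv_mul_eq_one.1 h5).symm

/-- `A` is quadratic if some involution of `A` has the same fixed points as `A`. -/
theorem quad_of (sq : ∀ m : M, m * m = 1) {A : Subgroup X} (hA : ∀ x ∈ A, ∀ y ∈ A, x * y = y * x) {b : X} (hb : b ∈ A)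
    (bb : b * b = 1) (hcv : ∀ m : M, b • m = m → m ∈ cv M (A : Set X)) {a : X} (ha : a ∈ A) (m : M) :
    (a • m) * m⁻¹ ∈ cv M (A : Set X) := by
  apply hcv
  have hab : ∀ x y : M, x * y = y * x := comm_of sq
  have hinv : ∀ x : M, x⁻¹ = x := inv_self sq
  have h1 : b • ((b • m) * m⁻¹) = (b • m) * m⁻¹ := by
    rw [smul_mul', smul_inv', ← mul_smul, bb, one_smul, hinv, hinv, hab]
  have h2 : a • ((b • m) * m⁻¹) = (b • m) * m⁻¹ := hcv _ h1 a ha
  rw [smul_mul', smul_inv', ← mul_smul, hA a ha b hb, mul_smul, hinv, hinv] at h2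
  rw [smul_mul', smul_inv', hinv, hinv]
  -- `h2 : b • a • m * a • m = b • m * m`
  calc b • (a • m) * (b • m) = (b • (a • m) * (a • m)) * (a • m) * (b • m) := by
        rw [mul_assoc (b • (a • m)), sq, mul_one]
    _ = (b • m) * m * (a • m) * (b • m) := by rw [h2]
    _ = (b • m) * (m * (a • m)) * (b • m) := by rw [mul_assoc (b • m)]
    _ = (m * (a • m)) * (b • m) * (b • m) := by rw [hab (b • m) (m * (a • m))]
    _ = (a • m) * m * ((b • m) * (b • m)) := by rw [hab m, mul_assoc]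
    _ = (a • m) * m := by rw [sq, mul_one]

end Cfsg.Agent.Omega.ML.Ex.KillZ

end

section


/-!
# Pairs of reflections of a finite crystallographic Coxeter group

(helper530, for the WALL THEOREM #22477, part (3))

* `conj_simple_eq` : `w s_i w⁻¹` is determined by the root `± w α_i`;
* `exists_pow` : for reflections `r ≠ s` there are `i ≠ j` with `(r s) ^ M i j = 1`;
* `pow_two_or_pow_three` : all labels at most 3: `(r s)² = 1` or `(r s)³ = 1`;
* `conj_eq` : all labels at most 3: `s r s = r` or `s r s = r s r`.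
-/

set_option autoImplicit false
set_option linter.unusedSectionVars false

namespace Cfsg.Agent.Omega.ML.Ex.WallCox

open CoxeterSystem Cfsg.Agent.ChevalleyStructure.CoxeterGeom Cfsg.Agent.Tits.Roots Cfsg.Agent.Tits.Core
  Cfsg.Agent.Tits.RootComb Cfsg.Agent.Nodes.Comb Cfsg.Agent.Nodes.SubComb Cfsg.Agent.Nodes.Coroot

section Cartan

variable {I W : Type*} [Fintype I] [DecidableEq I] [Group W] {M : CoxeterMatrix I}
  (cs : CoxeterSystem M W) {A : I → I → ℤ} (h : IsCartan M A)

/-- The reflection is determined by the root. -/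
theorem conj_simple_eq [Finite W] {w w' : W} {i i' : I}
    (e : rep cs h w (sr i) = rep cs h w' (sr i') ∨ rep cs h w (sr i) = -rep cs h w' (sr i')) :
    w * cs.simple i * w⁻¹ = w' * cs.simple i' * w'⁻¹ := by
  apply rep_injective cs h
  refine LinearMap.ext fun x => ?_
  have h1 := rep_rfl'_eq cs h w i x
  have h2 := rep_rfl'_eq cs h w' i' x
  rw [show w * cs.simple i * w⁻¹ = rfl' cs w i from rfl, show w' * cs.simple i' * w'⁻¹ = rfl' cs w' i' from rfl,
    h1, h2]
  rcases e with e | e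
  · rw [e]
  · rw [e, cpr_neg_right cs h x ⟨w', i', rfl⟩]
    module

/-- Products of two reflections of `⟨s_i, s_j⟩` are powers of `s_i s_j`. -/
theorem mem_rot {i j : I} {v : W} (hv : v ∈ WJ cs {i, j}) {k : I} (hk : k = i ∨ k = j) :
    ∃ z ∈ Subgroup.zpowers (cs.simple i * cs.simple j), v * cs.simple k * v⁻¹ = z * cs.simple i := by
  set Z := Subgroup.zpowers (cs.simple i * cs.simple j) with hZ
  have hgi : cs.simple i * cs.simple j ∈ Z := Subgroup.mem_zpowers _
  have hinv : cs.simple j * cs.simple i ∈ Z := by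
    have h1 := inv_mem hgi
    rwa [mul_inv_rev, cs.inv_simple, cs.inv_simple] at h1
  -- conjugation by `s_i` and `s_j` inverts `Z`
  have hci : ∀ z ∈ Z, cs.simple i * z * cs.simple i ∈ Z := by
    intro z hz
    obtain ⟨n, rfl⟩ := Subgroup.mem_zpowers_iff.1 hz
    have h1 : cs.simple i * (cs.simple i * cs.simple j) ^ n * (cs.simple i)⁻¹ =
        (cs.simple i * (cs.simple i * cs.simple j) * (cs.simple i)⁻¹) ^ n := by
      rw [conj_zpow]
    rw [cs.inv_simple] at h1
    rw [h1]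
    refine zpow_mem ?_ n
    rw [← mul_assoc, cs.simple_mul_simple_self, one_mul]
    exact hinv
  have hcj : ∀ z ∈ Z, cs.simple j * z * cs.simple j ∈ Z := by
    intro z hz
    obtain ⟨n, rfl⟩ := Subgroup.mem_zpowers_iff.1 hz
    have h1 : cs.simple j * (cs.simple i * cs.simple j) ^ n * (cs.simple j)⁻¹ =
        (cs.simple j * (cs.simple i * cs.simple j) * (cs.simple j)⁻¹) ^ n := by
      rw [conj_zpow]
    rw [cs.inv_simple] at h1
    rw [h1]
    refine zpow_mem ?_ n
    rw [mul_assoc, mul_assoc, cs.simple_mul_simple_self, mul_one]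
    exact hinv
  have hij : ∀ k, (k = i ∨ k = j) → ∀ x, (∃ z ∈ Z, x = z * cs.simple i) →
      ∃ z ∈ Z, cs.simple k * x * cs.simple k = z * cs.simple i := by
    rintro k (rfl | rfl) x ⟨z, hz, rfl⟩
    · exact ⟨cs.simple k * z * cs.simple k, hci z hz, by simp only [mul_assoc]⟩
    · refine ⟨cs.simple k * z * cs.simple k * (cs.simple k * cs.simple i) * (cs.simple k * cs.simple i),
        mul_mem (mul_mem (hcj z hz) hinv) hinv, ?_⟩
      have h1 := cs.simple_mul_simple_self k
      have h2 := cs.simple_mul_simple_self i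
      calc cs.simple k * (z * cs.simple i) * cs.simple k
          = cs.simple k * z * (cs.simple k * cs.simple k) * cs.simple i * cs.simple k *
            (cs.simple i * cs.simple i) := by rw [h1, h2]; simp only [mul_one, mul_assoc]
        _ = _ := by simp only [mul_assoc]
  have hbase : ∃ z ∈ Z, cs.simple k = z * cs.simple i := by
    rcases hk with rfl | rfl
    · exact ⟨1, one_mem _, (one_mul _).symm⟩
    · exact ⟨_, hinv, by rw [mul_assoc, cs.simple_mul_simple_self, mul_one]⟩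
  have key : ∀ x, (∃ z ∈ Z, v * x * v⁻¹ = z * cs.simple i) ↔ ∃ z ∈ Z, x = z * cs.simple i := by
    clear_value Z
    induction hv using Subgroup.closure_induction with
    | mem y hy =>
      obtain ⟨l, hl, rfl⟩ := hy
      intro x
      rw [cs.inv_simple]
      refine ⟨fun hx => ?_, hij l hl x⟩
      have h1 := hij l hl _ hx
      have h2 : cs.simple l * (cs.simple l * x * cs.simple l) * cs.simple l =
          (cs.simple l * cs.simple l) * x * (cs.simple l * cs.simple l) := by simp only [mul_assoc]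
      rwa [h2, cs.simple_mul_simple_self, one_mul, mul_one] at h1
    | one => intro x; rw [one_mul, inv_one, mul_one]
    | mul a b ha hb iha ihb =>
      intro x
      have h1 : a * b * x * (a * b)⁻¹ = a * (b * x * b⁻¹) * a⁻¹ := by group
      rw [h1, iha, ihb]
    | inv a ha iha =>
      intro x
      have h1 := iha (a⁻¹ * x * a⁻¹⁻¹)
      have h2 : a * (a⁻¹ * x * a⁻¹⁻¹) * a⁻¹ = x := by group
      rw [h2] at h1
      exact h1.symm
  exact (key _).2 hbase

/-- Two roots in the span of `α_i`, `α_j`. -/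
theorem prod_mem_rot {i j : I} {v v' : W} (hv : v ∈ WJ cs {i, j}) (hv' : v' ∈ WJ cs {i, j}) {k k' : I}
    (hk : k = i ∨ k = j) (hk' : k' = i ∨ k' = j) :
    (v * cs.simple k * v⁻¹ * (v' * cs.simple k' * v'⁻¹)) ^ M i j = 1 := by
  obtain ⟨z, hz, e⟩ := mem_rot cs hv hk
  obtain ⟨z', hz', e'⟩ := mem_rot cs hv' hk'
  have h1 : (v' * cs.simple k' * v'⁻¹) * (v' * cs.simple k' * v'⁻¹) = 1 := by
    have : (v' * cs.simple k' * v'⁻¹) * (v' * cs.simple k' * v'⁻¹) =
      v' * (cs.simple k' * cs.simple k') * v'⁻¹ := by group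
    rw [this, cs.simple_mul_simple_self, mul_one, mul_inv_cancel]
  have h2 : v' * cs.simple k' * v'⁻¹ = cs.simple i * z'⁻¹ := by
    have h3 := inv_eq_of_mul_eq_one_right h1
    rw [← h3, e', mul_inv_rev, cs.inv_simple]
  have h3 : v * cs.simple k * v⁻¹ * (v' * cs.simple k' * v'⁻¹) = z * z'⁻¹ := by
    rw [e, h2]
    calc z * cs.simple i * (cs.simple i * z'⁻¹) = z * (cs.simple i * cs.simple i) * z'⁻¹ := by
          simp only [mul_assoc]
      _ = _ := by rw [cs.simple_mul_simple_self, mul_one]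
  rw [h3]
  obtain ⟨n, hn⟩ := Subgroup.mem_zpowers_iff.1 (mul_mem hz (inv_mem hz'))
  rw [← hn, ← zpow_natCast, zpow_comm, zpow_natCast, cs.simple_mul_simple_pow, one_zpow]

include h in
/-- **Two reflections of a finite crystallographic Coxeter group**. -/
theorem exists_pow [Finite W] {r s : W} (hr : cs.IsReflection r) (hs : cs.IsReflection s) (hrs : r ≠ s) :
    ∃ i j : I, i ≠ j ∧ (r * s) ^ M i j = 1 := by
  obtain ⟨w, a, rfl⟩ := hr
  obtain ⟨w', b, rfl⟩ := hs
  have hx : IsRoot cs h (rep cs h w (sr a)) := ⟨w, a, rfl⟩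
  have hy : IsRoot cs h (rep cs h w' (sr b)) := ⟨w', b, rfl⟩
  have hne : rep cs h w (sr a) ≠ rep cs h w' (sr b) := fun e => hrs (conj_simple_eq cs h (Or.inl e))
  have hne' : rep cs h w (sr a) ≠ -rep cs h w' (sr b) := fun e => hrs (conj_simple_eq cs h (Or.inr e))
  obtain ⟨g, i, j, hij, hsx, hsy⟩ := exists_plane cs h hx hy hne hne'
  obtain ⟨v, hv, k, hk, ek⟩ := exists_of_supp cs h (hx.act g) hsx
  obtain ⟨v', hv', k', hk', ek'⟩ := exists_of_supp cs h (hy.act g) hsy
  refine ⟨i, j, hij, ?_⟩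
  have h1 : (g * w) * cs.simple a * (g * w)⁻¹ = v * cs.simple k * v⁻¹ := by
    apply conj_simple_eq cs h
    left
    rw [← ek, rep_mul_apply]
  have h2 : (g * w') * cs.simple b * (g * w')⁻¹ = v' * cs.simple k' * v'⁻¹ := by
    apply conj_simple_eq cs h
    left
    rw [← ek', rep_mul_apply]
  have h3 := prod_mem_rot cs hv hv' hk hk'
  rw [← h1, ← h2] at h3
  have h4 : g * w * cs.simple a * (g * w)⁻¹ * (g * w' * cs.simple b * (g * w')⁻¹) =
      g * (w * cs.simple a * w⁻¹ * (w' * cs.simple b * w'⁻¹)) * g⁻¹ := by group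
  rw [h4, conj_pow] at h3
  have h5 : g⁻¹ * (g * (w * cs.simple a * w⁻¹ * (w' * cs.simple b * w'⁻¹)) ^ M i j * g⁻¹) * g = 1 := by
    rw [h3, mul_one, inv_mul_cancel]
  rw [← h5]
  group

end Cartan

/-! ### All labels at most three -/

variable {I W : Type*} [Finite I] [Group W] {M : CoxeterMatrix I} (cs : CoxeterSystem M W)

/-- **Simply laced**: the product of two reflections has order 1, 2 or 3. -/
theorem pow_two_or_pow_three [Finite W] (hM : ∀ i j, i ≠ j → M i j = 2 ∨ M i j = 3) {r s : W}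
    (hr : cs.IsReflection r) (hs : cs.IsReflection s) : (r * s) ^ 2 = 1 ∨ (r * s) ^ 3 = 1 := by
  classical
  have := Fintype.ofFinite I
  by_cases hrs : r = s
  · left
    rw [hrs, hs.mul_self, one_pow]
  obtain ⟨A, hA⟩ := exists_cartan M fun i j hij => (hM i j hij).imp_right Or.inl
  obtain ⟨i, j, hij, h1⟩ := exists_pow cs hA hr hs hrs
  rcases hM i j hij with h2 | h2
  · left; rwa [h2] at h1
  · right; rwa [h2] at h1

/-- **Simply laced**: `s r s = r` or `s r s = r s r`. -/
theorem conj_eq [Finite W] (hM : ∀ i j, i ≠ j → M i j = 2 ∨ M i j = 3) {r s : W}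
    (hr : cs.IsReflection r) (hs : cs.IsReflection s) : s * r * s = r ∨ s * r * s = r * s * r := by
  have hrr := hr.mul_self
  have hss := hs.mul_self
  rcases pow_two_or_pow_three cs hM hr hs with h1 | h1
  · left
    have h2 : r * (s * r * s) = 1 := by
      rw [← h1, pow_two]
      simp only [mul_assoc]
    rw [← inv_eq_of_mul_eq_one_right h2, inv_eq_of_mul_eq_one_right hrr]
  · right
    have h2 : (r * s * r) * (s * r * s) = 1 := by
      rw [← h1, pow_succ, pow_two]
      simp only [mul_assoc]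
    have h3 : (r * s * r) * (r * s * r) = 1 := by
      calc (r * s * r) * (r * s * r) = r * (s * (r * r) * s) * r := by simp only [mul_assoc]
        _ = 1 := by rw [hrr, mul_one, hss, mul_one, hrr]
    rw [← inv_eq_of_mul_eq_one_right h2, inv_eq_of_mul_eq_one_right h3]

end Cfsg.Agent.Omega.ML.Ex.WallCox

end

section


/-!
# Trivial walls and good nodes (helper530, for the WALL THEOREM #22477, parts (3) and (4))

`J₀` a type, `LL` the family of the proper invariant types (`LL : Set I → Prop`).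

* `Triv cs J₀ LL x` : `x = v t v⁻¹`, `v ∈ W_{J₀}`, `t` a reflection of `W_L`, `LL L`;
* `Good cs J₀ LL i` : `s_i r s_i` is trivial for all reflections `r` of `W_{J₀}`;
* `good_of_subset`, `good_of_laced` (all labels at most 3);
* `triv_of_supp` : in terms of roots;
* `goodB`, `trivB` : type `B_n`, `n ≥ 3`;  `goodF`, `goodF_graph` : type `F₄`.
-/

set_option autoImplicit false
set_option linter.unusedSectionVars false

namespace Cfsg.Agent.Omega.ML.Ex.WallGood

open CoxeterSystem Cfsg.Agent.ChevalleyStructure.CoxeterGeom Cfsg.Agent.Tits.Roots Cfsg.Agent.Tits.Core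
  Cfsg.Agent.Tits.RootComb Cfsg.Agent.Nodes.Comb Cfsg.Agent.Nodes.SubComb Cfsg.Agent.Nodes.Coroot
  Cfsg.Agent.Omega.ML.Ex.WallCox

section Defs

variable {I W : Type*} [Group W] {M : CoxeterMatrix I} (cs : CoxeterSystem M W)

/-- The reflection `x` is trivial. -/
def Triv (J₀ : Set I) (LL : Set I → Prop) (x : W) : Prop :=
  ∃ v ∈ WJ cs J₀, ∃ L, LL L ∧ ∃ l ∈ WJ cs L, ∃ k ∈ L, x = v * (l * cs.simple k * l⁻¹) * v⁻¹

/-- The node `i` is good. -/
def Good (J₀ : Set I) (LL : Set I → Prop) (i : I) : Prop :=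
  ∀ w ∈ WJ cs J₀, ∀ j ∈ J₀, Triv cs J₀ LL (cs.simple i * (w * cs.simple j * w⁻¹) * cs.simple i)

variable {cs} {J₀ : Set I} {LL : Set I → Prop}

theorem simple_mem_WJ' {L : Set I} {i : I} (hi : i ∈ L) : cs.simple i ∈ WJ cs L :=
  Subgroup.subset_closure ⟨i, hi, rfl⟩

theorem Triv.conj {x v : W} (h : Triv cs J₀ LL x) (hv : v ∈ WJ cs J₀) : Triv cs J₀ LL (v * x * v⁻¹) := by
  obtain ⟨u, hu, L, hL, l, hl, k, hk, rfl⟩ := h
  exact ⟨v * u, mul_mem hv hu, L, hL, l, hl, k, hk, by group⟩

theorem triv_of_mem {L : Set I} (hL : LL L) {l : W} (hl : l ∈ WJ cs L) {k : I} (hk : k ∈ L) :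
    Triv cs J₀ LL (l * cs.simple k * l⁻¹) :=
  ⟨1, one_mem _, L, hL, l, hl, k, hk, by group⟩

/-- The node and `J₀` are in a proper invariant type. -/
theorem good_of_subset {L : Set I} (hL : LL L) (hJ : J₀ ⊆ L) {i : I} (hi : i ∈ L) : Good cs J₀ LL i := by
  intro w hw j hj
  have hw' : w ∈ WJ cs L := Subgroup.closure_mono (Set.image_mono hJ) hw
  have h1 : cs.simple i * (w * cs.simple j * w⁻¹) * cs.simple i =
      (cs.simple i * w) * cs.simple j * (cs.simple i * w)⁻¹ := by
    rw [mul_inv_rev, cs.inv_simple]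
    simp only [mul_assoc]
  rw [h1]
  exact triv_of_mem hL (mul_mem (simple_mem_WJ' hi) hw') (hJ hj)

/-- **Simply laced**: all nodes are good. -/
theorem good_of_laced [Finite I] [Finite W] (hM : ∀ i j, i ≠ j → M i j = 2 ∨ M i j = 3) (hJ : LL J₀) {i : I}
    (hi : ∃ L, LL L ∧ i ∈ L) : Good cs J₀ LL i := by
  intro w hw j hj
  obtain ⟨L, hL, hiL⟩ := hi
  have hr : cs.IsReflection (w * cs.simple j * w⁻¹) := ⟨w, j, rfl⟩
  rcases conj_eq cs hM hr (cs.isReflection_simple i) with h1 | h1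
  · rw [h1]
    exact triv_of_mem hJ hw hj
  · rw [h1]
    have h2 : (w * cs.simple j * w⁻¹)⁻¹ = w * cs.simple j * w⁻¹ := by
      rw [mul_inv_rev, mul_inv_rev, inv_inv, cs.inv_simple, mul_assoc]
    refine ⟨w * cs.simple j * w⁻¹, mul_mem (mul_mem hw (simple_mem_WJ' hj)) (inv_mem hw), L, hL, 1, one_mem _, i, hiL,
      ?_⟩
    rw [h2, one_mul, inv_one, mul_one]

end Defs

/-! ### Roots -/

section Roots

variable {I W : Type*} [Fintype I] [DecidableEq I] [Group W] {M : CoxeterMatrix I}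
  (cs : CoxeterSystem M W) {A : I → I → ℤ} (h : IsCartan M A) {J₀ : Set I} {LL : Set I → Prop}

theorem exists_of_support_aux [Finite W] {L : Set I} (n : ℕ) : ∀ x : I → ℤ, IsRoot cs h x → (∀ k, k ∉ L → x k = 0) →
    0 ≤ x → ht x ≤ n → ∃ v ∈ WJ cs L, ∃ k ∈ L, x = rep cs h v (sr k) := by
  have : Fintype W := Fintype.ofFinite W
  induction n with
  | zero =>
    intro x hx _ h0 hn
    exfalso
    apply hx.ne_zero
    have h1 : ∑ k, x k = 0 := le_antisymm hn (Finset.sum_nonneg fun k _ => h0 k)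
    funext k
    exact (Finset.sum_eq_zero_iff_of_nonneg (fun k _ => h0 k)).1 h1 k (Finset.mem_univ k)
  | succ n ih =>
    intro x hx hs h0 hn
    obtain ⟨m, hm, hm'⟩ := exists_pairing_pos cs h h0 hx.ne_zero
    have hmL : m ∈ L := by
      by_contra hcon
      rw [hs m hcon] at hm
      exact lt_irrefl _ hm
    by_cases hxm : x = sr m
    · exact ⟨1, one_mem _, m, hmL, by rw [map_one, Module.End.one_apply]; exact hxm⟩
    have hmem : cs.simple m ∈ WJ cs L := simple_mem_WJ' hmL
    obtain ⟨v, hv, k, hk, e⟩ := ih (rep cs h (cs.simple m) x) (hx.act _)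
      (fun k hk => by rw [rep_apply_of_mem cs h hmem x hk]; exact hs k hk)
      (hx.simple_nonneg h0 m hxm) (by rw [ht_simple]; push_cast at hn ⊢; linarith)
    refine ⟨cs.simple m * v, mul_mem hmem hv, k, hk, ?_⟩
    rw [rep_mul_apply, ← e, ← rep_mul_apply, simple_mul_simple_self, map_one, Module.End.one_apply]

/-- A root supported on `L` is `v (α_k)` with `v ∈ W_L`, `k ∈ L`. -/
theorem exists_of_support [Finite W] {L : Set I} {x : I → ℤ} (hx : IsRoot cs h x) (hs : ∀ k, k ∉ L → x k = 0) :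
    ∃ v ∈ WJ cs L, ∃ k ∈ L, x = rep cs h v (sr k) := by
  rcases hx.pos_or_neg with h0 | h0
  · exact exists_of_support_aux cs h (ht x).toNat x hx hs h0 (Int.self_le_toNat _)
  · obtain ⟨v, hv, k, hk, e⟩ := exists_of_support_aux cs h (ht (-x)).toNat (-x) hx.neg
      (fun k hk => by rw [Pi.neg_apply, hs k hk, neg_zero]) (neg_nonneg.2 h0) (Int.self_le_toNat _)
    refine ⟨v * cs.simple k, mul_mem hv (simple_mem_WJ' hk), k, hk, ?_⟩
    rw [rep_mul_apply, rep_simple_sr, map_neg, ← e, neg_neg]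

/-- A reflection is trivial if a `W_{J₀}`-conjugate of its root is supported on some `L` in `LL`. -/
theorem triv_of_supp [Finite W] {g : W} {c : I} {v : W} (hv : v ∈ WJ cs J₀) {L : Set I} (hL : LL L)
    (hs : ∀ k, k ∉ L → rep cs h v (rep cs h g (sr c)) k = 0) : Triv cs J₀ LL (g * cs.simple c * g⁻¹) := by
  have hx0 : IsRoot cs h (rep cs h g (sr c)) := ⟨g, c, rfl⟩
  have hx : IsRoot cs h (rep cs h v (rep cs h g (sr c))) := hx0.act v
  obtain ⟨l, hl, k, hk, e⟩ := exists_of_support cs h hx hs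
  rw [← rep_mul_apply] at e
  have h1 := conj_simple_eq cs h (Or.inl e)
  refine ⟨v⁻¹, inv_mem hv, L, hL, l, hl, k, hk, ?_⟩
  rw [← h1]
  group

/-- The node `i` is good in terms of the roots of `W_{J₀}`. -/
theorem good_of_supp [Finite W] {i : I}
    (H : ∀ x, IsRoot cs h x → (∀ k, k ∉ J₀ → x k = 0) → ∃ v ∈ WJ cs J₀, ∃ L, LL L ∧
      ∀ k, k ∉ L → rep cs h v (rep cs h (cs.simple i) x) k = 0) : Good cs J₀ LL i := by
  intro w hw j hj
  have hx : IsRoot cs h (rep cs h w (sr j)) := ⟨w, j, rfl⟩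
  obtain ⟨v, hv, L, hL, hs⟩ := H _ hx (fun k hk => by
    rw [rep_apply_of_mem cs h hw _ hk]
    exact sr_ne (fun e => hk (by rw [e]; exact hj)))
  have h1 : cs.simple i * (w * cs.simple j * w⁻¹) * cs.simple i =
      (cs.simple i * w) * cs.simple j * (cs.simple i * w)⁻¹ := by
    rw [mul_inv_rev, cs.inv_simple]
    simp only [mul_assoc]
  rw [h1]
  refine triv_of_supp cs h hv hL ?_
  intro k hk
  rw [rep_mul_apply]
  exact hs k hk

end Roots

/-! ### Type `B_n` -/

section TypeB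

open Cfsg.Agent.Nodes.TypeC

variable {n : ℕ} {W : Type*} [Group W] (cs : CoxeterSystem (CoxeterMatrix.B n) W) {J₀ : Set (Fin n)}
  {LL : Set (Fin n) → Prop}

/-- the sign of a signed index -/
def sn (a : Fin n × Bool) : ℤ := if a.2 then 1 else -1

theorem sn_cases (a : Fin n × Bool) : sn a = 1 ∨ sn a = -1 := by
  unfold sn; split_ifs <;> simp

/-- coordinates of a root -/
theorem coord {x : Fin n → ℤ} {a b : Fin n × Bool} (e : ee x = wt a + wt b) (k : Fin n) :
    (if (k : ℕ) + 1 < n then 1 else 2) * x k = (if a.1 ≤ k then sn a else 0) + (if b.1 ≤ k then sn b else 0) := by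
  have key : ∑ m ∈ Finset.Iic k, ee x m = (if (k : ℕ) + 1 < n then 1 else 2) * x k := by
    have h1 : ∀ m, ee x m = ∑ j, x j * bt j m := by
      intro m
      simp [ee, Finset.sum_apply]
    simp only [h1]
    rw [Finset.sum_comm]
    simp only [← Finset.mul_sum, sum_bt]
    rw [Finset.sum_eq_single k]
    · simp only [if_true]
      split_ifs <;> ring
    · intro j _ hj
      simp [Ne.symm hj]
    · simp
  have h2 : ∀ c : Fin n × Bool, ∑ m ∈ Finset.Iic k, wt c m = if c.1 ≤ k then sn c else 0 := by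
    intro c
    rw [wt, Finset.sum_pi_single']
    simp only [Finset.mem_Iic, sn]
  rw [← key, e]
  simp only [Pi.add_apply, Finset.sum_add_distrib, h2]

theorem sn_sg {i : Fin n} (hi : (i : ℕ) + 1 < n) (a : Fin n × Bool) : sn (sg i a) = sn a := by
  unfold sn sg
  rw [dif_pos hi]
  split_ifs <;> simp_all

theorem ee_rep_simple {x : Fin n → ℤ} {a b : Fin n × Bool} (e : ee x = wt a + wt b) (i : Fin n) :
    ee (rep cs (isCartan n) (cs.simple i) x) = wt (sg i a) + wt (sg i b) := by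
  rw [rep_simple, ee_refl_of e]

theorem eq_zero_of_coord {x : Fin n → ℤ} {a b : Fin n × Bool} (e : ee x = wt a + wt b) {k : Fin n}
    (h : (if a.1 ≤ k then sn a else 0) + (if b.1 ≤ k then sn b else 0) = 0) : x k = 0 := by
  have h1 := coord e k
  rw [h] at h1
  split_ifs at h1 <;> omega

/-- **Type `B_n`**: every node outside `J₀` is good, unless `J₀` is the complement of the first node. -/
theorem goodB (hn : 3 ≤ n) (hLL : ∀ L, L ≠ Set.univ → LL L) {i : Fin n} (hi : i ∉ J₀)
    (hne : J₀ ≠ {k : Fin n | (k : ℕ) ≠ 0}) : Good cs J₀ LL i := by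
  have hW : Finite W := finite_W cs
  by_cases hJ : insert i J₀ = Set.univ
  swap
  · exact good_of_subset (hLL _ hJ) (Set.subset_insert _ _) (Set.mem_insert _ _)
  have hJ' : ∀ k, k ∈ J₀ ↔ k ≠ i := by
    intro k
    refine ⟨fun hk e => hi (e ▸ hk), fun hk => ?_⟩
    have h1 : k ∈ insert i J₀ := by rw [hJ]; trivial
    rcases h1 with h1 | h1
    · exact absurd h1 hk
    · exact h1
  have hi0 : (i : ℕ) ≠ 0 := by
    intro h0
    apply hne
    ext k
    rw [hJ', Set.mem_ofPred_eq, Ne, Fin.ext_iff, h0]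
  have hL : ∀ c : Fin n, LL {k | k ≠ c} := fun c => hLL _ (fun h => by
    have : c ∈ {k : Fin n | k ≠ c} := by rw [h]; trivial
    exact this rfl)
  refine good_of_supp cs (isCartan n) ?_
  intro x hx hsx
  have hxi : x i = 0 := hsx i hi
  obtain ⟨a, b, hab, e⟩ := exists_of_isRoot cs hx
  have e1 := ee_rep_simple cs e i
  -- it is enough to find a zero coordinate of a `W_{J₀}`-conjugate
  suffices H : ∃ v ∈ WJ cs J₀, ∃ c, rep cs (isCartan n) v (rep cs (isCartan n) (cs.simple i) x) c = 0 by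
    obtain ⟨v, hv, c, hc⟩ := H
    refine ⟨v, hv, {k | k ≠ c}, hL c, ?_⟩
    intro k hk
    have hk' : k = c := by
      by_contra h1
      exact hk h1
    rw [hk', hc]
  have hone : ∀ c, rep cs (isCartan n) (cs.simple i) x c = 0 →
      ∃ v ∈ WJ cs J₀, ∃ c, rep cs (isCartan n) v (rep cs (isCartan n) (cs.simple i) x) c = 0 := by
    intro c hc
    exact ⟨1, one_mem _, c, by rw [map_one, Module.End.one_apply]; exact hc⟩
  have h0 := coord e i
  rw [hxi, mul_zero] at h0
  have hi2 := i.2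
  set z : Fin n := ⟨0, by omega⟩ with hz
  set l : Fin n := ⟨n - 1, by omega⟩ with hl
  by_cases hin : (i : ℕ) + 1 < n
  · by_cases hs : sn a + sn b = 0
    · refine hone l (eq_zero_of_coord e1 ?_)
      have h1 : (sg i a).1 ≤ l := by rw [Fin.le_def, hl]; have := (sg i a).1.2; simp only; omega
      have h2 : (sg i b).1 ≤ l := by rw [Fin.le_def, hl]; have := (sg i b).1.2; simp only; omega
      rw [if_pos h1, if_pos h2, sn_sg hin, sn_sg hin, hs]
    · refine hone z (eq_zero_of_coord e1 ?_)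
      have key : ∀ d : Fin n × Bool, ¬ d.1 ≤ i → ¬ (sg i d).1 ≤ z := by
        intro d hd
        rw [Fin.le_def] at hd ⊢
        unfold sg
        rw [dif_pos hin]
        have h3 : d.1 ≠ i := by rintro rfl; exact hd le_rfl
        rw [if_neg h3]
        by_cases h4 : d.1 = ⟨(i : ℕ) + 1, hin⟩
        · rw [if_pos h4]; simp only [hz]; omega
        · rw [if_neg h4]; simp only [hz]; omega
      have h1 : ¬ a.1 ≤ i := by
        intro h1
        rw [if_pos h1] at h0
        rcases sn_cases a with h2 | h2 <;> rcases sn_cases b with h3 | h3 <;> rw [h2, h3] at h0 hs <;>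
          split_ifs at h0 <;> omega
      have h2 : ¬ b.1 ≤ i := by
        intro h2
        rw [if_neg h1, if_pos h2] at h0
        rcases sn_cases b with h3 | h3 <;> rw [h3] at h0 <;> omega
      rw [if_neg (key a h1), if_neg (key b h2), add_zero]
  · -- the last node
    have hil : i = l := Fin.ext (by simp only [hl]; omega)
    have ha : a.1 ≤ i := by rw [Fin.le_def]; have := a.1.2; omega
    have hb : b.1 ≤ i := by rw [Fin.le_def]; have := b.1.2; omega
    rw [if_pos ha, if_pos hb] at h0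
    have hne' : a.1 ≠ b.1 := by
      rcases hab with h1 | h1
      · exact h1
      · exfalso
        rw [h1] at h0
        rcases sn_cases b with h3 | h3 <;> rw [h3] at h0 <;> omega
    have hfix : ∀ d : Fin n × Bool, d.1 ≠ i → sg i d = d := fun d hd =>
      sg_of_ne hd (by have := d.1.2; omega)
    -- the main case
    have main : ∀ a b : Fin n × Bool, ee (rep cs (isCartan n) (cs.simple i) x) = wt (sg i a) + wt (sg i b) →
        a.1 = i → b.1 ≠ i →
        ∃ v ∈ WJ cs J₀, ∃ c, rep cs (isCartan n) v (rep cs (isCartan n) (cs.simple i) x) c = 0 := by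
      intro a b e1 ha hb
      rw [hfix b hb] at e1
      have hsga : (sg i a).1 = i := by
        unfold sg
        rw [dif_neg hin, if_pos ha]
        exact ha
      by_cases hb0 : b.1 = z
      · refine ⟨cs.simple z, simple_mem_WJ' ((hJ' z).2 ?_), z, ?_⟩
        · intro h1; apply hi0; rw [← h1]
        have e2 := ee_rep_simple cs e1 z
        refine eq_zero_of_coord e2 ?_
        have h1 : sg z (sg i a) = sg i a := sg_of_ne (by rw [hsga]; intro h1; apply hi0; rw [h1])
          (by rw [hsga]; simp only [hz]; omega)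
        have h2 : (sg z b).1 = ⟨(z : ℕ) + 1, by simp only [hz]; omega⟩ := by
          unfold sg
          rw [dif_pos (by simp only [hz]; omega), if_pos hb0]
        rw [h1, hsga, if_neg, if_neg, add_zero]
        · rw [h2, Fin.le_def]; simp only [hz]; omega
        · rw [Fin.le_def]; simp only [hz]; omega
      · refine hone z (eq_zero_of_coord e1 ?_)
        rw [hsga, if_neg, if_neg, add_zero]
        · rw [Fin.le_def]
          intro h1
          apply hb0
          apply Fin.ext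
          simp only [hz] at h1 ⊢
          omega
        · rw [Fin.le_def]; simp only [hz]; omega
    by_cases hai : a.1 = i
    · exact main a b e1 hai (fun h1 => hne' (hai.trans h1.symm))
    · by_cases hbi : b.1 = i
      · exact main b a (by rw [e1, add_comm]) hbi hai
      · refine hone l (eq_zero_of_coord e1 ?_)
        rw [hfix a hai, hfix b hbi, ← hil, if_pos ha, if_pos hb]
        exact h0.symm

/-- **Type `B_n`**, `J₀` the complement of the first node: all reflections are trivial, except one. -/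
theorem trivB (hn : 2 ≤ n) (hLL : ∀ L, L ≠ Set.univ → LL L) (g : W) (c : Fin n) :
    Triv cs {k : Fin n | (k : ℕ) ≠ 0} LL (g * cs.simple c * g⁻¹) ∨
      ∃ s, ee (rep cs (isCartan n) g (sr c)) = wt (⟨0, by omega⟩, s) + wt (⟨0, by omega⟩, s) := by
  have hW : Finite W := finite_W cs
  have hL : ∀ c : Fin n, LL {k | k ≠ c} := fun c => hLL _ (fun h => by
    have : c ∈ {k : Fin n | k ≠ c} := by rw [h]; trivial
    exact this rfl)
  set z : Fin n := ⟨0, by omega⟩ with hz
  set l : Fin n := ⟨n - 1, by omega⟩ with hl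
  have hLz : LL {k : Fin n | (k : ℕ) ≠ 0} := by
    have h1 := hL z
    have h2 : {k : Fin n | (k : ℕ) ≠ 0} = {k | k ≠ z} := by
      ext k
      rw [Set.mem_ofPred_eq, Set.mem_ofPred_eq, Ne, Ne, Fin.ext_iff]
    rwa [h2]
  have hx : IsRoot cs (isCartan n) (rep cs (isCartan n) g (sr c)) := ⟨g, c, rfl⟩
  obtain ⟨a, b, hab, e⟩ := exists_of_isRoot cs hx
  -- flip a sign
  have flip : ∀ d : ℕ, ∀ q : Fin n, (q : ℕ) ≠ 0 → (q : ℕ) + d + 1 = n → ∃ v ∈ WJ cs {k : Fin n | (k : ℕ) ≠ 0},
      ∀ x s t, ee x = wt (z, s) + wt (q, t) → ee (rep cs (isCartan n) v x) = wt (z, s) + wt (l, !t) := by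
    intro d
    induction d with
    | zero =>
      intro q hq hqn
      refine ⟨cs.simple q, simple_mem_WJ' hq, ?_⟩
      intro x s t hx
      have h1 := ee_rep_simple cs hx q
      rw [sg_of_ne (i := q) (x := (z, s)) (by intro h2; apply hq; rw [← show z = q from h2])
        (by simp only [hz]; omega), sg_last (by omega)] at h1
      rw [h1]
      have h2 : q = l := Fin.ext (by simp only [hl]; omega)
      rw [h2]
    | succ d ih =>
      intro q hq hqn
      obtain ⟨v, hv, H⟩ := ih ⟨(q : ℕ) + 1, by omega⟩ (by simp) (by simp only; omega)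
      refine ⟨v * cs.simple q, mul_mem hv (simple_mem_WJ' hq), ?_⟩
      intro x s t hx
      have h1 := ee_rep_simple cs hx q
      rw [sg_of_ne (i := q) (x := (z, s)) (by intro h2; apply hq; rw [← show z = q from h2])
        (by simp only [hz]; omega), sg_up (by omega)] at h1
      rw [rep_mul_apply]
      exact H _ s t h1
  have main : ∀ a b : Fin n × Bool, ee (rep cs (isCartan n) g (sr c)) = wt a + wt b → a.1 = z → b.1 ≠ z →
      Triv cs {k : Fin n | (k : ℕ) ≠ 0} LL (g * cs.simple c * g⁻¹) := by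
    intro a b e ha hb
    have ha' : a = (z, a.2) := Prod.ext ha rfl
    have hb' : b = (b.1, b.2) := rfl
    have hb0 : (b.1 : ℕ) ≠ 0 := fun h1 => hb (Fin.ext (by simp only [hz]; exact h1))
    have hfin : ∀ v ∈ WJ cs {k : Fin n | (k : ℕ) ≠ 0}, rep cs (isCartan n) v (rep cs (isCartan n) g (sr c)) l = 0 →
        Triv cs {k : Fin n | (k : ℕ) ≠ 0} LL (g * cs.simple c * g⁻¹) := by
      intro v hv h1
      refine triv_of_supp cs (isCartan n) hv (hL l) ?_
      intro k hk
      have hk' : k = l := by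
        by_contra h2
        exact hk h2
      rw [hk', h1]
    by_cases hs : a.2 = b.2
    · obtain ⟨v, hv, H⟩ := flip (n - b.1 - 1) b.1 hb0 (by have := b.1.2; omega)
      have h1 := H _ a.2 b.2 (by rw [e]; congr 1; rw [ha'])
      refine hfin v hv (eq_zero_of_coord h1 ?_)
      rw [if_pos (by rw [Fin.le_def]; simp only [hz]; omega), if_pos le_rfl]
      unfold sn
      rw [hs]
      cases b.2 <;> simp
    · refine hfin 1 (one_mem _) ?_
      rw [map_one, Module.End.one_apply]
      refine eq_zero_of_coord e ?_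
      rw [if_pos (by rw [Fin.le_def]; have := a.1.2; simp only [hl]; omega),
        if_pos (by rw [Fin.le_def]; have := b.1.2; simp only [hl]; omega)]
      have h3 : a.2 = !b.2 := Bool.eq_not.2 hs
      unfold sn
      rw [h3]
      cases b.2 <;> simp
  by_cases ha : a.1 = z
  · by_cases hb : b.1 = z
    · right
      have hab' : a = b := by
        rcases hab with h1 | h1
        · exact absurd (ha.trans hb.symm) h1
        · exact h1
      refine ⟨b.2, ?_⟩
      rw [e, hab']
      have hb' : b = (z, b.2) := Prod.ext hb rfl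
      rw [← hb']
    · exact Or.inl (main a b e ha hb)
  · by_cases hb : b.1 = z
    · exact Or.inl (main b a (by rw [e, add_comm]) hb ha)
    · left
      refine triv_of_supp cs (isCartan n) (one_mem _) hLz ?_
      intro k hk
      have hk' : k = z := Fin.ext (by simp only [hz]; by_contra h2; exact hk h2)
      rw [map_one, Module.End.one_apply, hk']
      refine eq_zero_of_coord e ?_
      rw [if_neg, if_neg, add_zero]
      · rw [Fin.le_def]; intro h1; apply hb; apply Fin.ext; simp only [hz] at h1 ⊢; omega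
      · rw [Fin.le_def]; intro h1; apply ha; apply Fin.ext; simp only [hz] at h1 ⊢; omega

/-- The exceptional reflection is unique. -/
theorem unique_of_ee {g g' : W} {c c' z : Fin n} {s s' : Bool}
    (e : ee (rep cs (isCartan n) g (sr c)) = wt (z, s) + wt (z, s))
    (e' : ee (rep cs (isCartan n) g' (sr c')) = wt (z, s') + wt (z, s')) :
    g * cs.simple c * g⁻¹ = g' * cs.simple c' * g'⁻¹ := by
  have hW : Finite W := finite_W cs
  apply conj_simple_eq cs (isCartan n)
  by_cases h1 : s = s'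
  · left
    apply ee_injective
    rw [e, e', h1]
  · right
    apply ee_injective
    have h2 : (z, s) = ng (z, s') := by
      unfold ng
      cases s <;> cases s' <;> simp_all
    rw [e, ee_neg, e', h2, wt_ng]
    abel

end TypeB

/-! ### Type `F₄` -/

section TypeF

variable {W : Type*} [Group W] (cs : CoxeterSystem CoxeterMatrix.F₄ W) {J₀ : Set (Fin 4)} {LL : Set (Fin 4) → Prop}

/-- A Cartan matrix of type `F₄`. -/
def AF : Fin 4 → Fin 4 → ℤ := !![2, -1, 0, 0; -1, 2, -1, 0; 0, -2, 2, -1; 0, 0, -1, 2]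

set_option backward.isDefEq.respectTransparency false in
theorem isCartanF : IsCartan CoxeterMatrix.F₄ AF := by
  constructor <;> decide +kernel

/-- The simple reflections. -/
def rf (k : Fin 4) (x : Fin 4 → ℤ) : Fin 4 → ℤ := fun m =>
  if m = k then x m - (AF k 0 * x 0 + AF k 1 * x 1 + AF k 2 * x 2 + AF k 3 * x 3) else x m

theorem rep_eq_rf (k : Fin 4) (x : Fin 4 → ℤ) : rep cs isCartanF (cs.simple k) x = rf k x := by
  funext m
  unfold rf
  by_cases h : m = k
  · rw [if_pos h, h, rep_simple_apply_self]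
    unfold pairing
    rw [Fin.sum_univ_four]
  · rw [if_neg h, rep_simple_apply _ _ _ _ _ h]

/-- The vector with given coordinates. -/
def vv (a b c d : ℤ) : Fin 4 → ℤ := ![a, b, c, d]

/-- The positive roots. -/
def posF : List (Fin 4 → ℤ) := [
  vv 0 0 0 1, vv 0 0 1 0, vv 0 0 1 1, vv 0 1 0 0,
  vv 0 1 1 0, vv 0 1 1 1, vv 0 1 2 0, vv 0 1 2 1,
  vv 0 1 2 2, vv 1 0 0 0, vv 1 1 0 0, vv 1 1 1 0,
  vv 1 1 1 1, vv 1 1 2 0, vv 1 1 2 1, vv 1 1 2 2,
  vv 1 2 2 0, vv 1 2 2 1, vv 1 2 2 2, vv 1 2 3 1,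
  vv 1 2 3 2, vv 1 2 4 2, vv 1 3 4 2, vv 2 3 4 2]

/-- The roots. -/
def rootsF : List (Fin 4 → ℤ) := posF ++ posF.map (fun x => -x)

theorem sr_mem_F : ∀ k : Fin 4, (sr k : Fin 4 → ℤ) ∈ rootsF := by
  decide +kernel

theorem rf_mem_F : ∀ x ∈ rootsF, ∀ k : Fin 4, rf k x ∈ rootsF := by
  decide +kernel

theorem mem_rootsF {x : Fin 4 → ℤ} (hx : IsRoot cs isCartanF x) : x ∈ rootsF := by
  obtain ⟨w, i, rfl⟩ := hx
  induction w using cs.simple_induction_left with
  | one =>
    rw [map_one, Module.End.one_apply]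
    exact sr_mem_F i
  | mul_simple_left w j ih =>
    rw [rep_mul_apply, rep_eq_rf]
    exact rf_mem_F _ ih j

include cs in
theorem finite_WF : Finite W := by
  have h1 : Function.Injective (fun (w : W) (i : Fin 4) =>
      (⟨rep cs isCartanF w (sr i), mem_rootsF cs ⟨w, i, rfl⟩⟩ : {x // x ∈ rootsF})) := by
    intro w w' e
    apply rep_injective cs isCartanF
    refine LinearMap.pi_ext' fun i => LinearMap.ext_ring ?_
    have h2 := congrArg Subtype.val (congrFun e i)
    exact h2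
  have : Finite {x // x ∈ rootsF} := by
    have h3 : {x | x ∈ rootsF}.Finite := List.finite_toSet rootsF
    exact h3
  exact Finite.of_injective _ h1

/-- The table for the first and the last node. -/
theorem tabF : ∀ x ∈ rootsF,
    (x 0 = 0 → ∃ c, rf 0 x c = 0 ∨ rf 3 (rf 0 x) c = 0 ∨ rf 3 (rf 2 (rf 0 x)) c = 0) ∧
    (x 1 = 0 → ∃ c, rf 1 x c = 0) ∧ (x 2 = 0 → ∃ c, rf 2 x c = 0) ∧
    (x 3 = 0 → ∃ c, rf 3 x c = 0 ∨ rf 0 (rf 3 x) c = 0 ∨ rf 0 (rf 1 (rf 3 x)) c = 0) := by
  decide +kernel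

/-- **Type `F₄`**: every node outside `J₀` is good. -/
theorem goodF (hLL : ∀ L, L ≠ Set.univ → LL L) {i : Fin 4} (hi : i ∉ J₀) : Good cs J₀ LL i := by
  have hW : Finite W := finite_WF cs
  by_cases hJ : insert i J₀ = Set.univ
  swap
  · exact good_of_subset (hLL _ hJ) (Set.subset_insert _ _) (Set.mem_insert _ _)
  have hJ' : ∀ k, k ≠ i → k ∈ J₀ := by
    intro k hk
    have h1 : k ∈ insert i J₀ := by rw [hJ]; trivial
    rcases h1 with h1 | h1
    · exact absurd h1 hk
    · exact h1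
  have hL : ∀ c : Fin 4, LL {k | k ≠ c} := fun c => hLL _ (fun h => by
    have : c ∈ {k : Fin 4 | k ≠ c} := by rw [h]; trivial
    exact this rfl)
  refine good_of_supp cs isCartanF ?_
  intro x hx hsx
  have hxi : x i = 0 := hsx i hi
  have ht := tabF x (mem_rootsF cs hx)
  suffices H : ∃ v ∈ WJ cs J₀, ∃ c, rep cs isCartanF v (rep cs isCartanF (cs.simple i) x) c = 0 by
    obtain ⟨v, hv, c, hc⟩ := H
    refine ⟨v, hv, {k | k ≠ c}, hL c, ?_⟩
    intro k hk
    have hk' : k = c := by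
      by_contra h1
      exact hk h1
    rw [hk', hc]
  have h0 : ∀ c, rf i x c = 0 →
      ∃ v ∈ WJ cs J₀, ∃ c, rep cs isCartanF v (rep cs isCartanF (cs.simple i) x) c = 0 := by
    intro c hc
    exact ⟨1, one_mem _, c, by rw [map_one, Module.End.one_apply, rep_eq_rf]; exact hc⟩
  have h1 : ∀ k, k ≠ i → ∀ c, rf k (rf i x) c = 0 →
      ∃ v ∈ WJ cs J₀, ∃ c, rep cs isCartanF v (rep cs isCartanF (cs.simple i) x) c = 0 := by
    intro k hk c hc
    exact ⟨cs.simple k, simple_mem_WJ' (hJ' k hk), c, by rw [rep_eq_rf, rep_eq_rf]; exact hc⟩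
  have h2 : ∀ k, k ≠ i → ∀ m, m ≠ i → ∀ c, rf k (rf m (rf i x)) c = 0 →
      ∃ v ∈ WJ cs J₀, ∃ c, rep cs isCartanF v (rep cs isCartanF (cs.simple i) x) c = 0 := by
    intro k hk m hm c hc
    refine ⟨cs.simple k * cs.simple m, mul_mem (simple_mem_WJ' (hJ' k hk)) (simple_mem_WJ' (hJ' m hm)), c, ?_⟩
    rw [rep_mul_apply, rep_eq_rf, rep_eq_rf, rep_eq_rf]
    exact hc
  obtain ⟨t0, t1, t2, t3⟩ := ht
  have hcase : ∀ i : Fin 4, i = 0 ∨ i = 1 ∨ i = 2 ∨ i = 3 := by decide
  rcases hcase i with rfl | rfl | rfl | rfl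
  · obtain ⟨c, hc | hc | hc⟩ := t0 hxi
    · exact h0 c hc
    · exact h1 3 (by decide) c hc
    · exact h2 3 (by decide) 2 (by decide) c hc
  · obtain ⟨c, hc⟩ := t1 hxi
    exact h0 c hc
  · obtain ⟨c, hc⟩ := t2 hxi
    exact h0 c hc
  · obtain ⟨c, hc | hc | hc⟩ := t3 hxi
    · exact h0 c hc
    · exact h1 0 (by decide) c hc
    · exact h2 0 (by decide) 1 (by decide) c hc

/-- **Type `F₄` with a graph automorphism**: the nodes 1, 2 are good for `J₀ = {0, 3}`. -/
theorem goodF_graph (h03 : LL {0, 3}) (h12 : LL {1, 2}) {i : Fin 4} (hi : i = 1 ∨ i = 2) :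
    Good cs {0, 3} LL i := by
  have hW : Finite W := finite_WF cs
  refine good_of_supp cs isCartanF ?_
  intro x hx hsx
  have hx1 : x 1 = 0 := hsx 1 (by simp)
  have hx2 : x 2 = 0 := hsx 2 (by simp)
  have key : ∀ x ∈ rootsF, x 1 = 0 → x 2 = 0 →
      (rf 1 x 1 = 0 ∧ rf 1 x 2 = 0 ∨ rf 0 (rf 1 x) 0 = 0 ∧ rf 0 (rf 1 x) 3 = 0) ∧
      (rf 2 x 1 = 0 ∧ rf 2 x 2 = 0 ∨ rf 3 (rf 2 x) 0 = 0 ∧ rf 3 (rf 2 x) 3 = 0) := by
    decide +kernel
  obtain ⟨k1, k2⟩ := key x (mem_rootsF cs hx) hx1 hx2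
  have hA : ∀ y : Fin 4 → ℤ, y 1 = 0 → y 2 = 0 → ∀ k, k ∉ ({0, 3} : Set (Fin 4)) → y k = 0 := by
    intro y h1 h2 k hk
    have h3 : k = 0 ∨ k = 1 ∨ k = 2 ∨ k = 3 := by revert k; decide
    rcases h3 with rfl | rfl | rfl | rfl
    · exact absurd (by simp) hk
    · exact h1
    · exact h2
    · exact absurd (by simp) hk
  have hB : ∀ y : Fin 4 → ℤ, y 0 = 0 → y 3 = 0 → ∀ k, k ∉ ({1, 2} : Set (Fin 4)) → y k = 0 := by
    intro y h1 h2 k hk
    have h3 : k = 0 ∨ k = 1 ∨ k = 2 ∨ k = 3 := by revert k; decide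
    rcases h3 with rfl | rfl | rfl | rfl
    · exact h1
    · exact absurd (by simp) hk
    · exact absurd (by simp) hk
    · exact h2
  rcases hi with rfl | rfl
  · rcases k1 with ⟨h1, h2⟩ | ⟨h1, h2⟩
    · refine ⟨1, one_mem _, {0, 3}, h03, ?_⟩
      rw [map_one, Module.End.one_apply, rep_eq_rf]
      exact hA _ h1 h2
    · refine ⟨cs.simple 0, simple_mem_WJ' (by simp), {1, 2}, h12, ?_⟩
      rw [rep_eq_rf, rep_eq_rf]
      exact hB _ h1 h2
  · rcases k2 with ⟨h1, h2⟩ | ⟨h1, h2⟩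
    · refine ⟨1, one_mem _, {0, 3}, h03, ?_⟩
      rw [map_one, Module.End.one_apply, rep_eq_rf]
      exact hA _ h1 h2
    · refine ⟨cs.simple 3, simple_mem_WJ' (by simp), {1, 2}, h12, ?_⟩
      rw [rep_eq_rf, rep_eq_rf]
      exact hB _ h1 h2

end TypeF

end Cfsg.Agent.Omega.ML.Ex.WallGood

end

section


/-!
# THEOREM SC (OMEGA, #21116 of helper899): exact quadratic groups are self-centralising; K-free

`H` acts on the finite elementary abelian 2-group `M`, `O` is a 2-subgroup of `H`, `fo M A = |A| |C_M(A)|`.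

* `NOel M O` : `|E| |C_M(E)| ≤ |M|` for all elementary abelian `E ≤ O`;
* `Exact M A` : `A` is elementary abelian, quadratic on `M` and `|A| |C_M(A)| = |M|`;
* `Exact.self_central` : **THEOREM SC** if `NOel M O` and `A ≤ O` is `Exact`, then every element of `O` centralising
  `C_M(A)` is in `A`;
* `Exact.le_of_cv_le` : `A` `Exact`, `B ≤ O`, `C_M(A) ≤ C_M(B)` imply `B ≤ A`;
* `Exact.eq_of_cv_eq`, `Exact.normalizes`.
-/

set_option autoImplicit false

namespace Cfsg.Agent.Omega.Tools.ExactSC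

open Subgroup Cfsg.Agent.ClassTwoFusion.Quad Cfsg.Agent.Omega.NOThree.NoOver
open scoped Pointwise

variable {H : Type*} [Group H] {M : Type*} [Group M] [MulDistribMulAction H M]

variable (M) in
/-- no over-offenders among the elementary abelian subgroups of `O` -/
def NOel (O : Subgroup H) : Prop := ∀ E ≤ O, (∀ a ∈ E, a * a = 1) → fo M E ≤ Nat.card M

variable (M) in
/-- elementary abelian, quadratic, `|A| |C_M(A)| = |M|` -/
structure Exact (A : Subgroup H) : Prop where
  sq : ∀ a ∈ A, a * a = 1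
  quad : ∀ a ∈ A, ∀ b ∈ A, ∀ m : M, b • d a m = d a m
  eq : fo M A = Nat.card M

/-- groups of exponent two are commutative -/
theorem comm_of_sq {G : Type*} [Group G] {A : Subgroup G} (h : ∀ a ∈ A, a * a = 1) {a b : G} (ha : a ∈ A) (hb : b ∈ A) :
    a * b = b * a := by
  have h1 := h _ (mul_mem ha hb)
  have h2 := h a ha
  have h3 := h b hb
  calc a * b = a * b * ((b * a) * (b * a)) := by rw [h _ (mul_mem hb ha), mul_one]
    _ = a * (b * b) * a * (b * a) := by group
    _ = b * a := by rw [h3, mul_one, h2, one_mul]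

section Elem

variable (h2 : ∀ v : M, v * v = 1)
include h2

theorem vcomm (v w : M) : v * w = w * v :=
  comm_of_sq (A := (⊤ : Subgroup M)) (fun a _ => h2 a) (mem_top v) (mem_top w)

theorem vinv (v : M) : v⁻¹ = v := inv_eq_of_mul_eq_one_right (h2 v)

theorem vsmul (x : H) (v : M) : x • v = d x v * v := by
  unfold d
  rw [mul_assoc, h2, mul_one]

theorem vd_one_iff (x : H) (v : M) : d x v = 1 ↔ x • v = v := by
  unfold d
  rw [mul_eq_one_iff_eq_inv, vinv h2]

theorem vd_mul (x : H) (v w : M) : d x (v * w) = d x v * d x w := by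
  letI : CommGroup M := { ‹Group M› with mul_comm := vcomm h2 }
  unfold d
  rw [smul_mul']
  exact mul_mul_mul_comm _ _ _ _

theorem vd_smul (x a : H) (v : M) : x • d a v = d (x * a * x⁻¹) (x • v) := by
  unfold d
  rw [smul_mul', ← mul_smul, ← mul_smul]
  congr 2
  group

end Elem

/-- `m ↦ [m, x]` -/
def dh (h2 : ∀ v : M, v * v = 1) (x : H) : M →* M where
  toFun := d x
  map_one' := by unfold d; rw [smul_one, mul_one]
  map_mul' := vd_mul h2 x

@[simp] theorem dh_apply (h2 : ∀ v : M, v * v = 1) (x : H) (m : M) : dh h2 x m = d x m := rfl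

/-- The situation of the proof: `x` normalises `A`, centralises `C_M(A)`, `x² ∈ A`. -/
structure Sit (M : Type*) [Group M] [MulDistribMulAction H M] (A : Subgroup H) (x : H) : Prop where
  norm : ∀ a ∈ A, x * a * x⁻¹ ∈ A
  cent : ∀ m ∈ cv M (A : Set H), x • m = m
  sqm : x * x ∈ A
  no : ∀ E ≤ A, fo M E ≤ Nat.card M

namespace Sit

variable {A : Subgroup H} {x : H} (h2 : ∀ v : M, v * v = 1) (hA : Exact M A) (h : Sit M A x)

/-- `a ↦ a a^x` on `A` -/
def tw (hA : Exact M A) (h : Sit M A x) : A →* A where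
  toFun a := ⟨a * (x * a * x⁻¹), mul_mem a.2 (h.norm _ a.2)⟩
  map_one' := by ext; simp
  map_mul' := by
    intro a b
    ext
    have h1 : (b : H) * (x * a * x⁻¹) = (x * a * x⁻¹) * b := comm_of_sq hA.sq b.2 (h.norm _ a.2)
    change (a : H) * b * (x * (a * b) * x⁻¹) = (a * (x * a * x⁻¹)) * (b * (x * b * x⁻¹))
    calc (a : H) * b * (x * (a * b) * x⁻¹) = a * (b * (x * a * x⁻¹)) * (x * b * x⁻¹) := by group
      _ = a * ((x * a * x⁻¹) * b) * (x * b * x⁻¹) := by rw [h1]
      _ = _ := by group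

/-- `D = [A, x]` -/
def D (hA : Exact M A) (h : Sit M A x) : Subgroup H := (tw hA h).range.map A.subtype

/-- `A_x = C_A(x)` -/
def Ax (hA : Exact M A) (h : Sit M A x) : Subgroup H := (tw hA h).ker.map A.subtype

theorem mem_D {e : H} : e ∈ D hA h ↔ ∃ a ∈ A, a * (x * a * x⁻¹) = e := by
  constructor
  · rintro ⟨_, ⟨a, rfl⟩, rfl⟩
    exact ⟨a, a.2, rfl⟩
  · rintro ⟨a, ha, rfl⟩
    exact ⟨_, ⟨⟨a, ha⟩, rfl⟩, rfl⟩

theorem mem_Ax {a : H} : a ∈ Ax hA h ↔ a ∈ A ∧ x * a * x⁻¹ = a := by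
  constructor
  · rintro ⟨b, hb, rfl⟩
    refine ⟨b.2, ?_⟩
    have h1 : (b : H) * (x * b * x⁻¹) = 1 := congrArg Subtype.val (MonoidHom.mem_ker.1 hb)
    have h3 : (b : H)⁻¹ = b := inv_eq_of_mul_eq_one_right (hA.sq _ b.2)
    change x * (b : H) * x⁻¹ = b
    rw [← inv_eq_of_mul_eq_one_right h1, h3]
  · rintro ⟨ha, h1⟩
    refine ⟨⟨a, ha⟩, ?_, rfl⟩
    rw [SetLike.mem_coe, MonoidHom.mem_ker]
    ext
    change a * (x * a * x⁻¹) = 1
    rw [h1, hA.sq a ha]

theorem D_le : D hA h ≤ A := by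
  rintro _ ⟨b, _, rfl⟩
  exact b.2

theorem Ax_le : Ax hA h ≤ A := by
  rintro _ ⟨b, _, rfl⟩
  exact b.2

theorem card_D_Ax [Finite H] : Nat.card (D hA h) * Nat.card (Ax hA h) = Nat.card A := by
  have h1 : Nat.card (D hA h) = Nat.card (tw hA h).range :=
    (Nat.card_congr ((tw hA h).range.equivMapOfInjective _ A.subtype_injective).toEquiv).symm
  have h3 : Nat.card (Ax hA h) = Nat.card (tw hA h).ker :=
    (Nat.card_congr ((tw hA h).ker.equivMapOfInjective _ A.subtype_injective).toEquiv).symm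
  rw [h1, h3, Subgroup.card_eq_card_quotient_mul_card_subgroup (tw hA h).ker]
  congr 1
  exact Nat.card_congr (QuotientGroup.quotientKerEquivRange (tw hA h)).toEquiv.symm

include hA h h2

theorem d_mem {a : H} (ha : a ∈ A) (m : M) : d a m ∈ cv M (A : Set H) := fun b hb => hA.quad a ha b hb m

/-- `(1)` -/
theorem eq1 {a : H} (ha : a ∈ A) (m : M) : d a m = d (x * a * x⁻¹) (x • m) := by
  rw [← vd_smul h2]
  exact (h.cent _ (d_mem h2 hA h ha m)).symm

/-- `(a)` -/
theorem range_le : (dh h2 x).range ≤ cv M (Ax hA h : Set H) := by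
  rintro _ ⟨m, rfl⟩ a ha
  obtain ⟨ha1, ha2⟩ := (mem_Ax hA h).1 ha
  have h1 := eq1 h2 hA h ha1 m
  rw [ha2, vsmul h2 x m, vd_mul h2] at h1
  have h3 : d a (d x m) = 1 := by
    have h4 : d a (d x m) * d a m * (d a m)⁻¹ = 1 := by rw [← h1, mul_inv_cancel]
    rwa [mul_inv_cancel_right] at h4
  exact (vd_one_iff h2 _ _).1 h3

/-- `M_x` -/
def Mx (_ : Exact M A) (_ : Sit M A x) : Subgroup M := (cv M (A : Set H)).comap (dh h2 x)

/-- `(b)` -/
theorem Mx_le : Mx h2 hA h ≤ cv M (D hA h : Set H) := by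
  intro m hm
  have hm' : d x m ∈ cv M (A : Set H) := hm
  rintro _ he
  obtain ⟨a, ha, rfl⟩ := (mem_D hA h).1 he
  have h1 := eq1 h2 hA h ha m
  have h3 : d (x * a * x⁻¹) (d x m) = 1 := (vd_one_iff h2 _ _).2 (hm' _ (h.norm a ha))
  rw [vsmul h2 x m, vd_mul h2, h3, one_mul] at h1
  have h4 : a • m = (x * a * x⁻¹) • m := by rw [vsmul h2 a, vsmul h2 (x * a * x⁻¹), h1]
  rw [mul_smul, ← h4, ← mul_smul, hA.sq a ha, one_smul]

/-- `|M : M_x| |[M,x] ∩ C| = |[M,x]|` -/
theorem card_Mx [Finite M] : Nat.card (Mx h2 hA h) * Nat.card (dh h2 x).range =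
    Nat.card M * Nat.card ((dh h2 x).range ⊓ cv M (A : Set H) : Subgroup M) := by
  have h1 : Nat.card M = Nat.card (dh h2 x).range * Nat.card (dh h2 x).ker := by
    rw [Subgroup.card_eq_card_quotient_mul_card_subgroup (dh h2 x).ker]
    congr 1
    exact Nat.card_congr (QuotientGroup.quotientKerEquivRange (dh h2 x)).toEquiv
  have h3 : Nat.card (Mx h2 hA h) =
      Nat.card ((dh h2 x).range ⊓ cv M (A : Set H) : Subgroup M) * Nat.card (dh h2 x).ker := by
    have hk : (dh h2 x).ker ≤ Mx h2 hA h := by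
      intro m hm
      change d x m ∈ cv M (A : Set H)
      rw [show d x m = 1 from hm]
      exact one_mem _
    set f : Mx h2 hA h →* M := (dh h2 x).comp (Mx h2 hA h).subtype with hf
    have hr : f.range = (dh h2 x).range ⊓ cv M (A : Set H) := by
      apply le_antisymm
      · rintro _ ⟨m, rfl⟩
        exact ⟨⟨m, rfl⟩, m.2⟩
      · rintro _ ⟨⟨m, rfl⟩, hm⟩
        exact ⟨⟨m, hm⟩, rfl⟩
    have hker : Nat.card f.ker = Nat.card (dh h2 x).ker := by
      have : f.ker = (dh h2 x).ker.subgroupOf (Mx h2 hA h) := by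
        ext m
        rfl
      rw [this]
      exact Nat.card_congr (Subgroup.subgroupOfEquivOfLe hk).toEquiv
    rw [Subgroup.card_eq_card_quotient_mul_card_subgroup f.ker, hker, ← hr]
    congr 1
    exact Nat.card_congr (QuotientGroup.quotientKerEquivRange f).toEquiv
  rw [h3, h1]
  ring

/-- `(c)`: all inequalities are equalities -/
theorem eqs [Finite H] [Finite M] : Mx h2 hA h = cv M (D hA h : Set H) ∧
    Nat.card (D hA h) * Nat.card (cv M (D hA h : Set H)) = Nat.card M ∧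
    (dh h2 x).range ⊔ cv M (A : Set H) = cv M (Ax hA h : Set H) ∧
    Nat.card (Ax hA h) * Nat.card (cv M (Ax hA h : Set H)) = Nat.card M := by
  have e1 := h.no _ (D_le hA h)
  have e2 := h.no _ (Ax_le hA h)
  have e3 := hA.eq
  have e4 := card_D_Ax hA h
  have e5 := card_Mx h2 hA h
  have hCA : cv M (A : Set H) ≤ cv M (Ax hA h : Set H) := cv_anti (SetLike.coe_subset_coe.2 (Ax_le hA h))
  have e6 : Nat.card ((dh h2 x).range ⊔ cv M (A : Set H) : Subgroup M) *
      Nat.card ((dh h2 x).range ⊓ cv M (A : Set H) : Subgroup M) =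
      Nat.card (dh h2 x).range * Nat.card (cv M (A : Set H)) := by
    apply card_sup_mul
    intro a _
    rw [mem_normalizer_iff]
    intro b
    rw [vcomm h2 a b, mul_inv_cancel_right]
  have e7 : Nat.card (Mx h2 hA h) ≤ Nat.card (cv M (D hA h : Set H)) := card_le_of_le (Mx_le h2 hA h)
  have hsup : (dh h2 x).range ⊔ cv M (A : Set H) ≤ cv M (Ax hA h : Set H) := sup_le (range_le h2 hA h) hCA
  have e8 : Nat.card ((dh h2 x).range ⊔ cv M (A : Set H) : Subgroup M) ≤ Nat.card (cv M (Ax hA h : Set H)) :=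
    card_le_of_le hsup
  unfold fo at e1 e2 e3
  set nD := Nat.card (D hA h)
  set nAx := Nat.card (Ax hA h)
  set nA := Nat.card A
  set nM := Nat.card M
  set nC := Nat.card (cv M (A : Set H))
  set nCD := Nat.card (cv M (D hA h : Set H))
  set nCAx := Nat.card (cv M (Ax hA h : Set H))
  set nMx := Nat.card (Mx h2 hA h)
  set nR := Nat.card (dh h2 x).range
  set nI := Nat.card ((dh h2 x).range ⊓ cv M (A : Set H) : Subgroup M)
  set nS := Nat.card ((dh h2 x).range ⊔ cv M (A : Set H) : Subgroup M)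
  have pD : 0 < nD := Nat.card_pos
  have pAx : 0 < nAx := Nat.card_pos
  have pM : 0 < nM := Nat.card_pos
  have pC : 0 < nC := Nat.card_pos
  have pCD : 0 < nCD := Nat.card_pos
  have pMx : 0 < nMx := Nat.card_pos
  have pI : 0 < nI := Nat.card_pos
  have pS : 0 < nS := Nat.card_pos
  have pCAx : 0 < nCAx := Nat.card_pos
  -- `nMx * nS = nM * nC`
  have f1 : nMx * nS = nM * nC := by
    have : nMx * nS * nI = nM * nC * nI := by
      calc nMx * nS * nI = nMx * (nS * nI) := by ring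
        _ = nMx * nR * nC := by rw [e6]; ring
        _ = nM * nC * nI := by rw [e5]; ring
    exact Nat.eq_of_mul_eq_mul_right pI this
  -- `nS ≤ nCAx`, `nAx * nCAx ≤ nM = nD nAx nC` so `nCAx ≤ nD nC`
  have f2 : nCAx ≤ nD * nC := by
    have : nAx * nCAx ≤ nAx * (nD * nC) := by
      calc nAx * nCAx ≤ nM := e2
        _ = nAx * (nD * nC) := by rw [← e3, ← e4]; ring
    exact Nat.le_of_mul_le_mul_left this pAx
  -- `nM ≤ nMx nD`
  have f3 : nM ≤ nMx * nD := by
    have : nM * nC ≤ nMx * nD * nC := by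
      calc nM * nC = nMx * nS := f1.symm
        _ ≤ nMx * (nD * nC) := Nat.mul_le_mul_left _ (e8.trans f2)
        _ = _ := by ring
    exact Nat.le_of_mul_le_mul_right this pC
  have f4 : nCD ≤ nMx := by
    have : nD * nCD ≤ nD * nMx := (e1.trans f3).trans (by rw [mul_comm])
    exact Nat.le_of_mul_le_mul_left this pD
  have f5 : nMx = nCD := le_antisymm e7 f4
  have f6 : nD * nCD = nM := le_antisymm e1 (by rw [← f5, mul_comm]; exact f3)
  have f7 : nS = nD * nC := by
    have : nMx * nS = nMx * (nD * nC) := by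
      rw [f1, ← f6, ← f5]; ring
    exact Nat.eq_of_mul_eq_mul_left pMx this
  have f8 : nS = nCAx := le_antisymm e8 (f2.trans f7.ge)
  refine ⟨eq_of_le_of_card_ge (Mx_le h2 hA h) f4, f6, eq_of_le_of_card_ge hsup f8.ge, ?_⟩
  rw [← f8, f7, ← e3, ← e4]
  ring

/-- `(d)` -/
theorem mem_D_of [Finite H] [Finite M] {e : H} (he : e ∈ A) (hfix : ∀ m ∈ cv M (D hA h : Set H), e • m = m) :
    e ∈ D hA h := by
  obtain ⟨-, e1, -, -⟩ := eqs h2 hA h
  have hle : D hA h ⊔ zpowers e ≤ A := sup_le (D_le hA h) (zpowers_le.2 he)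
  have e2 := h.no _ hle
  have h3 : cv M ((D hA h ⊔ zpowers e : Subgroup H) : Set H) = cv M (D hA h : Set H) := by
    rw [cv_sup]
    refine inf_eq_left.2 fun m hm => ?_
    have h4 : zpowers e ≤ MulAction.stabilizer H m := zpowers_le.2 (MulAction.mem_stabilizer_iff.2 (hfix m hm))
    exact fun y hy => MulAction.mem_stabilizer_iff.1 (h4 hy)
  unfold fo at e2
  rw [h3, ← e1] at e2
  have h5 : Nat.card (D hA h ⊔ zpowers e : Subgroup H) ≤ Nat.card (D hA h) :=
    Nat.le_of_mul_le_mul_right e2 Nat.card_pos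
  have h6 : D hA h = D hA h ⊔ zpowers e := eq_of_le_of_card_ge le_sup_left h5
  rw [h6]
  exact mem_sup_right (mem_zpowers e)

/-- `(e)` -/
theorem sq_mem_D [Finite H] [Finite M] : x * x ∈ D hA h := by
  obtain ⟨e1, -, -, -⟩ := eqs h2 hA h
  refine mem_D_of h2 hA h h.sqm fun m hm => ?_
  rw [← e1] at hm
  have h1 : x • d x m = d x m := h.cent _ hm
  rw [mul_smul, vsmul h2 x m, smul_mul', h1, vsmul h2 x m, ← mul_assoc, h2, one_mul]

/-- `(f)` -/
theorem false_of_sq [Finite H] [Finite M] (hx : x ∉ A) (hxx : x * x = 1)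
    (hno : ∀ E : Subgroup H, E ≤ A ⊔ zpowers x → (∀ a ∈ E, a * a = 1) → fo M E ≤ Nat.card M) : False := by
  obtain ⟨-, -, e3, e4⟩ := eqs h2 hA h
  set E : Subgroup H := Ax hA h ⊔ zpowers x with hE
  have hxc : ∀ a ∈ Ax hA h, x * a = a * x := by
    intro a ha
    have := ((mem_Ax hA h).1 ha).2
    calc x * a = x * a * x⁻¹ * x := by group
      _ = a * x := by rw [this]
  have hn : Ax hA h ≤ normalizer (zpowers x : Set H) := by
    intro a ha
    have hc : Commute a x := (hxc a ha).symm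
    rw [mem_normalizer_iff]
    intro b
    constructor
    · intro hb
      obtain ⟨k, rfl⟩ := mem_zpowers_iff.1 hb
      rw [(hc.zpow_right k).eq, mul_inv_cancel_right]
      exact hb
    · intro hb
      obtain ⟨k, hk⟩ := mem_zpowers_iff.1 hb
      have : b = x ^ k := by
        have h5 : a * b = x ^ k * a := by rw [hk]; group
        rw [← (hc.zpow_right k).eq] at h5
        exact mul_left_cancel h5
      rw [this]
      exact zpow_mem (mem_zpowers x) k
  -- elements of `E`
  have hmem : ∀ y ∈ E, ∃ a ∈ Ax hA h, y = a ∨ y = a * x := by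
    intro y hy
    have hy' : y ∈ ((Ax hA h ⊔ zpowers x : Subgroup H) : Set H) := hy
    rw [Subgroup.coe_mul_of_left_le_normalizer_right _ _ hn] at hy'
    obtain ⟨a, ha, b, hb, rfl⟩ := hy'
    refine ⟨a, ha, ?_⟩
    obtain ⟨k, rfl⟩ := mem_zpowers_iff.1 hb
    rcases Int.even_or_odd' k with ⟨l, rfl | rfl⟩
    · left
      change a * x ^ (2 * l) = a
      rw [zpow_mul, zpow_two, hxx, one_zpow, mul_one]
    · right
      change a * x ^ (2 * l + 1) = a * x
      rw [zpow_add, zpow_mul, zpow_two, hxx, one_zpow, one_mul, zpow_one]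
  have hEsq : ∀ y ∈ E, y * y = 1 := by
    intro y hy
    obtain ⟨a, ha, rfl | rfl⟩ := hmem y hy
    · exact hA.sq _ (Ax_le hA h ha)
    · calc a * x * (a * x) = a * (x * a) * x := by group
        _ = a * a * (x * x) := by rw [hxc a ha]; group
        _ = 1 := by rw [hxx, hA.sq _ (Ax_le hA h ha), mul_one]
  have hno' := hno E (sup_le ((Ax_le hA h).trans le_sup_left) le_sup_right) hEsq
  have hcvE : cv M (Ax hA h : Set H) ≤ cv M (E : Set H) := by
    rw [hE, cv_sup]
    refine le_inf le_rfl ?_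
    rw [← e3]
    refine sup_le ?_ ?_
    · rintro _ ⟨m, rfl⟩
      have h4 : x • d x m = d x m := by
        unfold d
        rw [smul_mul', ← mul_smul, hxx, one_smul, vcomm h2]
      have h5 : zpowers x ≤ MulAction.stabilizer H (d x m) := zpowers_le.2 (MulAction.mem_stabilizer_iff.2 h4)
      exact fun y hy => MulAction.mem_stabilizer_iff.1 (h5 hy)
    · intro m hm
      have h5 : zpowers x ≤ MulAction.stabilizer H m := zpowers_le.2 (MulAction.mem_stabilizer_iff.2 (h.cent m hm))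
      exact fun y hy => MulAction.mem_stabilizer_iff.1 (h5 hy)
  have hcard : Nat.card (Ax hA h) < Nat.card E := by
    have hle : Ax hA h ≤ E := le_sup_left
    rcases (card_le_of_le hle).lt_or_eq with h5 | h5
    · exact h5
    · exfalso
      have h6 : Ax hA h = E := eq_of_le_of_card_ge hle h5.ge
      apply hx
      apply Ax_le hA h
      rw [h6]
      exact mem_sup_right (mem_zpowers x)
  have h7 : Nat.card M < fo M E := by
    unfold fo
    calc Nat.card M = Nat.card (Ax hA h) * Nat.card (cv M (Ax hA h : Set H)) := e4.symm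
      _ < Nat.card E * Nat.card (cv M (Ax hA h : Set H)) := Nat.mul_lt_mul_of_pos_right hcard Nat.card_pos
      _ ≤ _ := Nat.mul_le_mul_left _ (card_le_of_le hcvE)
  omega

end Sit

/-- An element outside `A`, normalising `A`, with square in `A`. -/
theorem exists_sq_mem [Finite H] {T A : Subgroup H} (hT : IsPGroup 2 T) (hA : A < T) :
    ∃ b ∈ T, b ∈ normalizer (A : Set H) ∧ b ∉ A ∧ b * b ∈ A := by
  have : Fact (Nat.Prime 2) := ⟨Nat.prime_two⟩
  obtain ⟨y, hy, hyD⟩ := SetLike.exists_of_lt (Cfsg.Agent.SmallSimple.SylowMaxInter.lt_inf_normalizer hT hA)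
  obtain ⟨n, hn⟩ := hT ⟨y, hy.1⟩
  have hn' : y ^ 2 ^ n = 1 := by
    have := congrArg Subtype.val hn
    simpa using this
  have hex : ∃ n, y ^ 2 ^ n ∈ A := ⟨n, by rw [hn']; exact one_mem _⟩
  classical
  have h1 := Nat.find_spec hex
  have h0 : Nat.find hex ≠ 0 := by
    intro h0
    rw [h0, pow_zero, pow_one] at h1
    exact hyD h1
  obtain ⟨k, hk⟩ := Nat.exists_eq_succ_of_ne_zero h0
  have h2 := Nat.find_min hex (m := k) (by omega)
  rw [hk] at h1
  refine ⟨y ^ 2 ^ k, pow_mem hy.1 _, pow_mem hy.2 _, h2, ?_⟩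
  have e : y ^ 2 ^ k * y ^ 2 ^ k = y ^ 2 ^ (k + 1) := by
    rw [← pow_add, pow_succ, mul_two]
  rw [e]
  exact h1

/-- the pointwise stabiliser of `C` in `O` -/
def fx (O : Subgroup H) (C : Subgroup M) : Subgroup H where
  carrier := {y | y ∈ O ∧ ∀ m ∈ C, y • m = m}
  one_mem' := ⟨one_mem _, fun m _ => one_smul _ m⟩
  mul_mem' := fun {a b} ha hb => ⟨mul_mem ha.1 hb.1, fun m hm => by rw [mul_smul, hb.2 m hm, ha.2 m hm]⟩
  inv_mem' := fun {a} ha => ⟨inv_mem ha.1, fun m hm => by rw [inv_smul_eq_iff, ha.2 m hm]⟩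

/-- **THEOREM SC**: exact quadratic elementary abelian subgroups are self-centralising:  `C_O(C_M(A)) = A`. -/
theorem Exact.self_central [Finite H] [Finite M] (h2 : ∀ v : M, v * v = 1) {O A : Subgroup H} (hO : IsPGroup 2 O)
    (hNO : NOel M O) (hA : Exact M A) (hAO : A ≤ O) {x : H} (hx : x ∈ O) (hfix : ∀ m ∈ cv M (A : Set H), x • m = m) :
    x ∈ A := by
  by_contra hxA
  set Y : Subgroup H := fx O (cv M (A : Set H)) with hY
  have hYO : Y ≤ O := fun y hy => hy.1
  have hAY : A ≤ Y := fun a ha => ⟨hAO ha, fun m hm => hm a ha⟩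
  have hxY : x ∈ Y := ⟨hx, hfix⟩
  have hlt : A < Y := lt_of_le_of_ne hAY fun h => hxA (by rw [h]; exact hxY)
  obtain ⟨b, hbY, hbN, hbA, hbb⟩ := exists_sq_mem (hO.to_le hYO) hlt
  have hnoA : ∀ E ≤ A, fo M E ≤ Nat.card M := fun E hE => hNO E (hE.trans hAO) fun a ha => hA.sq a (hE ha)
  have hs : Sit M A b :=
    { norm := fun a ha => (mem_normalizer_iff.1 hbN a).1 ha
      cent := hbY.2
      sqm := hbb
      no := hnoA }
  obtain ⟨a, ha, hab⟩ := (Sit.mem_D hA hs).1 (hs.sq_mem_D h2 hA)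
  -- `c = a b` is an involution outside `A`
  have hcc : a * b * (a * b) = 1 := by
    calc a * b * (a * b) = a * (b * a * b⁻¹) * (b * b) := by group
      _ = b * b * (b * b) := by rw [hab]
      _ = 1 := hA.sq _ hbb
  have hcA : a * b ∉ A := fun h => hbA ((mul_mem_cancel_left ha).1 h)
  have hcY : a * b ∈ Y := mul_mem (hAY ha) hbY
  have hs' : Sit M A (a * b) :=
    { norm := fun e he => by
        have h1 : a * (b * e * b⁻¹) * a⁻¹ ∈ A := mul_mem (mul_mem ha (hs.norm e he)) (inv_mem ha)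
        have h3 : a * b * e * (a * b)⁻¹ = a * (b * e * b⁻¹) * a⁻¹ := by group
        rw [h3]
        exact h1
      cent := hcY.2
      sqm := by rw [hcc]; exact one_mem _
      no := hnoA }
  exact hs'.false_of_sq h2 hA hcA hcc fun E hE hE' =>
    hNO E (hE.trans (sup_le hAO (zpowers_le.2 (hYO hcY)))) hE'

section Cor

variable [Finite H] [Finite M] (h2 : ∀ v : M, v * v = 1) {O A B : Subgroup H} (hO : IsPGroup 2 O) (hNO : NOel M O)
include h2 hO hNO

/-- an element normalising `O` and `C_M(A)` normalises `A` -/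
theorem Exact.normalizes (hA : Exact M A) (hAO : A ≤ O) {g : H} (hgO : ∀ y ∈ O, g * y * g⁻¹ ∈ O)
    (hgC : ∀ m ∈ cv M (A : Set H), g⁻¹ • m ∈ cv M (A : Set H)) {a : H} (ha : a ∈ A) : g * a * g⁻¹ ∈ A := by
  refine hA.self_central h2 hO hNO hAO (hgO a (hAO ha)) fun m hm => ?_
  have h1 : a • (g⁻¹ • m) = g⁻¹ • m := hgC m hm a ha
  rw [mul_smul, mul_smul, h1, smul_inv_smul]

end Cor

end Cfsg.Agent.Omega.Tools.ExactSC

end

private theorem dce_79ec60646623 : _root_.True := by
  try have : _root_.True := by simp only [_root_.Cfsg.Agent.Omega.ML.Ex.WallGood.sn.eq_1]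
  try have : _root_.True := by simp only [_root_.Cfsg.Agent.Nodes.Coroot.cpr.congr_simp]
  exact _root_.True.intro
end

-- part: Mrg/Omega/ML/RowsList
section
set_option linter.all false
open scoped Cfsg.Agent.FastGrp


/-!
# (ML), the K-list end: the list of the rows (helper721)

`RowsML` : one field per class of known simple groups, the literal type `DeadZ 𝒮` of `Omega/ML/LocRow.lean` (a row in
the form `DeadG 𝒮` is converted by `DeadG.dead`, a row in the form `Dead 𝒮` by `Dead.deadZ`; together: `DeadG.deadZ`).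
`RowsML.main` : all rows together give `DeadZ IsKnownSimple'`, that is, the situation `InZ` does not occur for a known
simple group `K / Z(K)`.
-/

set_option autoImplicit false

namespace Cfsg.Agent.Omega.ML.Rows

open Subgroup Cfsg Cfsg.Agent.Omega.KFacts Cfsg.Agent.Omega.ML.LocRow

universe u v

/-- `IsAlt S` : alternating of degree `n ≥ 7`, `n ≠ 8`. -/
def IsAlt7 (S : Type u) [Group S] : Prop :=
  ∃ n : ℕ, 7 ≤ n ∧ n ≠ 8 ∧ Nonempty (S ≃* alternatingGroup (Fin n))

/-- `A₆`. -/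
def IsAlt6 (S : Type u) [Group S] : Prop := Nonempty (S ≃* alternatingGroup (Fin 6))

/-- `L₂(q)`, `q` odd, `q ≥ 4`. -/
def IsLTwoOdd (S : Type u) [Group S] : Prop :=
  ∃ (F : Type) (_ : Field F) (_ : Fintype F), (2 : F) ≠ 0 ∧ 4 ≤ Fintype.card F ∧
    Nonempty (S ≃* Matrix.ProjectiveSpecialLinearGroup (Fin 2) F)

/-- `L_n(q)`, `q` odd, `n ≥ 3`. -/
def IsLOdd (S : Type u) [Group S] : Prop :=
  ∃ (F : Type) (_ : Field F) (_ : Fintype F) (n : ℕ), (2 : F) ≠ 0 ∧ 3 ≤ n ∧
    Nonempty (S ≃* Matrix.ProjectiveSpecialLinearGroup (Fin n) F)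

/-- `U₃(3)`. -/
def IsUThreeThree (S : Type u) [Group S] : Prop :=
  ∃ (F : Type) (_ : Field F) (_ : Fintype F), Fintype.card F = 9 ∧ Nonempty (S ≃* PSU 3 F 3)

/-- `U_n(q)`, `q` odd, `n ≥ 3`, not `U₃(3)`, not `U₄(3)`. -/
def IsUOdd (S : Type u) [Group S] : Prop :=
  ∃ (F : Type) (_ : Field F) (_ : Fintype F) (n q : ℕ), (2 : F) ≠ 0 ∧ Fintype.card F = q ^ 2 ∧ 3 ≤ n ∧
    ¬ (n = 3 ∧ q = 3) ∧ ¬ (n = 4 ∧ q = 3) ∧ Nonempty (S ≃* PSU n F q)

/-- `G₂(3)`. -/
def IsGTwoThree (S : Type u) [Group S] : Prop :=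
  ∃ (F : Type) (_ : Field F) (_ : Fintype F), Fintype.card F = 3 ∧ Nonempty (S ≃* Lie.chevG2.group F)

/-- `G₂(q)`, `q` odd, `q ≠ 3`. -/
def IsGTwoOdd (S : Type u) [Group S] : Prop :=
  ∃ (F : Type) (_ : Field F) (_ : Fintype F), (2 : F) ≠ 0 ∧ Fintype.card F ≠ 3 ∧
    Nonempty (S ≃* Lie.chevG2.group F)

/-- `F₄(q)`, `E₆(q)`, `E₇(q)`, `E₈(q)`, `q` odd. -/
def IsFEOdd (S : Type u) [Group S] : Prop :=
  ∃ (F : Type) (_ : Field F) (_ : Fintype F), (2 : F) ≠ 0 ∧
    (Nonempty (S ≃* Lie.chevF4.group F) ∨ Nonempty (S ≃* Lie.chevE6.group F) ∨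
      Nonempty (S ≃* Lie.chevE7.group F) ∨ Nonempty (S ≃* Lie.chevE8.group F))

/-- **The rows.** -/
structure RowsML : Prop where
  -- Lie type in characteristic 2
  lieTwo : DeadZ.{u, v} fun S _ => IsLieTypeChar 2 S
  -- alternating groups
  alt : DeadZ.{u, v} @IsAlt7
  a6 : DeadZ.{u, v} @IsAlt6
  -- Lie type in odd characteristic
  lTwo : DeadZ.{u, v} @IsLTwoOdd
  lin : DeadZ.{u, v} @IsLOdd
  psp : DeadZ.{u, v} fun S _ => OddChar @IsPSpChar S ∧ ¬ IsLieTypeChar 2 S
  u33 : DeadZ.{u, v} @IsUThreeThree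
  u43 : DeadZ.{u, v} @IsUFourThree
  uni : DeadZ.{u, v} @IsUOdd
  omOdd : DeadZ.{u, v} fun S _ => OddChar @IsPOmegaOddChar S
  omPlus : DeadZ.{u, v} fun S _ => OddChar @IsPOmegaPlusChar S
  omMinus : DeadZ.{u, v} fun S _ => OddChar @IsPOmegaMinusChar S
  g23 : DeadZ.{u, v} @IsGTwoThree
  g2 : DeadZ.{u, v} @IsGTwoOdd
  fe : DeadZ.{u, v} @IsFEOdd
  twisted : DeadZ.{u, v} fun S _ => OddChar @IsTwistedE6D4Char S
  ree : DeadZ.{u, v} @Lie.IsoRee
  tits : DeadZ.{u, v} @Lie.IsoTits
  -- sporadic groups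
  m11 : DeadZ.{u, v} @Spor.IsoM11
  m12 : DeadZ.{u, v} @Spor.IsoM12
  m22 : DeadZ.{u, v} @Spor.IsoM22
  m23 : DeadZ.{u, v} @Spor.IsoM23
  m24 : DeadZ.{u, v} @Spor.IsoM24
  j1 : DeadZ.{u, v} @Spor.IsoJ1
  j2 : DeadZ.{u, v} @Spor.IsoJ2
  j3 : DeadZ.{u, v} @Spor.IsoJ3
  j4 : DeadZ.{u, v} @Spor.IsoJ4
  co1 : DeadZ.{u, v} @Spor.IsoCo1
  co2 : DeadZ.{u, v} @Spor.IsoCo2
  co3 : DeadZ.{u, v} @Spor.IsoCo3
  mcl : DeadZ.{u, v} @Spor.IsoMcL
  hs : DeadZ.{u, v} @Spor.IsoHS
  suz : DeadZ.{u, v} @Spor.IsoSuz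
  he : DeadZ.{u, v} @Spor.IsoHe
  ru : DeadZ.{u, v} @Spor.IsoRu
  on : DeadZ.{u, v} @Spor.IsoON
  ly : DeadZ.{u, v} @Spor.IsoLy
  fi22 : DeadZ.{u, v} @Spor.IsoFi22
  fi23 : DeadZ.{u, v} @Spor.IsoFi23
  fi24 : DeadZ.{u, v} @Spor.IsoFi24'
  hn : DeadZ.{u, v} @Spor.IsoHN
  th : DeadZ.{u, v} @Spor.IsoTh
  b : DeadZ.{u, v} @Spor.IsoB
  m : DeadZ.{u, v} @Spor.IsoM

/-- A group-theoretic row is a row. -/
theorem DeadG.deadZ {𝒮 : ∀ (S : Type u) [Group S], Prop} (h𝒮 : IsoClosed.{u} 𝒮) (hD : DeadG.{u} 𝒮) :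
    DeadZ.{u, v} 𝒮 :=
  LocRow.Dead.deadZ (DeadG.dead h𝒮 hD)

theorem DeadZ.mono {𝒮 𝒮' : ∀ (S : Type u) [Group S], Prop} (h : ∀ (S : Type u) [Group S], 𝒮 S → 𝒮' S)
    (hD : DeadZ.{u, v} 𝒮') : DeadZ.{u, v} 𝒮 :=
  fun H _ _ M _ _ _ K T Q A z hI hS => hD H M K T Q A z hI (h _ hS)

/-- The cyclic row is void. -/
theorem In.not_cyclic {H : Type u} [Group H] {M : Type v} [Group M] [MulDistribMulAction H M] {K T A : Subgroup H}
    (h : In H M K T A) : ¬ IsPrimeCyclic (K ⧸ center K) := by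
  rintro hc
  have h1 : IsSimpleGroup (K ⧸ center K) := h.qs.2
  have hc' : (Nat.card (K ⧸ center K)).Prime := hc
  have hcomm : ∀ x y : K ⧸ center K, x * y = y * x := by
    have : Fact (Nat.card (K ⧸ center K)).Prime := ⟨hc'⟩
    have hcyc : IsCyclic (K ⧸ center K) := isCyclic_of_prime_card rfl
    exact fun x y => (IsCyclic.commGroup (α := K ⧸ center K)).mul_comm x y
  let _ : CommGroup (K ⧸ center K) := { (inferInstance : Group (K ⧸ center K)) with mul_comm := hcomm }
  have h2 : commutator K ≤ (QuotientGroup.mk' (center K)).ker :=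
    Abelianization.commutator_subset_ker (QuotientGroup.mk' (center K))
  rw [h.perf, QuotientGroup.ker_mk'] at h2
  obtain ⟨x, hx⟩ := exists_ne (1 : K ⧸ center K)
  obtain ⟨k, rfl⟩ := QuotientGroup.mk_surjective x
  exact hx ((QuotientGroup.eq_one_iff k).2 (h2 (mem_top k)))

/-- **(ML), the K-list end**: the situation `In` does not occur for known `K / Z(K)`. -/
theorem RowsML.main (R : RowsML.{u, v}) : DeadZ.{u, v} fun S _ => IsKnownSimple' S := by
  intro H _ _ M _ _ _ K T Q A z hI h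
  set S := K ⧸ center K
  have hS : IsSimpleGroup S := hI.row.qs.2
  by_cases h2 : IsLieTypeChar 2 S
  · exact R.lieTwo H M K T Q A z hI h2
  have hn := fun (P : Prop) (hP : IsLieTypeChar 2 S ∨ P) => hP.resolve_left h2
  have hodd : ∀ {F : Type} [Field F] {p : ℕ}, p.Prime → p ≠ 2 → CharP F p → (2 : F) ≠ 0 := by
    intro F _ p hp hp2 hF h3
    have h4 : ((2 : ℕ) : F) = 0 := by exact_mod_cast h3
    rw [CharP.cast_eq_zero_iff F p] at h4
    exact hp2 ((Nat.prime_dvd_prime_iff_eq hp Nat.prime_two).1 h4)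
  rcases h with h | ⟨n, h5, ⟨e⟩⟩ | h | h | h | h | h | h | h | h
  · exact hI.row.not_cyclic h
  · by_cases h8 : n = 8
    · exfalso
      subst h8
      apply h2
      obtain ⟨e'⟩ := Cfsg.Agent.S0256.result (F := ZMod 2) (by simp)
      exact Or.inl ⟨ZMod 2, inferInstance, inferInstance, inferInstance, 4, by norm_num, by norm_num,
        ⟨e.trans e'.symm⟩⟩
    by_cases h6 : n = 6
    · subst h6
      exact R.a6 H M K T Q A z hI ⟨e⟩
    by_cases h7 : 7 ≤ n
    · exact R.alt H M K T Q A z hI ⟨n, h7, h8, ⟨e⟩⟩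
    have h55 : n = 5 := by omega
    subst h55
    have : Fact (Nat.Prime 5) := ⟨by norm_num⟩
    obtain ⟨e'⟩ := Cfsg.Agent.S0253.result (F := ZMod 5) (by simp)
    exact R.lTwo H M K T Q A z hI ⟨ZMod 5, inferInstance, inferInstance,
      hodd (p := 5) (by norm_num) (by norm_num) inferInstance, by simp, ⟨e.trans e'.symm⟩⟩
  · obtain ⟨p, hp, hp2, F, _, _, hF, n, hn2, hn4, ⟨e⟩⟩ := hn _ (of_psl h)
    by_cases h3 : n = 2
    · subst h3
      exact R.lTwo H M K T Q A z hI ⟨F, inferInstance, inferInstance, hodd hp hp2 hF, hn4 rfl, ⟨e⟩⟩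
    · exact R.lin H M K T Q A z hI ⟨F, inferInstance, inferInstance, n, hodd hp hp2 hF, by omega, ⟨e⟩⟩
  · exact R.psp H M K T Q A z hI ⟨hn _ (of_psp h), h2⟩
  · obtain ⟨p, hp, hp2, F, _, _, hF, n, q, hq, hn3, -, ⟨e⟩⟩ := hn _ (of_psu h)
    by_cases h3 : n = 3 ∧ q = 3
    · obtain ⟨rfl, rfl⟩ := h3
      exact R.u33 H M K T Q A z hI ⟨F, inferInstance, inferInstance, hq, ⟨e⟩⟩
    by_cases h4 : n = 4 ∧ q = 3
    · obtain ⟨rfl, rfl⟩ := h4
      exact R.u43 H M K T Q A z hI ⟨F, inferInstance, inferInstance, hq, ⟨e⟩⟩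
    · exact R.uni H M K T Q A z hI ⟨F, inferInstance, inferInstance, n, q, hodd hp hp2 hF, hq, hn3, h3, h4, ⟨e⟩⟩
  · exact R.omOdd H M K T Q A z hI (hn _ (of_omOdd h))
  · exact R.omPlus H M K T Q A z hI (hn _ (of_omPlus h))
  · exact R.omMinus H M K T Q A z hI (hn _ (of_omMinus h))
  · unfold IsExceptionalLieType at h
    by_cases h3 : Lie.IsoChevG2 S ∨ Lie.IsoF4 S ∨ Lie.IsoChevE6 S ∨ Lie.IsoE7 S ∨ Lie.IsoE8 S
    · obtain ⟨p, hp, hp2, F, _, _, hF, h4⟩ := hn _ (of_chev h3)
      rcases h4 with ⟨h4, e⟩ | h4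
      · by_cases h5 : Fintype.card F = 3
        · exact R.g23 H M K T Q A z hI ⟨F, inferInstance, inferInstance, h5, e⟩
        · exact R.g2 H M K T Q A z hI ⟨F, inferInstance, inferInstance, hodd hp hp2 hF, h5, e⟩
      · exact R.fe H M K T Q A z hI ⟨F, inferInstance, inferInstance, hodd hp hp2 hF, h4⟩
    by_cases h4 : Lie.Iso2E6 S ∨ Lie.Iso3D4 S
    · exact R.twisted H M K T Q A z hI (hn _ (of_twisted h4))
    by_cases h5 : Lie.IsoSuzuki S
    · exact absurd (Or.inr (Or.inr (Or.inr (Or.inr (Or.inr (Or.inr (Or.inr (Or.inr (Or.inl ⟨rfl, h5⟩))))))))) h2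
    by_cases h6 : Lie.Iso2F4 S
    · exact absurd (Or.inr (Or.inr (Or.inr (Or.inr (Or.inr (Or.inr (Or.inr (Or.inr (Or.inr
        (Or.inl ⟨rfl, h6⟩)))))))))) h2
    by_cases h7 : Lie.IsoRee S
    · exact R.ree H M K T Q A z hI h7
    by_cases h8 : Lie.IsoTits S
    · exact R.tits H M K T Q A z hI h8
    exfalso
    tauto
  · unfold IsSporadicGroup at h
    rcases h with h | h | h | h | h | h | h | h | h | h | h | h | h | h | h | h | h | h | h | h | h | h | h | h | h | h
    · exact R.m11 H M K T Q A z hI h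
    · exact R.m12 H M K T Q A z hI h
    · exact R.m22 H M K T Q A z hI h
    · exact R.m23 H M K T Q A z hI h
    · exact R.m24 H M K T Q A z hI h
    · exact R.j1 H M K T Q A z hI h
    · exact R.j2 H M K T Q A z hI h
    · exact R.j3 H M K T Q A z hI h
    · exact R.j4 H M K T Q A z hI h
    · exact R.co1 H M K T Q A z hI h
    · exact R.co2 H M K T Q A z hI h
    · exact R.co3 H M K T Q A z hI h
    · exact R.mcl H M K T Q A z hI h
    · exact R.hs H M K T Q A z hI h
    · exact R.suz H M K T Q A z hI h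
    · exact R.he H M K T Q A z hI h
    · exact R.ru H M K T Q A z hI h
    · exact R.on H M K T Q A z hI h
    · exact R.ly H M K T Q A z hI h
    · exact R.fi22 H M K T Q A z hI h
    · exact R.fi23 H M K T Q A z hI h
    · exact R.fi24 H M K T Q A z hI h
    · exact R.hn H M K T Q A z hI h
    · exact R.th H M K T Q A z hI h
    · exact R.b H M K T Q A z hI h
    · exact R.m H M K T Q A z hI h

end Cfsg.Agent.Omega.ML.Rows
end
end
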