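import Cfsg.Agent.CoOneType.CoEval
import Cfsg.Agent.Omega.Lie.HeisCover
import Cfsg.Agent.TitsK.ParC_m3
import Cfsg.Agent.Mrg.Omega.TwoF.RkPSU
import Cfsg.Agent.S0399
import Cfsg.Agent.CoOneType.CoQ
import Cfsg.Agent.CoOneType.CoW
import Cfsg.Agent.Lib.FinFast
import Cfsg.Agent.Mrg.Omega.TwoF.E7Odd_mg_m3
import Cfsg.Agent.S0249
import Cfsg.Agent.FastGrp
import Cfsg.Agent.Prune
set_option linter.all false

section
prune_inst 0x7ff1fdfb5ff8effedfff7e7ffff5dffdfdfa7ffffffef9fbfff8fbff7fff6b0efbe5fba7ffead2ff5ed6e2b630f87b13fffffeffee6ffc7ffffdfff45ffbffdfedf6bd8851d798341fbe0fff63f07f8e7f3fffffffffffffffffffffffffffbeffffffffffff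

-- part: Mrg/Omega/TwoF/WeightCover
section
prune_inst 0xc0204a00000002000000000080002000480000001020000050000800080610000000800040800a02000000800000000000000010001000000000080040000000902350220234ac04160009809006000000000000000000000000000000041000000000000
set_option linter.all false
open scoped Cfsg.Agent.FastGrp

/-- decoders of the packed data (elaboration time only) -/
private noncomputable def pk61d (b S i : Nat) : Nat := Nat.mod (Nat.shiftRight S (Nat.mul b i)) (Nat.shiftLeft (nat_lit 1) b)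
private noncomputable def pk61c {α : Type} (t : Nat) (a : α) (f : Nat → α) : α := Nat.rec a (fun k _ => f k) t
private noncomputable def pk61f {α : Type} (t : Nat) (f : Nat → α) : α := Nat.rec (f Nat.zero) (fun k _ => f (Nat.succ k)) t
private noncomputable def pk61z (t : Nat) : Int := pk61f t fun t =>
  pk61c (Nat.mod t (nat_lit 2)) (Int.ofNat (Nat.div t (nat_lit 2))) fun _ => Int.negSucc (Nat.div t (nat_lit 2))
private noncomputable def pk61l {α : Type} (f : Nat → α) (s e : Nat) (tl : List α) : List α :=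
  pk61f e fun e => Nat.rec tl (fun k ih => List.cons (pk61f (Nat.sub e (Nat.succ k)) f) ih) (Nat.sub e s)
private noncomputable def pk61o {α : Type} (O : (n : Nat) → OfNat α n → α) (I : (n : Nat) → OfNat α n) (t : Nat) : α :=
  pk61c t (O (nat_lit 0) (I (nat_lit 0))) fun k => O (Nat.succ k) (I (Nat.succ k))
private noncomputable def pk61y (O : (n : Nat) → OfNat Int n → Int) (I : (n : Nat) → OfNat Int n) (G : Int → Int) (t : Nat) : Int := pk61f t fun t =>
  pk61c (Nat.mod t (nat_lit 2)) (pk61o O I (Nat.div t (nat_lit 2))) fun _ => G (pk61o O I (Nat.succ (Nat.div t (nat_lit 2))))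


-- part: Omega/TwoF/Co1Mat
section
/-!
# A Frobenius group `7² : SL₂(3)` in `Co₁`: the matrices

Four elements `a`, `b`, `u`, `v` of `Co₀` (24 × 24 integer matrices divided by 8): `a`, `b` commute and have order 7,
`u a u⁻¹ = a²`, `u b u⁻¹ = a⁶ b⁴`, `v a v⁻¹ = b`, `v b v⁻¹ = a⁻¹` in `Co₁`.  Generated by a script; checked by the kernel.
-/

set_option autoImplicit false
set_option maxRecDepth 100000

namespace Cfsg.Agent.Omega.TwoF.Co1Mat

open Cfsg Cfsg.Agent.SporadicStructure.Co0Matrix Cfsg.Agent.CoOneType.CoEval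

/-- rows of `a` -/
def rA : List (List ℤ) :=
  (by
  refine (?fq9001 : (fun (Oz : (n : Nat) → OfNat Int n → Int) (Iz : (n : Nat) → OfNat Int n) (Gz : Int → Int) => ((pk61l (fun i1 => (pk61l (fun i2 => (pk61y Oz Iz Gz (pk61d (nat_lit 5) 
    (nat_lit 0x200) (pk61d (nat_lit 1) 
    (nat_lit 0x200200000020000100000000002000010000080000400000020004000002000000008400000008000000004000001040000000100000040000800800000080000001000010000) i2)))) (Nat.mul (nat_lit 24) i1) (Nat.mul (nat_lit 24) (Nat.succ i1)) List.nil)) (nat_lit 0) (nat_lit 24) List.nil) : List (List ℤ)))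
    = ?xq9001 → (List (List ℤ))) ?hq9001; (case hq9001 => (set_option maxRecDepth 1000000 in conv => lhs; reduce)); intro _; exact ?xq9001 (@OfNat.ofNat Int) (@instOfNat) (@Neg.neg Int Int.instNegInt) : List (List ℤ))

/-- columns of `a` -/
def cA : List (List ℤ) :=
  (by
  refine (?fq9002 : (fun (Oz : (n : Nat) → OfNat Int n → Int) (Iz : (n : Nat) → OfNat Int n) (Gz : Int → Int) => ((pk61l (fun i1 => (pk61l (fun i2 => (pk61y Oz Iz Gz (pk61d (nat_lit 5) 
    (nat_lit 0x200) (pk61d (nat_lit 1) 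
    (nat_lit 0x8000800400000100000000004000080200000000001000400004000002000000002000010010000800000000040020000000020008000040000001000000200080000000100) i2)))) (Nat.mul (nat_lit 24) i1) (Nat.mul (nat_lit 24) (Nat.succ i1)) List.nil)) (nat_lit 0) (nat_lit 24) List.nil) : List (List ℤ)))
    = ?xq9002 → (List (List ℤ))) ?hq9002; (case hq9002 => (set_option maxRecDepth 1000000 in conv => lhs; reduce)); intro _; exact ?xq9002 (@OfNat.ofNat Int) (@instOfNat) (@Neg.neg Int Int.instNegInt) : List (List ℤ))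

/-- rows of `b` -/
def rB : List (List ℤ) :=
  (by
  refine (?fq9003 : (fun (Oz : (n : Nat) → OfNat Int n → Int) (Iz : (n : Nat) → OfNat Int n) (Gz : Int → Int) => ((pk61l (fun i1 => (pk61l (fun i2 => (pk61y Oz Iz Gz (pk61d (nat_lit 4) 
    (nat_lit 0x443043400333303040033430000407034000040304300083000400034008030403470003000400044780040404400004333043300334403040044330007400033000048403300004000400033000730304408004007300044000038304400003000380034000030474300004000300033780030303300003444044400334404040044440444033300334304030043330000480043000040373400003000300733000040404400803334044300333304040033340000300044000740403308003870400043000030404300003000300043008040304370004000307043000030403400084000400744000030303300804334033400333404030034430333034400334303030043440443034300333403030034340870300034000040303400004) i2))) (Nat.mul (nat_lit 24) i1) (Nat.mul (nat_lit 24) (Nat.succ i1)) List.nil)) (nat_lit 0) (nat_lit 24) List.nil) : List (List ℤ)))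
    = ?xq9003 → (List (List ℤ))) ?hq9003; (case hq9003 => (set_option maxRecDepth 1000000 in conv => lhs; reduce)); intro _; exact ?xq9003 (@OfNat.ofNat Int) (@instOfNat) (@Neg.neg Int Int.instNegInt) : List (List ℤ))

/-- columns of `b` -/
def cB : List (List ℤ) :=
  (by
  refine (?fq9004 : (fun (Oz : (n : Nat) → OfNat Int n → Int) (Iz : (n : Nat) → OfNat Int n) (Gz : Int → Int) => ((pk61l (fun i1 => (pk61l (fun i2 => (pk61y Oz Iz Gz (pk61d (nat_lit 4) 
    (nat_lit 0x400030000044003080003348400030000044003070003347300037070044004000004330044404433300430343340003400040008043804000003330370030000043004000703440400030000043073000074430033403343300430444440003044403344300330433340004300730000733003000003330300830000833003000003330308040000044003008003430300040700043003700004340043404333300440434330004300038080044004000004330034404334300340443430003400040007043704000003330043403444300340344330003034403443300440333430004307040000044003007003430300040800043003800004340400030000043083000084430380030000043004000803440033404434300330334440004)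 i2))) (Nat.mul (nat_lit 24) i1) (Nat.mul (nat_lit 24) (Nat.succ i1)) List.nil)) (nat_lit 0) (nat_lit 24) List.nil) : List (List ℤ)))
    = ?xq9004 → (List (List ℤ))) ?hq9004; (case hq9004 => (set_option maxRecDepth 1000000 in conv => lhs; reduce)); intro _; exact ?xq9004 (@OfNat.ofNat Int) (@instOfNat) (@Neg.neg Int Int.instNegInt) : List (List ℤ))

/-- rows of `u` -/
def rU : List (List ℤ) :=
  (by
  refine (?fq9005 : ((pk61l (fun i1 => (pk61l (fun i2 => (pk61z (pk61d (nat_lit 5) 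
    (nat_lit 0x200) (pk61d (nat_lit 1) 
    (nat_lit 0x40000200001000004000008000080000000004000080040000002000100000000020000002400000000400020000000008000010200000800000010000000100000001000800) i2)))) (Nat.mul (nat_lit 24) i1) (Nat.mul (nat_lit 24) (Nat.succ i1)) List.nil)) (nat_lit 0) (nat_lit 24) List.nil) : List (List ℤ))
    = ?xq9005 → (List (List ℤ))) ?hq9005; (case hq9005 => (set_option maxRecDepth 1000000 in conv => lhs; reduce)); intro _; exact ?xq9005 : List (List ℤ))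

/-- columns of `u` -/
def cU : List (List ℤ) :=
  (by
  refine (?fq9006 : ((pk61l (fun i1 => (pk61l (fun i2 => (pk61z (pk61d (nat_lit 5) 
    (nat_lit 0x200) (pk61d (nat_lit 1) 
    (nat_lit 0x10000400000020002000040000008000000100000008080000100000004000200000000001000200400000000004010000800000001000000040000080020000000800000002) i2)))) (Nat.mul (nat_lit 24) i1) (Nat.mul (nat_lit 24) (Nat.succ i1)) List.nil)) (nat_lit 0) (nat_lit 24) List.nil) : List (List ℤ))
    = ?xq9006 → (List (List ℤ))) ?hq9006; (case hq9006 => (set_option maxRecDepth 1000000 in conv => lhs; reduce)); intro _; exact ?xq9006 : List (List ℤ))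

/-- rows of `v` -/
def rV : List (List ℤ) :=
  (by
  refine (?fq9007 : (fun (Oz : (n : Nat) → OfNat Int n → Int) (Iz : (n : Nat) → OfNat Int n) (Gz : Int → Int) => ((pk61l (fun i1 => (pk61l (fun i2 => (pk61y Oz Iz Gz (pk61d (nat_lit 4) 
    (nat_lit 0x344004033700304004403040334703044000404004303040343003744000304004404030344003034000403073404040333003033000303004304047008440300443040340040303000440480334040430040303444003043000374003304040334003043000303003473030333004043007404003404040443003043000403704403040800330300343040430030303000348300434030330030303000330400444030440840303000430400444048330030403000440400443030438030304000440300344830440030403000340400344040340038304434003033070404004404030343003033000404003303730000430300434040440030384344074043000403004304030080340400433040440030403000430408333030340030303) i2))) (Nat.mul (nat_lit 24) i1) (Nat.mul (nat_lit 24) (Nat.succ i1)) List.nil)) (nat_lit 0) (nat_lit 24) List.nil) : List (List ℤ)))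
    = ?xq9007 → (List (List ℤ))) ?hq9007; (case hq9007 => (set_option maxRecDepth 1000000 in conv => lhs; reduce)); intro _; exact ?xq9007 (@OfNat.ofNat Int) (@instOfNat) (@Neg.neg Int Int.instNegInt) : List (List ℤ))

/-- columns of `v` -/
def cV : List (List ℤ) :=
  (by
  refine (?fq9008 : (fun (Oz : (n : Nat) → OfNat Int n → Int) (Iz : (n : Nat) → OfNat Int n) (Gz : Int → Int) => ((pk61l (fun i1 => (pk61l (fun i2 => (pk61y Oz Iz Gz (pk61d (nat_lit 4) 
    (nat_lit 0x333330043348000000430300434430043340000000340480443438044330000000430400070004400003334443004034000004400003433444003743433330033430800000330400007003400003344434003044344330844440000000330400344430033330000000330308700004300003444433004043000004300004344444703033000003400703444344004033343430033440000080440400000004470004334334004043444330043430008000440300000003400074343443004043000704300003343344004044444340033340000800430400434430034440080000430300000004407003343333003033334440043430000008430400000003300003334343073043443440043440000000338300000073300003333434004033)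 i2))) (Nat.mul (nat_lit 24) i1) (Nat.mul (nat_lit 24) (Nat.succ i1)) List.nil)) (nat_lit 0) (nat_lit 24) List.nil) : List (List ℤ)))
    = ?xq9008 → (List (List ℤ))) ?hq9008; (case hq9008 => (set_option maxRecDepth 1000000 in conv => lhs; reduce)); intro _; exact ?xq9008 (@OfNat.ofNat Int) (@instOfNat) (@Neg.neg Int Int.instNegInt) : List (List ℤ))

theorem okA : Ok rA cA := Ok.of_bool (by exact Cfsg.Agent.CoOneType.CoQ.ok2_of (by decide +kernel))

private noncomputable def _root_.Cfsg.Agent.LsF.f1989f5_0 : {f // @Cfsg.Agent.CoOneType.CoQ.sh = f} := ⟨_, by first | (delta Cfsg.Agent.CoOneType.CoQ.sh; rewrite [Cfsg.Agent.LsF.and_eq, Cfsg.Agent.LsF.all_eq, Cfsg.Agent.LsF.natAbs_eq, Cfsg.Agent.LsF.length_eq]; exact rfl) | exact rfl⟩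
private noncomputable def _root_.Cfsg.Agent.LsF.f1989f5_1 : {f // @Cfsg.Agent.CoOneType.CoQ.eqq = f} := ⟨_, by first | (delta Cfsg.Agent.CoOneType.CoQ.eqq; rewrite [Cfsg.Agent.LsF.cond_eq, Cfsg.Agent.LsF.instIDecEq_eq, Cfsg.Agent.LsF.decide_eq]; exact rfl) | exact rfl⟩
private noncomputable def _root_.Cfsg.Agent.LsF.f1989f5_2 : {f // @Cfsg.Agent.CoOneType.CoQ.trQ = f} := ⟨_, by first | (delta Cfsg.Agent.CoOneType.CoQ.trQ; rewrite [Cfsg.Agent.LsF.f1989f5_1.2, Cfsg.Agent.LsF.and_eq, Cfsg.Agent.LsF.map_eq, Cfsg.Agent.LsF.headD_eq, Cfsg.Agent.LsF.tail_eq]; exact rfl) | exact rfl⟩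
private noncomputable def _root_.Cfsg.Agent.LsF.f1989f5_3 : {f // @Cfsg.Agent.CoOneType.CoQ.tst = f} := ⟨_, by first | (delta Cfsg.Agent.CoOneType.CoQ.tst; rewrite [Cfsg.Agent.LsF.iadd_pat, Cfsg.Agent.LsF.toNat_eq]; exact rfl) | exact rfl⟩
private noncomputable def _root_.Cfsg.Agent.LsF.f1989f5_4 : {f // @Int.subNatNat = f} := ⟨_, by first | (delta Int.subNatNat; rewrite [Cfsg.Agent.LsF.nsub_pat]; (try delta Int.negOfNat.match_1); (try delta Nat.casesOn); exact rfl) | exact rfl⟩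
private noncomputable def _root_.Cfsg.Agent.LsF.f1989f5_5 : {f // @Cfsg.Agent.CoOneType.CoQ.dk = f} := ⟨_, by first | (delta Cfsg.Agent.CoOneType.CoQ.dk; rewrite [Cfsg.Agent.LsF.f1989f5_4.2]; exact rfl) | exact rfl⟩
private noncomputable def _root_.Cfsg.Agent.LsF.f1989f5_6 : {f // @Cfsg.Agent.CoOneType.CoQ.mv = f} := ⟨_, by first | (delta Cfsg.Agent.CoOneType.CoQ.mv; rewrite [Cfsg.Agent.LsF.f1989f5_5.2]; exact rfl) | exact rfl⟩
private noncomputable def _root_.Cfsg.Agent.LsF.f1989f5_7 : {f // @Cfsg.Agent.CoOneType.CoQ.pw = f} := ⟨_, by first | (delta Cfsg.Agent.CoOneType.CoQ.pw; rewrite [Cfsg.Agent.LsF.map_eq, Cfsg.Agent.LsF.range_eq]; exact rfl) | exact rfl⟩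
private noncomputable def _root_.Cfsg.Agent.LsF.f1989f5_8 : {f // @Cfsg.Agent.CoOneType.CoQ.prd = f} := ⟨_, by first | (delta Cfsg.Agent.CoOneType.CoQ.prd; rewrite [Cfsg.Agent.LsF.f1989f5_3.2, Cfsg.Agent.LsF.f1989f5_5.2, Cfsg.Agent.LsF.f1989f5_6.2, Cfsg.Agent.LsF.f1989f5_7.2, Cfsg.Agent.LsF.imul_pat, Cfsg.Agent.LsF.isub_pat]; exact rfl) | exact rfl⟩
private noncomputable def _root_.Cfsg.Agent.LsF.f1989f5_9 : {f // @Cfsg.Agent.CoOneType.CoQ.cf = f} := ⟨_, by first | (delta Cfsg.Agent.CoOneType.CoQ.cf; rewrite [Cfsg.Agent.LsF.f1989f5_4.2, Cfsg.Agent.LsF.lappend_pat, Cfsg.Agent.LsF.map_eq, Cfsg.Agent.LsF.foldr_eq, Cfsg.Agent.LsF.range_eq]; exact rfl) | exact rfl⟩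
private noncomputable def _root_.Cfsg.Agent.LsF.f1989f5_10 : {f // @Cfsg.Agent.CoOneType.CoQ.prs = f} := ⟨_, by first | (delta Cfsg.Agent.CoOneType.CoQ.prs; rewrite [Cfsg.Agent.LsF.f1989f5_3.2, Cfsg.Agent.LsF.f1989f5_5.2, Cfsg.Agent.LsF.f1989f5_9.2, Cfsg.Agent.LsF.f1989f5_6.2]; exact rfl) | exact rfl⟩
private noncomputable def _root_.Cfsg.Agent.LsF.f1989f5_11 : {f // @Cfsg.Agent.CoOneType.CoQ.okq = f} := ⟨_, by first | (delta Cfsg.Agent.CoOneType.CoQ.okq; rewrite [Cfsg.Agent.LsF.f1989f5_0.2, Cfsg.Agent.LsF.f1989f5_2.2, Cfsg.Agent.LsF.f1989f5_8.2, Cfsg.Agent.LsF.f1989f5_10.2, Cfsg.Agent.LsF.and_eq, Cfsg.Agent.LsF.length_eq]; exact rfl) | exact rfl⟩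
theorem okB : Ok rB cB := Ok.of_bool (by exact Cfsg.Agent.CoOneType.CoQ.ok2_of (by ((try (rewrite [Cfsg.Agent.LsF.f1989f5_11.2])); decide +kernel)))

theorem okU : Ok rU cU := Ok.of_bool (by exact Cfsg.Agent.CoOneType.CoQ.ok2_of (by decide +kernel))

theorem okV : Ok rV cV := Ok.of_bool (by exact Cfsg.Agent.CoOneType.CoQ.ok2_of (by ((try (rewrite [Cfsg.Agent.LsF.f1989f5_11.2])); decide +kernel)))

/-- The letters: `a b u v` and their inverses. -/
def M : ℕ → List (List ℤ)
  | 0 => rA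
  | 1 => rB
  | 2 => rU
  | 3 => rV
  | 4 => cA
  | 5 => cB
  | 6 => cU
  | _ => cV

/-- The elements of `Co₀`. -/
def e : ℕ → Co0
  | 0 => mk okA
  | 1 => mk okB
  | 2 => mk okU
  | 3 => mk okV
  | 4 => (mk okA)⁻¹
  | 5 => (mk okB)⁻¹
  | 6 => (mk okU)⁻¹
  | _ => (mk okV)⁻¹

theorem rep : ∀ i, Rep (e i) (M i)
  | 0 => rep_mk okA
  | 1 => rep_mk okB
  | 2 => rep_mk okU
  | 3 => rep_mk okV
  | 4 => rep_inv okA
  | 5 => rep_inv okB
  | 6 => rep_inv okU
  | _ + 7 => rep_inv okV

theorem rel_aa : relB M [0, 0, 0, 0, 0, 0, 0] = true := by (delta Cfsg.Agent.CoOneType.CoEval.relB; rewrite [Cfsg.Agent.CoOneType.CoW.fold_eq]; decide +kernel)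
private noncomputable def _root_.Cfsg.Agent.LsF.f1989f5_12 : {f // @Cfsg.Agent.SporadicStructure.Co0Matrix.dotL = f} := ⟨_, by first | (delta Cfsg.Agent.SporadicStructure.Co0Matrix.dotL List.brecOn List.brecOn.go Cfsg.Agent.SporadicStructure.Co0Matrix.dotL._f; rewrite [Cfsg.Agent.LsF.iadd_pat, Cfsg.Agent.LsF.imul_pat]; (try delta Cfsg.Agent.SporadicStructure.Co0Matrix.dotL.match_1); (try delta Cfsg.Agent.SporadicStructure.Co0Matrix.dotL._sparseCasesOn_1); first | dsimp -zeta only | exact rfl) | exact rfl⟩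
private noncomputable def _root_.Cfsg.Agent.LsF.f1989f5_13 : {f // @Cfsg.Agent.CoOneType.CoEval.ap = f} := ⟨_, by first | (delta Cfsg.Agent.CoOneType.CoEval.ap; rewrite [Cfsg.Agent.LsF.f1989f5_12.2, Cfsg.Agent.LsF.map_eq]; exact rfl) | exact rfl⟩
private noncomputable def _root_.Cfsg.Agent.LsF.f1989f5_14 : {f // @Cfsg.Agent.CoOneType.CoEval.fold = f} := ⟨_, by first | (delta Cfsg.Agent.CoOneType.CoEval.fold; rewrite [Cfsg.Agent.LsF.f1989f5_13.2, Cfsg.Agent.LsF.foldr_eq]; exact rfl) | exact rfl⟩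
private noncomputable def _root_.Cfsg.Agent.LsF.f1989f5_15 : {f // @Cfsg.Agent.CoOneType.CoW.unp = f} := ⟨_, by first | (delta Cfsg.Agent.CoOneType.CoW.unp; rewrite [Cfsg.Agent.LsF.f1989f5_4.2]; exact rfl) | exact rfl⟩
private noncomputable def _root_.Cfsg.Agent.LsF.f1989f5_16 : {f // @Cfsg.Agent.CoOneType.CoW.okR = f} := ⟨_, by first | (delta Cfsg.Agent.CoOneType.CoW.okR; rewrite [Cfsg.Agent.LsF.cond_eq]; exact rfl) | exact rfl⟩
private noncomputable def _root_.Cfsg.Agent.LsF.f1989f5_17 : {f // @Cfsg.Agent.CoOneType.CoW.LO = f} := ⟨_, by first | (delta Cfsg.Agent.CoOneType.CoW.LO; rewrite [Cfsg.Agent.LsF.nsub_pat, Cfsg.Agent.LsF.ndiv_pat, Cfsg.Agent.LsF.npow_pat]; exact rfl) | exact rfl⟩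
private noncomputable def _root_.Cfsg.Agent.LsF.f1989f5_18 : {f // @Cfsg.Agent.CoOneType.CoW.tst = f} := ⟨_, by first | (delta Cfsg.Agent.CoOneType.CoW.tst; rewrite [Cfsg.Agent.LsF.f1989f5_17.2, Cfsg.Agent.LsF.cond_eq]; exact rfl) | exact rfl⟩
private noncomputable def _root_.Cfsg.Agent.LsF.f1989f5_19 : {f // @Cfsg.Agent.CoOneType.CoW.mad = f} := ⟨_, by first | (delta Cfsg.Agent.CoOneType.CoW.mad; rewrite [Cfsg.Agent.LsF.f1989f5_4.2]; exact rfl) | exact rfl⟩
private noncomputable def _root_.Cfsg.Agent.LsF.f1989f5_20 : {f // @Cfsg.Agent.CoOneType.CoW.zp = f} := ⟨_, by first | (delta Cfsg.Agent.CoOneType.CoW.zp; rewrite [Cfsg.Agent.LsF.f1989f5_19.2]; exact rfl) | exact rfl⟩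
private noncomputable def _root_.Cfsg.Agent.LsF.f1989f5_21 : {f // @Cfsg.Agent.CoOneType.CoW.cols = f} := ⟨_, by first | (delta Cfsg.Agent.CoOneType.CoW.cols; rewrite [Cfsg.Agent.LsF.f1989f5_20.2]; exact rfl) | exact rfl⟩
private noncomputable def _root_.Cfsg.Agent.LsF.f1989f5_22 : {f // @Cfsg.Agent.CoOneType.CoW.OF = f} := ⟨_, by first | (delta Cfsg.Agent.CoOneType.CoW.OF; rewrite [Cfsg.Agent.LsF.nsub_pat, Cfsg.Agent.LsF.ndiv_pat, Cfsg.Agent.LsF.npow_pat]; exact rfl) | exact rfl⟩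
private noncomputable def _root_.Cfsg.Agent.LsF.f1989f5_23 : {f // @Cfsg.Agent.CoOneType.CoW.p0 = f} := ⟨_, by first | (delta Cfsg.Agent.CoOneType.CoW.p0; rewrite [Cfsg.Agent.LsF.f1989f5_22.2, Cfsg.Agent.LsF.ineg_pat, Cfsg.Agent.LsF.sum_eq, Cfsg.Agent.LsF.instIAdd_eq, Cfsg.Agent.LsF.toNat_eq]; exact rfl) | exact rfl⟩
private noncomputable def _root_.Cfsg.Agent.LsF.f1989f5_24 : {f // @Cfsg.Agent.CoOneType.CoW.n0 = f} := ⟨_, by first | (delta Cfsg.Agent.CoOneType.CoW.n0; rewrite [Cfsg.Agent.LsF.sum_eq, Cfsg.Agent.LsF.instIAdd_eq, Cfsg.Agent.LsF.toNat_eq]; exact rfl) | exact rfl⟩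
private noncomputable def _root_.Cfsg.Agent.LsF.f1989f5_25 : {f // @Cfsg.Agent.CoOneType.CoW.stp = f} := ⟨_, by first | (delta Cfsg.Agent.CoOneType.CoW.stp; rewrite [Cfsg.Agent.LsF.f1989f5_16.2, Cfsg.Agent.LsF.f1989f5_18.2, Cfsg.Agent.LsF.f1989f5_21.2, Cfsg.Agent.LsF.f1989f5_23.2, Cfsg.Agent.LsF.f1989f5_24.2, Cfsg.Agent.LsF.cond_eq]; exact rfl) | exact rfl⟩
private noncomputable def _root_.Cfsg.Agent.LsF.f1989f5_26 : {f // @Cfsg.Agent.CoOneType.CoW.run = f} := ⟨_, by first | (delta Cfsg.Agent.CoOneType.CoW.run; rewrite [Cfsg.Agent.LsF.f1989f5_25.2]; exact rfl) | exact rfl⟩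
private noncomputable def _root_.Cfsg.Agent.LsF.f1989f5_27 : {f // @Cfsg.Agent.CoOneType.CoEval.eqL = f} := ⟨_, by first | (delta Cfsg.Agent.CoOneType.CoEval.eqL List.brecOn List.brecOn.go Cfsg.Agent.CoOneType.CoEval.eqL._f; rewrite [Cfsg.Agent.LsF.and_eq, Cfsg.Agent.LsF.instIDecEq_eq, Cfsg.Agent.LsF.decide_eq]; (try delta Cfsg.Agent.CoOneType.CoEval.eqL.match_1); (try delta Cfsg.Agent.CoOneType.CoEval.eqL._sparseCasesOn_1); (try delta Cfsg.Agent.CoOneType.CoEval.eqL._sparseCasesOn_2); (try delta List.casesOn); first | dsimp -zeta only | exact rfl) | exact rfl⟩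
private noncomputable def _root_.Cfsg.Agent.LsF.f1989f5_28 : {f // @Cfsg.Agent.CoOneType.CoW.pkZ = f} := ⟨_, by first | (delta Cfsg.Agent.CoOneType.CoW.pkZ; rewrite [Cfsg.Agent.LsF.iadd_eq, Cfsg.Agent.LsF.imul_eq]; exact rfl) | exact rfl⟩
private noncomputable def _root_.Cfsg.Agent.LsF.f1989f5_29 : {f // @Cfsg.Agent.CoOneType.CoW.ini = f} := ⟨_, by first | (delta Cfsg.Agent.CoOneType.CoW.ini; rewrite [Cfsg.Agent.LsF.f1989f5_27.2, Cfsg.Agent.LsF.f1989f5_15.2, Cfsg.Agent.LsF.f1989f5_18.2, Cfsg.Agent.LsF.f1989f5_28.2, Cfsg.Agent.LsF.f1989f5_22.2, Cfsg.Agent.LsF.iadd_pat, Cfsg.Agent.LsF.imul_pat, Cfsg.Agent.LsF.icast_pat, Cfsg.Agent.LsF.cond_eq, Cfsg.Agent.LsF.toNat_eq]; exact rfl) | exact rfl⟩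
private noncomputable def _root_.Cfsg.Agent.LsF.f1989f5_30 : {f // @Cfsg.Agent.CoOneType.CoW.foldQ = f} := ⟨_, by first | (delta Cfsg.Agent.CoOneType.CoW.foldQ; rewrite [Cfsg.Agent.LsF.f1989f5_14.2, Cfsg.Agent.LsF.f1989f5_15.2, Cfsg.Agent.LsF.f1989f5_26.2, Cfsg.Agent.LsF.f1989f5_29.2]; exact rfl) | exact rfl⟩
private noncomputable def _root_.Cfsg.Agent.LsF.f1989f5_31 : {f // @Cfsg.Agent.Omega.TwoF.Co1Mat.M = f} := ⟨_, by first | (delta Cfsg.Agent.Omega.TwoF.Co1Mat.M; (try delta Cfsg.Agent.Omega.TwoF.Co1Mat.M.match_1); (try rewrite [Cfsg.Agent.LsF.instDecEq_eq, Cfsg.Agent.LsF.dite_eq]); exact rfl) | exact rfl⟩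
private noncomputable def _root_.Cfsg.Agent.LsF.f1989f5_32 : {f // @Cfsg.Agent.CoOneType.CoEval.betaL = f} := ⟨_, by first | (delta Cfsg.Agent.CoOneType.CoEval.betaL; rewrite [Cfsg.Agent.LsF.imul_pat, Cfsg.Agent.LsF.map_eq, Cfsg.Agent.LsF.range_eq]; exact rfl) | exact rfl⟩
private noncomputable def _root_.Cfsg.Agent.LsF.f1989f5_33 : {f // @Cfsg.Agent.CoOneType.CoEval.negbetaL = f} := ⟨_, by first | (delta Cfsg.Agent.CoOneType.CoEval.negbetaL; rewrite [Cfsg.Agent.LsF.imul_pat, Cfsg.Agent.LsF.ineg_pat, Cfsg.Agent.LsF.map_eq, Cfsg.Agent.LsF.range_eq]; exact rfl) | exact rfl⟩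
theorem rel_ab : relB M [0, 1, 4, 5] = true := by (delta Cfsg.Agent.CoOneType.CoEval.relB; rewrite [Cfsg.Agent.CoOneType.CoW.fold_eq]; ((try (rewrite [Cfsg.Agent.LsF.f1989f5_30.2, Cfsg.Agent.LsF.f1989f5_31.2, Cfsg.Agent.LsF.f1989f5_32.2, Cfsg.Agent.LsF.f1989f5_27.2, Cfsg.Agent.LsF.f1989f5_33.2, Cfsg.Agent.LsF.or_eq, Cfsg.Agent.LsF.headD_eq, Cfsg.Agent.LsF.instIDecEq_eq, Cfsg.Agent.LsF.dBoolEq_eq, Cfsg.Agent.LsF.ite_eq, Cfsg.Agent.LsF.decide_eq])); decide +kernel))
theorem rel_ua : relB M [2, 0, 6, 4, 4] = true := by (delta Cfsg.Agent.CoOneType.CoEval.relB; rewrite [Cfsg.Agent.CoOneType.CoW.fold_eq]; decide +kernel)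
theorem rel_va : relB M [3, 0, 7, 5] = true := by (delta Cfsg.Agent.CoOneType.CoEval.relB; rewrite [Cfsg.Agent.CoOneType.CoW.fold_eq]; ((try (rewrite [Cfsg.Agent.LsF.f1989f5_30.2, Cfsg.Agent.LsF.f1989f5_31.2, Cfsg.Agent.LsF.f1989f5_32.2, Cfsg.Agent.LsF.f1989f5_27.2, Cfsg.Agent.LsF.f1989f5_33.2, Cfsg.Agent.LsF.or_eq, Cfsg.Agent.LsF.headD_eq, Cfsg.Agent.LsF.instIDecEq_eq, Cfsg.Agent.LsF.dBoolEq_eq, Cfsg.Agent.LsF.ite_eq, Cfsg.Agent.LsF.decide_eq])); decide +kernel))
theorem rel_vb : relB M [3, 1, 7, 0] = true := by (delta Cfsg.Agent.CoOneType.CoEval.relB; rewrite [Cfsg.Agent.CoOneType.CoW.fold_eq]; ((try (rewrite [Cfsg.Agent.LsF.f1989f5_30.2, Cfsg.Agent.LsF.f1989f5_31.2, Cfsg.Agent.LsF.f1989f5_32.2, Cfsg.Agent.LsF.f1989f5_27.2, Cfsg.Agent.LsF.f1989f5_33.2, Cfsg.Agent.LsF.or_eq, Cfsg.Agent.LsF.headD_eq, Cfsg.Agent.LsF.instIDecEq_eq, Cfsg.Agent.LsF.dBoolEq_eq, Cfsg.Agent.LsF.ite_eq, Cfsg.Agent.LsF.decide_eq])); decide +kernel))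
theorem rel_ub : relB M [2, 1, 6, 5, 5, 5, 5, 0] = true := by (delta Cfsg.Agent.CoOneType.CoEval.relB; rewrite [Cfsg.Agent.CoOneType.CoW.fold_eq]; ((try (rewrite [Cfsg.Agent.LsF.f1989f5_30.2, Cfsg.Agent.LsF.f1989f5_31.2, Cfsg.Agent.LsF.f1989f5_32.2, Cfsg.Agent.LsF.f1989f5_27.2, Cfsg.Agent.LsF.f1989f5_33.2, Cfsg.Agent.LsF.or_eq, Cfsg.Agent.LsF.headD_eq, Cfsg.Agent.LsF.instIDecEq_eq, Cfsg.Agent.LsF.dBoolEq_eq, Cfsg.Agent.LsF.ite_eq, Cfsg.Agent.LsF.decide_eq])); decide +kernel))
theorem ne_a : neB M [0] = true := by (delta Cfsg.Agent.CoOneType.CoEval.neB; rewrite [Cfsg.Agent.CoOneType.CoW.fold_eq]; decide +kernel)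

end Cfsg.Agent.Omega.TwoF.Co1Mat
end

-- part: Mrg/Omega/TwoF/WeightCover
section
section


/-!
# Degree bounds in the form `LB K m` (all perfect odd central extensions)

`Esc K r m` : the bound holds for the covers with `r ∣ |Z|` (`Esc.prime`: lcm trick with a prime `p ∣ |K|`; `Esc.heis`).
For a group order `n` prime to the kernel everything lifts (`exists_liftSub`):

* `LB.family`, `LB.frobGroup` (W1), `LB.trans` (W2), `LB.spec` (W3), `LB.frob` (T2), `LB.orbit` (O).
-/

set_option autoImplicit false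
set_option linter.unusedSectionVars false
set_option linter.style.haveILetI false

universe u v w

namespace Cfsg.Agent.Omega.TwoF.WeightCover

open Cfsg.Agent.Omega.Lie.Heis

/-- The bound for the faithful irreducible actions of the odd perfect central extensions with `r ∣ |Z|`. -/
def Esc (K : Type u) [Group K] (r m : ℕ) : Prop :=
  ∀ (L : Type v) [Group L] [Finite L] (π : L →* K), Function.Surjective π → π.ker ≤ Subgroup.center L →
    Odd (Nat.card π.ker) → commutator L = ⊤ → r ∣ Nat.card π.ker → ∀ (V : Type w) [CommGroup V] [Finite V],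
    IsPGroup 2 V → ∀ φ : L →* MulAut V, Function.Injective φ → Irr φ → 2 ^ m ≤ Nat.card V

/-- a fixed point free central element of order `r` -/
theorem exists_central {K : Type u} [Group K] {L : Type v} [Group L] [Finite L] {π : L →* K}
    (hc : π.ker ≤ Subgroup.center L) {r : ℕ} (hr : r.Prime) (hrZ : r ∣ Nat.card π.ker) {V : Type w} [CommGroup V]
    {φ : L →* MulAut V} (hφ : Function.Injective φ) (hirr : Irr φ) :
    ∃ c : L, c ∈ Subgroup.center L ∧ c ^ r = 1 ∧ c ≠ 1 ∧ ∀ v : V, φ c v = v → v = 1 := by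
  haveI := Fact.mk hr
  obtain ⟨c, hc1⟩ := exists_prime_orderOf_dvd_card' r hrZ
  have hcr : (c : L) ^ r = 1 := by
    have : c ^ r = 1 := by rw [← hc1]; exact pow_orderOf_eq_one c
    exact congrArg Subtype.val this
  have hcne : (c : L) ≠ 1 := by
    intro h5
    have h6 : c = 1 := Subtype.ext h5
    rw [h6, orderOf_one] at hc1
    exact hr.ne_one hc1.symm
  exact ⟨c, hc c.2, hcr, hcne, fun v hv => hirr.free (hc c.2) (fun h5 => hcne (hφ (h5.trans (map_one φ).symm))) hv⟩

/-- the lcm trick -/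
theorem Esc.prime {K : Type u} [Group K] [Finite K] {r p m : ℕ} (hr : r.Prime) (hp : p.Prime) (hp2 : p ≠ 2)
    (hpK : p ∣ Nat.card K) (hm : m ≤ Nat.lcm (orderOf (2 : ZMod p)) (orderOf (2 : ZMod r))) : Esc.{u, v, w} K r m := by
  intro L _ _ π hπ hc ho hL hrZ V _ _ h2 φ hφ hirr
  haveI : Fact p.Prime := ⟨hp⟩
  obtain ⟨c, hcc, hcr, hcne, hcf⟩ := exists_central hc hr hrZ hφ hirr
  have h3 : p ∣ Nat.card L := hpK.trans (Subgroup.card_dvd_of_surjective π hπ)
  obtain ⟨g, hg⟩ := exists_prime_orderOf_dvd_card' p h3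
  have h4 : φ g ≠ 1 := by
    intro h5
    have h6 : g = 1 := hφ (h5.trans (map_one φ).symm)
    rw [h6, orderOf_one] at hg
    exact hp.ne_one hg.symm
  have h5 := (heis_zero hp (z := g) (by rw [← hg]; exact pow_orderOf_eq_one g)).two_pow_le_lcm_mulAut φ h2 hp2 h4
    hr hcr (Subgroup.mem_center_iff.1 hcc g) (fun i => i.elim0) hcf
  rw [pow_zero, mul_one] at h5
  exact (Nat.pow_le_pow_right (by norm_num) hm).trans h5

/-- the lcm trick with a Heisenberg configuration of a prime `s` with `s ∤ |Z|` or `s = r` -/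
theorem Esc.heis {K : Type u} [Group K] [Finite K] {r s n m : ℕ} {z : K} {x y : Fin n → K} (h : Heis s n z x y)
    (hr : r.Prime) (hs2 : s ≠ 2) (hz : z ≠ 1) (hs : Esc.{u, v, w} K s m)
    (hm : m ≤ Nat.lcm (orderOf (2 : ZMod s)) (orderOf (2 : ZMod r)) * s ^ n) : Esc.{u, v, w} K r m := by
  intro L _ _ π hπ hc ho hL hrZ V _ _ h2 φ hφ hirr
  by_cases hsZ : s ∣ Nat.card π.ker
  · exact hs L π hπ hc ho hL hsZ V h2 φ hφ hirr
  obtain ⟨c, hcc, hcr, hcne, hcf⟩ := exists_central hc hr hrZ hφ hirr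
  obtain ⟨z', x', y', hz', -, -, h'⟩ := h.lift hπ hc ((Nat.Prime.coprime_iff_not_dvd h.prime).2 hsZ)
  have h4 : φ z' ≠ 1 := by
    intro h5
    have h6 : z' = 1 := hφ (h5.trans (map_one φ).symm)
    rw [h6, map_one] at hz'
    exact hz hz'.symm
  have h5 := h'.two_pow_le_lcm_mulAut φ h2 hs2 h4 hr hcr (Subgroup.mem_center_iff.1 hcc z')
    (fun i => Subgroup.mem_center_iff.1 hcc (x' i)) hcf
  exact (Nat.pow_le_pow_right (by norm_num) hm).trans h5

/-- `v ^ 2 = 1` on an irreducible `2`-group -/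
theorem Irr.sq {L : Type v} [Group L] {V : Type w} [CommGroup V] [Finite V] {φ : L →* MulAut V} (hi : Irr φ)
    (h2 : IsPGroup 2 V) (v : V) : v ^ 2 = 1 := by
  rcases hi (powMonoidHom 2 : V →* V).ker (fun g x hx => by
    rw [MonoidHom.mem_ker] at hx ⊢
    change (φ g x) ^ 2 = 1
    rw [← map_pow]
    change φ g ((powMonoidHom 2 : V →* V) x) = 1
    rw [hx, map_one]) with h | h
  · -- squaring is injective, so `V` has odd order
    by_cases hv : v = 1
    · rw [hv, one_pow]
    have hinj := (MonoidHom.ker_eq_bot_iff _).1 h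
    obtain ⟨k, hk⟩ := h2 v
    exfalso
    apply hv
    have : ∀ k : ℕ, v ^ 2 ^ k = 1 → v = 1 := by
      intro k
      induction k with
      | zero => intro h; rwa [pow_zero, pow_one] at h
      | succ k ih =>
        intro h
        apply ih
        apply hinj
        change (v ^ 2 ^ k) ^ 2 = (1 : V) ^ 2
        rw [← pow_mul, ← pow_succ, h, one_pow]
    exact this k hk
  · have : v ∈ (powMonoidHom 2 : V →* V).ker := h ▸ Subgroup.mem_top v
    exact this

/-- **Frame**: covers with kernel prime to `n`, and `Esc` for the prime divisors of `n`. -/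
theorem LB.of_esc {K : Type u} [Group K] [IsSimpleGroup K] {n m : ℕ}
    (hesc : ∀ r, r.Prime → r ∣ n → Esc.{u, v, w} K r m)
    (H : ∀ (L : Type v) [Group L] [Finite L] (π : L →* K), Function.Surjective π → π.ker ≤ Subgroup.center L →
      Nat.Coprime n (Nat.card π.ker) → ∀ (V : Type w) [CommGroup V] [Finite V], IsPGroup 2 V → (∀ v : V, v ^ 2 = 1) →
      ∀ φ : L →* MulAut V, Function.Injective φ → 2 ^ m ≤ Nat.card V) : LB.{u, v, w} K m := by
  apply LB.of_irr
  intro L _ _ π hπ hc ho hL V _ _ h2 φ hφ hirr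
  by_cases hco : Nat.Coprime n (Nat.card π.ker)
  · exact H L π hπ hc hco V h2 (Irr.sq hirr h2) φ hφ
  · obtain ⟨r, hr, h3, h4⟩ := Nat.Prime.not_coprime_iff_dvd.1 hco
    exact hesc r hr h3 L π hπ hc ho hL h4 V h2 φ hφ hirr

/-- **Lifting of an abelian subgroup** of exponent dividing `n`, `n` prime to the kernel. -/
theorem exists_liftSub {K : Type u} [Group K] {L : Type v} [Group L] {π : L →* K} (hπ : Function.Surjective π)
    (hc : π.ker ≤ Subgroup.center L) [Finite π.ker] {n : ℕ} (hco : Nat.Coprime n (Nat.card π.ker)) {A : Subgroup K}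
    (hA : ∀ a ∈ A, ∀ b ∈ A, a * b = b * a) (hAn : ∀ a ∈ A, a ^ n = 1) :
    ∃ A' : Subgroup L, (∀ a ∈ A', π a ∈ A) ∧ (∀ a ∈ A, ∃ a' ∈ A', π a' = a) ∧
      (∀ a ∈ A', ∀ b ∈ A', π a = π b → a = b) ∧ (∀ a ∈ A', ∀ b ∈ A', a * b = b * a) ∧
      (∀ g : L, (∀ a ∈ A, π g * a * (π g)⁻¹ ∈ A) → ∀ a ∈ A', g * a * g⁻¹ ∈ A') ∧ Nat.card A' = Nat.card A ∧
      (∀ a ∈ A', a ^ n = 1) := by
  have hcomm : ∀ a : L, a ^ n = 1 → ∀ b : L, π a ∈ A → π b ∈ A → a * b = b * a := fun a ha b h1 h2 =>
    comm_of_comm hc hco ha (hA _ h1 _ h2)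
  let A' : Subgroup L :=
    { carrier := {a | π a ∈ A ∧ a ^ n = 1}
      one_mem' := ⟨by rw [map_one]; exact one_mem A, one_pow n⟩
      mul_mem' := fun {a b} ha hb => ⟨by rw [map_mul]; exact mul_mem ha.1 hb.1, by
        rw [(show Commute a b from hcomm a ha.2 b ha.1 hb.1).mul_pow, ha.2, hb.2, one_mul]⟩
      inv_mem' := fun {a} ha => ⟨by rw [map_inv]; exact inv_mem ha.1, by rw [inv_pow, ha.2, inv_one]⟩ }
  have h1 : ∀ a ∈ A', π a ∈ A := fun a ha => ha.1
  have h2 : ∀ a ∈ A, ∃ a' ∈ A', π a' = a := by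
    intro a ha
    obtain ⟨a', h3, h4⟩ := exists_lift hπ hc hco (hAn a ha)
    exact ⟨a', ⟨by rw [h3]; exact ha, h4⟩, h3⟩
  have h3 : ∀ a ∈ A', ∀ b ∈ A', π a = π b → a = b := fun a ha b hb h => lift_unique hc hco ha.2 hb.2 h
  refine ⟨A', h1, h2, h3, fun a ha b hb => hcomm a ha.2 b ha.1 hb.1, fun g hg a ha => ⟨?_, ?_⟩, ?_, fun a ha => ha.2⟩
  · rw [map_mul, map_mul, map_inv]
    exact hg _ ha.1
  · rw [conj_pow, ha.2, mul_one, mul_inv_cancel]
  · refine Nat.card_congr (Equiv.ofBijective (fun a : A' => (⟨π a, h1 a a.2⟩ : A)) ⟨fun a b h => ?_, fun a => ?_⟩)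
    · exact Subtype.ext (h3 a a.2 b b.2 (congrArg Subtype.val h))
    · obtain ⟨a', ha', h⟩ := h2 a a.2
      exact ⟨⟨a', ha'⟩, Subtype.ext h⟩

section Rows

theorem exists_mem_ne {K : Type*} [Group K] {A : Subgroup K} (h : A ≠ ⊥) : ∃ a ∈ A, a ≠ 1 := by
  by_contra hcon
  push Not at hcon
  exact h ((Subgroup.eq_bot_iff_forall A).2 hcon)

variable {K : Type u} [Group K] [Finite K] [IsSimpleGroup K]

/-- **(W0)** -/
theorem LB.family {A : Subgroup K} (hA : ∀ a ∈ A, ∀ b ∈ A, a * b = b * a) (hAo : Odd (Nat.card A)) (hA1 : A ≠ ⊥)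
    {ι : Type*} [Finite ι] (g : ι → K) (hg : ∀ i, ∀ a ∈ A, g i * a * (g i)⁻¹ ∈ A) (k : ι → ℕ)
    (hd : ∀ i j, i ≠ j → ∀ a ∈ A, (g i * a * (g i)⁻¹) ^ (2 ^ k i) = (g j * a * (g j)⁻¹) ^ (2 ^ k j) → a = 1)
    {m : ℕ} (hm : m ≤ Nat.card ι) (hesc : ∀ r, r.Prime → r ∣ Nat.card A → Esc.{u, v, w} K r m) : LB.{u, v, w} K m := by
  refine LB.of_esc hesc ?_
  intro L _ _ π hπ hc hco V _ _ h2 hV φ hφ
  haveI : Fact (Nat.Prime 2) := ⟨Nat.prime_two⟩
  obtain ⟨A', h3, h4, h5, h6, h7, h8, h9⟩ := exists_liftSub hπ hc hco hA (fun a ha => by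
    have := pow_card_eq_one' (x := (⟨a, ha⟩ : A))
    exact congrArg Subtype.val this)
  choose g' hg' using fun i => hπ (g i)
  obtain ⟨a, ha, ha1⟩ := exists_mem_ne hA1
  obtain ⟨a', ha', haa⟩ := h4 a ha
  have h10 := Weight.pow_family_le (ℓ := 2) (φ := φ) hV (A := A') h6 (by
      rw [h8]
      exact fun h => (Nat.not_even_iff_odd.2 hAo) (even_iff_two_dvd.2 h)) ⟨a', ha', fun h => ha1 (by
        rw [← haa, show a' = 1 from hφ (h.trans (map_one φ).symm), map_one])⟩ g'
    (fun i => h7 (g' i) (by rw [hg']; exact hg i)) k (fun i j hij a ha h => by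
      refine h5 a ha 1 (one_mem A') ?_
      rw [map_one]
      refine hd i j hij (π a) (h3 a ha) ?_
      have := congrArg π h
      simpa only [map_pow, map_mul, map_inv, hg'] using this)
  exact (Nat.pow_le_pow_right (by norm_num) hm).trans h10

/-- **(W2)** `N_K(A)` and the Frobenius transitive on `A \ {1}` -/
theorem LB.trans {A : Subgroup K} (hA : ∀ a ∈ A, ∀ b ∈ A, a * b = b * a) (hAo : Odd (Nat.card A)) (hA1 : A ≠ ⊥)
    (htr : ∀ a ∈ A, ∀ b ∈ A, a ≠ 1 → b ≠ 1 → ∃ g : K, (∀ c ∈ A, g * c * g⁻¹ ∈ A) ∧ ∃ k : ℕ,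
      (g * a * g⁻¹) ^ (2 ^ k) = b) {m : ℕ} (hm : m ≤ Nat.card A - 1)
    (hesc : ∀ r, r.Prime → r ∣ Nat.card A → Esc.{u, v, w} K r m) : LB.{u, v, w} K m := by
  refine LB.of_esc hesc ?_
  intro L _ _ π hπ hc hco V _ _ h2 hV φ hφ
  haveI : Fact (Nat.Prime 2) := ⟨Nat.prime_two⟩
  obtain ⟨A', h3, h4, h5, h6, h7, h8, h9⟩ := exists_liftSub hπ hc hco hA (fun a ha => by
    have := pow_card_eq_one' (x := (⟨a, ha⟩ : A))
    exact congrArg Subtype.val this)
  obtain ⟨a, ha, ha1⟩ := exists_mem_ne hA1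
  obtain ⟨a', ha', haa⟩ := h4 a ha
  have h10 := Weight.pow_card_sub_one_le (ℓ := 2) (φ := φ) hV (A := A') h6 (by
      rw [h8]
      exact fun h => (Nat.not_even_iff_odd.2 hAo) (even_iff_two_dvd.2 h)) ⟨a', ha', fun h => ha1 (by
        rw [← haa, show a' = 1 from hφ (h.trans (map_one φ).symm), map_one])⟩ (fun a ha b hb ha1 hb1 => by
      have hne : ∀ c ∈ A', c ≠ 1 → π c ≠ 1 := fun c hc' h1 h2 => h1 (h5 c hc' 1 (one_mem A') (by rw [h2, map_one]))
      obtain ⟨g, hg, k, hk⟩ := htr (π a) (h3 a ha) (π b) (h3 b hb) (hne a ha ha1) (hne b hb hb1)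
      obtain ⟨g', rfl⟩ := hπ g
      refine ⟨g', h7 g' hg, k, Or.inl (h5 _ (pow_mem (h7 g' hg a ha) _) b hb ?_)⟩
      rw [map_pow, map_mul, map_mul, map_inv]
      exact hk)
  rw [h8] at h10
  exact (Nat.pow_le_pow_right (by norm_num) hm).trans h10

/-- **(W3)** one element of order `n = r ^ (k + 1)` -/
theorem LB.spec {n r k : ℕ} (hn : n = r ^ (k + 1)) (hr : r.Prime) (hr2 : r ≠ 2) {e : K} (he : e ^ n = 1)
    (hne : e ^ r ^ k ≠ 1) (T : Finset (ZMod n))
    (hT : ∀ t ∈ T, ∃ (j s : ℕ) (g : K), g * e * g⁻¹ = e ^ s ∧ t = (2 ^ j * s : ℕ)) {m : ℕ} (hm : m ≤ T.card)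
    (hesc : Esc.{u, v, w} K r m) : LB.{u, v, w} K m := by
  refine LB.of_esc (n := r) (fun s hs hsr => by rwa [(Nat.prime_dvd_prime_iff_eq hs hr).1 hsr]) ?_
  intro L _ _ π hπ hc hco V _ _ h2 hV φ hφ
  haveI : Fact (Nat.Prime 2) := ⟨Nat.prime_two⟩
  have hcn : Nat.Coprime n (Nat.card π.ker) := by rw [hn]; exact hco.pow_left _
  obtain ⟨e', he', hen⟩ := exists_lift hπ hc hcn he
  have h10 := Weight.pow_spec_le (ℓ := 2) (φ := φ) hV hn hr hr2 hen (fun h => hne (by
      rw [← he', ← map_pow, show e' ^ r ^ k = 1 from hφ (h.trans (map_one φ).symm), map_one])) T (fun t ht => by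
      obtain ⟨j, s, g, hg, h⟩ := hT t ht
      obtain ⟨g', rfl⟩ := hπ g
      refine ⟨j, s, g', lift_unique hc hcn ?_ ?_ ?_, Or.inl h⟩
      · rw [conj_pow, hen, mul_one, mul_inv_cancel]
      · rw [← pow_mul, mul_comm, pow_mul, hen, one_pow]
      · rw [map_mul, map_mul, map_inv, he', map_pow, he', hg])
  exact (Nat.pow_le_pow_right (by norm_num) hm).trans h10

/-- **(T2)** -/
theorem LB.frob {p : ℕ} (hp : p.Prime) {A : Subgroup K} (hA : ∀ a ∈ A, ∀ b ∈ A, a * b = b * a)
    (hAo : Odd (Nat.card A)) {d : ℕ}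
    (hpA : ∀ r, r.Prime → r ∣ Nat.card A → r ≠ p ∧ ¬ p ∣ r - 1 ∧ d ≤ orderOf (2 : ZMod r)) {x : K}
    (hxp : ∀ b ∈ A, x ^ p * b = b * x ^ p) (hE : ∀ a ∈ A, x * a * x⁻¹ ∈ A)
    (hne : ∃ b ∈ A, x * b * x⁻¹ ≠ b) {m : ℕ} (hm : m ≤ d * p)
    (hesc : ∀ r, r.Prime → r ∣ Nat.card A → Esc.{u, v, w} K r m) : LB.{u, v, w} K m := by
  refine LB.of_esc hesc ?_
  intro L _ _ π hπ hc hco V _ _ h2 hV φ hφ
  haveI : Fact (Nat.Prime 2) := ⟨Nat.prime_two⟩
  obtain ⟨A', h3, h4, h5, h6, h7, h8, h9⟩ := exists_liftSub hπ hc hco hA (fun a ha => by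
    have := pow_card_eq_one' (x := (⟨a, ha⟩ : A))
    exact congrArg Subtype.val this)
  obtain ⟨x', rfl⟩ := hπ x
  obtain ⟨b, hb, hne⟩ := hne
  obtain ⟨b', hb', rfl⟩ := h4 b hb
  have h10 := Orb.frob_card (ℓ := 2) (φ := φ) (m := d) h2 hp (A := A') h6 (by
      rw [h8]
      exact fun h => (Nat.not_even_iff_odd.2 hAo) (even_iff_two_dvd.2 h)) (by
      rw [h8]
      exact hpA) (x := x') (fun b hb => by
        refine (comm_of_comm hc hco (h9 b hb) ?_).symm
        rw [map_pow]
        exact (hxp _ (h3 b hb)).symm) (h7 x' hE) ⟨b', hb', fun h => hne (by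
        have := hφ h
        rw [← map_mul, ← map_inv, ← map_mul, this])⟩
  exact (Nat.pow_le_pow_right (by norm_num) hm).trans h10

/-- **(O)** `E` elementary abelian of order `r ^ a`, every hyperplane has `m'` conjugates under `N_K(E)` -/
theorem LB.orbit {r : ℕ} (hr : r.Prime) (hr2 : r ≠ 2) {E : Subgroup K} (h : Orb.Elem r E) (hE1 : E ≠ ⊥) {m' : ℕ}
    (horb : ∀ H ≤ E, H.relIndex E = r → ∃ g : Fin m' → K, (∀ i, Orb.cj (g i) E = E) ∧
      ∀ i j, i ≠ j → Orb.cj (g i) H ≠ Orb.cj (g j) H) {m : ℕ} (hm : m ≤ orderOf (2 : ZMod r) * m')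
    (hesc : Esc.{u, v, w} K r m) : LB.{u, v, w} K m := by
  refine LB.of_esc (n := r) (fun s hs hsr => by rwa [(Nat.prime_dvd_prime_iff_eq hs hr).1 hsr]) ?_
  intro L _ _ π hπ hc hco V _ _ h2 hV φ hφ
  haveI : Fact (Nat.Prime 2) := ⟨Nat.prime_two⟩
  haveI := Fact.mk hr
  obtain ⟨A', h3, h4, h5, h6, h7, h8, h9⟩ := exists_liftSub hπ hc hco h.comm h.pow
  have hel : Orb.Elem r A' := ⟨h6, h9⟩
  obtain ⟨a, ha, ha1⟩ := exists_mem_ne hE1
  obtain ⟨a', ha', haa⟩ := h4 a ha
  have hfx : Orb.fx φ A' ≠ ⊤ := by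
    intro hcon
    apply ha1
    rw [← haa, show a' = 1 from hφ (by
      rw [map_one]
      ext v
      have : v ∈ Orb.fx φ A' := hcon ▸ Subgroup.mem_top v
      exact this a' ha'), map_one]
  obtain ⟨H, hle, hi, hne⟩ := hel.exists_hyperplane hr2 h2 hfx
  -- the image of `H`
  have hmapA : A'.map π = E := by
    ext x
    constructor
    · rintro ⟨a, ha, rfl⟩
      exact h3 a ha
    · intro hx
      obtain ⟨a, ha, h⟩ := h4 x hx
      exact ⟨a, ha, h⟩
  have hinjmap : ∀ B ≤ A', ∀ C ≤ A', B.map π = C.map π → B = C := by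
    have key : ∀ B ≤ A', ∀ C ≤ A', B.map π = C.map π → B ≤ C := by
      intro B hB C hC hBC b hb
      have : π b ∈ C.map π := hBC ▸ ⟨b, hb, rfl⟩
      obtain ⟨c, hc', hcb⟩ := this
      rwa [← h5 c (hC hc') b (hB hb) hcb]
    intro B hB C hC hBC
    exact le_antisymm (key B hB C hC hBC) (key C hC B hB hBC.symm)
  have hHle : H.map π ≤ E := by rw [← hmapA]; exact Subgroup.map_mono hle
  have hi' : (H.map π).relIndex E = r := by
    have e1 : Nat.card (H.map π) = Nat.card H := by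
      refine (Nat.card_congr (Equiv.ofBijective (fun a : H => (⟨π a, ⟨a, a.2, rfl⟩⟩ : H.map π)) ⟨fun a b h => ?_, ?_⟩)).symm
      · exact Subtype.ext (h5 a (hle a.2) b (hle b.2) (congrArg Subtype.val h))
      · rintro ⟨_, a, ha, rfl⟩
        exact ⟨⟨a, ha⟩, rfl⟩
    have e2 : Nat.card H * H.relIndex A' = Nat.card A' := by
      have := Subgroup.card_mul_index (H.subgroupOf A')
      rwa [Nat.card_congr (Subgroup.subgroupOfEquivOfLe hle).toEquiv] at this
    have e3 : Nat.card (H.map π) * (H.map π).relIndex E = Nat.card E := by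
      have := Subgroup.card_mul_index ((H.map π).subgroupOf E)
      rwa [Nat.card_congr (Subgroup.subgroupOfEquivOfLe hHle).toEquiv] at this
    rw [hi, h8] at e2
    rw [e1, ← e2] at e3
    exact Nat.eq_of_mul_eq_mul_left Nat.card_pos e3
  obtain ⟨g, hg, hgd⟩ := horb _ hHle hi'
  choose g' hg' using fun i => hπ (g i)
  have hcjmap : ∀ (g : L) (B : Subgroup L), (Orb.cj g B).map π = Orb.cj (π g) (B.map π) := by
    intro g B
    ext x
    constructor
    · rintro ⟨_, ⟨b, hb, rfl⟩, rfl⟩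
      refine ⟨π b, ⟨b, hb, rfl⟩, ?_⟩
      change π g * π b * (π g)⁻¹ = π (g * b * g⁻¹)
      rw [map_mul, map_mul, map_inv]
    · rintro ⟨_, ⟨b, hb, rfl⟩, rfl⟩
      refine ⟨g * b * g⁻¹, ⟨b, hb, rfl⟩, ?_⟩
      change π (g * b * g⁻¹) = π g * π b * (π g)⁻¹
      rw [map_mul, map_mul, map_inv]
  have hcjA : ∀ i, Orb.cj (g' i) A' = A' := by
    intro i
    refine Orb.cj_eq_of_le (Orb.cj_le_iff (h7 (g' i) fun a ha => ?_))
    rw [hg', ← hg i]
    exact Orb.mem_cj ha
  have h10 := hel.pow_le_index (φ := φ) hr2 h2 hle hi hne g' hcjA (fun i j hij hcon => hgd i j hij (by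
    have := congrArg (Subgroup.map π) hcon
    rwa [hcjmap, hcjmap, hg', hg'] at this))
  rw [Fintype.card_fin, ← pow_mul] at h10
  exact ((Nat.pow_le_pow_right (by norm_num) hm).trans h10).trans (Nat.le_of_dvd Nat.card_pos (Subgroup.index_dvd_card _))

end Rows

end Cfsg.Agent.Omega.TwoF.WeightCover

end

section


/-!
# A Frobenius group `7² : SL₂(3)` in a simple group `K` of order divisible by 23: `LB K 24`

`Rel a b u v`: `a`, `b` commute, `a⁷ = 1`, `u`, `v` act on `⟨a, b⟩` as the matrices `(2 6; 0 4)` and `(0 6; 1 0)` over `𝔽₇`, which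
generate `SL₂(3)`, acting semiregularly on the 48 nonzero vectors.
-/

set_option autoImplicit false
set_option maxRecDepth 10000
set_option linter.style.haveILetI false

universe u v w

namespace Cfsg.Agent.Omega.TwoF.FrobSeven

open Cfsg.Agent.Omega.Lie.Heis Cfsg.Agent.Omega.TwoF.WeightCover

section

variable {K : Type*} [Group K]

structure Rel (a b x y : K) : Prop where
  a7 : a ^ 7 = 1
  ab : a * b = b * a
  xa : x * a * x⁻¹ = a ^ 2
  ya : y * a * y⁻¹ = b
  yb : y * b * y⁻¹ = a⁻¹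
  xb : x * b * x⁻¹ = a⁻¹ * b ^ 4
  ne : a ≠ 1

/-- `aⁱ bʲ` -/
def ps (a b : K) (p : ℕ × ℕ) : K := a ^ p.1 * b ^ p.2

/-- the action of `x` and `y` on exponents -/
def lx (p : ℕ × ℕ) : ℕ × ℕ := (2 * p.1 + 6 * p.2, 4 * p.2)
def ly (p : ℕ × ℕ) : ℕ × ℕ := (6 * p.2, p.1)

variable {a b x y : K}

theorem Rel.b7 (h : Rel a b x y) : b ^ 7 = 1 := by
  rw [← h.ya, conj_pow, h.a7, mul_one, mul_inv_cancel]

theorem Rel.comm (h : Rel a b x y) (i j : ℕ) : a ^ i * b ^ j = b ^ j * a ^ i :=
  ((show Commute a b from h.ab).pow_pow i j)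

theorem Rel.ps_add (h : Rel a b x y) (p q : ℕ × ℕ) : ps a b (p.1 + q.1, p.2 + q.2) = ps a b p * ps a b q := by
  unfold ps
  rw [pow_add, pow_add]
  calc a ^ p.1 * a ^ q.1 * (b ^ p.2 * b ^ q.2) = a ^ p.1 * (a ^ q.1 * b ^ p.2) * b ^ q.2 := by group
    _ = a ^ p.1 * (b ^ p.2 * a ^ q.1) * b ^ q.2 := by rw [h.comm]
    _ = a ^ p.1 * b ^ p.2 * (a ^ q.1 * b ^ q.2) := by group

theorem Rel.ps_mul (h : Rel a b x y) (c : ℕ) (p : ℕ × ℕ) : ps a b (c * p.1, c * p.2) = ps a b p ^ c := by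
  unfold ps
  rw [(show Commute (a ^ p.1) (b ^ p.2) from h.comm _ _).mul_pow, ← pow_mul, ← pow_mul, mul_comm c, mul_comm c]

theorem Rel.inv_a (h : Rel a b x y) : a⁻¹ = a ^ 6 := by
  rw [inv_eq_iff_mul_eq_one, ← pow_succ']
  exact h.a7

theorem Rel.lx_spec (h : Rel a b x y) (p : ℕ × ℕ) : x * ps a b p * x⁻¹ = ps a b (lx p) := by
  unfold ps lx
  have e1 : x * (a ^ p.1 * b ^ p.2) * x⁻¹ = (x * a * x⁻¹) ^ p.1 * (x * b * x⁻¹) ^ p.2 := by
    rw [conj_pow, conj_pow]
    group
  rw [e1, h.xa, h.xb, h.inv_a, (show Commute (a ^ 6) (b ^ 4) from h.comm _ _).mul_pow, ← pow_mul, ← pow_mul, ← pow_mul,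
    pow_add, mul_assoc]

theorem Rel.ly_spec (h : Rel a b x y) (p : ℕ × ℕ) : y * ps a b p * y⁻¹ = ps a b (ly p) := by
  unfold ps ly
  have e1 : y * (a ^ p.1 * b ^ p.2) * y⁻¹ = (y * a * y⁻¹) ^ p.1 * (y * b * y⁻¹) ^ p.2 := by
    rw [conj_pow, conj_pow]
    group
  rw [e1, h.ya, h.yb, h.inv_a, ← pow_mul, ← h.comm]

/-- exponents modulo 7 -/
theorem Rel.ps_mod (h : Rel a b x y) (p : ℕ × ℕ) : ps a b p = ps a b (p.1 % 7, p.2 % 7) := by
  unfold ps
  rw [pow_eq_pow_mod p.1 h.a7, pow_eq_pow_mod p.2 h.b7]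

private noncomputable def _root_.Cfsg.Agent.LsF.f1989f5_34 : {f // @Cfsg.Agent.Omega.TwoF.FrobSeven.ly = f} := ⟨_, by first | (delta Cfsg.Agent.Omega.TwoF.FrobSeven.ly; rewrite [Cfsg.Agent.LsF.nmul_pat]; exact rfl) | exact rfl⟩
theorem key_irr : ∀ i < 7, ∀ j < 7, (i, j) ≠ (0, 0) → ∃ c < 7, ∃ d < 7,
    (c * i + d * (ly (i, j)).1) % 7 = 1 ∧ (c * j + d * (ly (i, j)).2) % 7 = 0 := by (refine of_decide_eq_true ?_; (try (rewrite [Cfsg.Agent.LsF.f1989f5_34.2, Cfsg.Agent.LsF.nadd_pat, Cfsg.Agent.LsF.nmul_pat, Cfsg.Agent.LsF.nmod_pat, Cfsg.Agent.LsF.dProdEq_eq, Cfsg.Agent.LsF.instDecEq_eq, Cfsg.Agent.LsF.dAnd_eq, Cfsg.Agent.LsF.dNot_eq, Cfsg.Agent.LsF.dBallLT_eq, Cfsg.Agent.LsF.dExistsLT_eq, Cfsg.Agent.LsF.dAllP_eq, Cfsg.Agent.LsF.decide_eq])); decide +kernel)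

/-- `aⁱ bʲ = 1` only for `i = j = 0` modulo 7 -/
theorem Rel.inj (h : Rel a b x y) {p : ℕ × ℕ} (hp : ps a b p = 1) : p.1 % 7 = 0 ∧ p.2 % 7 = 0 := by
  by_contra hcon
  rw [h.ps_mod] at hp
  have h1 : (p.1 % 7, p.2 % 7) ≠ (0, 0) := fun h => hcon ⟨congrArg Prod.fst h, congrArg Prod.snd h⟩
  obtain ⟨c, -, d, -, h2, h3⟩ := key_irr _ (Nat.mod_lt _ (by norm_num)) _ (Nat.mod_lt _ (by norm_num)) h1
  set q : ℕ × ℕ := (p.1 % 7, p.2 % 7) with hq
  have h4 : ps a b (ly q) = 1 := by rw [← h.ly_spec, hp, mul_one, mul_inv_cancel]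
  have h5 : ps a b (c * q.1 + d * (ly q).1, c * q.2 + d * (ly q).2) = 1 := by
    have := h.ps_add (c * q.1, c * q.2) (d * (ly q).1, d * (ly q).2)
    rw [h.ps_mul, h.ps_mul, hp, h4, one_pow, one_pow, one_mul] at this
    exact this
  have h2' : (c * q.1 + d * (ly q).1) % 7 = 1 := h2
  have h3' : (c * q.2 + d * (ly q).2) % 7 = 0 := h3
  rw [h.ps_mod] at h5
  unfold ps at h5
  simp only [h2', h3'] at h5
  apply h.ne
  simpa using h5

/-- the group `⟨a, b⟩` -/
def Rel.A (h : Rel a b x y) : Subgroup K where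
  carrier := {z | ∃ p, z = ps a b p}
  one_mem' := ⟨(0, 0), by simp [ps]⟩
  mul_mem' := by
    rintro _ _ ⟨p, rfl⟩ ⟨q, rfl⟩
    exact ⟨_, (h.ps_add p q).symm⟩
  inv_mem' := by
    rintro _ ⟨p, rfl⟩
    refine ⟨(6 * p.1, 6 * p.2), ?_⟩
    rw [h.ps_mul, inv_eq_iff_mul_eq_one, ← pow_succ', ← h.ps_mul, h.ps_mod]
    simp [ps]

/-- the 24 words (`false = x`, `true = y`) -/
def W : List (List Bool) :=
  (by
  refine (?fq9009 : ((pk61l (fun i1 => ((fun g1 : Nat → Nat => pk61l (fun i2 => (pk61f (pk61d (nat_lit 1) 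
    (nat_lit 0xa2ca4ba75432f634792) i2) fun t2_2 => (pk61c (Nat.div t2_2 (nat_lit 1)) _root_.Bool.false fun _ => _root_.Bool.true))) (g1 i1) (g1 (Nat.succ i1)) List.nil) fun j => (pk61d (nat_lit 7) 
    (nat_lit 0x4c8f09eb868c16284880e192c4c80d14203040404000) j))) (nat_lit 0) (nat_lit 24) List.nil) : List (List Bool))
    = ?xq9009 → (List (List Bool))) ?hq9009; (case hq9009 => (set_option maxRecDepth 1000000 in conv => lhs; reduce)); intro _; exact ?xq9009 : List (List Bool))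

/-- value of a word -/
def wd (x y : K) (l : List Bool) : K := l.foldr (fun c z => (if c then y else x) * z) 1

/-- action of a word on exponents -/
def wl (l : List Bool) (p : ℕ × ℕ) : ℕ × ℕ := l.foldr (fun c q => if c then ly q else lx q) p

theorem Rel.wd_spec (h : Rel a b x y) (l : List Bool) (p : ℕ × ℕ) :
    wd x y l * ps a b p * (wd x y l)⁻¹ = ps a b (wl l p) := by
  induction l with
  | nil => simp [wd, wl]
  | cons c l ih =>
    have e1 : wd x y (c :: l) = (if c then y else x) * wd x y l := rfl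
    have e2 : wl (c :: l) p = if c then ly (wl l p) else lx (wl l p) := rfl
    rw [e1, e2]
    have e3 : (if c then y else x) * wd x y l * ps a b p * ((if c then y else x) * wd x y l)⁻¹ =
        (if c then y else x) * (wd x y l * ps a b p * (wd x y l)⁻¹) * (if c then y else x)⁻¹ := by group
    rw [e3, ih]
    cases c
    · exact h.lx_spec _
    · exact h.ly_spec _

def chk : Bool := (List.range 24).all fun s => (List.range 24).all fun t => Nat.beq s t ||
  ((List.range 7).all fun i => (List.range 7).all fun j =>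
    !(Nat.beq (((wl (W.getD s []) (i, j)).1 + 6 * (wl (W.getD t []) (i, j)).1) % 7) 0 &&
      Nat.beq (((wl (W.getD s []) (i, j)).2 + 6 * (wl (W.getD t []) (i, j)).2) % 7) 0) ||
      (Nat.beq i 0 && Nat.beq j 0))

private noncomputable def _root_.Cfsg.Agent.LsF.f1989f5_35 : {f // @Cfsg.Agent.Omega.TwoF.FrobSeven.lx = f} := ⟨_, by first | (delta Cfsg.Agent.Omega.TwoF.FrobSeven.lx; rewrite [Cfsg.Agent.LsF.nadd_pat, Cfsg.Agent.LsF.nmul_pat]; exact rfl) | exact rfl⟩
private noncomputable def _root_.Cfsg.Agent.LsF.f1989f5_36 : {f // @Cfsg.Agent.Omega.TwoF.FrobSeven.wl = f} := ⟨_, by first | (delta Cfsg.Agent.Omega.TwoF.FrobSeven.wl; rewrite [Cfsg.Agent.LsF.f1989f5_34.2, Cfsg.Agent.LsF.f1989f5_35.2, Cfsg.Agent.LsF.foldr_eq, Cfsg.Agent.LsF.dBoolEq_eq, Cfsg.Agent.LsF.ite_eq]; exact rfl) | exact rfl⟩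
private noncomputable def _root_.Cfsg.Agent.LsF.f1989f5_37 : {f // @Cfsg.Agent.Omega.TwoF.FrobSeven.chk = f} := ⟨_, by first | (delta Cfsg.Agent.Omega.TwoF.FrobSeven.chk; rewrite [Cfsg.Agent.LsF.f1989f5_36.2, Cfsg.Agent.LsF.nadd_pat, Cfsg.Agent.LsF.nmul_pat, Cfsg.Agent.LsF.nmod_pat, Cfsg.Agent.LsF.and_eq, Cfsg.Agent.LsF.or_eq, Cfsg.Agent.LsF.not_eq, Cfsg.Agent.LsF.all_eq, Cfsg.Agent.LsF.range_eq, Cfsg.Agent.LsF.getD_eq]; exact rfl) | exact rfl⟩
theorem chk_eq : chk = true := by ((try (rewrite [Cfsg.Agent.LsF.f1989f5_37.2])); decide +kernel)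

theorem key_free {s t i j : ℕ} (hs : s < 24) (ht : t < 24) (hst : s ≠ t) (hi : i < 7) (hj : j < 7)
    (h1 : ((wl (W.getD s []) (i, j)).1 + 6 * (wl (W.getD t []) (i, j)).1) % 7 = 0)
    (h2 : ((wl (W.getD s []) (i, j)).2 + 6 * (wl (W.getD t []) (i, j)).2) % 7 = 0) : i = 0 ∧ j = 0 := by
  have h := chk_eq
  unfold chk at h
  rw [List.all_eq_true] at h
  have h3 := h s (List.mem_range.2 hs)
  rw [List.all_eq_true] at h3
  have h4 := h3 t (List.mem_range.2 ht)
  rw [Bool.or_eq_true] at h4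
  rcases h4 with h4 | h4
  · exact absurd (Nat.eq_of_beq_eq_true h4) hst
  rw [List.all_eq_true] at h4
  have h5 := h4 i (List.mem_range.2 hi)
  rw [List.all_eq_true] at h5
  have h6 := h5 j (List.mem_range.2 hj)
  rw [h1, h2, Bool.or_eq_true, Bool.and_eq_true] at h6
  rcases h6 with h6 | h6
  · exact absurd h6 (by decide)
  · exact ⟨Nat.eq_of_beq_eq_true h6.1, Nat.eq_of_beq_eq_true h6.2⟩

end

theorem orderOf_seven : orderOf (2 : ZMod 7) = 3 := by
  haveI : Fact (Nat.Prime 3) := ⟨by norm_num⟩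
  exact orderOf_eq_prime (by decide) (by decide)

theorem orderOf_twentythree : orderOf (2 : ZMod 23) = 11 := by
  haveI : Fact (Nat.Prime 11) := ⟨by norm_num⟩
  exact orderOf_eq_prime (by decide) (by decide)

/-- **`LB K 24`** -/
theorem lb {K : Type u} [Group K] [Finite K] [IsSimpleGroup K] {a b x y : K} (h : Rel a b x y)
    (h23 : 23 ∣ Nat.card K) : LB.{u, v, w} K 24 := by
  have hA : ∀ s ∈ h.A, ∀ t ∈ h.A, s * t = t * s := by
    rintro _ ⟨p, rfl⟩ _ ⟨q, rfl⟩
    rw [← h.ps_add, ← h.ps_add, add_comm, add_comm p.2]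
  have hp : IsPGroup 7 h.A := by
    rintro ⟨_, p, rfl⟩
    refine ⟨1, Subtype.ext ?_⟩
    rw [pow_one]
    change ps a b p ^ 7 = 1
    rw [← h.ps_mul, h.ps_mod]
    simp [ps]
  haveI : Fact (Nat.Prime 7) := ⟨by norm_num⟩
  obtain ⟨n, hn⟩ := IsPGroup.iff_card.1 hp
  have hA1 : h.A ≠ ⊥ := by
    intro hb
    have : a ∈ h.A := ⟨(1, 0), by simp [ps]⟩
    rw [hb] at this
    exact h.ne (Subgroup.mem_bot.1 this)
  refine LB.family (m := 24) hA (by rw [hn]; exact Odd.pow (by decide)) hA1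
    (fun s : Fin 24 => wd x y (W.getD s [])) ?_ (fun _ => 0) ?_ (by simp) ?_
  · rintro s _ ⟨p, rfl⟩
    exact ⟨_, h.wd_spec _ p⟩
  · rintro s t hst _ ⟨p, rfl⟩ heq
    rw [pow_zero, pow_one, pow_one, h.ps_mod p, h.wd_spec, h.wd_spec] at heq
    set q : ℕ × ℕ := (p.1 % 7, p.2 % 7) with hq
    have h1 : ps a b ((wl (W.getD s []) q).1 + 6 * (wl (W.getD t []) q).1,
        (wl (W.getD s []) q).2 + 6 * (wl (W.getD t []) q).2) = 1 := by
      have := h.ps_add (wl (W.getD s []) q) (6 * (wl (W.getD t []) q).1, 6 * (wl (W.getD t []) q).2)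
      rw [this, h.ps_mul, heq, ← pow_succ', ← h.ps_mul, h.ps_mod]
      simp [ps]
    obtain ⟨h2, h3⟩ := h.inj h1
    obtain ⟨h4, h5⟩ := key_free s.2 t.2 (fun e => hst (Fin.ext e)) (Nat.mod_lt p.1 (by norm_num))
      (Nat.mod_lt p.2 (by norm_num)) h2 h3
    rw [h.ps_mod p]
    have h6 : (p.1 % 7, p.2 % 7) = (0, 0) := Prod.ext h4 h5
    rw [h6]
    simp [ps]
  · intro r hr hrA
    rw [hn] at hrA
    have hr7 : r = 7 := (Nat.prime_dvd_prime_iff_eq hr (by norm_num)).1 (hr.dvd_of_dvd_pow hrA)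
    subst hr7
    exact Esc.prime (p := 23) (by norm_num) (by norm_num) (by norm_num) h23 (by
      rw [orderOf_seven, orderOf_twentythree]
      decide)

end Cfsg.Agent.Omega.TwoF.FrobSeven

end

section


/-!
# TABLE 2F, row `Co₁`: every nontrivial action of an odd cover on a 2-group has `|V| ≥ 2 ^ 24`

`7² : SL₂(3) ≤ Co₁` is a Frobenius group with complement of order 24 (`FrobSeven.lb`, matrices in `Co1Mat`).
-/

set_option autoImplicit false

universe u v w

namespace Cfsg.Agent.Omega.TwoF.RowCo1LB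

open Cfsg Cfsg.Agent.Omega.TwoF.Co1Mat Cfsg.Agent.CoOneType.CoEval Cfsg.Agent.Omega.TwoF.FrobSeven
open Cfsg.Agent.Omega.Lie.Heis

abbrev K : Type := Cfsg.Spor.Co1

/-- letters in `Co₁` -/
noncomputable abbrev f (i : ℕ) : K := pr (e i)

theorem inv4 : f 4 = (f 0)⁻¹ := map_inv _ _
theorem inv5 : f 5 = (f 1)⁻¹ := map_inv _ _
theorem inv6 : f 6 = (f 2)⁻¹ := map_inv _ _
theorem inv7 : f 7 = (f 3)⁻¹ := map_inv _ _

theorem rel : Rel (f 0) (f 1) (f 2) (f 3) where
  a7 := by
    have h := eq_one_of_relB rep rel_aa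
    simpa [pow_succ, mul_assoc] using h
  ab := by
    have h := eq_one_of_relB rep rel_ab
    simp only [List.map_cons, List.map_nil, List.prod_cons, List.prod_nil, mul_one] at h
    change f 0 * (f 1 * (f 4 * f 5)) = 1 at h
    rw [inv4, inv5] at h
    calc f 0 * f 1 = f 0 * (f 1 * ((f 0)⁻¹ * (f 1)⁻¹)) * (f 1 * f 0) := by group
      _ = f 1 * f 0 := by rw [h, one_mul]
  xa := by
    have h := eq_one_of_relB rep rel_ua
    simp only [List.map_cons, List.map_nil, List.prod_cons, List.prod_nil, mul_one] at h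
    change f 2 * (f 0 * (f 6 * (f 4 * f 4))) = 1 at h
    rw [inv4, inv6] at h
    calc f 2 * f 0 * (f 2)⁻¹ = f 2 * (f 0 * ((f 2)⁻¹ * ((f 0)⁻¹ * (f 0)⁻¹))) * (f 0 * f 0) := by group
      _ = f 0 ^ 2 := by rw [h, one_mul, pow_two]
  ya := by
    have h := eq_one_of_relB rep rel_va
    simp only [List.map_cons, List.map_nil, List.prod_cons, List.prod_nil, mul_one] at h
    change f 3 * (f 0 * (f 7 * f 5)) = 1 at h
    rw [inv5, inv7] at h
    calc f 3 * f 0 * (f 3)⁻¹ = f 3 * (f 0 * ((f 3)⁻¹ * (f 1)⁻¹)) * f 1 := by group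
      _ = f 1 := by rw [h, one_mul]
  yb := by
    have h := eq_one_of_relB rep rel_vb
    simp only [List.map_cons, List.map_nil, List.prod_cons, List.prod_nil, mul_one] at h
    change f 3 * (f 1 * (f 7 * f 0)) = 1 at h
    rw [inv7] at h
    calc f 3 * f 1 * (f 3)⁻¹ = f 3 * (f 1 * ((f 3)⁻¹ * f 0)) * (f 0)⁻¹ := by group
      _ = (f 0)⁻¹ := by rw [h, one_mul]
  xb := by
    have h := eq_one_of_relB rep rel_ub
    simp only [List.map_cons, List.map_nil, List.prod_cons, List.prod_nil, mul_one] at h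
    change f 2 * (f 1 * (f 6 * (f 5 * (f 5 * (f 5 * (f 5 * f 0)))))) = 1 at h
    rw [inv5, inv6] at h
    calc f 2 * f 1 * (f 2)⁻¹ =
        f 2 * (f 1 * ((f 2)⁻¹ * ((f 1)⁻¹ * ((f 1)⁻¹ * ((f 1)⁻¹ * ((f 1)⁻¹ * f 0)))))) * ((f 0)⁻¹ * f 1 ^ 4) := by
          group
      _ = (f 0)⁻¹ * f 1 ^ 4 := by rw [h, one_mul]
  ne := by
    have h := ne_one_of_neB rep ne_a
    simpa using h

theorem simple : IsSimpleGroup K := Cfsg.Agent.S0399.result.1

theorem card_K : Nat.card K = 4157776806543360000 := Cfsg.Agent.S0399.result.2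

theorem lb : LB.{0, v, w} K 24 := by
  have := simple
  have : Finite K := Nat.finite_of_card_ne_zero (by rw [card_K]; norm_num)
  exact FrobSeven.lb rel (by rw [card_K]; norm_num)

/-- **row `Co₁`, column LB** -/
theorem lb_of_iso {L : Type u} [Group L] (h : Cfsg.Spor.IsoCo1 L) : LB.{u, v, w} L 24 := by
  obtain ⟨φ⟩ := h
  have := simple
  have : Finite K := Nat.finite_of_card_ne_zero (by rw [card_K]; norm_num)
  have : Finite L := Finite.of_equiv K φ.symm.toEquiv
  have : IsSimpleGroup L := by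
    have : Nontrivial L := φ.symm.injective.nontrivial
    exact IsSimpleGroup.isSimpleGroup_of_surjective φ.symm.toMonoidHom φ.symm.surjective
  have hr : Rel (φ.symm (f 0)) (φ.symm (f 1)) (φ.symm (f 2)) (φ.symm (f 3)) := by
    have r := rel
    constructor
    · rw [← map_pow, r.a7, map_one]
    · rw [← map_mul, r.ab, map_mul]
    · rw [← map_mul, ← map_inv, ← map_mul, r.xa, map_pow]
    · rw [← map_mul, ← map_inv, ← map_mul, r.ya]
    · rw [← map_mul, ← map_inv, ← map_mul, r.yb, map_inv]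
    · rw [← map_mul, ← map_inv, ← map_mul, r.xb, map_mul, map_inv, map_pow]
    · intro h1
      exact r.ne (φ.symm.injective (h1.trans (map_one φ.symm).symm))
  exact FrobSeven.lb hr (by rw [Nat.card_congr φ.toEquiv, card_K]; norm_num)

end Cfsg.Agent.Omega.TwoF.RowCo1LB

end
end

private theorem dce_f2f544a80d5b : _root_.True := by
  try have : _root_.True := by simp only [_root_.Cfsg.Agent.Omega.TwoF.FrobSeven.wd.eq_1]
  try have : _root_.True := by simp only [_root_.Cfsg.Agent.Omega.TwoF.FrobSeven.ps.eq_1]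
  try have : _root_.True := by simp only [_root_.Cfsg.Agent.Omega.TwoF.FrobSeven.wl.eq_1]
  exact _root_.True.intro
end

-- part: Mrg/Omega/ML/PslLB
section
prune_inst 0x200000007000100000000000200000201000000000400000004000000009004000000000120000101000000008080000000000000020000000000000000000000000000080080000000000000000000000000000000000000000000000000000000000000
set_option linter.all false
open scoped Cfsg.Agent.FastGrp


/-!
# (ML), K-list end, row `PSL_n(q)`: the bound `q^(n-1) - 1` for all odd covers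

`π : L → PSL_n(F)` a perfect central extension with kernel of odd order, `char F ≠ 2`, `n ≥ 3`. The group
`A = {1 + e_p φ}` has a canonical lift `A'` to `L`, elementary abelian, on which `L` induces a group which is transitive on
the nontrivial elements (sign elements: `SignLift`).  Hence `lb : LB (PSL_n(q)) (q^(n-1) - 1)`.
-/

set_option autoImplicit false
set_option linter.unusedSectionVars false
set_option linter.unusedSimpArgs false

universe u v w

namespace Cfsg.Agent.Omega.ML.PslLB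

open Matrix Cfsg.Agent.Omega.Lie.Heis Cfsg.Agent.Omega.TwoF Cfsg.Agent.Omega.TwoF.SignLift
  Cfsg.Agent.Omega.TwoF.LBPsl
open Cfsg.Agent.ClassicalGeometry.AutPSL.Root

section sl

variable {ι F : Type*} [Fintype ι] [DecidableEq ι] [Field F]

/-- the shear formula -/
theorem E_conj {p j k : ι} (hpj : p ≠ j) (hpk : p ≠ k) (hjk : j ≠ k) (s t : F) :
    E hjk t * E hpj s * (E hjk t)⁻¹ = E hpj s * E hpk (-(s * t)) := by
  apply conj_of_mul
  apply sl_ext; intro v
  rw [sl_mul_mulVec, sl_mul_mulVec, sl_mul_mulVec, E_mulVec, E_mulVec, E_mulVec, E_mulVec, E_mulVec]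
  funext i
  by_cases hi : i = p
  · subst hi
    simp only [hpj, hpk, hjk, hpj.symm, hpk.symm, hjk.symm, ↓ _root_.reduceIte, _root_.neg_mul]
    ring
  · by_cases hi' : i = j
    · subst hi'
      simp [hpj, hpk, hjk, hpj.symm, hpk.symm, hjk.symm]
    · simp [hi, hi']

theorem H_inv_E {p i k : ι} (hpi : p ≠ i) (hpk : p ≠ k) (hik : i ≠ k) (s : F) :
    H hik * E hpi s * (H hik)⁻¹ = (E hpi s)⁻¹ := by
  apply conj_of_mul
  rw [E_inv]
  apply sl_ext; intro v
  rw [sl_mul_mulVec, sl_mul_mulVec, E_mulVec, E_mulVec, H_mulVec, H_mulVec]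
  funext j
  by_cases hj : j = p
  · subst hj
    simp [hpi, hpk, hik]
  · by_cases hj' : j = i
    · subst hj'
      simp [hpi.symm]
    · by_cases hk : j = k
      · subst hk
        simp [hpk.symm, hj', hpi.symm]
      · simp [hj, hj', hk]

/-- the sign function of `H` -/
def sg (i k : ι) : ι → F := fun a => if a = i ∨ a = k then -1 else 1

theorem H_sg {i k : ι} (hik : i ≠ k) (x : ι → F) :
    ((H hik : Matrix.SpecialLinearGroup ι F) : Matrix ι ι F) *ᵥ x = fun a => sg i k a * x a := by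
  rw [H_mulVec]
  funext a
  by_cases h1 : a = i
  · subst h1; simp [sg]
  · by_cases h2 : a = k
    · subst h2; simp [sg, hik.symm]
    · simp [sg, h1, h2]

theorem H_symm {i k : ι} (hik : i ≠ k) : (H hik : Matrix.SpecialLinearGroup ι F) = H hik.symm := by
  apply sl_ext; intro v
  rw [H_mulVec, H_mulVec]
  funext j
  by_cases hj : j = i
  · subst hj
    simp [hik]
  · by_cases hj' : j = k
    · subst hj'
      simp [hik.symm]
    · simp [hj, hj']

theorem H_comm_E {j k : ι} (hjk : j ≠ k) (t : F) : H hjk * E hjk t = E hjk t * H hjk := by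
  apply sl_ext; intro v
  rw [sl_mul_mulVec, sl_mul_mulVec, E_mulVec, E_mulVec, H_mulVec, H_mulVec]
  funext i
  by_cases hi : i = j
  · subst hi
    simp only [hjk, hjk.symm, ↓ _root_.reduceIte, _root_.neg_add_rev, _root_.mul_neg]; ring
  · by_cases hi' : i = k
    · subst hi'
      simp [hjk.symm]
    · simp [hi, hi']

theorem H_sq {i k : ι} (hik : i ≠ k) : (H hik * H hik : Matrix.SpecialLinearGroup ι F) = 1 := by
  apply sl_ext; intro v
  rw [sl_mul_mulVec, H_mulVec, H_mulVec, Matrix.SpecialLinearGroup.coe_one, one_mulVec]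
  funext j
  by_cases hj : j = i
  · subst hj
    simp
  · by_cases hj' : j = k
    · subst hj'
      simp [hik.symm]
    · simp [hj, hj']

theorem H_H {i k j l : ι} (hik : i ≠ k) (hjl : j ≠ l) :
    (H hik * (H hjl)⁻¹ : Matrix.SpecialLinearGroup ι F) ^ (2 ^ 1) = 1 := by
  have hinv : ((H hjl)⁻¹ : Matrix.SpecialLinearGroup ι F) = H hjl := by
    rw [inv_eq_iff_mul_eq_one, H_sq]
  have hc : (H hik * H hjl : Matrix.SpecialLinearGroup ι F) = H hjl * H hik := by
    apply sl_ext; intro v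
    rw [sl_mul_mulVec, sl_mul_mulVec, H_sg, H_sg, H_sg, H_sg]
    funext a
    ring
  rw [hinv, pow_one, pow_two]
  calc H hik * H hjl * (H hik * H hjl) = H hik * (H hjl * H hik) * H hjl := by group
    _ = (H hik * H hik) * (H hjl * H hjl) := by rw [← hc]; group
    _ = 1 := by rw [H_sq, H_sq, one_mul]

/-- different positions in one row -/
theorem cc_row {p i j : ι} (hpi : p ≠ i) (hpj : p ≠ j) (hij : i ≠ j) (s t : F) : CC (E hpi s) (E hpj t) := by
  apply CC.inv (H hpj)
  · apply sl_ext; intro v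
    rw [sl_mul_mulVec, sl_mul_mulVec, E_mulVec, E_mulVec, E_mulVec, E_mulVec]
    funext k
    by_cases hk : k = p
    · simp only [hk, hpi.symm, hpj.symm, ↓ _root_.reduceIte]; ring
    · simp [hk]
  · apply conj_of_mul
    rw [E_inv]
    apply sl_ext; intro v
    rw [sl_mul_mulVec, sl_mul_mulVec, E_mulVec, E_mulVec, H_mulVec, H_mulVec]
    funext k
    by_cases hk : k = p
    · subst hk
      simp only [hpi, hpi.symm, hpj, hij, ↓ _root_.reduceIte, _root_.neg_add_rev, _root_.neg_mul]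
      ring
    · by_cases hk' : k = j
      · subst hk'
        simp [hpj.symm]
      · simp [hk, hk']
  · exact H_comm_E hpj t

/-- one column -/
theorem cc_col {p i k : ι} (hpi : p ≠ i) (hki : k ≠ i) (hpk : p ≠ k) (s t : F) : CC (E hpi s) (E hki t) := by
  apply CC.inv (H hki)
  · apply sl_ext; intro v
    rw [sl_mul_mulVec, sl_mul_mulVec, E_mulVec, E_mulVec, E_mulVec, E_mulVec]
    funext j
    by_cases hj : j = p
    · subst hj
      simp [hpk, hpi.symm, hki.symm, hpi]
    · by_cases hj' : j = k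
      · subst hj'
        simp [hpk.symm, hpi.symm, hki.symm]
      · simp [hj, hj']
  · rw [H_symm]
    exact H_inv_E hpi hpk hki.symm s
  · exact H_comm_E hki t

/-- general Weyl elements -/
def Wc {i j : ι} (hij : i ≠ j) (c : F) : Matrix.SpecialLinearGroup ι F :=
  E hij.symm c * E hij (-c⁻¹) * E hij.symm c

theorem Wc_mulVec {i j : ι} (hij : i ≠ j) {c : F} (hc : c ≠ 0) (x : ι → F) :
    ((Wc hij c : Matrix.SpecialLinearGroup ι F) : Matrix ι ι F) *ᵥ x
      = fun k => if k = i then - (c⁻¹ * x j) else if k = j then c * x i else x k := by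
  rw [Wc, sl_mul_mulVec, sl_mul_mulVec, E_mulVec, E_mulVec, E_mulVec]
  funext k
  by_cases hk : k = i
  · subst hk
    simp only [hij, hij.symm, mul_add, ← mul_assoc, inv_mul_cancel₀ hc, ↓ _root_.reduceIte, _root_.mul_add, _root_.neg_mul, ← _root_.mul_assoc, _root_.one_mul, _root_.add_neg_cancel_comm_assoc]
  · by_cases hk' : k = j
    · subst hk'
      simp only [hij, hij.symm, mul_add, ← mul_assoc, inv_mul_cancel₀ hc, mul_inv_cancel₀ hc, ↓ _root_.reduceIte, _root_.mul_add, _root_.neg_mul, ← _root_.mul_assoc, _root_.one_mul, _root_.add_neg_cancel_comm_assoc, _root_.mul_neg, _root_.add_neg_cancel_comm]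
    · simp [hk, hk']

theorem cc_one (b : Matrix.SpecialLinearGroup ι F) : CC 1 b :=
  CC.two 0 (by rw [one_mul, mul_one]) (one_pow _)

/-- disjoint positions -/
theorem cc_disj {p i j k : ι} (hpi : p ≠ i) (hjk : j ≠ k) (hpj : p ≠ j) (hpk : p ≠ k) (hij : i ≠ j) (hik : i ≠ k)
    (s t : F) : CC (E hpi s) (E hjk t) := by
  by_cases hs : s = 0
  · rw [hs, E_zero]; exact cc_one _
  by_cases ht : t = 0
  · rw [ht, E_zero]; exact (cc_one _).symm
  apply CC.swap (Wc hpj t * Wc hik s)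
  · apply sl_ext; intro v
    rw [sl_mul_mulVec, sl_mul_mulVec, E_mulVec, E_mulVec, E_mulVec, E_mulVec]
    funext a
    by_cases ha : a = p
    · subst ha
      simp [hpj, hij, hpj.symm, hik]
    · by_cases ha' : a = j
      · subst ha'
        simp [hpj.symm, hpk.symm, hpk]
      · simp [ha, ha']
  · apply conj_of_mul
    apply sl_ext; intro v
    rw [sl_mul_mulVec, sl_mul_mulVec, sl_mul_mulVec, sl_mul_mulVec, E_mulVec, E_mulVec, Wc_mulVec hik hs,
      Wc_mulVec hpj ht, Wc_mulVec hik hs, Wc_mulVec hpj ht]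
    funext a
    by_cases h1 : a = p
    · subst h1
      simp [hpj, hpi, hik, hij, hpk, hjk, hpj.symm, hpi.symm, hik.symm, hij.symm, hpk.symm, hjk.symm]
    · by_cases h2 : a = j
      · subst h2
        simp only [hpj, hpi, hik, hij, hpk, hjk, hpj.symm, hpi.symm, hik.symm, hij.symm, hpk.symm, hjk.symm, ↓ _root_.reduceIte]
        ring
      · by_cases h3 : a = i
        · subst h3
          simp [hpj, hpi, hik, hij, hpk, hjk, hpj.symm, hpi.symm, hik.symm, hij.symm, hpk.symm, hjk.symm]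
        · by_cases h4 : a = k
          · subst h4
            simp [hpj, hpi, hik, hij, hpk, hjk, hpj.symm, hpi.symm, hik.symm, hij.symm, hpk.symm, hjk.symm]
          · simp [h1, h2, h3, h4]
  · apply conj_of_mul
    apply sl_ext; intro v
    rw [sl_mul_mulVec, sl_mul_mulVec, sl_mul_mulVec, sl_mul_mulVec, E_mulVec, E_mulVec, Wc_mulVec hik hs,
      Wc_mulVec hpj ht, Wc_mulVec hik hs, Wc_mulVec hpj ht]
    funext a
    by_cases h1 : a = p
    · subst h1
      simp only [hpj, hpi, hik, hij, hpk, hjk, hpj.symm, hpi.symm, hik.symm, hij.symm, hpk.symm, hjk.symm, ↓ _root_.reduceIte, _root_.mul_neg]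
      field_simp
      ring
    · by_cases h2 : a = j
      · subst h2
        simp [hpj, hpi, hik, hij, hpk, hjk, hpj.symm, hpi.symm, hik.symm, hij.symm, hpk.symm, hjk.symm]
      · by_cases h3 : a = i
        · subst h3
          simp [hpj, hpi, hik, hij, hpk, hjk, hpj.symm, hpi.symm, hik.symm, hij.symm, hpk.symm, hjk.symm]
        · by_cases h4 : a = k
          · subst h4
            simp [hpj, hpi, hik, hij, hpk, hjk, hpj.symm, hpi.symm, hik.symm, hij.symm, hpk.symm, hjk.symm]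
          · simp [h1, h2, h3, h4]

/-- one position -/
theorem cc_same {p i k : ι} (hpi : p ≠ i) (hpk : p ≠ k) (hki : k ≠ i) (s t : F) : CC (E hpi s) (E hpi t) := by
  have h1 : E hpi t = E hpk t * (E hki 1 * (E hpk t)⁻¹ * (E hki 1)⁻¹) := by
    rw [E_inv, E_conj hpk hpi hki, ← mul_assoc, E_mul, add_neg_cancel, E_zero, one_mul]
    congr 1
    ring
  rw [h1]
  refine CC.mul (cc_row hpi hpk hki.symm s t) (CC.mul (CC.mul (cc_col hpi hki hpk s 1) ?_) ?_)
  · exact (cc_row hpi hpk hki.symm s t).inv'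
  · exact (cc_col hpi hki hpk s 1).inv'

end sl

section reach

variable {I F : Type*} [DecidableEq I] [Field F]

/-- elementary steps -/
def Step (v w : I → F) : Prop := ∃ (j k : I) (t : F), j ≠ k ∧ w = Function.update v k (v k + t * v j)

theorem Step.symm {v w : I → F} (h : Step v w) : Step w v := by
  obtain ⟨j, k, t, hjk, rfl⟩ := h
  refine ⟨j, k, -t, hjk, ?_⟩
  funext i
  by_cases hi : i = k
  · subst hi
    simp [Function.update_of_ne hjk]
  · simp [Function.update_of_ne hi]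

theorem reach_single [Finite I] [Nontrivial I] {v : I → F} (hv : v ≠ 0) (i₀ : I) :
    Relation.ReflTransGen Step v (Pi.single i₀ 1) := by
  classical
  have := Fintype.ofFinite I
  obtain ⟨j, hj⟩ : ∃ j, v j ≠ 0 := by
    by_contra h
    push Not at h
    exact hv (funext h)
  obtain ⟨k, hk⟩ := exists_ne j
  -- make the entry `k` equal to `1`
  have h1 : Relation.ReflTransGen Step v (Function.update v k 1) := by
    refine Relation.ReflTransGen.single ⟨j, k, (1 - v k) / v j, hk.symm, ?_⟩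
    rw [div_mul_cancel₀ _ hj]
    congr 1
    ring
  have h2 : ∀ (w : I → F), w k = 1 → ∀ S : Finset I, k ∉ S →
      Relation.ReflTransGen Step w (fun i => if i ∈ S then 0 else w i) := by
    intro w hw S
    induction S using Finset.induction_on with
    | empty => intro _; simp only [Finset.notMem_empty, if_false]; exact Relation.ReflTransGen.refl
    | insert a S ha ih =>
      intro hk
      rw [Finset.mem_insert, not_or] at hk
      refine (ih hk.2).tail ⟨k, a, -w a, hk.1, ?_⟩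
      funext i
      by_cases hi : i = a
      · subst hi
        simp [ha, hk.2, hw]
      · simp [hi, Function.update_of_ne hi]
  have h3 : Relation.ReflTransGen Step v (Pi.single k 1) := by
    refine h1.trans ?_
    have h4 := h2 (Function.update v k 1) (Function.update_self _ _ _) (Finset.univ.erase k)
      (Finset.notMem_erase _ _)
    convert h4 using 1
    funext i
    by_cases hi : i = k
    · subst hi; simp
    · simp [hi]
  by_cases hki : k = i₀
  · rw [← hki]; exact h3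
  · refine h3.trans (Relation.ReflTransGen.tail (b := Function.update (Pi.single k (1 : F)) i₀ 1)
      (Relation.ReflTransGen.single ⟨k, i₀, 1, hki, ?_⟩) ⟨i₀, k, -1, fun h => hki h.symm, ?_⟩)
    · funext i
      by_cases hi : i = i₀
      · subst hi
        have h5 : i ≠ k := fun h => hki h.symm
        simp [Pi.single_apply, h5]
      · simp [Function.update_of_ne hi]
    · funext i
      by_cases hi : i = k
      · subst hi
        simp [Pi.single_apply, hki, Function.update_of_ne hki]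
      · by_cases hi' : i = i₀
        · subst hi'
          simp [Function.update_of_ne hi]
        · simp [hi, hi', Pi.single_apply, Function.update_of_ne hi, Function.update_of_ne hi']

theorem reach [Finite I] [Nontrivial I] {v w : I → F} (hv : v ≠ 0) (hw : w ≠ 0) : Relation.ReflTransGen Step v w := by
  obtain ⟨i₀, -⟩ := exists_pair_ne I
  refine (reach_single hv i₀).trans ?_
  have hs : ∀ a b : I → F, Relation.ReflTransGen Step a b → Relation.ReflTransGen Step b a := by
    intro a b h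
    induction h with
    | refl => exact Relation.ReflTransGen.refl
    | tail _ h ih => exact Relation.ReflTransGen.head h.symm ih
  exact hs _ _ (reach_single hw i₀)

theorem hom_ext [Finite I] {N L : Type*} [CommGroup N] [Group L] (f g : (I → N) →* L)
    (h : ∀ i x, f (Pi.mulSingle i x) = g (Pi.mulSingle i x)) : f = g := by
  classical
  have := Fintype.ofFinite I
  ext v
  have h1 : v ∈ MonoidHom.eqLocus f g := by
    rw [← Finset.univ_prod_mulSingle v]
    exact Subgroup.prod_mem _ fun i _ => h i (v i)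
  exact h1

end reach

section lift

variable {ι F : Type*} [Fintype ι] [DecidableEq ι] [Field F] {L : Type*} [Group L]
  {π : L →* Matrix.ProjectiveSpecialLinearGroup ι F}

/-- a lift inverted by the lifts of the sign elements -/
def Good (π : L →* Matrix.ProjectiveSpecialLinearGroup ι F) (p i : ι) (a : L) : Prop :=
  ∀ (k : ι) (hik : i ≠ k), p ≠ k → ∀ g : L, π g = pr (H hik) → g * a * g⁻¹ = a⁻¹

variable (hπ : Function.Surjective π) (hc : π.ker ≤ Subgroup.center L) (ho : Odd (Nat.card π.ker))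

include hπ hc ho in
theorem exists_good {p i k : ι} (hpi : p ≠ i) (hik : i ≠ k) (hpk : p ≠ k) (s : F) :
    ∃ a : L, π a = pr (E hpi s) ∧ Good π p i a := by
  have hinv : ∀ (k : ι) (hik : i ≠ k), p ≠ k → pr (H hik) * pr (E hpi s) * (pr (H hik))⁻¹ = (pr (E hpi s))⁻¹ := by
    intro k hik hpk
    rw [← map_inv, ← map_mul, ← map_mul, H_inv_E hpi hpk hik, map_inv]
  obtain ⟨g₀, hg₀⟩ := hπ (pr (H hik))
  obtain ⟨a, ha, hga⟩ := exists_inv_lift hπ hc ho (s := pr (E hpi s)) (g := g₀) (by rw [hg₀]; exact hinv k hik hpk)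
  refine ⟨a, ha, fun k' hik' hpk' g hg => ?_⟩
  have h1 : π (g * g₀⁻¹) * π a = π a * π (g * g₀⁻¹) := by
    rw [map_mul, map_inv, hg, hg₀, ha]
    have e1 := hinv k hik hpk
    have e2 := hinv k' hik' hpk'
    set x := pr (E hpi s)
    set h := pr (H hik : Matrix.SpecialLinearGroup ι F)
    set h' := pr (H hik' : Matrix.SpecialLinearGroup ι F)
    have e3 : h * x = x⁻¹ * h := by rw [← e1]; group
    have e4 : h' * x⁻¹ * h'⁻¹ = x := by
      calc h' * x⁻¹ * h'⁻¹ = (h' * x * h'⁻¹)⁻¹ := by group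
        _ = x := by rw [e2, inv_inv]
    have e5 : h⁻¹ * x * h = x⁻¹ := by
      calc h⁻¹ * x * h = h⁻¹ * (x⁻¹)⁻¹ * h := by rw [inv_inv]
        _ = h⁻¹ * (h * x * h⁻¹)⁻¹ * h := by rw [e1]
        _ = x⁻¹ := by group
    calc h' * h⁻¹ * x = h' * (h⁻¹ * x * h) * h⁻¹ := by group
      _ = h' * x⁻¹ * h'⁻¹ * (h' * h⁻¹) := by rw [e5]; group
      _ = x * (h' * h⁻¹) := by rw [e4]
  have h2 : π (g * g₀⁻¹) ^ (2 ^ 1) = 1 := by
    rw [map_mul, map_inv, hg, hg₀, ← map_inv, ← map_mul, ← map_pow, H_H, map_one]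
  have h3 := comm_of_two hc ho h1 h2
  calc g * a * g⁻¹ = (g * g₀⁻¹) * (g₀ * a * g₀⁻¹) * (g * g₀⁻¹)⁻¹ := by group
    _ = (g * g₀⁻¹) * a⁻¹ * (g * g₀⁻¹)⁻¹ := by rw [hga]
    _ = ((g * g₀⁻¹) * a * (g * g₀⁻¹)⁻¹)⁻¹ := by group
    _ = a⁻¹ := by rw [h3, mul_inv_cancel_right]

include hπ hc ho in
theorem good_unique {p i k : ι} (hik : i ≠ k) (hpk : p ≠ k) {a b : L} (ha : Good π p i a) (hb : Good π p i b)
    (h : π a = π b) : a = b := by
  obtain ⟨g, hg⟩ := hπ (pr (H hik))
  exact Lie.HeisLift.inv_lift_unique hc ho (ha k hik hpk g hg) (hb k hik hpk g hg) h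

/-- the row group of `SL` -/
def rowHom (F : Type*) [Field F] (p : ι) : ({i : ι // p ≠ i} → Multiplicative F) →* Matrix.SpecialLinearGroup ι F where
  toFun v := tr (Pi.single p 1) (fun j => if h : p ≠ j then (v ⟨j, h⟩).toAdd else 0) (by simp only [_root_.ne_eq, _root_.dite_not, _root_.dotProduct_single, ↓ _root_.reduceDIte, _root_.mul_one])
  map_one' := by
    apply sl_ext; intro x
    rw [tr_mulVec, Matrix.SpecialLinearGroup.coe_one, one_mulVec]
    have h1 : (fun j => if h : p ≠ j then ((1 : {i : ι // p ≠ i} → Multiplicative F) ⟨j, h⟩).toAdd else 0) =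
        (0 : ι → F) := by
      funext j
      by_cases h : p ≠ j
      · rw [dif_pos h]; rfl
      · rw [dif_neg h]; rfl
    rw [h1, zero_dotProduct, zero_smul, add_zero]
  map_mul' v w := by
    rw [tr_mul_same_center]
    apply sl_ext; intro x
    rw [tr_mulVec, tr_mulVec]
    congr 3
    funext j
    by_cases h : p ≠ j
    · simp only [Pi.add_apply, dif_pos h]; rfl
    · simp only [Pi.add_apply, dif_neg h, add_zero]

theorem rowHom_apply (p : ι) (v : {i : ι // p ≠ i} → Multiplicative F) : ∃ h,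
    rowHom F p v = tr (Pi.single p 1) (fun j => if h : p ≠ j then (v ⟨j, h⟩).toAdd else 0) h :=
  ⟨by simp only [_root_.ne_eq, _root_.dite_not, _root_.dotProduct_single, ↓ _root_.reduceDIte, _root_.mul_one], rfl⟩

theorem rowHom_single (p : ι) (i : {i : ι // p ≠ i}) (s : Multiplicative F) :
    rowHom F p (Pi.mulSingle i s) = E i.2 s.toAdd := by
  apply sl_ext; intro x
  obtain ⟨h0, h0'⟩ := rowHom_apply p (Pi.mulSingle i s)
  rw [h0', tr_mulVec, E_mulVec]
  have h1 : (fun j => if h : p ≠ j then ((Pi.mulSingle i s : {i : ι // p ≠ i} → Multiplicative F) ⟨j, h⟩).toAdd else 0) =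
      (Pi.single (i : ι) s.toAdd : ι → F) := by
    funext j
    by_cases h : p ≠ j
    · rw [dif_pos h]
      by_cases hj : j = i
      · subst hj
        rw [Pi.single_eq_same, Pi.mulSingle_eq_same]
      · rw [Pi.single_eq_of_ne hj, Pi.mulSingle_eq_of_ne (fun h' => hj (congrArg Subtype.val h'))]
        rfl
    · rw [dif_neg h, Pi.single_eq_of_ne]
      intro h'
      exact h (h' ▸ i.2)
  rw [h1, single_dotProduct]
  funext k
  by_cases hk : k = p
  · subst hk; simp
  · simp [hk]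

theorem rowHom_injective (p : ι) {v : {i : ι // p ≠ i} → Multiplicative F} (h : pr (rowHom F p v) = 1) : v = 1 := by
  rw [pr_eq_one_iff, Matrix.SpecialLinearGroup.mem_center_iff] at h
  obtain ⟨c, -, hc⟩ := h
  funext i
  have h3 := congrFun (congrFun hc p) i
  have h4 : (rowHom F p v : Matrix ι ι F) p i = (v i).toAdd := by
    obtain ⟨h0, h0'⟩ := rowHom_apply p v
    rw [h0', coe_tr, Matrix.add_apply, Matrix.one_apply_ne i.2, vecMulVec_apply, zero_add, dif_pos i.2]
    simp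
  rw [h4, Matrix.scalar_apply, Matrix.diagonal_apply_ne _ i.2] at h3
  exact Multiplicative.toAdd.injective h3.symm

include hπ hc ho in
/-- **The lift of the row group.** -/
theorem exists_lift_row (hcard : 3 ≤ Fintype.card ι) (p : ι) :
    ∃ Φ : ({i : ι // p ≠ i} → Multiplicative F) →* L, Function.Injective Φ ∧
      ∀ v w : {i : ι // p ≠ i} → Multiplicative F, v ≠ 1 → w ≠ 1 →
        ∃ g : L, (∀ v', ∃ w', g * Φ v' * g⁻¹ = Φ w') ∧ g * Φ v * g⁻¹ = Φ w := by
  classical
  -- third indices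
  have h3 : ∀ i : ι, p ≠ i → ∃ k, p ≠ k ∧ i ≠ k := by
    intro i hi
    have h1 : ({p, i} : Finset ι).card < Fintype.card ι := (Finset.card_le_two).trans_lt (by omega)
    obtain ⟨k, -, hk⟩ := Finset.exists_mem_notMem_of_card_lt_card (s := {p, i}) (t := Finset.univ)
      (by rwa [Finset.card_univ])
    simp only [Finset.mem_insert, Finset.mem_singleton, not_or] at hk
    exact ⟨k, fun h => hk.1 h.symm, fun h => hk.2 h.symm⟩
  have hex : ∀ (i : {i : ι // p ≠ i}) (s : F), ∃ a : L, π a = pr (E i.2 s) ∧ Good π p i a := by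
    intro i s
    obtain ⟨k, hpk, hik⟩ := h3 i i.2
    exact exists_good hπ hc ho i.2 hik hpk s
  choose y hy hgood using hex
  have hcc : ∀ (i j : {i : ι // p ≠ i}) (s t : F), y i s * y j t = y j t * y i s := by
    intro i j s t
    by_cases hij : i = j
    · subst hij
      obtain ⟨k, hpk, hik⟩ := h3 i i.2
      exact ((cc_same i.2 hpk hik.symm s t).map pr).comm hπ hc ho _ _ (hy i s) (hy i t)
    · exact ((cc_row i.2 j.2 (fun h => hij (Subtype.ext h)) s t).map pr).comm hπ hc ho _ _ (hy i s) (hy j t)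
  have hadd : ∀ (i : {i : ι // p ≠ i}) (s t : F), y i s * y i t = y i (s + t) := by
    intro i s t
    obtain ⟨k, hpk, hik⟩ := h3 i i.2
    refine good_unique hπ hc ho hik hpk ?_ (hgood i _) (by rw [map_mul, hy, hy, hy, ← map_mul, E_mul])
    intro k hik hpk g hg
    calc g * (y i s * y i t) * g⁻¹ = (g * y i s * g⁻¹) * (g * y i t * g⁻¹) := by group
      _ = (y i t * y i s)⁻¹ := by rw [hgood i s k hik hpk g hg, hgood i t k hik hpk g hg, _root_.mul_inv_rev]
      _ = (y i s * y i t)⁻¹ := by rw [hcc]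
  let ϕ : ∀ i : {i : ι // p ≠ i}, Multiplicative F →* L := fun i =>
    MonoidHom.mk' (fun s => y i s.toAdd) fun s t => (hadd i _ _).symm
  have hϕ : Pairwise fun i j => ∀ x z, Commute (ϕ i x) (ϕ j z) := fun i j _ x z => hcc i j _ _
  let Φ : ({i : ι // p ≠ i} → Multiplicative F) →* L := MonoidHom.noncommPiCoprod ϕ hϕ
  have hΦ : ∀ i x, Φ (Pi.mulSingle i x) = y i x.toAdd := fun i x =>
    MonoidHom.noncommPiCoprod_mulSingle (ϕ := ϕ) (hcomm := hϕ) i x
  have hπΦ : π.comp Φ = pr.comp (rowHom F p) := by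
    refine hom_ext _ _ fun i x => ?_
    rw [MonoidHom.comp_apply, hΦ, hy, MonoidHom.comp_apply, rowHom_single]
  have hinj : Function.Injective Φ := by
    rw [injective_iff_map_eq_one]
    intro v hv
    apply rowHom_injective p
    have h1 := DFunLike.congr_fun hπΦ v
    rw [MonoidHom.comp_apply, hv, map_one] at h1
    exact h1.symm
  refine ⟨Φ, hinj, ?_⟩
  -- the shears
  have hsh : ∀ (j k : {i : ι // p ≠ i}) (t : F) (hjk : (j : ι) ≠ k) (g : L), π g = pr (E hjk t) →
      ∀ v : {i : ι // p ≠ i} → Multiplicative F, g * Φ v * g⁻¹ =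
        Φ (Function.update v k (v k * Multiplicative.ofAdd (-((v j).toAdd * t)))) := by
    intro j k t hjk g hg
    have hjk' : j ≠ k := fun h => hjk (congrArg Subtype.val h)
    -- the shear as a homomorphism
    let σ : ({i : ι // p ≠ i} → Multiplicative F) →* ({i : ι // p ≠ i} → Multiplicative F) :=
      { toFun := fun v => Function.update v k (v k * Multiplicative.ofAdd (-((v j).toAdd * t)))
        map_one' := by
          funext i
          by_cases hi : i = k
          · subst hi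
            rw [Function.update_self]
            simp
          · rw [Function.update_of_ne hi]
        map_mul' := by
          intro v w
          funext i
          by_cases hi : i = k
          · subst hi
            rw [Function.update_self, Pi.mul_apply, Pi.mul_apply, Pi.mul_apply, Function.update_self,
              Function.update_self, toAdd_mul]
            rw [show -(((v j).toAdd + (w j).toAdd) * t) = -((v j).toAdd * t) + -((w j).toAdd * t) by ring, ofAdd_add]
            exact mul_mul_mul_comm _ _ _ _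
          · rw [Function.update_of_ne hi, Pi.mul_apply, Pi.mul_apply, Function.update_of_ne hi,
              Function.update_of_ne hi] }
    have key : (MulAut.conj g).toMonoidHom.comp Φ = Φ.comp σ := by
      refine hom_ext _ _ fun i x => ?_
      change g * Φ (Pi.mulSingle i x) * g⁻¹ = Φ (σ (Pi.mulSingle i x))
      rw [hΦ]
      by_cases hij : i = j
      · subst hij
        have h1 : σ (Pi.mulSingle i x) = Pi.mulSingle i x * Pi.mulSingle k (Multiplicative.ofAdd (-(x.toAdd * t))) := by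
          funext a
          change Function.update (Pi.mulSingle (M := fun _ => Multiplicative F) i x) k _ a = _
          by_cases ha : a = k
          · subst ha
            rw [Function.update_self, Pi.mul_apply, Pi.mulSingle_eq_same, Pi.mulSingle_eq_same]
          · rw [Function.update_of_ne ha, Pi.mul_apply, Pi.mulSingle_eq_of_ne ha, mul_one]
        rw [h1, map_mul, hΦ, hΦ]
        -- both sides are inverted by the lifts of `H_{ik}`
        obtain ⟨h, hh⟩ := hπ (pr (H hjk))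
        have e1 : h * y i x.toAdd * h⁻¹ = (y i x.toAdd)⁻¹ := hgood i _ k hjk k.2 h hh
        have e2 : h * y k (-(x.toAdd * t)) * h⁻¹ = (y k (-(x.toAdd * t)))⁻¹ :=
          hgood k _ i hjk.symm i.2 h (by rw [hh, H_symm])
        refine Lie.HeisLift.inv_lift_unique hc ho (g := h) (Lie.HeisLift.conj_inv hc e1 ?_) ?_ ?_
        · rw [hg, hh, ← map_mul, ← map_mul, H_comm_E]
        · change h * (y i x.toAdd * y k (-(x.toAdd * t))) * h⁻¹ = (y i x.toAdd * y k (-(x.toAdd * t)))⁻¹
          calc h * (y i x.toAdd * y k (-(x.toAdd * t))) * h⁻¹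
              = (h * y i x.toAdd * h⁻¹) * (h * y k (-(x.toAdd * t)) * h⁻¹) := by group
            _ = (y k (-(x.toAdd * t)) * y i x.toAdd)⁻¹ := by rw [e1, e2, _root_.mul_inv_rev]
            _ = _ := by rw [hcc]
        · change π (g * y i x.toAdd * g⁻¹) = π (y i x.toAdd * y k (-(x.toAdd * t)))
          rw [map_mul, map_mul, map_inv, map_mul, hg, hy, hy, ← map_inv, ← map_mul, ← map_mul, ← map_mul,
            E_conj i.2 k.2 hjk]
      · have h1 : σ (Pi.mulSingle i x) = Pi.mulSingle i x := by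
          funext a
          change Function.update (Pi.mulSingle (M := fun _ => Multiplicative F) i x) k _ a = _
          by_cases ha : a = k
          · subst ha
            rw [Function.update_self, Pi.mulSingle_eq_of_ne (fun h => hij h.symm)]
            simp
          · rw [Function.update_of_ne ha]
        rw [h1, hΦ]
        have h2 : CC (pr (E i.2 x.toAdd)) (pr (E hjk t)) := by
          by_cases hik : i = k
          · subst hik
            exact (cc_col i.2 hjk j.2 _ t).map pr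
          · exact (cc_disj i.2 hjk j.2 k.2 (fun h => hij (Subtype.ext h)) (fun h => hik (Subtype.ext h)) _ t).map pr
        rw [← h2.comm hπ hc ho _ _ (hy i _) hg, mul_inv_cancel_right]
    intro v
    exact DFunLike.congr_fun key v
  -- transitivity
  have hne : Nontrivial {i : ι // p ≠ i} := by
    rw [← Finite.one_lt_card_iff_nontrivial, Nat.card_eq_fintype_card, Fintype.card_subtype_compl]
    simp only [Fintype.card_unique]
    omega
  intro v w hv hw
  have h0 : ∀ v : {i : ι // p ≠ i} → Multiplicative F, v ≠ 1 → (fun i => (v i).toAdd) ≠ (0 : {i : ι // p ≠ i} → F) := by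
    intro v hv h
    apply hv
    funext i
    exact Multiplicative.toAdd.injective (congrFun h i)
  have h1 := reach (h0 v hv) (h0 w hw)
  generalize hw' : (fun i => (w i).toAdd) = w' at h1
  have h2 : ∀ w' : {i : ι // p ≠ i} → F, Relation.ReflTransGen Step (fun i => (v i).toAdd) w' →
      ∃ g : L, (∀ v', ∃ w', g * Φ v' * g⁻¹ = Φ w') ∧ g * Φ v * g⁻¹ = Φ (fun i => Multiplicative.ofAdd (w' i)) := by
    intro w' h
    induction h with
    | refl => exact ⟨1, fun v' => ⟨v', by group⟩, by rw [one_mul, inv_one, mul_one]; rfl⟩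
    | tail _ h ih =>
      obtain ⟨g, hg1, hg2⟩ := ih
      obtain ⟨j, k, t, hjk, rfl⟩ := h
      obtain ⟨g', hg'⟩ := hπ (pr (E (fun h => hjk (Subtype.ext h) : (j : ι) ≠ k) (-t)))
      refine ⟨g' * g, fun v' => ?_, ?_⟩
      · obtain ⟨w₁, hw₁⟩ := hg1 v'
        refine ⟨Function.update w₁ k (w₁ k * Multiplicative.ofAdd (-((w₁ j).toAdd * (-t)))), ?_⟩
        calc g' * g * Φ v' * (g' * g)⁻¹ = g' * (g * Φ v' * g⁻¹) * g'⁻¹ := by group
          _ = g' * Φ w₁ * g'⁻¹ := by rw [hw₁]
          _ = _ := hsh j k (-t) _ g' hg' w₁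
      · calc g' * g * Φ v * (g' * g)⁻¹ = g' * (g * Φ v * g⁻¹) * g'⁻¹ := by group
          _ = _ := by rw [hg2, hsh j k (-t) _ g' hg']
          _ = _ := by
            congr 1
            funext i
            by_cases hi : i = k
            · subst hi
              rw [Function.update_self, Function.update_self]
              rw [toAdd_ofAdd, ofAdd_add]
              congr 2
              ring
            · rw [Function.update_of_ne hi, Function.update_of_ne hi]
  obtain ⟨g, hg1, hg2⟩ := h2 w' h1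
  refine ⟨g, hg1, ?_⟩
  rw [hg2, ← hw']
  rfl

end lift

section main

variable {F : Type*} [Field F] [Fintype F] {n : ℕ}

/-- **The bound `q^(n-1) - 1` for `PSL_n(q)`, `q` odd, `n ≥ 3`, all odd covers.** -/
theorem lb (h2 : (2 : F) ≠ 0) (hn : 3 ≤ n) {m : ℕ} (hm : m ≤ Nat.card F ^ (n - 1) - 1) :
    LB.{_, v, w} (Matrix.ProjectiveSpecialLinearGroup (Fin n) F) m := by
  have hs : IsSimpleGroup (Matrix.ProjectiveSpecialLinearGroup (Fin n) F) :=
    Cfsg.Agent.S0249.result n hn
  have hodd : Odd (Nat.card F) := by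
    rw [Nat.card_eq_fintype_card, ← Nat.not_even_iff_odd]
    intro h
    obtain ⟨p, hp⟩ := CharP.exists F
    obtain ⟨k, hpp, hk⟩ := FiniteField.card F p
    have h3 : 2 ∣ p := by
      rw [hk] at h
      exact Nat.prime_two.dvd_of_dvd_pow (even_iff_two_dvd.1 h)
    have h4 : p = 2 := ((Nat.prime_dvd_prime_iff_eq Nat.prime_two hpp).1 h3).symm
    subst h4
    exact h2 (by exact_mod_cast CharP.cast_eq_zero F 2)
  apply LB.of_irr
  intro L _ _ π hπ hc ho hL V _ _ h2V φ hφ hirr
  have : Fact (Nat.Prime 2) := ⟨Nat.prime_two⟩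
  obtain ⟨Φ, hΦ, htr⟩ := exists_lift_row hπ hc ho (by rw [Fintype.card_fin]; exact hn)
    (⟨0, by omega⟩ : Fin n)
  have hcard : Nat.card Φ.range = Nat.card F ^ (n - 1) := by
    rw [← Nat.card_congr (MonoidHom.ofInjective hΦ).toEquiv, Nat.card_fun, Nat.card_eq_fintype_card (α := {i // _}),
      Fintype.card_subtype_compl]
    simp only [Fintype.card_unique, Fintype.card_fin]
    rfl
  have hne : Nontrivial {i : Fin n // (⟨0, by omega⟩ : Fin n) ≠ i} := by
    rw [← Finite.one_lt_card_iff_nontrivial, Nat.card_eq_fintype_card, Fintype.card_subtype_compl]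
    simp only [Fintype.card_unique, Fintype.card_fin]
    omega
  have h0 : (⟨0, by omega⟩ : Fin n) ≠ ⟨1, by omega⟩ := fun h => by
    have := congrArg Fin.val h
    simp at this
  let i₀ : {i : Fin n // (⟨0, by omega⟩ : Fin n) ≠ i} := ⟨⟨1, by omega⟩, h0⟩
  have h1 := Weight.pow_card_sub_one_le (ℓ := 2) (φ := φ) (WeightCover.Irr.sq hirr h2V) (A := Φ.range) (by
      rintro _ ⟨a, rfl⟩ _ ⟨b, rfl⟩
      rw [← map_mul, ← map_mul, mul_comm]) (by
      rw [hcard]
      exact fun h => (Nat.not_even_iff_odd.2 (hodd.pow)) (even_iff_two_dvd.2 h)) (by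
      refine ⟨Φ (Pi.mulSingle i₀ (Multiplicative.ofAdd 1)), ⟨_, rfl⟩, fun h => ?_⟩
      have h3 := hΦ (hφ (h.trans (map_one φ).symm) |>.trans (map_one Φ).symm)
      have h4 := congrFun h3 i₀
      rw [Pi.mulSingle_eq_same] at h4
      exact one_ne_zero (Multiplicative.ofAdd.injective h4)) (by
      rintro _ ⟨a, rfl⟩ _ ⟨b, rfl⟩ ha hb
      obtain ⟨g, hg1, hg2⟩ := htr a b (fun h => ha (by rw [h, map_one])) (fun h => hb (by rw [h, map_one]))
      refine ⟨g, ?_, 0, Or.inl (by rw [pow_zero, pow_one, hg2])⟩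
      rintro _ ⟨c, rfl⟩
      obtain ⟨w', hw'⟩ := hg1 c
      exact ⟨w', hw'.symm⟩)
  rw [hcard] at h1
  exact (Nat.pow_le_pow_right (by norm_num) hm).trans h1

end main

end Cfsg.Agent.Omega.ML.PslLB

private theorem dce_17d5e6f4c721 : _root_.True := by
  try have : _root_.True := by simp only [_root_.Cfsg.Agent.Omega.TwoF.LBPsl.H.congr_simp]
  try have : _root_.True := by simp only [_root_.Cfsg.Agent.Omega.ML.PslLB.Wc.eq_1]
  try have : _root_.True := by simp only [_root_.Cfsg.Agent.Omega.ML.PslLB.sg.eq_1]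
  try have : _root_.True := by simp only [_root_.Cfsg.Agent.Omega.ML.PslLB.Step.congr_simp]
  exact _root_.True.intro
end
end
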